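import Mathlib
import Groth.Prelude.Def_Wider

set_option autoImplicit false
universe u v

namespace Groth.Agent.Helper7.IH

open InjHull

section basic

variable {R : Type u} [CommRing R]
variable {M : Type v} {E : Type v} [AddCommGroup M] [Module R M] [AddCommGroup E] [Module R E]

/-- Elementwise essential extension of submodules. -/
def Ess (N E' : Submodule R E) : Prop :=
  N ≤ E' ∧ ∀ x ∈ E', x ≠ 0 → ∃ r : R, r • x ∈ N ∧ r • x ≠ 0

theorem Ess.refl (N : Submodule R E) : Ess N N :=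
  ⟨le_rfl, fun x hx hx0 => ⟨1, by simpa using hx, by simpa using hx0⟩⟩

theorem Ess.trans {N E' E'' : Submodule R E} (h1 : Ess N E') (h2 : Ess E' E'') : Ess N E'' := by
  refine ⟨h1.1.trans h2.1, fun x hx hx0 => ?_⟩
  obtain ⟨r, hr, hr0⟩ := h2.2 x hx hx0
  obtain ⟨s, hs, hs0⟩ := h1.2 _ hr hr0
  exact ⟨s * r, by rwa [mul_smul], by rwa [mul_smul]⟩

theorem Ess.inf_ne_bot {N E' : Submodule R E} (h : Ess N E') (L : Submodule R E) (hL : L ≤ E')
    (hL0 : L ≠ ⊥) : L ⊓ N ≠ ⊥ := by
  obtain ⟨x, hx, hx0⟩ := (Submodule.ne_bot_iff L).1 hL0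
  obtain ⟨r, hr, hr0⟩ := h.2 x (hL hx) hx0
  intro h0
  have : r • x ∈ L ⊓ N := ⟨L.smul_mem r hx, hr⟩
  rw [h0, Submodule.mem_bot] at this
  exact hr0 this

theorem ess_of_inf_ne_bot {N E' : Submodule R E} (hle : N ≤ E')
    (h : ∀ L : Submodule R E, L ≤ E' → L ≠ ⊥ → L ⊓ N ≠ ⊥) : Ess N E' := by
  refine ⟨hle, fun x hx hx0 => ?_⟩
  have h1 : (R ∙ x) ≠ ⊥ := by
    intro h0
    exact hx0 ((Submodule.span_singleton_eq_bot).1 h0)
  have h2 := h (R ∙ x) ((Submodule.span_singleton_le_iff_mem _ _).2 hx) h1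
  obtain ⟨y, hy, hy0⟩ := (Submodule.ne_bot_iff _).1 h2
  obtain ⟨r, rfl⟩ := Submodule.mem_span_singleton.1 hy.1
  exact ⟨r, hy.2, hy0⟩

theorem isEssentialInj_iff (f : M →ₗ[R] E) :
    IsEssentialInj f ↔ Function.Injective f ∧
      ∀ x : E, x ≠ 0 → ∃ r : R, r • x ∈ LinearMap.range f ∧ r • x ≠ 0 := by
  constructor
  · intro h
    refine ⟨h.injective, fun x hx0 => ?_⟩
    have h1 : (R ∙ x) ≠ ⊥ := by
      intro h0
      exact hx0 ((Submodule.span_singleton_eq_bot).1 h0)
    obtain ⟨y, hy, hy0⟩ := (Submodule.ne_bot_iff _).1 (h.essential _ h1)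
    obtain ⟨r, rfl⟩ := Submodule.mem_span_singleton.1 hy.1
    exact ⟨r, hy.2, hy0⟩
  · rintro ⟨h1, h2⟩
    refine ⟨h1, fun N hN => ?_⟩
    obtain ⟨x, hx, hx0⟩ := (Submodule.ne_bot_iff N).1 hN
    obtain ⟨r, hr, hr0⟩ := h2 x hx0
    intro h0
    have : r • x ∈ N ⊓ LinearMap.range f := ⟨N.smul_mem r hx, hr⟩
    rw [h0, Submodule.mem_bot] at this
    exact hr0 this

/-- A linear map out of an essential extension which is injective on the small module is injective. -/
theorem injective_of_essential {X : Type*} [AddCommGroup X] [Module R X] {f : M →ₗ[R] E}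
    (hf : IsEssentialInj f) (α : E →ₗ[R] X) (h : Function.Injective (α ∘ₗ f)) :
    Function.Injective α := by
  rw [← LinearMap.ker_eq_bot, ← not_ne_iff]
  intro hne
  obtain ⟨x, hx, hx0⟩ := (Submodule.ne_bot_iff _).1 (hf.essential _ hne)
  obtain ⟨m, rfl⟩ := hx.2
  have : (α ∘ₗ f) m = (α ∘ₗ f) 0 := by
    rw [map_zero]; exact hx.1
  have := h this
  subst this
  exact hx0 (map_zero f)

end basic

section inj

variable {R : Type u} [CommRing R]
variable {M : Type u} {E : Type u} [AddCommGroup M] [Module R M] [AddCommGroup E] [Module R E]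

theorem exists_ext {E' : Type u} [AddCommGroup E'] [Module R E'] (hE' : Module.Injective R E')
    (f : M →ₗ[R] E) (hf : Function.Injective f) (g : M →ₗ[R] E') :
    ∃ α : E →ₗ[R] E', α ∘ₗ f = g := by
  obtain ⟨h, hh⟩ := hE'.out f hf g
  exact ⟨h, LinearMap.ext hh⟩

/-- An injective module embedded in any module is a direct summand. -/
theorem exists_isCompl_range {I : Type u} [AddCommGroup I] [Module R I]
    (hE : Module.Injective R E) (α : E →ₗ[R] I) (hα : Function.Injective α) :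
    ∃ I' : Submodule R I, IsCompl (LinearMap.range α) I' := by
  obtain ⟨ρ, hρ⟩ := exists_ext hE α hα LinearMap.id
  have hρ' : ∀ x, ρ (α x) = x := fun x => by
    have := LinearMap.congr_fun hρ x
    simpa using this
  refine ⟨LinearMap.ker ρ, ?_, ?_⟩
  · rw [Submodule.disjoint_def]
    rintro x ⟨y, rfl⟩ hx
    rw [LinearMap.mem_ker, hρ'] at hx
    rw [hx, map_zero]
  · rw [codisjoint_iff, eq_top_iff]
    intro x _
    have : x = α (ρ x) + (x - α (ρ x)) := by abel
    rw [this]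
    refine Submodule.add_mem_sup ⟨_, rfl⟩ ?_
    rw [LinearMap.mem_ker, map_sub, hρ', sub_self]

/-- A direct summand of an injective module is injective. -/
theorem injective_of_isCompl (hE : Module.Injective R E) {A B : Submodule R E} (h : IsCompl A B) :
    Module.Injective R A := by
  constructor
  intro X Y _ _ _ _ f hf g
  obtain ⟨k, hk⟩ := hE.out f hf (A.subtype ∘ₗ g)
  refine ⟨(Submodule.projectionOnto A B h) ∘ₗ k, fun x => ?_⟩
  simp only [LinearMap.comp_apply, hk]
  exact Submodule.projectionOnto_apply_left h (g x)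

/-- Inside an injective module, every submodule has an essential extension that is a direct summand. -/
theorem exists_summand_ess (hE : Module.Injective R E) (N : Submodule R E) :
    ∃ E' C : Submodule R E, Ess N E' ∧ IsCompl E' C := by
  -- maximal essential extension
  obtain ⟨E', hNE', hmax⟩ : ∃ E', N ≤ E' ∧ Maximal (fun X => Ess N X) E' := by
    refine zorn_le_nonempty₀ {X | Ess N X} ?_ N (Ess.refl N)
    intro c hc hchain y hy
    refine ⟨sSup c, ?_, fun z hz => le_sSup hz⟩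
    refine ⟨(hc hy).1.trans (le_sSup hy), fun x hx hx0 => ?_⟩
    rw [Submodule.mem_sSup_of_directed ⟨y, hy⟩ hchain.directedOn] at hx
    obtain ⟨z, hz, hxz⟩ := hx
    exact (hc hz).2 x hxz hx0
  have hE'ess : Ess N E' := hmax.prop
  -- maximal C disjoint from E'
  obtain ⟨C, -, hCmax⟩ : ∃ C, ⊥ ≤ C ∧ Maximal (fun X : Submodule R E => X ⊓ E' = ⊥) C := by
    refine zorn_le_nonempty₀ {X : Submodule R E | X ⊓ E' = ⊥} ?_ ⊥ (by simp)
    intro c hc hchain y hy
    refine ⟨sSup c, ?_, fun z hz => le_sSup hz⟩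
    rw [Set.mem_ofPred_eq, eq_bot_iff]
    rintro x ⟨hx1, hx2⟩
    rw [SetLike.mem_coe, Submodule.mem_sSup_of_directed ⟨y, hy⟩ hchain.directedOn] at hx1
    obtain ⟨z, hz, hxz⟩ := hx1
    have := hc hz
    rw [Set.mem_ofPred_eq] at this
    rw [← this]
    exact ⟨hxz, hx2⟩
  have hCE' : C ⊓ E' = ⊥ := hCmax.prop
  -- the map E' → E / C
  let π : E →ₗ[R] E ⧸ C := C.mkQ
  let φ : E' →ₗ[R] E ⧸ C := π ∘ₗ E'.subtype
  have hφinj : Function.Injective φ := by
    rw [← LinearMap.ker_eq_bot, eq_bot_iff]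
    intro x hx
    rw [LinearMap.mem_ker] at hx
    have hx' : (x : E) ∈ C := by
      have : C.mkQ (x : E) = 0 := hx
      rwa [Submodule.mkQ_apply, Submodule.Quotient.mk_eq_zero] at this
    have : (x : E) ∈ C ⊓ E' := ⟨hx', x.2⟩
    rw [hCE', Submodule.mem_bot] at this
    rw [Submodule.mem_bot]
    exact Subtype.ext this
  -- essentiality of φ
  have hφess : ∀ y : E ⧸ C, y ≠ 0 → ∃ r : R, ∃ e : E', r • y = φ e ∧ (e : E) ≠ 0 := by
    intro y hy
    obtain ⟨x, rfl⟩ := C.mkQ_surjective y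
    have hxC : x ∉ C := by
      intro hxC
      apply hy
      rw [Submodule.mkQ_apply, Submodule.Quotient.mk_eq_zero]; exact hxC
    have hlt : C < C ⊔ (R ∙ x) := by
      refine lt_of_le_of_ne le_sup_left ?_
      intro heq
      apply hxC
      rw [heq]
      exact Submodule.mem_sup_right (Submodule.mem_span_singleton_self x)
    have hne : (C ⊔ (R ∙ x)) ⊓ E' ≠ ⊥ := by
      intro h0
      exact absurd (hCmax.le_of_ge h0 hlt.le) (not_le_of_gt hlt)
    obtain ⟨e, he, he0⟩ := (Submodule.ne_bot_iff _).1 hne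
    obtain ⟨c, hc, z, hz, hcz⟩ := Submodule.mem_sup.1 he.1
    obtain ⟨r, rfl⟩ := Submodule.mem_span_singleton.1 hz
    refine ⟨r, ⟨e, he.2⟩, ?_, he0⟩
    change r • C.mkQ x = C.mkQ e
    rw [← map_smul, ← hcz, map_add]
    have : C.mkQ c = 0 := by
      rw [Submodule.mkQ_apply, Submodule.Quotient.mk_eq_zero]; exact hc
    rw [this, zero_add]
  -- extend the inclusion
  obtain ⟨ψ, hψ⟩ := exists_ext hE φ hφinj E'.subtype
  have hψ' : ∀ e : E', ψ (φ e) = (e : E) := fun e => by
    have := LinearMap.congr_fun hψ e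
    simpa using this
  have hψinj : Function.Injective ψ := by
    rw [← LinearMap.ker_eq_bot, eq_bot_iff]
    intro y hy
    rw [LinearMap.mem_ker] at hy
    rw [Submodule.mem_bot]
    by_contra hy0
    obtain ⟨r, e, hre, he0⟩ := hφess y hy0
    apply he0
    rw [← hψ' e, ← hre, map_smul, hy, smul_zero]
  -- range ψ is an essential extension of N
  have hle : E' ≤ LinearMap.range ψ := fun e he => ⟨φ ⟨e, he⟩, hψ' ⟨e, he⟩⟩
  have hrange : Ess N (LinearMap.range ψ) := by
    refine Ess.trans hE'ess ⟨hle, ?_⟩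
    rintro _ ⟨y, rfl⟩ hz0
    have hy0 : y ≠ 0 := by
      rintro rfl; exact hz0 (map_zero ψ)
    obtain ⟨r, e, hre, he0⟩ := hφess y hy0
    refine ⟨r, ?_, ?_⟩
    · rw [← map_smul, hre, hψ']; exact e.2
    · rw [← map_smul, hre, hψ']; exact he0
  have hrange_le : LinearMap.range ψ ≤ E' := hmax.le_of_ge hrange hle
  refine ⟨E', C, hE'ess, ?_, ?_⟩
  · rw [disjoint_iff, inf_comm]; exact hCE'
  · rw [codisjoint_iff, eq_top_iff]
    intro x _
    have he : ψ (π x) ∈ E' := hrange_le ⟨_, rfl⟩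
    have h1 : π (ψ (π x)) = π x := by
      apply hψinj
      exact hψ' ⟨_, he⟩
    have h2 : x - ψ (π x) ∈ C := by
      have : C.mkQ (x - ψ (π x)) = 0 := by
        rw [map_sub]; change π x - π (ψ (π x)) = 0; rw [h1, sub_self]
      rwa [Submodule.mkQ_apply, Submodule.Quotient.mk_eq_zero] at this
    have : x = ψ (π x) + (x - ψ (π x)) := by abel
    rw [this]
    exact Submodule.add_mem_sup he h2

end inj

end Groth.Agent.Helper7.IH
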