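import Mathlib
import Groth.Prelude.Def_Wider
import Groth.Agent.Lib.Helper7.InjHull

set_option autoImplicit false
universe u v

namespace Groth.Agent.Helper7.IH

open InjHull

section

variable {R : Type u} [CommRing R]

/-- An essential extension of `R ⧸ p` (p prime) is indecomposable. -/
theorem indecomposable_of_essential_quot_prime (p : Ideal R) [p.IsPrime] {E : Type u}
    [AddCommGroup E] [Module R E] (f : (R ⧸ p) →ₗ[R] E) (hf : IsEssentialInj f) :
    IsIndecomposable R E := by
  refine ⟨hf.injective.nontrivial, fun N N' hc => ?_⟩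
  by_contra hcon
  push Not at hcon
  obtain ⟨x, hx, hx0⟩ := (Submodule.ne_bot_iff _).1 (hf.essential N hcon.1)
  obtain ⟨y, hy, hy0⟩ := (Submodule.ne_bot_iff _).1 (hf.essential N' hcon.2)
  obtain ⟨a, rfl⟩ := hx.2
  obtain ⟨b, rfl⟩ := hy.2
  obtain ⟨a', rfl⟩ := Ideal.Quotient.mk_surjective a
  obtain ⟨b', rfl⟩ := Ideal.Quotient.mk_surjective b
  have h1 : f (Ideal.Quotient.mk p a' * Ideal.Quotient.mk p b') ∈ N' := by
    have : Ideal.Quotient.mk p a' * Ideal.Quotient.mk p b' = a' • Ideal.Quotient.mk p b' := by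
      rw [Algebra.smul_def]; rfl
    rw [this, map_smul]
    exact N'.smul_mem _ hy.1
  have h2 : f (Ideal.Quotient.mk p a' * Ideal.Quotient.mk p b') ∈ N := by
    have : Ideal.Quotient.mk p a' * Ideal.Quotient.mk p b' = b' • Ideal.Quotient.mk p a' := by
      rw [Algebra.smul_def, mul_comm]; rfl
    rw [this, map_smul]
    exact N.smul_mem _ hx.1
  have h3 : f (Ideal.Quotient.mk p a' * Ideal.Quotient.mk p b') ∈ N ⊓ N' := ⟨h2, h1⟩
  rw [hc.inf_eq_bot, Submodule.mem_bot] at h3
  have h4 : Ideal.Quotient.mk p a' * Ideal.Quotient.mk p b' = 0 := by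
    apply hf.injective
    rw [h3, map_zero]
  rcases mul_eq_zero.1 h4 with h | h
  · apply hx0; rw [h, map_zero]
  · apply hy0; rw [h, map_zero]

/-- The canonical `R`-linear map `R ⧸ p → κ(p)`. -/
noncomputable def quotToResidue (p : Ideal R) [p.IsPrime] : (R ⧸ p) →ₗ[R] p.ResidueField :=
  (Algebra.linearMap (R ⧸ p) p.ResidueField).restrictScalars R

theorem quotToResidue_apply (p : Ideal R) [p.IsPrime] (x : R ⧸ p) :
    quotToResidue p x = algebraMap (R ⧸ p) p.ResidueField x := rfl

theorem quotToResidue_essential (p : Ideal R) [p.IsPrime] : IsEssentialInj (quotToResidue p) := by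
  rw [isEssentialInj_iff]
  refine ⟨p.injective_algebraMap_quotient_residueField, fun z hz => ?_⟩
  obtain ⟨a, s, rfl⟩ := IsLocalization.exists_mk'_eq (nonZeroDivisors (R ⧸ p)) z
  obtain ⟨s', hs'⟩ := Ideal.Quotient.mk_surjective (s : R ⧸ p)
  have key : s' • (IsLocalization.mk' p.ResidueField a s) = quotToResidue p a := by
    rw [quotToResidue_apply]
    have : s' • (IsLocalization.mk' p.ResidueField a s)
        = (Ideal.Quotient.mk p s') • (IsLocalization.mk' p.ResidueField a s) := by
      rw [← IsScalarTower.algebraMap_smul (R ⧸ p) s' (IsLocalization.mk' p.ResidueField a s)]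
      rfl
    rw [this, hs', Algebra.smul_def, mul_comm, IsLocalization.mk'_spec]
  refine ⟨s', ?_, ?_⟩
  · rw [key]; exact ⟨a, rfl⟩
  · rw [key, quotToResidue_apply]
    intro h0
    apply hz
    have : a = 0 := p.injective_algebraMap_quotient_residueField (by rw [h0, map_zero])
    rw [this, IsLocalization.mk'_zero]

/-- If `E` is an injective hull of `R ⧸ p` then it is an injective hull of `κ(p)`. -/
theorem exists_hull_residueField (p : Ideal R) [p.IsPrime] {E : Type u}
    [AddCommGroup E] [Module R E] (f : (R ⧸ p) →ₗ[R] E) (hf : IsInjectiveHull f) :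
    ∃ g : p.ResidueField →ₗ[R] E, IsInjectiveHull g ∧ g ∘ₗ quotToResidue p = f := by
  obtain ⟨g, hg⟩ := exists_ext hf.isInjective (quotToResidue p) (quotToResidue_essential p).injective f
  have hginj : Function.Injective g := by
    apply injective_of_essential (quotToResidue_essential p) g
    rw [hg]; exact hf.injective
  refine ⟨g, ⟨(isEssentialInj_iff g).2 ⟨hginj, fun x hx => ?_⟩, hf.isInjective⟩, hg⟩
  obtain ⟨r, hr, hr0⟩ := ((isEssentialInj_iff f).1 hf.toIsEssentialInj).2 x hx
  refine ⟨r, ?_, hr0⟩
  obtain ⟨m, hm⟩ := hr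
  exact ⟨quotToResidue p m, by rw [← hm, ← hg]; rfl⟩

end

end Groth.Agent.Helper7.IH

namespace Groth.Agent.Helper7.IH

open InjHull

section

variable {R : Type u} [CommRing R]

/-- A submodule essential extension `Ess (range f) ⊤` with `f` injective gives `IsEssentialInj f`. -/
theorem isEssentialInj_of_ess_top {M E : Type v} [AddCommGroup M] [Module R M] [AddCommGroup E]
    [Module R E] (f : M →ₗ[R] E) (hf : Function.Injective f) (h : Ess (LinearMap.range f) ⊤) :
    IsEssentialInj f :=
  (isEssentialInj_iff f).2 ⟨hf, fun x hx => h.2 x trivial hx⟩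

/-- In an indecomposable injective module, every nonzero submodule is essential. -/
theorem ess_top_of_indecomposable {E : Type u} [AddCommGroup E] [Module R E]
    (hE : IsIndecomposable R E) (hinj : Module.Injective R E) (N : Submodule R E) (hN : N ≠ ⊥) :
    Ess N ⊤ := by
  obtain ⟨E', C, hE', hcompl⟩ := exists_summand_ess hinj N
  rcases hE.2 E' C hcompl with h | h
  · exfalso; apply hN; rw [eq_bot_iff, ← h]; exact hE'.1
  · have : E' = ⊤ := by
      have := hcompl.sup_eq_top
      rwa [h, sup_bot_eq] at this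
    rwa [this] at hE'

/-- Over a Noetherian ring, an indecomposable injective module is the hull of some `R ⧸ p`. -/
theorem exists_hull_quot_of_indecomposable [IsNoetherianRing R] {E : Type u} [AddCommGroup E]
    [Module R E] (hE : IsIndecomposable R E) (hinj : Module.Injective R E) :
    ∃ (p : Ideal R) (_ : p.IsPrime) (f : (R ⧸ p) →ₗ[R] E), IsInjectiveHull f := by
  have := hE.1
  obtain ⟨p, hp⟩ := associatedPrimes.nonempty R E
  obtain ⟨hprime, f, hf⟩ := (isAssociatedPrime_iff_exists_injective_linearMap p E).1 hp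
  have := hprime
  refine ⟨p, hprime, f, ⟨isEssentialInj_of_ess_top f hf ?_, hinj⟩⟩
  apply ess_top_of_indecomposable hE hinj
  intro h0
  rw [LinearMap.range_eq_bot] at h0
  have h1 : (1 : R ⧸ p) = 0 := hf (by rw [h0]; simp)
  exact one_ne_zero h1

end

end Groth.Agent.Helper7.IH
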