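import Mathlib
import Groth.Prelude.Def_Wider
import Groth.Agent.Lib.Helper7.InjHull2

set_option autoImplicit false
universe u v w

namespace Groth.Agent.Helper7.IH

open InjHull

section

variable {R : Type u} [CommRing R]

/-- Over a Noetherian ring a direct sum of Baer modules is Baer. -/
theorem baer_dfinsupp [IsNoetherianRing R] {ι : Type v} [DecidableEq ι] (E : ι → Type w)
    [∀ i, AddCommGroup (E i)] [∀ i, Module R (E i)] (h : ∀ i, Module.Baer R (E i)) :
    Module.Baer R (Π₀ i, E i) := by
  classical
  intro 𝔞 g
  obtain ⟨G, hG⟩ := (Module.Finite.fg_top : (⊤ : Submodule R 𝔞).FG)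
  let F : Finset ι := G.biUnion fun a => (g a).support
  have hF : ∀ a : 𝔞, ∀ i ∉ F, g a i = 0 := by
    intro a
    have ha : a ∈ Submodule.span R (G : Set 𝔞) := hG ▸ Submodule.mem_top
    induction ha using Submodule.span_induction with
    | mem x hx =>
      intro i hi
      by_contra h0
      exact hi (Finset.mem_biUnion.2 ⟨x, hx, DFinsupp.mem_support_iff.2 h0⟩)
    | zero => intro i _; simp
    | add x y _ _ hx hy =>
      intro i hi
      rw [map_add, DFinsupp.add_apply, hx i hi, hy i hi, add_zero]
    | smul r x _ hx =>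
      intro i hi
      rw [map_smul, DFinsupp.smul_apply, hx i hi, smul_zero]
  choose y hy using fun i => h i 𝔞 ((DFinsupp.lapply i) ∘ₗ g)
  let z : Π₀ i, E i := DFinsupp.mk F (fun i => y i.1 1)
  refine ⟨LinearMap.toSpanSingleton R _ z, fun x hx => ?_⟩
  ext i
  rw [LinearMap.toSpanSingleton_apply, DFinsupp.smul_apply, DFinsupp.mk_apply]
  split_ifs with hi
  · rw [← map_smul, smul_eq_mul, mul_one, hy i x hx]; rfl
  · rw [smul_zero, hF ⟨x, hx⟩ i hi]

theorem injective_of_linearEquiv {M M' : Type u} [AddCommGroup M] [Module R M] [AddCommGroup M']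
    [Module R M'] (e : M ≃ₗ[R] M') (h : Module.Injective R M) : Module.Injective R M' :=
  Module.Baer.injective (Module.Baer.of_equiv e (Module.Baer.of_injective h))

/-- Over a Noetherian ring, the sup of an independent family of injective submodules is injective. -/
theorem injective_iSup_of_indep [IsNoetherianRing R] {N : Type u} [AddCommGroup N] [Module R N]
    {ι : Type u} (p : ι → Submodule R N) (hind : iSupIndep p)
    (hinj : ∀ i, Module.Injective R (p i)) : Module.Injective R ↥(iSup p) := by
  classical
  have e : (Π₀ i, p i) ≃ₗ[R] ↥(iSup p) :=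
    (LinearEquiv.ofInjective _ hind.dfinsupp_lsum_injective).trans
      (LinearEquiv.ofEq _ _ (by rw [← Submodule.iSup_eq_range_dfinsupp_lsum]))
  exact Module.Baer.injective
    (Module.Baer.of_equiv e (baer_dfinsupp _ fun i => Module.Baer.of_injective (hinj i)))

theorem isIndecomposable_of_linearEquiv {M M' : Type v} [AddCommGroup M] [Module R M]
    [AddCommGroup M'] [Module R M'] (e : M ≃ₗ[R] M') (h : IsIndecomposable R M) :
    IsIndecomposable R M' := by
  have := h.1
  refine ⟨e.injective.nontrivial, fun N N' hc => ?_⟩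
  have hc' := (Submodule.orderIsoMapComap e.symm).isCompl hc
  rcases h.2 _ _ hc' with h1 | h1
  · left; exact (Submodule.orderIsoMapComap e.symm).injective (h1.trans (OrderIso.map_bot _).symm)
  · right; exact (Submodule.orderIsoMapComap e.symm).injective (h1.trans (OrderIso.map_bot _).symm)

theorem sSupIndep_insert {α : Type*} [CompleteLattice α] [IsModularLattice α] {S : Set α} {x : α}
    (hS : sSupIndep S) (hx : Disjoint x (sSup S)) : sSupIndep (insert x S) := by
  intro a ha
  rcases ha with rfl | ha
  · refine hx.mono_right (sSup_le_sSup ?_)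
    intro b hb
    rcases hb.1 with rfl | hb'
    · exact absurd rfl hb.2
    · exact hb'
  · by_cases hax : a = x
    · subst hax
      refine hx.mono_right (sSup_le_sSup ?_)
      intro b hb
      rcases hb.1 with rfl | hb'
      · exact absurd rfl hb.2
      · exact hb'
    · have h1 : insert x S \ {a} = insert x (S \ {a}) := by
        ext b
        simp only [Set.mem_sdiff, Set.mem_insert_iff, Set.mem_singleton_iff]
        constructor
        · rintro ⟨hb | hb, hba⟩
          · exact Or.inl hb
          · exact Or.inr ⟨hb, hba⟩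
        · rintro (hb | ⟨hb, hba⟩)
          · exact ⟨Or.inl hb, by rw [hb]; exact fun h => hax h.symm⟩
          · exact ⟨Or.inr hb, hba⟩
      rw [h1, sSup_insert, sup_comm]
      apply Disjoint.disjoint_sup_right_of_disjoint_sup_left (hS ha)
      refine hx.symm.mono_left ?_
      rw [← sSup_insert]
      apply sSup_le_sSup
      intro b hb
      rcases hb with rfl | hb
      · exact ha
      · exact hb.1

/-- Over a Noetherian ring, a nonzero injective module contains an indecomposable injective
submodule. -/
theorem exists_indecomposable_summand [IsNoetherianRing R] {C : Type u} [AddCommGroup C]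
    [Module R C] [Nontrivial C] (hC : Module.Injective R C) :
    ∃ E' : Submodule R C, IsIndecomposable R E' ∧ Module.Injective R E' := by
  obtain ⟨p, hp⟩ := associatedPrimes.nonempty R C
  obtain ⟨hprime, f, hf⟩ := (isAssociatedPrime_iff_exists_injective_linearMap p C).1 hp
  have := hprime
  obtain ⟨E', C', hE', hcompl⟩ := exists_summand_ess hC (LinearMap.range f)
  refine ⟨E', ?_, injective_of_isCompl hC hcompl⟩
  let f' : (R ⧸ p) →ₗ[R] E' := LinearMap.codRestrict E' f (fun x => hE'.1 ⟨x, rfl⟩)
  apply indecomposable_of_essential_quot_prime p f'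
  rw [isEssentialInj_iff]
  refine ⟨fun x y hxy => hf (congrArg Subtype.val hxy), fun x hx => ?_⟩
  obtain ⟨r, ⟨m, hm⟩, hr0⟩ := hE'.2 x.1 x.2 (fun h0 => hx (Subtype.ext h0))
  refine ⟨r, ⟨m, Subtype.ext ?_⟩, fun h0 => hr0 ?_⟩
  · simpa [f'] using hm
  · simpa using congrArg Subtype.val h0

/-- Over a Noetherian ring every injective module is a direct sum of indecomposable injectives. -/
theorem exists_decomp [IsNoetherianRing R] {I : Type u} [AddCommGroup I] [Module R I]
    (hI : Module.Injective R I) :
    ∃ S : Set (Submodule R I), sSupIndep S ∧ sSup S = ⊤ ∧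
      ∀ E ∈ S, IsIndecomposable R E ∧ Module.Injective R E := by
  obtain ⟨S, hS⟩ : ∃ S, Maximal (fun S : Set (Submodule R I) => sSupIndep S ∧
      ∀ E ∈ S, IsIndecomposable R E ∧ Module.Injective R E) S := by
    apply zorn_subset
    intro c hc hchain
    refine ⟨⋃₀ c, ⟨iSupIndep_sUnion_of_directed hchain.directedOn fun a ha => (hc ha).1, ?_⟩,
      fun s hs => Set.subset_sUnion_of_mem hs⟩
    rintro E ⟨s, hs, hEs⟩
    exact (hc hs).2 E hEs
  obtain ⟨⟨hind, hmem⟩, hmax⟩ := hS
  refine ⟨S, hind, ?_, hmem⟩
  -- the sum is injective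
  have hSinj : Module.Injective R ↥(sSup S) := by
    rw [sSup_eq_iSup']
    exact injective_iSup_of_indep _ ((sSupIndep_iff S).1 hind) (fun E => (hmem E.1 E.2).2)
  obtain ⟨C, hC⟩ := exists_isCompl_range hSinj (sSup S).subtype (Submodule.subtype_injective _)
  rw [Submodule.range_subtype] at hC
  by_cases hCbot : C = ⊥
  · have := hC.sup_eq_top
    rwa [hCbot, sup_bot_eq] at this
  exfalso
  have hCinj : Module.Injective R C := injective_of_isCompl hI hC.symm
  have : Nontrivial C := by
    rw [Submodule.nontrivial_iff_ne_bot]; exact hCbot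
  obtain ⟨E', hE'ind, hE'inj⟩ := exists_indecomposable_summand hCinj
  let E'' : Submodule R I := E'.map C.subtype
  let e : E' ≃ₗ[R] E'' := Submodule.equivMapOfInjective C.subtype (Submodule.subtype_injective _) E'
  have hE''ind : IsIndecomposable R E'' := isIndecomposable_of_linearEquiv e hE'ind
  have hE''inj : Module.Injective R E'' := injective_of_linearEquiv e hE'inj
  have hE''C : E'' ≤ C := by
    rintro _ ⟨x, -, rfl⟩
    exact x.2
  have hdisj : Disjoint E'' (sSup S) := hC.disjoint.symm.mono_left hE''C
  have hins : sSupIndep (insert E'' S) ∧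
      ∀ E ∈ insert E'' S, IsIndecomposable R E ∧ Module.Injective R E := by
    refine ⟨sSupIndep_insert hind hdisj, ?_⟩
    rintro E (rfl | hE)
    · exact ⟨hE''ind, hE''inj⟩
    · exact hmem E hE
  have hsub : insert E'' S ⊆ S := hmax hins (Set.subset_insert _ _)
  have hE''S : E'' ∈ S := hsub (Set.mem_insert _ _)
  have hle : E'' ≤ sSup S := le_sSup hE''S
  have hbot : E'' = ⊥ := by
    rw [eq_bot_iff]
    exact hdisj le_rfl hle
  have : Nontrivial E'' := hE''ind.1
  rw [Submodule.nontrivial_iff_ne_bot] at this
  exact this hbot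

end

end Groth.Agent.Helper7.IH
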