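import Mathlib

set_option autoImplicit false
universe u v

namespace Groth.Agent.Helper7.Melk

variable {R : Type u} [CommRing R]

section

variable {M : Type v} [AddCommGroup M] [Module R M]

/-- Antitone sequences of submodules of `M` inside an Artinian submodule stabilize. -/
theorem stab_of_le (A : Submodule R M) [IsArtinian R A] (P : ℕ → Submodule R M)
    (hanti : Antitone P) (hle : ∀ i, P i ≤ A) : ∃ n, ∀ m, n ≤ m → P m = P n := by
  let f : ℕ →o (Submodule R A)ᵒᵈ :=
    ⟨fun i => OrderDual.toDual ((P i).comap A.subtype), fun i j hij =>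
      OrderDual.toDual_le_toDual.2 (Submodule.comap_mono (hanti hij))⟩
  obtain ⟨n, hn⟩ := IsArtinian.monotone_stabilizes f
  refine ⟨n, fun m hm => ?_⟩
  have h1 : (P n).comap A.subtype = (P m).comap A.subtype := hn m hm
  have h2 : ∀ i, P i = ((P i).comap A.subtype).map A.subtype := fun i => by
    rw [Submodule.map_comap_subtype, inf_eq_right.2 (hle i)]
  rw [h2 m, h2 n, h1]

/-- The auxiliary submodules `L j N = x^j (N ∩ (0 : x^(j+1)))`. -/
def L (x : R) (j : ℕ) (N : Submodule R M) : Submodule R M :=
  (N ⊓ Submodule.torsionBy R M (x ^ (j + 1))).map (LinearMap.lsmul R M (x ^ j))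

theorem mem_L {x : R} {j : ℕ} {N : Submodule R M} {z : M} :
    z ∈ L x j N ↔ ∃ y ∈ N, x ^ (j + 1) • y = 0 ∧ x ^ j • y = z := by
  unfold L
  rw [Submodule.mem_map]
  constructor
  · rintro ⟨y, ⟨hy1, hy2⟩, rfl⟩
    exact ⟨y, hy1, (Submodule.mem_torsionBy_iff _ _).1 hy2, rfl⟩
  · rintro ⟨y, hy1, hy2, rfl⟩
    exact ⟨y, ⟨hy1, (Submodule.mem_torsionBy_iff _ _).2 hy2⟩, rfl⟩

theorem L_le (x : R) (j : ℕ) (N : Submodule R M) : L x j N ≤ Submodule.torsionBy R M x := by
  intro z hz
  obtain ⟨y, -, hy, rfl⟩ := mem_L.1 hz
  rw [Submodule.mem_torsionBy_iff, ← mul_smul, ← pow_succ']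
  exact hy

theorem L_mono (x : R) (j : ℕ) {N N' : Submodule R M} (h : N' ≤ N) : L x j N' ≤ L x j N := by
  intro z hz
  obtain ⟨y, hy1, hy2, rfl⟩ := mem_L.1 hz
  exact mem_L.2 ⟨y, h hy1, hy2, rfl⟩

theorem L_succ_le (x : R) (j : ℕ) (N : Submodule R M) : L x (j + 1) N ≤ L x j N := by
  intro z hz
  obtain ⟨y, hy1, hy2, rfl⟩ := mem_L.1 hz
  refine mem_L.2 ⟨x • y, N.smul_mem x hy1, ?_, ?_⟩
  · rw [← mul_smul, ← pow_succ]; exact hy2
  · rw [← mul_smul, ← pow_succ]

theorem L_antitone (x : R) (N : Submodule R M) : Antitone (fun j => L x j N) :=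
  antitone_nat_of_succ_le (fun j => L_succ_le x j N)

/-- Key claim: if `N' ≤ N` have the same `L j` for all `j`, and `M` is `x`-power torsion, then
`N' = N`. -/
theorem eq_of_L_eq (x : R) (htors : ∀ m : M, ∃ n : ℕ, x ^ n • m = 0) {N N' : Submodule R M}
    (hle : N' ≤ N) (hL : ∀ j, L x j N = L x j N') : N' = N := by
  apply le_antisymm hle
  have key : ∀ j : ℕ, ∀ y ∈ N, x ^ j • y = 0 → y ∈ N' := by
    intro j
    induction j with
    | zero =>
      intro y _ hy0
      rw [pow_zero, one_smul] at hy0
      rw [hy0]; exact N'.zero_mem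
    | succ j ih =>
      intro y hyN hy0
      have h1 : x ^ j • y ∈ L x j N := mem_L.2 ⟨y, hyN, hy0, rfl⟩
      rw [hL j] at h1
      obtain ⟨y', hy'1, hy'2, hy'3⟩ := mem_L.1 h1
      have h2 : y - y' ∈ N' := by
        apply ih (y - y') (N.sub_mem hyN (hle hy'1))
        rw [smul_sub, hy'3, sub_self]
      have : y = (y - y') + y' := by abel
      rw [this]
      exact N'.add_mem h2 hy'1
  intro y hy
  obtain ⟨n, hn⟩ := htors y
  exact key n y hy hn

/-- **Melkersson's lemma**: if `M` is `x`-power torsion and `(0 :_M x)` is Artinian then `M` is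
Artinian. -/
theorem isArtinian_of_torsion (x : R) (htors : ∀ m : M, ∃ n : ℕ, x ^ n • m = 0)
    [hA : IsArtinian R (Submodule.torsionBy R M x)] : IsArtinian R M := by
  rw [← monotone_stabilizes_iff_artinian]
  intro f
  let N : ℕ → Submodule R M := fun i => OrderDual.ofDual (f i)
  have hN : Antitone N := fun i j hij => f.monotone hij
  -- diagonal chain
  have hdiag : Antitone (fun i => L x i (N i)) := by
    apply antitone_nat_of_succ_le
    intro i
    exact (L_succ_le x i (N (i + 1))).trans (L_mono x i (hN (Nat.le_succ i)))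
  obtain ⟨i0, hi0⟩ := stab_of_le (Submodule.torsionBy R M x) _ hdiag (fun i => L_le x i (N i))
  have hbig : ∀ i j, i0 ≤ i → i0 ≤ j → L x j (N i) = L x i0 (N i0) := by
    intro i j hi hj
    apply le_antisymm
    · exact (L_antitone x (N i) hj).trans (L_mono x i0 (hN hi))
    · rw [← hi0 (max i j) (le_trans hi (le_max_left _ _))]
      exact (L_antitone x (N (max i j)) (le_max_right i j)).trans
        (L_mono x j (hN (le_max_left i j)))
  -- for each j, the chain i ↦ L j (N i) stabilizes
  have hstab : ∀ j, ∃ n, ∀ m, n ≤ m → L x j (N m) = L x j (N n) := fun j =>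
    stab_of_le (Submodule.torsionBy R M x) _ (fun i i' h => L_mono x j (hN h))
      (fun i => L_le x j (N i))
  choose s hs using hstab
  let istar := max i0 ((Finset.range i0).sup s)
  refine ⟨istar, fun m hm => ?_⟩
  have hm0 : i0 ≤ istar := le_max_left _ _
  change N istar = N m
  symm
  apply eq_of_L_eq x htors (hN hm)
  intro j
  by_cases hj : i0 ≤ j
  · rw [hbig istar j hm0 hj, hbig m j (hm0.trans hm) hj]
  · push Not at hj
    have hsj : s j ≤ istar :=
      (Finset.le_sup (f := s) (Finset.mem_range.2 hj)).trans (le_max_right _ _)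
    rw [hs j istar hsj, hs j m (hsj.trans hm)]

end

/-- If `M` is `I`-power torsion for a finitely generated ideal `I` and `(0 :_M I)` is Artinian, then
`M` is Artinian. -/
theorem isArtinian_of_powerTorsion_aux (S : Finset R) :
    ∀ (M : Type v) [AddCommGroup M] [Module R M],
      (∀ m : M, ∃ n : ℕ, ∀ a ∈ (Ideal.span (S : Set R)) ^ n, a • m = 0) →
      IsArtinian R (Submodule.torsionBySet R M (Ideal.span (S : Set R) : Set R)) →
      IsArtinian R M := by
  classical
  induction S using Finset.induction_on with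
  | empty =>
    intro M _ _ _ hA
    have htop : Submodule.torsionBySet R M ((Ideal.span ((∅ : Finset R) : Set R) : Ideal R) : Set R)
        = ⊤ := by
      rw [eq_top_iff]
      intro m _
      rw [Submodule.mem_torsionBySet_iff]
      rintro ⟨a, ha⟩
      have : a = 0 := by
        simpa using ha
      simp [this]
    rw [htop] at hA
    exact isArtinian_of_linearEquiv (Submodule.topEquiv : (⊤ : Submodule R M) ≃ₗ[R] M)
  | insert x S' hx ih =>
    intro M _ _ htors hA
    set I := Ideal.span ((insert x S' : Finset R) : Set R) with hI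
    set I' := Ideal.span (S' : Set R) with hI'
    have hI'I : I' ≤ I := Ideal.span_mono (by simp)
    have hxI : x ∈ I := Ideal.subset_span (by simp)
    have hIle : I ≤ Ideal.span {x} ⊔ I' := by
      rw [hI, Ideal.span_le]
      intro a ha
      rw [Finset.coe_insert] at ha
      rcases ha with rfl | ha
      · exact Ideal.mem_sup_left (Ideal.subset_span rfl)
      · exact Ideal.mem_sup_right (Ideal.subset_span ha)
    -- M' = (0 : x) is Artinian by induction
    have hM' : IsArtinian R (Submodule.torsionBy R M x) := by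
      apply ih (Submodule.torsionBy R M x)
      · intro m
        obtain ⟨n, hn⟩ := htors m.1
        refine ⟨n, fun a ha => Subtype.ext ?_⟩
        exact hn a (Ideal.pow_right_mono hI'I n ha)
      · -- the I'-torsion of M' embeds in the I-torsion of M
        let φ : Submodule.torsionBySet R (Submodule.torsionBy R M x) (I' : Set R) →ₗ[R]
            Submodule.torsionBySet R M (I : Set R) :=
          LinearMap.codRestrict _ ((Submodule.subtype _) ∘ₗ (Submodule.subtype _)) (by
            intro y
            rw [Submodule.mem_torsionBySet_iff]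
            rintro ⟨a, ha⟩
            have ha' := hIle ha
            obtain ⟨b, hb, c, hc, rfl⟩ := Submodule.mem_sup.1 ha'
            obtain ⟨r, rfl⟩ := Ideal.mem_span_singleton'.1 hb
            have h1 : x • (y.1.1 : M) = 0 := (Submodule.mem_torsionBy_iff _ _).1 y.1.2
            have h2 : c • (y.1 : Submodule.torsionBy R M x) = 0 :=
              (Submodule.mem_torsionBySet_iff _ _).1 y.2 ⟨c, hc⟩
            have h2' : c • (y.1.1 : M) = 0 := congrArg Subtype.val h2
            change (r * x + c) • (y.1.1 : M) = 0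
            rw [add_smul, mul_smul, h1, smul_zero, h2', add_zero])
        have hφ : Function.Injective φ := by
          intro y y' h
          apply Subtype.ext
          apply Subtype.ext
          have := congrArg (fun z : Submodule.torsionBySet R M (I : Set R) => (z : M)) h
          exact this
        exact isArtinian_of_injective φ hφ
    apply isArtinian_of_torsion x
    intro m
    obtain ⟨n, hn⟩ := htors m
    exact ⟨n, hn _ (Ideal.pow_mem_pow hxI n)⟩

theorem isArtinian_of_powerTorsion {M : Type v} [AddCommGroup M] [Module R M] (I : Ideal R)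
    (hfg : I.FG) (htors : ∀ m : M, ∃ n : ℕ, ∀ a ∈ I ^ n, a • m = 0)
    (hA : IsArtinian R (Submodule.torsionBySet R M (I : Set R))) : IsArtinian R M := by
  obtain ⟨S, rfl⟩ := hfg
  exact isArtinian_of_powerTorsion_aux S M htors hA

end Groth.Agent.Helper7.Melk
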