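import Mathlib
import Groth.Prelude.Def_Wider
import Groth.Agent.Lib.Helper7.InjHull3
import Groth.Agent.Lib.Helper7.Melkersson
import Groth.Agent.S0301

set_option autoImplicit false
universe u v

namespace Groth.Agent.Helper7.Matlis

open InjHull IsLocalRing Groth.Agent.Helper7.IH

section

variable {R : Type u} [CommRing R] [IsLocalRing R]

/-- The image of the residue field in any module is killed by the maximal ideal. -/
theorem range_le_socle {E : Type v} [AddCommGroup E] [Module R E] (f : ResidueField R →ₗ[R] E) :
    LinearMap.range f ≤ Submodule.torsionBySet R E (maximalIdeal R : Set R) := by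
  rintro _ ⟨x, rfl⟩
  rw [Submodule.mem_torsionBySet_iff]
  rintro ⟨a, ha⟩
  change a • f x = 0
  rw [← map_smul, Algebra.smul_def, ResidueField.algebraMap_eq]
  have : residue R a = 0 := (residue_eq_zero_iff a).2 ha
  rw [this, zero_mul, map_zero]

/-- The socle of an essential extension of the residue field is the image of the residue field. -/
theorem socle_eq_range {E : Type u} [AddCommGroup E] [Module R E] (f : ResidueField R →ₗ[R] E)
    (hf : IsEssentialInj f) :
    Submodule.torsionBySet R E (maximalIdeal R : Set R) = LinearMap.range f := by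
  apply le_antisymm _ (range_le_socle f)
  intro y hy
  by_cases hy0 : y = 0
  · rw [hy0]; exact Submodule.zero_mem _
  obtain ⟨r, hr, hr0⟩ := ((isEssentialInj_iff f).1 hf).2 y hy0
  have hrm : r ∉ maximalIdeal R := by
    intro hrm
    apply hr0
    exact (Submodule.mem_torsionBySet_iff _ _).1 hy ⟨r, hrm⟩
  have hunit : IsUnit r := by
    by_contra h
    exact hrm ((mem_maximalIdeal r).2 h)
  obtain ⟨u, rfl⟩ := hunit
  have : y = (↑u⁻¹ : R) • ((u : R) • y) := by
    rw [← mul_smul, Units.inv_mul, one_smul]
  rw [this]
  exact Submodule.smul_mem _ _ hr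

theorem socle_finite {E : Type u} [AddCommGroup E] [Module R E] (f : ResidueField R →ₗ[R] E)
    (hf : IsEssentialInj f) :
    Module.Finite (R ⧸ maximalIdeal R) (Submodule.torsionBySet R E (maximalIdeal R : Set R)) := by
  have h1 : f 1 ∈ Submodule.torsionBySet R E (maximalIdeal R : Set R) :=
    range_le_socle f ⟨1, rfl⟩
  let v : Submodule.torsionBySet R E (maximalIdeal R : Set R) := ⟨f 1, h1⟩
  apply Module.Finite.of_surjective
    (LinearMap.toSpanSingleton (R ⧸ maximalIdeal R) _ v)
  intro y
  have hy : (y : E) ∈ LinearMap.range f := by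
    rw [← socle_eq_range f hf]; exact y.2
  obtain ⟨x, hx⟩ := hy
  obtain ⟨r, rfl⟩ := Ideal.Quotient.mk_surjective (I := maximalIdeal R) x
  refine ⟨Ideal.Quotient.mk _ r, Subtype.ext ?_⟩
  rw [LinearMap.toSpanSingleton_apply, ← hx]
  change r • f 1 = _
  rw [← map_smul]
  congr 1
  rw [Algebra.smul_def, mul_one]
  rfl

variable [IsNoetherianRing R]

/-- Over a Noetherian local ring, the injective hull of the residue field is power torsion. -/
theorem hull_isPowerTorsion {E : Type u} [AddCommGroup E] [Module R E]
    (f : ResidueField R →ₗ[R] E) (hf : IsInjectiveHull f) :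
    LocCoh.IsPowerTorsion (maximalIdeal R) E := by
  set Γ : Submodule R E :=
    ⨆ n : ℕ, Submodule.torsionBySet R E (((maximalIdeal R) ^ n : Ideal R) : Set R) with hΓ
  have hinj : Module.Injective R Γ := Groth.Agent.S0301.result R E hf.isInjective (maximalIdeal R)
  obtain ⟨C, hC⟩ := exists_isCompl_range hinj Γ.subtype (Submodule.subtype_injective _)
  rw [Submodule.range_subtype] at hC
  have hrange : LinearMap.range f ≤ Γ := by
    refine (range_le_socle f).trans ?_
    refine le_trans ?_ (le_iSup _ 1)
    rw [pow_one]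
  have hCbot : C = ⊥ := by
    by_contra hne
    apply hf.essential C hne
    rw [eq_bot_iff]
    intro x hx
    have : x ∈ Γ ⊓ C := ⟨hrange hx.2, hx.1⟩
    rwa [hC.inf_eq_bot] at this
  have htop : Γ = ⊤ := by
    have := hC.sup_eq_top
    rwa [hCbot, sup_bot_eq] at this
  intro x
  have hx : x ∈ Γ := htop ▸ Submodule.mem_top
  let T : ℕ →o Submodule R E :=
    ⟨fun n => Submodule.torsionBySet R E (((maximalIdeal R) ^ n : Ideal R) : Set R), by
      intro m n hmn x hx
      rw [Submodule.mem_torsionBySet_iff] at hx ⊢
      intro a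
      exact hx ⟨a.1, Ideal.pow_le_pow_right hmn a.2⟩⟩
  obtain ⟨n, hn⟩ := (Submodule.mem_iSup_of_chain T x).1 hx
  refine ⟨n, fun a ha => ?_⟩
  exact (Submodule.mem_torsionBySet_iff _ _).1 hn ⟨a, ha⟩

theorem hull_isArtinian {E : Type u} [AddCommGroup E] [Module R E]
    (f : ResidueField R →ₗ[R] E) (hf : IsInjectiveHull f) : IsArtinian R E := by
  apply Melk.isArtinian_of_powerTorsion (maximalIdeal R)
    ((isNoetherianRing_iff_ideal_fg R).1 inferInstance _) (hull_isPowerTorsion f hf)
  have hfin := socle_finite f hf.toIsEssentialInj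
  let _ : Field (R ⧸ maximalIdeal R) := Ideal.Quotient.field _
  have h2 : IsArtinian (R ⧸ maximalIdeal R)
      (Submodule.torsionBySet R E (maximalIdeal R : Set R)) := inferInstance
  exact isArtinian_of_surjective_algebraMap (S := R) (R := R ⧸ maximalIdeal R)
    Ideal.Quotient.mk_surjective

end

end Groth.Agent.Helper7.Matlis
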