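import Mathlib
import Groth.Prelude.Def_Wider
import Groth.Agent.Lib.Helper7.Matlis1

set_option autoImplicit false
universe u v

namespace Groth.Agent.Helper7.Matlis

open InjHull IsLocalRing Groth.Agent.Helper7.IH

section

variable {R : Type u} [CommRing R]

/-- A product of injective modules (over a small index type) is injective. -/
theorem injective_pi {ι : Type} (E : ι → Type u) [∀ i, AddCommGroup (E i)] [∀ i, Module R (E i)]
    (h : ∀ i, Module.Injective R (E i)) : Module.Injective R (∀ i, E i) := by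
  constructor
  intro X Y _ _ _ _ f hf g
  choose k hk using fun i => (h i).out f hf ((LinearMap.proj i) ∘ₗ g)
  refine ⟨LinearMap.pi k, fun x => ?_⟩
  ext i
  rw [LinearMap.pi_apply, hk i x]
  rfl

/-- In a power torsion module, the socle is essential. -/
theorem socle_essential {M : Type v} [AddCommGroup M] [Module R M] (I : Ideal R)
    (hM : LocCoh.IsPowerTorsion I M) (x : M) (hx : x ≠ 0) :
    ∃ r : R, r • x ∈ Submodule.torsionBySet R M (I : Set R) ∧ r • x ≠ 0 := by
  classical
  have hex : ∃ n : ℕ, ∀ a ∈ I ^ n, a • x = 0 := hM x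
  set n := Nat.find hex with hn
  have hn_spec : ∀ a ∈ I ^ n, a • x = 0 := Nat.find_spec hex
  have hn0 : n ≠ 0 := by
    intro h0
    apply hx
    have := hn_spec 1 (by rw [h0, pow_zero, Ideal.one_eq_top]; trivial)
    rwa [one_smul] at this
  obtain ⟨k, hk⟩ := Nat.exists_eq_succ_of_ne_zero hn0
  have hmin : ¬ ∀ a ∈ I ^ k, a • x = 0 := Nat.find_min hex (by omega)
  push Not at hmin
  obtain ⟨r, hr, hrx⟩ := hmin
  refine ⟨r, ?_, hrx⟩
  rw [Submodule.mem_torsionBySet_iff]
  rintro ⟨a, ha⟩
  change a • r • x = 0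
  rw [← mul_smul]
  apply hn_spec
  rw [hk, pow_succ']
  exact Ideal.mul_mem_mul ha hr

end

section

variable {R : Type u} [CommRing R] [IsLocalRing R]

theorem exists_embedding_pi {E : Type u} [AddCommGroup E] [Module R E]
    (f : ResidueField R →ₗ[R] E) (hf : IsInjectiveHull f) (M : Type u) [AddCommGroup M] [Module R M]
    (hM : LocCoh.IsPowerTorsion (maximalIdeal R) M) (n : ℕ)
    [Module.Finite (R ⧸ maximalIdeal R) ↥(LocCoh.torsionBy (maximalIdeal R) M)]
    (hn : Module.finrank (R ⧸ maximalIdeal R) ↥(LocCoh.torsionBy (maximalIdeal R) M) = n) :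
    ∃ g : M →ₗ[R] (Fin n → E), Function.Injective g := by
  let _ : Field (R ⧸ maximalIdeal R) := Ideal.Quotient.field _
  let Soc : Submodule R M := LocCoh.torsionBy (maximalIdeal R) M
  let b : Module.Basis (Fin n) (R ⧸ maximalIdeal R) Soc := Module.finBasisOfFinrankEq _ _ hn
  let e : Soc ≃ₗ[R] (Fin n → R ⧸ maximalIdeal R) := b.equivFun.restrictScalars R
  let φ : Soc →ₗ[R] (Fin n → E) := (f.compLeft (Fin n)) ∘ₗ e.toLinearMap
  have hφ : Function.Injective φ := by
    intro x y hxy
    apply e.injective
    funext i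
    apply hf.injective
    exact congrFun hxy i
  have hinj : Module.Injective R (Fin n → E) := injective_pi (fun _ => E) (fun _ => hf.isInjective)
  obtain ⟨g, hg⟩ := exists_ext hinj Soc.subtype (Submodule.subtype_injective _) φ
  refine ⟨g, ?_⟩
  have hess : IsEssentialInj Soc.subtype := by
    rw [isEssentialInj_iff]
    refine ⟨Submodule.subtype_injective _, fun x hx => ?_⟩
    obtain ⟨r, hr, hr0⟩ := socle_essential (maximalIdeal R) hM x hx
    exact ⟨r, by rw [Submodule.range_subtype]; exact hr, hr0⟩
  apply injective_of_essential hess g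
  rw [hg]
  exact hφ

end

end Groth.Agent.Helper7.Matlis
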