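import Mathlib
import Groth.Prelude.Def_Wider
import Groth.Agent.Lib.Helper7.Matlis2

set_option autoImplicit false
universe u v

namespace Groth.Agent.Helper7.Matlis

open InjHull IsLocalRing Groth.Agent.Helper7.IH

section

variable {R : Type u} [CommRing R] {E : Type u} [AddCommGroup E] [Module R E]

/-- Additivity of the length of `Hom(-, E)` for injective `E`. -/
theorem length_hom_eq_add (hE : Module.Injective R E) {M : Type u} [AddCommGroup M] [Module R M]
    (N : Submodule R M) :
    Module.length R (M →ₗ[R] E) =
      Module.length R ((M ⧸ N) →ₗ[R] E) + Module.length R (N →ₗ[R] E) := by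
  apply Module.length_eq_add_of_exact (LinearMap.lcomp R E N.mkQ) (LinearMap.lcomp R E N.subtype)
  · exact LinearMap.lcomp_injective_of_surjective _ N.mkQ_surjective
  · intro ψ
    obtain ⟨φ, hφ⟩ := exists_ext hE N.subtype (Submodule.subtype_injective _) ψ
    exact ⟨φ, hφ⟩
  · exact LinearMap.exact_lcomp_of_exact_of_surjective E (LinearMap.exact_subtype_mkQ N)
      N.mkQ_surjective

end

section

variable {R : Type u} [CommRing R] [IsLocalRing R] {E : Type u} [AddCommGroup E] [Module R E]

theorem isSimpleModule_residueField : IsSimpleModule R (ResidueField R) :=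
  (isSimpleModule_iff_isCoatom (R := R) (m := maximalIdeal R)).2
    (Ideal.isMaximal_def.1 inferInstance)

/-- `Hom(k, E) ≅ k` for an essential extension `E` of `k`. -/
theorem length_hom_residueField (f : ResidueField R →ₗ[R] E) (hf : IsEssentialInj f) :
    Module.length R (ResidueField R →ₗ[R] E) = 1 := by
  -- the map k → Hom(k, E), c ↦ (x ↦ f (c * x))
  let Ψ : ResidueField R →ₗ[R] (ResidueField R →ₗ[R] E) :=
    (LinearMap.llcomp R (ResidueField R) (ResidueField R) E f).comp
      (LinearMap.mul R (ResidueField R))
  have hΨ : ∀ c x, Ψ c x = f (c * x) := fun c x => rfl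
  have hinj : Function.Injective Ψ := by
    rw [← LinearMap.ker_eq_bot, eq_bot_iff]
    intro c hc
    rw [LinearMap.mem_ker] at hc
    have h1 : Ψ c 1 = 0 := by rw [hc]; rfl
    rw [hΨ, mul_one] at h1
    rw [Submodule.mem_bot]
    exact hf.injective (h1.trans (map_zero f).symm)
  have hsurj : Function.Surjective Ψ := by
    intro φ
    have h1 : φ 1 ∈ LinearMap.range f := by
      rw [← socle_eq_range f hf]
      exact range_le_socle φ ⟨1, rfl⟩
    obtain ⟨c, hc⟩ := h1
    refine ⟨c, LinearMap.ext fun x => ?_⟩
    obtain ⟨r, rfl⟩ := residue_surjective x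
    rw [hΨ]
    have h2 : residue R r = r • (1 : ResidueField R) := by
      rw [Algebra.smul_def, mul_one]; rfl
    rw [h2, map_smul, ← hc, ← map_smul, mul_smul_comm, mul_one]
  have := isSimpleModule_residueField (R := R)
  rw [← (LinearEquiv.ofBijective Ψ ⟨hinj, hsurj⟩).length_eq]
  exact Module.length_eq_one R _

/-- `Hom(S, E)` has length one for a simple module `S`. -/
theorem length_hom_simple (f : ResidueField R →ₗ[R] E) (hf : IsEssentialInj f)
    (S : Type u) [AddCommGroup S] [Module R S] [IsSimpleModule R S] :
    Module.length R (S →ₗ[R] E) = 1 := by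
  obtain ⟨m, hm, ⟨e⟩⟩ := isSimpleModule_iff_quot_maximal.mp (inferInstance : IsSimpleModule R S)
  rw [eq_maximalIdeal hm] at e
  have e' : S ≃ₗ[R] ResidueField R := e
  rw [(LinearEquiv.congrLeft E R e').length_eq]
  exact length_hom_residueField f hf

/-- Matlis duality preserves length. -/
theorem length_hom_eq (f : ResidueField R →ₗ[R] E) (hf : IsInjectiveHull f)
    (M : Type u) [AddCommGroup M] [Module R M] (hM : IsFiniteLength R M) :
    Module.length R (M →ₗ[R] E) = Module.length R M := by
  induction hM with
  | of_subsingleton =>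
    rw [Module.length_eq_zero, Module.length_eq_zero]
  | @of_simple_quotient M _ _ N _ hN ih =>
    rw [length_hom_eq_add hf.isInjective N, ih, length_hom_simple f hf.toIsEssentialInj,
      Module.length_eq_add_of_exact N.subtype N.mkQ (Submodule.subtype_injective _)
        N.mkQ_surjective (LinearMap.exact_subtype_mkQ N), Module.length_eq_one R (M ⧸ N), add_comm]

/-- `E` is a cogenerator: the evaluation map into the double dual is injective. -/
theorem applyₗ_injective (f : ResidueField R →ₗ[R] E) (hf : IsInjectiveHull f)
    (M : Type u) [AddCommGroup M] [Module R M] :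
    Function.Injective (LinearMap.applyₗ : M →ₗ[R] (M →ₗ[R] E) →ₗ[R] E) := by
  rw [← LinearMap.ker_eq_bot, eq_bot_iff]
  intro x hx
  rw [LinearMap.mem_ker] at hx
  rw [Submodule.mem_bot]
  by_contra hx0
  let t : R →ₗ[R] M := LinearMap.toSpanSingleton R M x
  have ht1 : t 1 = x := by simp [t]
  have hker : LinearMap.ker t ≤ maximalIdeal R := by
    apply le_maximalIdeal
    rw [Ideal.ne_top_iff_one, LinearMap.mem_ker, ht1]
    exact hx0
  let π : R →ₗ[R] E := f ∘ₗ (Algebra.linearMap R (ResidueField R))
  have hle : LinearMap.ker t ≤ LinearMap.ker π := by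
    intro r hr
    rw [LinearMap.mem_ker]
    change f (algebraMap R (ResidueField R) r) = 0
    rw [ResidueField.algebraMap_eq, (residue_eq_zero_iff r).2 (hker hr), map_zero]
  let ψ : LinearMap.range t →ₗ[R] E :=
    ((LinearMap.ker t).liftQ π hle) ∘ₗ t.quotKerEquivRange.symm.toLinearMap
  obtain ⟨φ, hφ⟩ := exists_ext hf.isInjective (LinearMap.range t).subtype
    (Submodule.subtype_injective _) ψ
  have h1 : φ x = f 1 := by
    have hmem : t 1 ∈ LinearMap.range t := ⟨1, rfl⟩
    have h2 : φ (t 1) = ψ ⟨t 1, hmem⟩ := by
      rw [← hφ]; rfl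
    rw [← ht1, h2]
    change ((LinearMap.ker t).liftQ π hle) (t.quotKerEquivRange.symm ⟨t 1, hmem⟩) = f 1
    rw [LinearMap.quotKerEquivRange_symm_apply_image]
    change π 1 = f 1
    change f (algebraMap R (ResidueField R) 1) = f 1
    rw [map_one]
  have h3 : φ x = 0 := by
    have := LinearMap.congr_fun hx φ
    exact this
  rw [h1] at h3
  have : (1 : ResidueField R) = 0 := hf.injective (h3.trans (map_zero f).symm)
  exact one_ne_zero this

end

section

variable {R : Type u} [CommRing R]

/-- An injective linear map between modules of the same finite length is surjective. -/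
theorem surjective_of_injective_of_length_eq {A B : Type v} [AddCommGroup A] [Module R A]
    [AddCommGroup B] [Module R B] (g : A →ₗ[R] B) (hg : Function.Injective g)
    (hlen : Module.length R A = Module.length R B) (hfin : Module.length R A ≠ ⊤) :
    Function.Surjective g := by
  have h1 := Module.length_eq_add_of_exact g (LinearMap.range g).mkQ hg
    (Submodule.mkQ_surjective _) (LinearMap.exact_map_mkQ_range g)
  rw [← hlen] at h1
  have h2 : Module.length R (B ⧸ LinearMap.range g) = 0 := by
    obtain ⟨a, ha⟩ := ENat.ne_top_iff_exists.1 hfin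
    rw [← ha] at h1
    cases hc : Module.length R (B ⧸ LinearMap.range g) with
    | top => rw [hc, add_top] at h1; exact absurd h1 (ENat.natCast_ne_top a)
    | coe c =>
      rw [hc] at h1
      have : a = a + c := by exact_mod_cast h1
      have : c = 0 := by omega
      rw [this]; rfl
  rw [Module.length_eq_zero_iff, Submodule.Quotient.subsingleton_iff] at h2
  exact LinearMap.range_eq_top.1 h2

end

section

variable {R : Type u} [CommRing R] [IsLocalRing R] {E : Type u} [AddCommGroup E] [Module R E]

theorem applyₗ_bijective (f : ResidueField R →ₗ[R] E) (hf : IsInjectiveHull f)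
    (M : Type u) [AddCommGroup M] [Module R M] (hM : IsFiniteLength R M) :
    Function.Bijective (LinearMap.applyₗ : M →ₗ[R] (M →ₗ[R] E) →ₗ[R] E) := by
  refine ⟨applyₗ_injective f hf M, ?_⟩
  have h1 : Module.length R (M →ₗ[R] E) = Module.length R M := length_hom_eq f hf M hM
  have hfin : Module.length R M ≠ ⊤ := Module.length_ne_top_iff.2 hM
  have hM' : IsFiniteLength R (M →ₗ[R] E) := by
    rw [← Module.length_ne_top_iff, h1]; exact hfin
  have h2 : Module.length R ((M →ₗ[R] E) →ₗ[R] E) = Module.length R (M →ₗ[R] E) :=
    length_hom_eq f hf _ hM'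
  apply surjective_of_injective_of_length_eq _ (applyₗ_injective f hf M) _ hfin
  rw [h2, h1]

end

end Groth.Agent.Helper7.Matlis
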