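import Mathlib
import Groth.Prelude.Def_ComodSub
import Groth.Agent.Lib.Helper4.LinRed
import Groth.Agent.H29.TensorSub

/-!
# Flags of subcomodules (helper7 library)

* `mem_next_iff`: `ρ v - v ⊗ 1 ∈ W ⊗ A` iff `ψ · v - ψ(1) v ∈ W` for all functionals `ψ`.
* `exists_chain`: from a one-step extension property, a full flag of subcomodules.
* `exists_unip_chain`: for a unipotent bialgebra every finite-dimensional comodule has a full
  flag of subcomodules with trivial successive quotients.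
-/

set_option autoImplicit false
universe u v w

open TensorProduct Groth.Agent.H29 Groth.Agent.Helper4.LinRed

namespace Groth.Agent.Helper7.Unip7

section

variable {k : Type u} [Field k] {A : Type v} [CommRing A] [Bialgebra k A]
variable {V : Type w} [AddCommGroup V] [Module k V] [HopfRep.Comod k A V]

lemma isSubcomod_bot : HopfRep.IsSubcomod (k := k) (A := A) (⊥ : Submodule k V) := by
  rw [isSubcomod_iff]
  intro φ w hw
  rw [(Submodule.mem_bot k).mp hw, map_zero]
  exact Submodule.zero_mem _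

lemma mem_next_iff (W : Submodule k V) (v : V) :
    HopfRep.Comod.coact (k := k) (A := A) v - v ⊗ₜ[k] (1 : A) ∈
        LinearMap.range (W.subtype.rTensor A) ↔
      ∀ ψ : A →ₗ[k] k, dualAct ψ v - ψ 1 • v ∈ W := by
  rw [mem_range_rTensor_subtype_iff_mkQ]
  constructor
  · intro h ψ
    have h2 := congrArg (rAct (V ⧸ W) ψ) h
    rw [map_zero, ← rAct_natural, map_sub, rAct_tmul, ← dualAct_apply] at h2
    exact (Submodule.Quotient.mk_eq_zero W).mp h2
  · intro h
    apply tensor_ext_rAct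
    intro ψ
    rw [map_zero, ← rAct_natural, map_sub, rAct_tmul, ← dualAct_apply]
    exact (Submodule.Quotient.mk_eq_zero W).mpr (h ψ)

theorem exists_chain [Module.Finite k V] (R : Submodule k V → Submodule k V → Prop)
    (hR : R ⊤ ⊤)
    (hstep : ∀ W : Submodule k V, HopfRep.IsSubcomod (k := k) (A := A) W → W ≠ ⊤ →
      ∃ W' : Submodule k V, HopfRep.IsSubcomod (k := k) (A := A) W' ∧ W ≤ W' ∧
        Module.finrank k W' = Module.finrank k W + 1 ∧ R W W') :
    ∃ G : ℕ → Submodule k V, G 0 = ⊥ ∧ G (Module.finrank k V) = ⊤ ∧ Monotone G ∧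
      (∀ i, HopfRep.IsSubcomod (k := k) (A := A) (G i)) ∧
      (∀ i, i ≤ Module.finrank k V → Module.finrank k (G i) = i) ∧
      ∀ i, R (G i) (G (i + 1)) := by
  classical
  have hstep' : ∀ W : {W : Submodule k V // HopfRep.IsSubcomod (k := k) (A := A) W},
      ∃ W' : {W : Submodule k V // HopfRep.IsSubcomod (k := k) (A := A) W},
        W.1 ≤ W'.1 ∧ (W.1 ≠ ⊤ → Module.finrank k W'.1 = Module.finrank k W.1 + 1) ∧
          R W.1 W'.1 := by
    intro W
    by_cases h : W.1 = ⊤
    · refine ⟨W, le_rfl, fun h' => absurd h h', ?_⟩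
      rw [h]
      exact hR
    · obtain ⟨W', h1, h2, h3, h4⟩ := hstep W.1 W.2 h
      exact ⟨⟨W', h1⟩, h2, fun _ => h3, h4⟩
  choose f hf using hstep'
  obtain ⟨G, hGdef⟩ : ∃ G : ℕ → {W : Submodule k V // HopfRep.IsSubcomod (k := k) (A := A) W},
      G = fun n => f^[n] ⟨⊥, isSubcomod_bot⟩ := ⟨_, rfl⟩
  have hG0 : (G 0).1 = ⊥ := by rw [hGdef]; rfl
  have hGs : ∀ n, G (n + 1) = f (G n) := by
    intro n
    rw [hGdef]
    exact Function.iterate_succ_apply' f n _
  have hle : ∀ i, (G i).1 ≤ (G (i + 1)).1 := fun i => by rw [hGs]; exact (hf (G i)).1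
  have hrank : ∀ i, i ≤ Module.finrank k V → Module.finrank k (G i).1 = i := by
    intro i
    induction i with
    | zero => intro _; rw [hG0]; exact finrank_bot k V
    | succ i ih =>
      intro hi
      have hi' := ih (by omega)
      have hne : (G i).1 ≠ ⊤ := by
        intro htop
        rw [htop, finrank_top] at hi'
        omega
      rw [hGs, (hf (G i)).2.1 hne, hi']
  refine ⟨fun n => (G n).1, hG0, ?_, monotone_nat_of_le_succ hle, fun i => (G i).2, hrank, ?_⟩
  · exact Submodule.eq_top_of_finrank_eq (hrank _ le_rfl)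
  · intro i
    show R (G i).1 (G (i + 1)).1
    rw [hGs]
    exact (hf (G i)).2.2

end

section Unip

variable {k : Type u} [Field k] {A : Type v} [CommRing A] [Bialgebra k A]

lemma exists_step (hU : HopfRep.IsUnipotent k A) {V : Type v} [AddCommGroup V] [Module k V]
    [cV : HopfRep.Comod k A V] [Module.Finite k V] (W : Submodule k V)
    (hW : HopfRep.IsSubcomod (k := k) (A := A) W) (hne : W ≠ ⊤) :
    ∃ W' : Submodule k V, HopfRep.IsSubcomod (k := k) (A := A) W' ∧ W ≤ W' ∧
      Module.finrank k W' = Module.finrank k W + 1 ∧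
      ∀ v ∈ W', ∀ ψ : A →ₗ[k] k, dualAct ψ v - ψ 1 • v ∈ W := by
  letI cq : HopfRep.Comod k A (V ⧸ W) := ComodSub.Comod.quot cV W hW
  haveI : Nontrivial (V ⧸ W) := Submodule.Quotient.nontrivial_iff.mpr hne
  have hfix := hU (V ⧸ W) inferInstance this
  obtain ⟨q, hq, hq0⟩ := Submodule.exists_mem_ne_zero_of_ne_bot hfix
  obtain ⟨x, rfl⟩ := W.mkQ_surjective q
  have hxW : x ∉ W := fun h => hq0 ((Submodule.Quotient.mk_eq_zero W).mpr h)
  have hmk : Hoch.IsComodHom A W.mkQ := ComodSub.isComodHom_mkQ cV W hW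
  have hx : ∀ ψ : A →ₗ[k] k, dualAct ψ x - ψ 1 • x ∈ W := by
    intro ψ
    have h1 := (mem_fixedPts_iff (W.mkQ x)).mp hq ψ
    have h2 := (isComodHom_iff W.mkQ).mp hmk ψ x
    rw [← h2, ← map_smul, ← sub_eq_zero, ← map_sub] at h1
    exact (Submodule.Quotient.mk_eq_zero W).mp h1
  have hWst := (isSubcomod_iff W).mp hW
  have hkey : ∀ v ∈ W ⊔ Submodule.span k {x}, ∀ ψ : A →ₗ[k] k,
      dualAct ψ v - ψ 1 • v ∈ W := by
    intro v hv ψ
    obtain ⟨w, hw, y, hy, rfl⟩ := Submodule.mem_sup.mp hv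
    obtain ⟨a, rfl⟩ := Submodule.mem_span_singleton.mp hy
    have : dualAct ψ (w + a • x) - ψ 1 • (w + a • x) =
        (dualAct ψ w - ψ 1 • w) + a • (dualAct ψ x - ψ 1 • x) := by
      rw [map_add, map_smul]
      module
    rw [this]
    exact W.add_mem (W.sub_mem (hWst ψ w hw) (W.smul_mem _ hw)) (W.smul_mem _ (hx ψ))
  refine ⟨W ⊔ Submodule.span k {x}, ?_, le_sup_left,
    Submodule.finrank_sup_span_singleton hxW, hkey⟩
  rw [isSubcomod_iff]
  intro φ v hv
  have h1 := hkey v hv φ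
  have : dualAct φ v = (dualAct φ v - φ 1 • v) + φ 1 • v := by abel
  rw [this]
  exact Submodule.add_mem _ ((le_sup_left : W ≤ W ⊔ Submodule.span k {x}) h1)
    (Submodule.smul_mem _ _ hv)

theorem exists_unip_chain (hU : HopfRep.IsUnipotent k A) {V : Type v} [AddCommGroup V]
    [Module k V] [HopfRep.Comod k A V] [Module.Finite k V] :
    ∃ G : ℕ → Submodule k V, G 0 = ⊥ ∧ G (Module.finrank k V) = ⊤ ∧ Monotone G ∧
      (∀ i, HopfRep.IsSubcomod (k := k) (A := A) (G i)) ∧
      (∀ i, i ≤ Module.finrank k V → Module.finrank k (G i) = i) ∧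
      ∀ i, ∀ v ∈ G (i + 1), ∀ ψ : A →ₗ[k] k, dualAct ψ v - ψ 1 • v ∈ G i :=
  exists_chain (fun W W' => ∀ v ∈ W', ∀ ψ : A →ₗ[k] k, dualAct ψ v - ψ 1 • v ∈ W)
    (fun _ _ _ => Submodule.mem_top) (fun W hW hne => exists_step hU W hW hne)

end Unip

end Groth.Agent.Helper7.Unip7
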