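import Mathlib
import Groth.Prelude.Def_RegImm
import Groth.Agent.H14Lib.KrullDim

set_option autoImplicit false

namespace Groth.Agent.Helper7.GlobCI
universe u
open Polynomial

/-- A presentation with `n` generators and `c` relations. -/
def PCI (k S : Type u) [CommRing k] [CommRing S] [Algebra k S] (n c : ℕ) : Prop :=
  ∃ (φ : MvPolynomial (Fin n) k →ₐ[k] S) (r : Fin c → MvPolynomial (Fin n) k),
    Function.Surjective φ ∧ RingHom.ker φ.toRingHom = Ideal.span (Set.range r)

lemma ker_comp_equiv {A B T : Type*} [CommRing A] [CommRing B] [CommRing T] {ι : Type*}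
    (E : A ≃+* B) (F : B →+* T) (R : ι → B)
    (h : RingHom.ker F = Ideal.span (Set.range R)) :
    RingHom.ker (F.comp (E : A →+* B)) = Ideal.span (Set.range (fun i => E.symm (R i))) := by
  have h1 : RingHom.ker (F.comp (E : A →+* B)) =
      Ideal.map (E.symm : B →+* A) (RingHom.ker F) := by
    apply le_antisymm
    · intro x hx
      rw [RingHom.mem_ker, RingHom.comp_apply] at hx
      have hx' : (E : A →+* B) x ∈ RingHom.ker F := RingHom.mem_ker.mpr hx
      have := Ideal.mem_map_of_mem (E.symm : B →+* A) hx'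
      simpa using this
    · rw [Ideal.map_le_iff_le_comap]
      intro y hy
      rw [Ideal.mem_comap, RingHom.mem_ker, RingHom.comp_apply]
      have : (E : A →+* B) ((E.symm : B →+* A) y) = y := by simp
      rw [this]
      exact RingHom.mem_ker.mp hy
  rw [h1, h, Ideal.map_span, ← Set.range_comp]
  rfl

lemma ker_mapRingHom_span {R S : Type*} [CommRing R] [CommRing S] (φ : R →+* S) {c : ℕ}
    (r : Fin c → R) (hker : RingHom.ker φ = Ideal.span (Set.range r)) :
    RingHom.ker (Polynomial.mapRingHom φ) =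
      Ideal.span (Set.range (fun i => (C (r i) : R[X]))) := by
  rw [Polynomial.ker_mapRingHom, hker, Ideal.map_span, ← Set.range_comp]
  rfl

lemma comap_mapRingHom_span {R S : Type*} [CommRing R] [CommRing S] (φ : R →+* S)
    (hφ : Function.Surjective φ) {c : ℕ} (r : Fin c → R)
    (hker : RingHom.ker φ = Ideal.span (Set.range r)) (g' : R[X]) :
    Ideal.comap (Polynomial.mapRingHom φ) (Ideal.span {Polynomial.map φ g'}) =
      Ideal.span (Set.range
        (Fin.cons g' (fun i => (C (r i) : R[X])) : Fin (c + 1) → R[X])) := by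
  have h1 : Ideal.span {Polynomial.map φ g'} =
      Ideal.map (Polynomial.mapRingHom φ) (Ideal.span {g'}) := by
    simp only [Ideal.map_span, Set.image_singleton, Polynomial.coe_mapRingHom]
  rw [h1, Ideal.comap_map_of_surjective _ (Polynomial.map_surjective φ hφ),
    ← RingHom.ker_eq_comap_bot, ker_mapRingHom_span φ r hker, Fin.range_cons, Set.insert_eq,
    Ideal.span_union]

lemma pci_poly {k S : Type u} [CommRing k] [CommRing S] [Algebra k S] {n c : ℕ}
    (h : PCI k S n c) : PCI k (Polynomial S) (n + 1) c := by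
  obtain ⟨φ, r, hφ, hker⟩ := h
  let E := MvPolynomial.finSuccEquiv k n
  refine ⟨(Polynomial.mapAlgHom φ).comp E.toAlgHom,
    fun i => E.toRingEquiv.symm (C (r i)), ?_, ?_⟩
  · intro y
    obtain ⟨x, hx⟩ := Polynomial.map_surjective φ.toRingHom hφ y
    refine ⟨E.symm x, ?_⟩
    show Polynomial.map φ.toRingHom (E (E.symm x)) = y
    rw [AlgEquiv.apply_symm_apply]
    exact hx
  · have hcomp : ((Polynomial.mapAlgHom φ).comp E.toAlgHom).toRingHom =
        (Polynomial.mapRingHom φ.toRingHom).comp (E.toRingEquiv : _ →+* _) := rfl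
    rw [hcomp]
    exact ker_comp_equiv E.toRingEquiv _ _ (ker_mapRingHom_span φ.toRingHom r hker)

lemma pci_adjoinRoot {k S : Type u} [CommRing k] [CommRing S] [Algebra k S] {n c : ℕ}
    (h : PCI k S n c) (g : Polynomial S) : PCI k (AdjoinRoot g) (n + 1) (c + 1) := by
  obtain ⟨φ, r, hφ, hker⟩ := h
  let E := MvPolynomial.finSuccEquiv k n
  obtain ⟨g', rfl⟩ := Polynomial.map_surjective φ.toRingHom hφ g
  let R' : Fin (c + 1) → Polynomial (MvPolynomial (Fin n) k) :=
    Fin.cons g' (fun i => C (r i))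
  let mk' : Polynomial S →ₐ[k] AdjoinRoot (Polynomial.map φ.toRingHom g') :=
    (AdjoinRoot.mkₐ _).restrictScalars k
  refine ⟨(mk'.comp (Polynomial.mapAlgHom φ)).comp E.toAlgHom,
    fun i => E.toRingEquiv.symm (R' i), ?_, ?_⟩
  · intro y
    obtain ⟨f, rfl⟩ := AdjoinRoot.mk_surjective y
    obtain ⟨x, hx⟩ := Polynomial.map_surjective φ.toRingHom hφ f
    refine ⟨E.symm x, ?_⟩
    show AdjoinRoot.mk _ (Polynomial.map φ.toRingHom (E (E.symm x))) = AdjoinRoot.mk _ f
    rw [AlgEquiv.apply_symm_apply, hx]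
  · have hcomp : ((mk'.comp (Polynomial.mapAlgHom φ)).comp E.toAlgHom).toRingHom =
        ((AdjoinRoot.mk (Polynomial.map φ.toRingHom g')).comp
          (Polynomial.mapRingHom φ.toRingHom)).comp (E.toRingEquiv : _ →+* _) := rfl
    rw [hcomp]
    refine ker_comp_equiv E.toRingEquiv _ R' ?_
    rw [← RingHom.comap_ker]
    have hk : RingHom.ker (AdjoinRoot.mk (Polynomial.map φ.toRingHom g')) =
        Ideal.span {Polynomial.map φ.toRingHom g'} := by
      ext x
      rw [RingHom.mem_ker, AdjoinRoot.mk_eq_zero, Ideal.mem_span_singleton]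
    rw [hk]
    exact comap_mapRingHom_span φ.toRingHom hφ r hker g'

lemma pci_base (k : Type u) [Field k] : PCI k k 0 0 := by
  refine ⟨(MvPolynomial.isEmptyAlgEquiv k (Fin 0)).toAlgHom, fun i => Fin.elim0 i,
    (MvPolynomial.isEmptyAlgEquiv k (Fin 0)).surjective, ?_⟩
  have h1 : RingHom.ker (MvPolynomial.isEmptyAlgEquiv k (Fin 0)).toAlgHom.toRingHom = ⊥ :=
    (RingHom.injective_iff_ker_eq_bot _).mp (MvPolynomial.isEmptyAlgEquiv k (Fin 0)).injective
  rw [h1, Set.range_eq_empty, Ideal.span_empty]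

/-- Krull dimension = transcendence degree for finite type domains over a field. -/
lemma dim_eq_trdeg (k S : Type u) [Field k] [CommRing S] [IsDomain S] [Algebra k S]
    [Algebra.FiniteType k S] :
    ∃ d : ℕ, ringKrullDim S = (d : WithBot ℕ∞) ∧ Algebra.trdeg k S = (d : Cardinal.{u}) := by
  obtain ⟨d, g, hginj, hgfin⟩ := exists_finite_inj_algHom_of_fg k S
  letI : Algebra (MvPolynomial (Fin d) k) S := g.toRingHom.toAlgebra
  haveI : Module.Finite (MvPolynomial (Fin d) k) S := hgfin
  haveI : Algebra.IsIntegral (MvPolynomial (Fin d) k) S := Algebra.IsIntegral.of_finite _ _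
  have hinj : Function.Injective (algebraMap (MvPolynomial (Fin d) k) S) := hginj
  haveI : FaithfulSMul (MvPolynomial (Fin d) k) S :=
    (faithfulSMul_iff_algebraMap_injective _ _).mpr hinj
  haveI : FaithfulSMul k (MvPolynomial (Fin d) k) :=
    (faithfulSMul_iff_algebraMap_injective _ _).mpr (algebraMap k _).injective
  haveI : IsScalarTower k (MvPolynomial (Fin d) k) S :=
    IsScalarTower.of_algebraMap_eq (fun x => (g.commutes x).symm)
  haveI : Algebra.IsAlgebraic (MvPolynomial (Fin d) k) S := Algebra.IsIntegral.isAlgebraic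
  have hdimR : ringKrullDim (MvPolynomial (Fin d) k) = d := by
    simp [MvPolynomial.ringKrullDim_of_isNoetherianRing]
  refine ⟨d, ?_, ?_⟩
  · rw [Groth.Agent.H14Lib.ringKrullDim_eq_of_isIntegral_of_injective _ S hinj, hdimR]
  · have h1 := trdeg_add_eq k (MvPolynomial (Fin d) k) (A := S)
    rw [trdeg_eq_zero (R := MvPolynomial (Fin d) k) (A := S), add_zero,
      MvPolynomial.trdeg_of_isDomain] at h1
    rw [← h1]
    simp

lemma dim_eq_of_algebraic (k S S' : Type u) [Field k] [CommRing S] [IsDomain S] [Algebra k S]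
    [Algebra.FiniteType k S] [CommRing S'] [IsDomain S'] [Algebra k S']
    [Algebra.FiniteType k S'] [Algebra S S'] [IsScalarTower k S S'] [Algebra.IsAlgebraic S S']
    (hinj : Function.Injective (algebraMap S S')) : ringKrullDim S' = ringKrullDim S := by
  obtain ⟨d, hd, ht⟩ := dim_eq_trdeg k S
  obtain ⟨d', hd', ht'⟩ := dim_eq_trdeg k S'
  haveI : FaithfulSMul S S' := (faithfulSMul_iff_algebraMap_injective _ _).mpr hinj
  haveI : FaithfulSMul k S :=
    (faithfulSMul_iff_algebraMap_injective _ _).mpr (algebraMap k S).injective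
  have h1 := trdeg_add_eq k S (A := S')
  rw [trdeg_eq_zero (R := S) (A := S'), add_zero, ht, ht'] at h1
  have h2 : d = d' := by exact_mod_cast h1
  rw [hd, hd', h2]

/-- There is a "stage" (an abstract global complete intersection embedded in `K`) whose image
contains `T`. -/
def StageOver (k K : Type u) [Field k] [Field K] [Algebra k K] (T : Set K) : Prop :=
  ∃ (S : Type u) (_ : CommRing S) (_ : Algebra k S) (ι : S →ₐ[k] K) (n c : ℕ),
    Function.Injective ι ∧ T ⊆ Set.range ι ∧ c ≤ n ∧ PCI k S n c ∧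
      ringKrullDim S = ((n - c : ℕ) : WithBot ℕ∞)

section steps

variable {k K S : Type u} [Field k] [Field K] [Algebra k K] [CommRing S] [Algebra k S]

lemma finiteType_of_pci {n c : ℕ} (hp : PCI k S n c) : Algebra.FiniteType k S := by
  obtain ⟨φ, r, hφ, _⟩ := hp
  exact Algebra.FiniteType.of_surjective φ hφ

lemma step_T (ι : S →ₐ[k] K) (hι : Function.Injective ι) {n c : ℕ} (hcn : c ≤ n)
    (hp : PCI k S n c) (hd : ringKrullDim S = ((n - c : ℕ) : WithBot ℕ∞)) (e : K)
    (htr : ∀ f : Polynomial S, Polynomial.eval₂ ι.toRingHom e f = 0 → f = 0) :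
    StageOver k K (insert e (Set.range ι)) := by
  haveI : IsDomain S := Function.Injective.isDomain ι.toRingHom hι
  haveI : Algebra.FiniteType k S := finiteType_of_pci hp
  haveI : IsNoetherianRing S := Algebra.FiniteType.isNoetherianRing k S
  refine ⟨Polynomial S, inferInstance, inferInstance, Polynomial.aevalTower ι e, n + 1, c,
    ?_, ?_, by omega, pci_poly hp, ?_⟩
  · rw [injective_iff_map_eq_zero]
    intro f hf
    exact htr f hf
  · rintro x (hx | ⟨a, rfl⟩)
    · rw [hx]
      exact ⟨X, Polynomial.aevalTower_X ι e⟩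
    · exact ⟨C a, Polynomial.aevalTower_C ι e a⟩
  · have h1 : n + 1 - c = (n - c) + 1 := by omega
    rw [Polynomial.ringKrullDim_of_isNoetherianRing, hd, h1, Nat.cast_add, Nat.cast_one]

lemma step_M (ι : S →ₐ[k] K) (hι : Function.Injective ι) {n c : ℕ} (hcn : c ≤ n)
    (hp : PCI k S n c) (hd : ringKrullDim S = ((n - c : ℕ) : WithBot ℕ∞)) (e : K)
    (P : Polynomial S) (hP : P.Monic) (hPe : Polynomial.eval₂ ι.toRingHom e P = 0)
    (hmin : ∀ f : Polynomial S, f ≠ 0 → f.natDegree < P.natDegree →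
      Polynomial.eval₂ ι.toRingHom e f ≠ 0) :
    StageOver k K (insert e (Set.range ι)) := by
  haveI : IsDomain S := Function.Injective.isDomain ι.toRingHom hι
  let ι' : AdjoinRoot P →ₐ[k] K := AdjoinRoot.liftAlgHom P ι e hPe
  have hι'of : ∀ a : S, ι' (AdjoinRoot.of P a) = ι a :=
    fun a => AdjoinRoot.liftAlgHom_of P ι e hPe a
  have hι' : Function.Injective ι' := by
    rw [injective_iff_map_eq_zero]
    intro x hx
    obtain ⟨f, rfl⟩ := AdjoinRoot.mk_surjective x
    have hx' : Polynomial.eval₂ ι.toRingHom e f = 0 := hx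
    have h1 := Polynomial.modByMonic_add_div f P
    have h2 : Polynomial.eval₂ ι.toRingHom e (f %ₘ P) = 0 := by
      have h3 := congrArg (Polynomial.eval₂ ι.toRingHom e) h1
      rw [Polynomial.eval₂_add, Polynomial.eval₂_mul, hPe, zero_mul, add_zero] at h3
      rw [h3]
      exact hx'
    have h3 : f %ₘ P = 0 := by
      by_contra hne
      exact hmin _ hne
        (Polynomial.natDegree_lt_natDegree hne (Polynomial.degree_modByMonic_lt f hP)) h2
    rw [AdjoinRoot.mk_eq_zero]
    exact (Polynomial.modByMonic_eq_zero_iff_dvd hP).mp h3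
  haveI : Module.Finite S (AdjoinRoot P) := hP.finite_adjoinRoot
  haveI : Algebra.IsIntegral S (AdjoinRoot P) := Algebra.IsIntegral.of_finite _ _
  have hof : Function.Injective (algebraMap S (AdjoinRoot P)) := by
    intro a b hab
    apply hι
    have h1 : ι' (AdjoinRoot.of P a) = ι' (AdjoinRoot.of P b) := congrArg ι' hab
    rw [hι'of, hι'of] at h1
    exact h1
  refine ⟨AdjoinRoot P, inferInstance, inferInstance, ι', n + 1, c + 1, hι', ?_, by omega,
    pci_adjoinRoot hp P, ?_⟩
  · rintro x (hx | ⟨a, rfl⟩)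
    · rw [hx]
      exact ⟨AdjoinRoot.root P, AdjoinRoot.liftAlgHom_root P ι e hPe⟩
    · exact ⟨AdjoinRoot.of P a, hι'of a⟩
  · rw [Groth.Agent.H14Lib.ringKrullDim_eq_of_isIntegral_of_injective S (AdjoinRoot P) hof, hd,
      Nat.add_sub_add_right]

/-- The localisation `S[1/s]` presented as `S[X]/(sX - 1)`. -/
abbrev Loc (s : S) : Type u := AdjoinRoot (C s * X - 1 : Polynomial S)

lemma step_L (ι : S →ₐ[k] K) (hι : Function.Injective ι) {n c : ℕ}
    (hp : PCI k S n c) (s : S) (hs : s ≠ 0) :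
    ∃ ι₁ : Loc s →ₐ[k] K, Function.Injective ι₁ ∧
      (∀ a : S, ι₁ (algebraMap S (Loc s) a) = ι a) ∧
      ringKrullDim (Loc s) = ringKrullDim S := by
  haveI : IsDomain S := Function.Injective.isDomain ι.toRingHom hι
  haveI hft : Algebra.FiniteType k S := finiteType_of_pci hp
  have hιs : ι s ≠ 0 := fun h => hs (hι (by rw [h, map_zero]))
  have hev : Polynomial.eval₂ ι.toRingHom (ι s)⁻¹ (C s * X - 1 : Polynomial S) = 0 := by
    rw [Polynomial.eval₂_sub, Polynomial.eval₂_mul, Polynomial.eval₂_C, Polynomial.eval₂_X,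
      Polynomial.eval₂_one]
    show ι s * (ι s)⁻¹ - 1 = 0
    rw [mul_inv_cancel₀ hιs, sub_self]
  let ι₁ : Loc s →ₐ[k] K := AdjoinRoot.liftAlgHom _ ι (ι s)⁻¹ hev
  have hι₁of : ∀ a : S, ι₁ (algebraMap S (Loc s) a) = ι a :=
    fun a => AdjoinRoot.liftAlgHom_of _ ι _ hev a
  haveI hloc : IsLocalization.Away s (Loc s) := IsLocalization.adjoin_inv s
  have hι₁ : Function.Injective ι₁ := by
    rw [injective_iff_map_eq_zero]
    intro x hx
    obtain ⟨a, t, rfl⟩ := IsLocalization.exists_mk'_eq (Submonoid.powers s) x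
    have h1 := IsLocalization.mk'_spec (Loc s) a t
    have h2 := congrArg ι₁ h1
    rw [map_mul, hx, zero_mul, hι₁of] at h2
    have ha : a = 0 := hι (by rw [← h2, map_zero])
    rw [ha, IsLocalization.mk'_zero]
  refine ⟨ι₁, hι₁, hι₁of, ?_⟩
  haveI : IsDomain (Loc s) := Function.Injective.isDomain ι₁.toRingHom hι₁
  have hinj : Function.Injective (algebraMap S (Loc s)) := by
    intro a b hab
    apply hι
    rw [← hι₁of a, ← hι₁of b, hab]
  haveI : Algebra.IsAlgebraic S (Loc s) := by
    refine ⟨fun x => ?_⟩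
    obtain ⟨a, t, rfl⟩ := IsLocalization.exists_mk'_eq (Submonoid.powers s) x
    have ht0 : (t : S) ≠ 0 := by
      obtain ⟨m, hm⟩ := (Submonoid.mem_powers_iff _ _).mp t.2
      rw [← hm]
      exact pow_ne_zero m hs
    refine ⟨C (t : S) * X - C a, ?_, ?_⟩
    · intro h
      apply ht0
      have h3 := congrArg (fun p => Polynomial.coeff p 1) h
      simpa [Polynomial.coeff_C] using h3
    · rw [map_sub, map_mul, Polynomial.aeval_C, Polynomial.aeval_X, Polynomial.aeval_C,
        mul_comm (algebraMap S (Loc s) (t : S)), IsLocalization.mk'_spec, sub_self]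
  exact dim_eq_of_algebraic k S (Loc s) hinj

lemma step_A (ι : S →ₐ[k] K) (hι : Function.Injective ι) {n c : ℕ} (hcn : c ≤ n)
    (hp : PCI k S n c) (hd : ringKrullDim S = ((n - c : ℕ) : WithBot ℕ∞)) (e : K)
    (halg : ∃ f : Polynomial S, f ≠ 0 ∧ Polynomial.eval₂ ι.toRingHom e f = 0) :
    StageOver k K (insert e (Set.range ι)) := by
  classical
  haveI : IsDomain S := Function.Injective.isDomain ι.toRingHom hι
  have hex : ∃ d : ℕ, ∃ f : Polynomial S, f ≠ 0 ∧ Polynomial.eval₂ ι.toRingHom e f = 0 ∧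
      f.natDegree = d := by
    obtain ⟨f, hf0, hfe⟩ := halg
    exact ⟨_, f, hf0, hfe, rfl⟩
  obtain ⟨h, hh0, hhe, hhd⟩ := Nat.find_spec hex
  have hmin : ∀ f : Polynomial S, f ≠ 0 → f.natDegree < h.natDegree →
      Polynomial.eval₂ ι.toRingHom e f ≠ 0 := by
    intro f hf0 hlt hfe
    exact Nat.find_min hex (lt_of_lt_of_eq hlt hhd) ⟨f, hf0, hfe, rfl⟩
  obtain ⟨s, hsdef⟩ : ∃ s : S, s = h.leadingCoeff := ⟨_, rfl⟩
  have hs : s ≠ 0 := by
    rw [hsdef]
    exact Polynomial.leadingCoeff_ne_zero.mpr hh0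
  obtain ⟨ι₁, hι₁, hι₁of, hdim₁⟩ := step_L ι hι hp s hs
  have hp₁ : PCI k (Loc s) (n + 1) (c + 1) := pci_adjoinRoot hp _
  haveI hloc : IsLocalization.Away s (Loc s) := IsLocalization.adjoin_inv s
  haveI : IsDomain (Loc s) := Function.Injective.isDomain ι₁.toRingHom hι₁
  have hj : Function.Injective (algebraMap S (Loc s)) := by
    intro a b hab
    apply hι
    rw [← hι₁of a, ← hι₁of b, hab]
  have hcomp : ι₁.toRingHom.comp (algebraMap S (Loc s)) = ι.toRingHom :=
    RingHom.ext fun a => hι₁of a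
  have hu : IsUnit (algebraMap S (Loc s) s) := IsLocalization.Away.algebraMap_isUnit s
  obtain ⟨P, hPdef⟩ : ∃ P : Polynomial (Loc s),
      P = C (↑hu.unit⁻¹ : Loc s) * Polynomial.map (algebraMap S (Loc s)) h := ⟨_, rfl⟩
  have hlc : (Polynomial.map (algebraMap S (Loc s)) h).leadingCoeff = algebraMap S (Loc s) s := by
    have h0 := Polynomial.leadingCoeff_map_of_injective hj h
    rw [← hsdef] at h0
    exact h0
  have hPm : P.Monic := by
    rw [hPdef]
    refine Polynomial.monic_C_mul_of_mul_leadingCoeff_eq_one ?_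
    rw [hlc]
    exact hu.val_inv_mul
  have hu0 : (↑hu.unit⁻¹ : Loc s) ≠ 0 := (hu.unit⁻¹).ne_zero
  have hPdeg : P.natDegree = h.natDegree := by
    rw [hPdef, Polynomial.natDegree_C_mul hu0, Polynomial.natDegree_map_eq_of_injective hj]
  have hPe : Polynomial.eval₂ ι₁.toRingHom e P = 0 := by
    rw [hPdef, Polynomial.eval₂_mul, Polynomial.eval₂_map, hcomp, hhe, mul_zero]
  have hmin₁ : ∀ f : Polynomial (Loc s), f ≠ 0 → f.natDegree < P.natDegree →
      Polynomial.eval₂ ι₁.toRingHom e f ≠ 0 := by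
    intro f hf0 hlt hfe
    obtain ⟨b, hbM, hb⟩ := IsLocalization.integerNormalization_spec (Submonoid.powers s) f
    obtain ⟨f', hf'⟩ : ∃ f' : Polynomial S,
        f' = IsLocalization.integerNormalization (Submonoid.powers s) f := ⟨_, rfl⟩
    rw [← hf'] at hb
    have hb0 : b ≠ 0 := by
      obtain ⟨m, hm⟩ := (Submonoid.mem_powers_iff _ _).mp hbM
      rw [← hm]
      exact pow_ne_zero m hs
    have hjb0 : algebraMap S (Loc s) b ≠ 0 := fun h0 => hb0 (hj (by rw [h0, map_zero]))
    have hmap : Polynomial.map (algebraMap S (Loc s)) f' = C (algebraMap S (Loc s) b) * f := by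
      rw [hb, Algebra.smul_def, Polynomial.algebraMap_apply]
    have hf'0 : f' ≠ 0 := by
      intro h0
      rw [h0, Polynomial.map_zero] at hmap
      rcases mul_eq_zero.mp hmap.symm with h1 | h1
      · exact hjb0 (Polynomial.C_eq_zero.mp h1)
      · exact hf0 h1
    have hdeg : f'.natDegree = f.natDegree := by
      rw [← Polynomial.natDegree_map_eq_of_injective hj f', hmap, Polynomial.natDegree_C_mul hjb0]
    have hev : Polynomial.eval₂ ι.toRingHom e f' = 0 := by
      rw [← hcomp, ← Polynomial.eval₂_map, hmap, Polynomial.eval₂_mul, hfe, mul_zero]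
    exact hmin f' hf'0 (by rw [hdeg, ← hPdeg]; exact hlt) hev
  have hcn₁ : c + 1 ≤ n + 1 := by omega
  have hd₁ : ringKrullDim (Loc s) = (((n + 1) - (c + 1) : ℕ) : WithBot ℕ∞) := by
    rw [hdim₁, hd, Nat.add_sub_add_right]
  obtain ⟨S', i1, i2, ι', n', c', h1, h2, h3, h4, h5⟩ :=
    step_M ι₁ hι₁ hcn₁ hp₁ hd₁ e P hPm hPe hmin₁
  refine ⟨S', i1, i2, ι', n', c', h1, ?_, h3, h4, h5⟩
  rintro x (hx | ⟨a, rfl⟩)
  · exact h2 (Set.mem_insert_iff.mpr (Or.inl hx))
  · exact h2 (Set.mem_insert_of_mem e ⟨algebraMap S (Loc s) a, hι₁of a⟩)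

end steps

theorem stage_exists (k K : Type u) [Field k] [Field K] [Algebra k K] (E : Finset K) :
    StageOver k K (↑E : Set K) := by
  classical
  induction E using Finset.induction_on with
  | empty =>
    refine ⟨k, inferInstance, inferInstance, Algebra.ofId k K, 0, 0, (algebraMap k K).injective,
      by simp, le_rfl, pci_base k, ?_⟩
    simp [ringKrullDim_eq_zero_of_field]
  | insert e E he ih =>
    obtain ⟨S, i1, i2, ι, n, c, hι, hsub, hcn, hp, hd⟩ := ih
    have key : StageOver k K (insert e (Set.range ι)) := by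
      by_cases halg : ∃ f : Polynomial S, f ≠ 0 ∧ Polynomial.eval₂ ι.toRingHom e f = 0
      · exact step_A ι hι hcn hp hd e halg
      · refine step_T ι hι hcn hp hd e (fun f hf => ?_)
        by_contra hf0
        exact halg ⟨f, hf0, hf⟩
    obtain ⟨S', j1, j2, ι', n', c', h1, h2, h3, h4, h5⟩ := key
    refine ⟨S', j1, j2, ι', n', c', h1, ?_, h3, h4, h5⟩
    rw [Finset.coe_insert]
    exact (Set.insert_subset_insert hsub).trans h2

theorem main (k : Type u) [Field k] (K : Type u) [Field K] [Algebra k K] (E : Finset K) :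
    ∃ A : Subalgebra k K, (↑E : Set K) ⊆ (A : Set K) ∧ Synt.IsGlobalCI k A := by
  obtain ⟨S, i1, i2, ι, n, c, hι, hsub, hcn, ⟨φ, r, hφ, hker⟩, hd⟩ := stage_exists k K E
  let e : S ≃ₐ[k] ι.range := AlgEquiv.ofInjective ι hι
  refine ⟨ι.range, ?_, Or.inr ⟨n, c, hcn, e.toAlgHom.comp φ, r, ?_, ?_, ?_⟩⟩
  · intro x hx
    rw [SetLike.mem_coe, AlgHom.mem_range]
    exact hsub hx
  · exact e.surjective.comp hφ
  · rw [← hker]
    ext x
    simp only [RingHom.mem_ker]
    show e (φ x) = 0 ↔ φ x = 0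
    exact EmbeddingLike.map_eq_zero_iff
  · rw [← ringKrullDim_eq_of_ringEquiv e.toRingEquiv]
    exact hd

end Groth.Agent.Helper7.GlobCI
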