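import Mathlib
import Groth.Agent.H14Lib.KrullDim

set_option autoImplicit false

namespace Groth.Agent.Helper7.SatChain
universe u
open Ideal

/-- Every maximal ideal of `k[x_1..x_d]` has height `d`. -/
theorem maxht (k : Type u) [Field k] :
    ∀ (d : ℕ) (m : Ideal (MvPolynomial (Fin d) k)), m.IsMaximal → m.height = d := by
  intro d
  induction d with
  | zero =>
    intro m hm
    have h1 : (m.height : WithBot ℕ∞) ≤ ringKrullDim (MvPolynomial (Fin 0) k) :=
      Ideal.height_le_ringKrullDim_of_ne_top hm.ne_top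
    have h2 : ringKrullDim (MvPolynomial (Fin 0) k) = 0 := by
      simp [MvPolynomial.ringKrullDim_of_isNoetherianRing]
    rw [h2] at h1
    have h3 : m.height ≤ 0 := by exact_mod_cast h1
    simpa using h3
  | succ d ih =>
    intro m hm
    haveI := hm
    let e : MvPolynomial (Fin (d+1)) k ≃+* Polynomial (MvPolynomial (Fin d) k) :=
      (MvPolynomial.finSuccEquiv k d).toRingEquiv
    haveI hM : (m.map e).IsMaximal := Ideal.map_isMaximal_of_equiv e
    have hp : ((m.map e).comap (Polynomial.C)).IsMaximal :=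
      Polynomial.isMaximal_comap_C_of_isJacobsonRing (m.map e)
    haveI : (m.map e).LiesOver ((m.map e).comap Polynomial.C) := ⟨rfl⟩
    have h1 := Polynomial.height_eq_height_add_one ((m.map e).comap Polynomial.C) (m.map e)
    rw [ih _ hp, RingEquiv.height_map] at h1
    rw [h1]
    push_cast
    rfl

theorem KL (k B : Type u) [Field k] [CommRing B] [IsDomain B] [Algebra k B]
    [Algebra.FiniteType k B]
    (P : Ideal B) [P.IsPrime] (hP0 : P ≠ ⊥)
    (hmin : ∀ Q : Ideal B, Q.IsPrime → Q ≠ ⊥ → Q ≤ P → Q = P) :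
    ringKrullDim (B ⧸ P) + 1 = ringKrullDim B := by
  obtain ⟨d, g, hginj, hgfin⟩ := exists_finite_inj_algHom_of_fg k B
  letI : Algebra (MvPolynomial (Fin d) k) B := g.toRingHom.toAlgebra
  haveI : Module.Finite (MvPolynomial (Fin d) k) B := hgfin
  haveI : Algebra.IsIntegral (MvPolynomial (Fin d) k) B := Algebra.IsIntegral.of_finite _ _
  have hinj : Function.Injective (algebraMap (MvPolynomial (Fin d) k) B) := hginj
  haveI : FaithfulSMul (MvPolynomial (Fin d) k) B :=
    (faithfulSMul_iff_algebraMap_injective _ _).mpr hinj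
  have hq0 : P.under (MvPolynomial (Fin d) k) ≠ ⊥ :=
    Ideal.IsIntegral.comap_ne_bot (MvPolynomial (Fin d) k) hP0
  obtain ⟨f, hfq, hfprime⟩ := Ideal.IsPrime.exists_mem_prime_of_ne_bot
    (inferInstance : (P.under (MvPolynomial (Fin d) k)).IsPrime) hq0
  haveI hsp : (Ideal.span {f}).IsPrime :=
    (Ideal.span_singleton_prime hfprime.ne_zero).mpr hfprime
  have hle : Ideal.span {f} ≤ P.under (MvPolynomial (Fin d) k) :=
    (Ideal.span_singleton_le_iff_mem _).mpr hfq
  obtain ⟨Q, hQP, hQprime, hQover⟩ := Ideal.exists_ideal_le_liesOver_of_le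
    (p := Ideal.span {f}) (q := P.under (MvPolynomial (Fin d) k)) P hle
  have hQ0 : Q ≠ ⊥ := by
    rintro rfl
    have h1 : Ideal.span {f} = (⊥ : Ideal B).under (MvPolynomial (Fin d) k) := hQover.over
    have h2 : (⊥ : Ideal B).under (MvPolynomial (Fin d) k) = ⊥ := by
      rw [Ideal.under_def, ← RingHom.ker_eq_comap_bot]
      exact (RingHom.injective_iff_ker_eq_bot _).mp hinj
    rw [h2, Ideal.span_singleton_eq_bot] at h1
    exact hfprime.ne_zero h1
  have hQeq : Q = P := hmin Q hQprime hQ0 hQP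
  have hqf : P.under (MvPolynomial (Fin d) k) = Ideal.span {f} := by
    rw [← hQeq]
    exact hQover.over.symm
  have hdimR : ringKrullDim (MvPolynomial (Fin d) k) = d := by
    simp [MvPolynomial.ringKrullDim_of_isNoetherianRing]
  obtain ⟨m, hm, hfm⟩ := Ideal.exists_le_maximal (Ideal.span {f}) hsp.ne_top
  haveI := hm
  have hmh : m.height = d := maxht k d m hm
  have h1 : ringKrullDim (MvPolynomial (Fin d) k ⧸ Ideal.span {f}) + 1 =
      ringKrullDim (MvPolynomial (Fin d) k) :=
    Module.ringKrullDim_quotient_add_one_of_mem_nonZeroDivisors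
      (mem_nonZeroDivisors_of_ne_zero hfprime.ne_zero) (p := m)
      (by rw [hmh, hdimR]; rfl) (hfm (Ideal.mem_span_singleton_self f))
  have h2 : ringKrullDim B = ringKrullDim (MvPolynomial (Fin d) k) :=
    Groth.Agent.H14Lib.ringKrullDim_eq_of_isIntegral_of_injective _ B hinj
  have h3 : ringKrullDim (B ⧸ P) =
      ringKrullDim (MvPolynomial (Fin d) k ⧸ P.under (MvPolynomial (Fin d) k)) :=
    Groth.Agent.H14Lib.ringKrullDim_eq_of_isIntegral_of_injective _ _
      (FaithfulSMul.algebraMap_injective _ _)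
  rw [h3, hqf, h1, h2]

theorem chain (k A : Type u) [Field k] [CommRing A] [Algebra k A] [Algebra.FiniteType k A] :
    ∀ (n : ℕ) (F : Fin (n+1) → PrimeSpectrum A), (F (Fin.last n)).asIdeal.IsMaximal →
      (∀ i : Fin n, F i.castSucc ⋖ F i.succ) →
      (n : WithBot ℕ∞) = ringKrullDim (A ⧸ (F 0).asIdeal) := by
  intro n
  induction n with
  | zero =>
    intro F hmax _
    have h0 : (F 0).asIdeal.IsMaximal := hmax
    letI := Ideal.Quotient.field (F 0).asIdeal
    simp [ringKrullDim_eq_zero_of_field]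
  | succ n ih =>
    intro F hmax hcov
    have ih' := ih (fun i => F i.succ)
      (by show (F (Fin.last n).succ).asIdeal.IsMaximal
          rw [Fin.succ_last]; exact hmax)
      (fun i => by
        have h := hcov i.succ
        rw [← Fin.succ_castSucc] at h
        exact h)
    have ih'' : (n : WithBot ℕ∞) = ringKrullDim (A ⧸ (F 1).asIdeal) := ih'
    have h01 : F 0 ⋖ F 1 := by
      have h := hcov 0
      simpa using h
    have hlt : (F 0).asIdeal < (F 1).asIdeal := (PrimeSpectrum.asIdeal_lt_asIdeal _ _).mpr h01.lt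
    have hle : (F 0).asIdeal ≤ (F 1).asIdeal := hlt.le
    haveI hpr0 : (F 0).asIdeal.IsPrime := (F 0).isPrime
    haveI hpr1 : (F 1).asIdeal.IsPrime := (F 1).isPrime
    have hsurj : Function.Surjective (Ideal.Quotient.mk (F 0).asIdeal) :=
      Ideal.Quotient.mk_surjective
    haveI hPpr : ((F 1).asIdeal.map (Ideal.Quotient.mk (F 0).asIdeal)).IsPrime :=
      Ideal.map_isPrime_of_surjective hsurj (by rw [Ideal.mk_ker]; exact hle)
    have hP0 : (F 1).asIdeal.map (Ideal.Quotient.mk (F 0).asIdeal) ≠ ⊥ := by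
      intro h
      rw [Ideal.map_eq_bot_iff_le_ker, Ideal.mk_ker] at h
      exact absurd hlt (not_lt_of_ge h)
    have hcomapP : ((F 1).asIdeal.map (Ideal.Quotient.mk (F 0).asIdeal)).comap
        (Ideal.Quotient.mk (F 0).asIdeal) = (F 1).asIdeal := by
      rw [Ideal.comap_map_of_surjective _ hsurj, ← RingHom.ker_eq_comap_bot, Ideal.mk_ker,
        sup_eq_left.2 hle]
    have hmin : ∀ Q : Ideal (A ⧸ (F 0).asIdeal), Q.IsPrime → Q ≠ ⊥ →
        Q ≤ (F 1).asIdeal.map (Ideal.Quotient.mk (F 0).asIdeal) →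
        Q = (F 1).asIdeal.map (Ideal.Quotient.mk (F 0).asIdeal) := by
      intro Q hQ hQ0 hQP
      haveI := hQ
      let Q' : PrimeSpectrum A := ⟨Q.comap (Ideal.Quotient.mk (F 0).asIdeal), inferInstance⟩
      have h1 : F 0 < Q' := by
        rw [← PrimeSpectrum.asIdeal_lt_asIdeal]
        show (F 0).asIdeal < Q.comap (Ideal.Quotient.mk (F 0).asIdeal)
        refine lt_of_le_of_ne ?_ ?_
        · intro x hx
          rw [Ideal.mem_comap, Ideal.Quotient.eq_zero_iff_mem.mpr hx]
          exact Q.zero_mem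
        · intro h
          apply hQ0
          rw [← Ideal.map_comap_of_surjective _ hsurj Q, ← h, Ideal.map_quotient_self]
      have h2 : ¬ Q' < F 1 := h01.2 h1
      have h3 : Q' ≤ F 1 := by
        rw [← PrimeSpectrum.asIdeal_le_asIdeal]
        show Q.comap (Ideal.Quotient.mk (F 0).asIdeal) ≤ (F 1).asIdeal
        rw [← hcomapP]
        exact Ideal.comap_mono hQP
      have h4 : Q' = F 1 := eq_of_le_of_not_lt h3 h2
      have h5 : Q.comap (Ideal.Quotient.mk (F 0).asIdeal) = (F 1).asIdeal :=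
        congrArg PrimeSpectrum.asIdeal h4
      rw [← Ideal.map_comap_of_surjective _ hsurj Q, h5]
    haveI : Algebra.FiniteType k (A ⧸ (F 0).asIdeal) :=
      Algebra.FiniteType.of_surjective (Ideal.Quotient.mkₐ k (F 0).asIdeal)
        (Ideal.Quotient.mkₐ_surjective k (F 0).asIdeal)
    have hKL := KL k (A ⧸ (F 0).asIdeal)
      ((F 1).asIdeal.map (Ideal.Quotient.mk (F 0).asIdeal)) hP0 hmin
    have hiso : ringKrullDim ((A ⧸ (F 0).asIdeal) ⧸
        (F 1).asIdeal.map (Ideal.Quotient.mk (F 0).asIdeal)) = ringKrullDim (A ⧸ (F 1).asIdeal) :=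
      ringKrullDim_eq_of_ringEquiv (DoubleQuot.quotQuotEquivQuotOfLE hle)
    rw [hiso] at hKL
    rw [← hKL, ← ih'']
    push_cast
    rfl

theorem main (k A : Type u) [Field k] [CommRing A] [Algebra k A]
    [Algebra.FiniteType k A] (c : LTSeries (PrimeSpectrum A))
    (h0 : c.head.asIdeal = ⊥) (hmax : c.last.asIdeal.IsMaximal)
    (hsat : ∀ i : Fin c.length, c i.castSucc ⋖ c i.succ) :
    (c.length : WithBot ℕ∞) = ringKrullDim A := by
  have h := chain k A c.length c.toFun hmax hsat
  have h0' : (c.toFun 0).asIdeal = ⊥ := h0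
  rw [h0'] at h
  rw [h]
  exact ringKrullDim_eq_of_ringEquiv (RingEquiv.quotientBot A)

end Groth.Agent.Helper7.SatChain
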