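import Mathlib
import Groth.Prelude.Def_Wider
import Groth.Agent.Lib.Helper7.Matlis3

set_option autoImplicit false
universe u v

namespace Groth.Agent.Helper7.Matlis

open InjHull IsLocalRing Groth.Agent.Helper7.IH

section

variable {R : Type u} [CommRing R] [IsLocalRing R]

theorem isFiniteLength_quot_pow [IsNoetherianRing R] (n : ℕ) : IsFiniteLength R (R ⧸ (maximalIdeal R) ^ n) := by
  rcases Nat.eq_zero_or_pos n with rfl | hn
  · have : Subsingleton (R ⧸ (maximalIdeal R) ^ 0) := by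
      rw [pow_zero, Ideal.one_eq_top]
      exact Submodule.Quotient.subsingleton_iff.2 rfl
    exact IsFiniteLength.of_subsingleton
  · have hmin : maximalIdeal R ∈ ((maximalIdeal R) ^ n).minimalPrimes := by
      refine ⟨⟨inferInstance, Ideal.pow_le_self (Nat.pos_iff_ne_zero.1 hn)⟩, ?_⟩
      rintro q ⟨hq, hle⟩ _
      exact hq.le_of_pow_le hle
    have : IsArtinianRing (R ⧸ (maximalIdeal R) ^ n) :=
      IsLocalRing.quotient_artinian_of_mem_minimalPrimes_of_isLocalRing _ hmin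
    rw [isFiniteLength_iff_isNoetherian_isArtinian]
    exact ⟨isNoetherian_quotient _,
      isArtinian_of_surjective_algebraMap (Ideal.Quotient.mk_surjective (I := (maximalIdeal R) ^ n))⟩

variable {E : Type u} [AddCommGroup E] [Module R E]

/-- The torsion submodule `E[m^n]`. -/
abbrev En (R : Type u) [CommRing R] [IsLocalRing R] (E : Type u) [AddCommGroup E] [Module R E]
    (n : ℕ) : Submodule R E :=
  Submodule.torsionBySet R E (((maximalIdeal R) ^ n : Ideal R) : Set R)

theorem mem_En {n : ℕ} {x : E} : x ∈ En R E n ↔ ∀ a ∈ (maximalIdeal R) ^ n, a • x = 0 := by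
  rw [Submodule.mem_torsionBySet_iff]
  exact ⟨fun h a ha => h ⟨a, ha⟩, fun h a => h a.1 a.2⟩

theorem En_mono {m n : ℕ} (h : m ≤ n) : En R E m ≤ En R E n := by
  intro x hx
  rw [mem_En] at hx ⊢
  exact fun a ha => hx a (Ideal.pow_le_pow_right h ha)

theorem apply_one_mem_En (n : ℕ) (φ : (R ⧸ (maximalIdeal R) ^ n) →ₗ[R] E) : φ 1 ∈ En R E n := by
  rw [mem_En]
  intro a ha
  rw [← map_smul]
  have : a • (1 : R ⧸ (maximalIdeal R) ^ n) = 0 := by
    rw [Algebra.smul_def, mul_one]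
    exact Ideal.Quotient.eq_zero_iff_mem.2 ha
  rw [this, map_zero]

theorem apply_mk (n : ℕ) (φ : (R ⧸ (maximalIdeal R) ^ n) →ₗ[R] E) (r : R) :
    φ (Ideal.Quotient.mk _ r) = r • φ 1 := by
  rw [← map_smul]
  congr 1
  rw [Algebra.smul_def, mul_one]
  rfl

/-- The map `R ⧸ m^n → E` sending `1` to a given element of `E[m^n]`. -/
noncomputable def homOfMem (n : ℕ) (x : E) (hx : x ∈ En R E n) :
    (R ⧸ (maximalIdeal R) ^ n) →ₗ[R] E :=
  Submodule.liftQ _ (LinearMap.toSpanSingleton R E x) (by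
    intro a ha
    rw [LinearMap.mem_ker, LinearMap.toSpanSingleton_apply]
    exact mem_En.1 hx a ha)

theorem homOfMem_one (n : ℕ) (x : E) (hx : x ∈ En R E n) : homOfMem n x hx 1 = x := by
  change homOfMem n x hx (Submodule.Quotient.mk 1) = x
  unfold homOfMem
  rw [Submodule.liftQ_apply, LinearMap.toSpanSingleton_apply, one_smul]

/-- Every linear map `E[m^n] → E` is multiplication by a ring element. -/
theorem exists_smul_eq [IsNoetherianRing R] (f : ResidueField R →ₗ[R] E) (hf : IsInjectiveHull f) (n : ℕ)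
    (χ : En R E n →ₗ[R] E) : ∃ r : R, ∀ x : En R E n, χ x = r • (x : E) := by
  let ev : ((R ⧸ (maximalIdeal R) ^ n) →ₗ[R] E) →ₗ[R] En R E n :=
    LinearMap.codRestrict _ (LinearMap.applyₗ (1 : R ⧸ (maximalIdeal R) ^ n))
      (fun φ => apply_one_mem_En n φ)
  obtain ⟨y, hy⟩ := (applyₗ_bijective f hf _ (isFiniteLength_quot_pow n)).2 (χ ∘ₗ ev)
  obtain ⟨r, rfl⟩ := Ideal.Quotient.mk_surjective y
  refine ⟨r, fun x => ?_⟩
  have h1 := LinearMap.congr_fun hy (homOfMem n x.1 x.2)
  change homOfMem n x.1 x.2 (Ideal.Quotient.mk _ r) = χ (ev (homOfMem n x.1 x.2)) at h1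
  rw [apply_mk, homOfMem_one] at h1
  rw [h1]
  congr 1
  apply Subtype.ext
  change x.1 = homOfMem n x.1 x.2 1
  rw [homOfMem_one]

/-- The annihilator of `E[m^n]` is `m^n`. -/
theorem mem_pow_of_smul_eq_zero [IsNoetherianRing R] (f : ResidueField R →ₗ[R] E) (hf : IsInjectiveHull f) (n : ℕ)
    (r : R) (h : ∀ x ∈ En R E n, r • x = 0) : r ∈ (maximalIdeal R) ^ n := by
  have h1 : (LinearMap.applyₗ : (R ⧸ (maximalIdeal R) ^ n) →ₗ[R] _ →ₗ[R] E)
      (Ideal.Quotient.mk _ r) = 0 := by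
    ext φ
    change φ (Ideal.Quotient.mk _ r) = 0
    rw [apply_mk]
    exact h _ (apply_one_mem_En n φ)
  have h2 := (applyₗ_bijective f hf _ (isFiniteLength_quot_pow n)).1 (h1.trans (map_zero _).symm)
  exact Ideal.Quotient.eq_zero_iff_mem.1 h2

end

end Groth.Agent.Helper7.Matlis
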