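import Mathlib
import Groth.Prelude.Def_Wider
import Groth.Agent.Lib.Helper7.Matlis4

/-!
Existence of injective hulls, and flat base change of the injective hull of the residue field
along a flat local homomorphism `A → B` of Noetherian local rings with `m_A B = m_B`.
-/

set_option autoImplicit false
universe u

namespace Groth.Agent.Helper7.Matlis

open InjHull IsLocalRing Groth.Agent.Helper7.IH TensorProduct

/-- Every module has an injective hull (in the same universe). -/
theorem exists_hull {R : Type u} [CommRing R] (M : Type u) [AddCommGroup M] [Module R M] :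
    ∃ (F : Type u) (_ : AddCommGroup F) (_ : Module R F) (h : M →ₗ[R] F), IsInjectiveHull h := by
  let Q := CategoryTheory.Injective.under (ModuleCat.of R M)
  let ι : ModuleCat.of R M ⟶ Q := CategoryTheory.Injective.ι _
  have hQi : CategoryTheory.Injective Q := inferInstance
  have hQ : Module.Injective R Q := @Module.injective_module_of_injective_object R Q _ _ _ hQi
  have hι : Function.Injective ι.hom := (ModuleCat.mono_iff_injective ι).1 inferInstance
  obtain ⟨E', C, hess, hcompl⟩ := exists_summand_ess hQ (LinearMap.range ι.hom)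
  have hE' : Module.Injective R E' := injective_of_isCompl hQ hcompl
  let h : M →ₗ[R] E' := LinearMap.codRestrict E' ι.hom (fun x => hess.1 ⟨x, rfl⟩)
  refine ⟨E', inferInstance, inferInstance, h, ⟨(isEssentialInj_iff h).2 ⟨?_, ?_⟩, hE'⟩⟩
  · intro x y hxy
    apply hι
    exact congrArg Subtype.val hxy
  · intro x hx0
    obtain ⟨r, hr, hr0⟩ := hess.2 x.1 x.2 (fun h0 => hx0 (Subtype.ext h0))
    obtain ⟨m, hm⟩ := hr
    refine ⟨r, ⟨m, Subtype.ext ?_⟩, fun h0 => hr0 (congrArg Subtype.val h0)⟩
    exact hm

section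

variable {R : Type u} [CommRing R] [IsLocalRing R] {E : Type u} [AddCommGroup E] [Module R E]

/-- `Hom(R/m^n, E) ≃ E[m^n]`. -/
noncomputable def homEquivEn (n : ℕ) : ((R ⧸ (maximalIdeal R) ^ n) →ₗ[R] E) ≃ₗ[R] En R E n :=
  LinearEquiv.ofBijective
    (LinearMap.codRestrict _ (LinearMap.applyₗ (1 : R ⧸ (maximalIdeal R) ^ n))
      (fun φ => apply_one_mem_En n φ))
    ⟨by
      intro φ ψ h
      have h1 : φ 1 = ψ 1 := congrArg Subtype.val h
      apply LinearMap.ext
      intro x
      obtain ⟨r, rfl⟩ := Ideal.Quotient.mk_surjective x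
      rw [apply_mk, apply_mk, h1],
     by
      intro x
      refine ⟨homOfMem n x.1 x.2, Subtype.ext ?_⟩
      exact homOfMem_one n x.1 x.2⟩

theorem length_En [IsNoetherianRing R] (f : ResidueField R →ₗ[R] E) (hf : IsInjectiveHull f)
    (n : ℕ) : Module.length R (En R E n) = Module.length R (R ⧸ (maximalIdeal R) ^ n) := by
  rw [← (homEquivEn (R := R) (E := E) n).length_eq]
  exact length_hom_eq f hf _ (isFiniteLength_quot_pow n)

end

section baseChange

variable {A : Type u} [CommRing A] [IsLocalRing A] [IsNoetherianRing A] {B : Type u} [CommRing B]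
  [IsLocalRing B] [IsNoetherianRing B] [Algebra A B] [IsLocalHom (algebraMap A B)]
  [Module.Flat A B] {E : Type u} [AddCommGroup E] [Module A E]

omit [IsNoetherianRing A] [IsNoetherianRing B] [IsLocalHom (algebraMap A B)] [Module.Flat A B] in
/-- Pure tensors with second factor in `E[m_A^n]` are killed by `m_B^n`. -/
theorem tmul_mem_En (hm : (maximalIdeal A).map (algebraMap A B) = maximalIdeal B) (n : ℕ) (b : B)
    (e : E) (he : e ∈ En A E n) : b ⊗ₜ[A] e ∈ En B (B ⊗[A] E) n := by
  rw [mem_En] at he ⊢
  intro c hc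
  have hc' : c ∈ Ideal.map (algebraMap A B) ((maximalIdeal A) ^ n) := by
    rw [Ideal.map_pow, hm]; exact hc
  have hK : Ideal.map (algebraMap A B) ((maximalIdeal A) ^ n) ≤
      LinearMap.ker (LinearMap.toSpanSingleton B (B ⊗[A] E) (b ⊗ₜ[A] e)) := by
    rw [Ideal.map_le_iff_le_comap]
    intro a ha
    rw [Ideal.mem_comap, LinearMap.mem_ker, LinearMap.toSpanSingleton_apply,
      TensorProduct.smul_tmul', algebraMap_smul, TensorProduct.smul_tmul, he a ha,
      TensorProduct.tmul_zero]
  have := hK hc'
  rwa [LinearMap.mem_ker, LinearMap.toSpanSingleton_apply] at this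

omit [IsNoetherianRing A] [IsNoetherianRing B] [IsLocalHom (algebraMap A B)] [Module.Flat A B] in
theorem baseChange_powerTorsion (hm : (maximalIdeal A).map (algebraMap A B) = maximalIdeal B)
    (hE : LocCoh.IsPowerTorsion (maximalIdeal A) E) (x : B ⊗[A] E) :
    ∃ n, x ∈ En B (B ⊗[A] E) n := by
  induction x using TensorProduct.induction_on with
  | zero => exact ⟨0, Submodule.zero_mem _⟩
  | tmul b e =>
    obtain ⟨n, hn⟩ := hE e
    exact ⟨n, tmul_mem_En hm n b e (mem_En.2 hn)⟩
  | add x y hx hy =>
    obtain ⟨n₁, h₁⟩ := hx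
    obtain ⟨n₂, h₂⟩ := hy
    exact ⟨max n₁ n₂, Submodule.add_mem _ (En_mono (le_max_left _ _) h₁)
      (En_mono (le_max_right _ _) h₂)⟩

omit [IsNoetherianRing B] [IsLocalHom (algebraMap A B)] in
/-- The socle of `B ⊗ E` is generated by `1 ⊗ f 1`. -/
theorem socle_baseChange_le (hm : (maximalIdeal A).map (algebraMap A B) = maximalIdeal B)
    (f : ResidueField A →ₗ[A] E) (hf : IsEssentialInj f)
    (y : B ⊗[A] E) (hy : ∀ c ∈ maximalIdeal B, c • y = 0) :
    ∃ c : B, y = c • ((1 : B) ⊗ₜ[A] f 1) := by
  classical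
  obtain ⟨s, hs⟩ := (isNoetherianRing_iff_ideal_fg A).1 inferInstance (maximalIdeal A)
  let φ : E →ₗ[A] (s → E) := LinearMap.pi (fun a => LinearMap.lsmul A E (a : A))
  have hφ : ∀ x a, φ x a = (a : A) • x := fun x a => rfl
  have hker : ∀ x ∈ LinearMap.ker φ, x ∈ LinearMap.range f := by
    intro x hx
    rw [← socle_eq_range f hf, Submodule.mem_torsionBySet_iff]
    rintro ⟨a, ha⟩
    change a • x = 0
    have ha' : a ∈ Ideal.span (s : Set A) := by rw [hs]; exact ha
    have hx' : ∀ a' ∈ (s : Set A), a' • x = 0 := fun a' ha' =>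
      congrFun (LinearMap.mem_ker.1 hx) ⟨a', ha'⟩
    have hle : Ideal.span (s : Set A) ≤ LinearMap.ker (LinearMap.toSpanSingleton A E x) := by
      rw [Ideal.span_le]
      intro a' ha'
      rw [SetLike.mem_coe, LinearMap.mem_ker, LinearMap.toSpanSingleton_apply]
      exact hx' a' ha'
    have := hle ha'
    rwa [LinearMap.mem_ker, LinearMap.toSpanSingleton_apply] at this
  have hex := Module.Flat.lTensor_exact B (LinearMap.exact_subtype_ker_map φ)
  have hpi : ∀ y : B ⊗[A] E, TensorProduct.piRight A A B (fun _ : s => E)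
      (LinearMap.lTensor B φ y) = fun a : s => (a : A) • y := by
    intro y
    induction y using TensorProduct.induction_on with
    | zero =>
      rw [map_zero, map_zero]
      funext a
      rw [smul_zero]
      rfl
    | tmul b e =>
      rw [LinearMap.lTensor_tmul, TensorProduct.piRight_apply, TensorProduct.piRightHom_tmul]
      funext a
      rw [hφ, TensorProduct.tmul_smul]
    | add x y hx hy =>
      rw [map_add, map_add, hx, hy]
      funext a
      rw [smul_add]
      rfl
  have hz : LinearMap.lTensor B φ y = 0 := by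
    apply (TensorProduct.piRight A A B (fun _ : s => E)).injective
    rw [hpi, map_zero]
    funext a
    rw [← algebraMap_smul B (a : A) y]
    apply hy
    rw [← hm]
    apply Ideal.mem_map_of_mem
    rw [← hs]
    exact Ideal.subset_span a.2
  obtain ⟨w, hw⟩ := (hex y).1 hz
  have key : ∀ w : B ⊗[A] (LinearMap.ker φ), ∃ c : B,
      LinearMap.lTensor B (LinearMap.ker φ).subtype w = c • ((1 : B) ⊗ₜ[A] f 1) := by
    intro w
    induction w using TensorProduct.induction_on with
    | zero => exact ⟨0, by rw [map_zero, zero_smul]⟩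
    | tmul b k =>
      obtain ⟨z, hz⟩ := hker k.1 k.2
      obtain ⟨a₀, rfl⟩ := residue_surjective z
      refine ⟨algebraMap A B a₀ * b, ?_⟩
      rw [LinearMap.lTensor_tmul, Submodule.subtype_apply, ← hz]
      have h2 : residue A a₀ = a₀ • (1 : ResidueField A) := by
        rw [Algebra.smul_def, mul_one]; rfl
      calc b ⊗ₜ[A] f (residue A a₀) = b ⊗ₜ[A] (a₀ • f 1) := by rw [h2, map_smul]
        _ = (a₀ • b) ⊗ₜ[A] f 1 := (TensorProduct.smul_tmul a₀ b (f 1)).symm
        _ = (algebraMap A B a₀ * b) ⊗ₜ[A] f 1 := by rw [Algebra.smul_def]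
        _ = (algebraMap A B a₀ * b) • ((1 : B) ⊗ₜ[A] f 1) := by
          rw [TensorProduct.smul_tmul', smul_eq_mul, mul_one]
    | add x y hx hy =>
      obtain ⟨c₁, h₁⟩ := hx
      obtain ⟨c₂, h₂⟩ := hy
      exact ⟨c₁ + c₂, by rw [map_add, h₁, h₂, add_smul]⟩
  obtain ⟨c, hc⟩ := key w
  exact ⟨c, by rw [← hw, hc]⟩

/-- Flat base change of the injective hull of the residue field. -/
theorem hull_baseChange (hm : (maximalIdeal A).map (algebraMap A B) = maximalIdeal B)
    (f : ResidueField A →ₗ[A] E) (hf : IsInjectiveHull f) :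
    ∃ g : ResidueField B →ₗ[B] (B ⊗[A] E), IsInjectiveHull g := by
  classical
  have hFF : Module.FaithfullyFlat A B := Module.FaithfullyFlat.of_flat_of_isLocalHom
  obtain ⟨x₁, hx₁⟩ : ∃ x₁ : B ⊗[A] E, x₁ = (1 : B) ⊗ₜ[A] f 1 := ⟨_, rfl⟩
  have hx₁0 : x₁ ≠ 0 := by
    intro h0
    have h1 : f 1 = 0 := by
      apply Module.FaithfullyFlat.tensorProduct_mk_injective (A := A) (B := B) E
      rw [map_zero]
      rw [hx₁] at h0
      exact h0
    exact one_ne_zero (hf.injective (h1.trans (map_zero f).symm))
  have hkerle : maximalIdeal B ≤ LinearMap.ker (LinearMap.toSpanSingleton B (B ⊗[A] E) x₁) := by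
    rw [← hm, Ideal.map_le_iff_le_comap]
    intro a ha
    rw [Ideal.mem_comap, LinearMap.mem_ker, LinearMap.toSpanSingleton_apply, hx₁,
      TensorProduct.smul_tmul', algebraMap_smul, TensorProduct.smul_tmul, ← map_smul]
    have : a • (1 : ResidueField A) = 0 := by
      rw [Algebra.smul_def, mul_one, ResidueField.algebraMap_eq]
      exact (residue_eq_zero_iff a).2 ha
    rw [this, map_zero, TensorProduct.tmul_zero]
  let g : ResidueField B →ₗ[B] (B ⊗[A] E) :=
    Submodule.liftQ (maximalIdeal B) (LinearMap.toSpanSingleton B (B ⊗[A] E) x₁) hkerle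
  have hg : ∀ b : B, g (residue B b) = b • x₁ := fun b => by
    show Submodule.liftQ _ _ _ (Submodule.Quotient.mk b) = _
    rw [Submodule.liftQ_apply, LinearMap.toSpanSingleton_apply]
  have hginj : Function.Injective g := by
    rw [← LinearMap.ker_eq_bot]
    have := isSimpleModule_residueField (R := B)
    rcases eq_bot_or_eq_top (LinearMap.ker g) with h | h
    · exact h
    · exfalso
      have h1 : (1 : ResidueField B) ∈ LinearMap.ker g := by rw [h]; trivial
      rw [LinearMap.mem_ker] at h1
      have h2 := hg 1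
      rw [map_one, one_smul] at h2
      exact hx₁0 (h2.symm.trans h1)
  have hGpt : LocCoh.IsPowerTorsion (maximalIdeal B) (B ⊗[A] E) := by
    intro x
    obtain ⟨n, hn⟩ := baseChange_powerTorsion hm (hull_isPowerTorsion f hf) x
    exact ⟨n, mem_En.1 hn⟩
  have hgess : IsEssentialInj g := by
    rw [isEssentialInj_iff]
    refine ⟨hginj, fun x hx0 => ?_⟩
    obtain ⟨r, hr, hr0⟩ := socle_essential (maximalIdeal B) hGpt x hx0
    refine ⟨r, ?_, hr0⟩
    have hy : ∀ c ∈ maximalIdeal B, c • (r • x) = 0 := fun c hc =>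
      (Submodule.mem_torsionBySet_iff _ _).1 hr ⟨c, hc⟩
    obtain ⟨c, hc⟩ := socle_baseChange_le hm f hf.toIsEssentialInj (r • x) hy
    exact ⟨residue B c, by rw [hg, hc, hx₁]⟩
  obtain ⟨F, _, _, h, hh⟩ := exists_hull (R := B) (ResidueField B)
  obtain ⟨j, hj⟩ := exists_ext hh.isInjective g hginj h
  have hjinj : Function.Injective j :=
    injective_of_essential hgess j (by rw [hj]; exact hh.injective)
  have hFpt := hull_isPowerTorsion h hh
  have hone : Module.length B (B ⧸ (maximalIdeal A).map (algebraMap A B)) = 1 := by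
    rw [hm]
    have : IsSimpleModule B (B ⧸ maximalIdeal B) :=
      (isSimpleModule_iff_isCoatom (R := B) (m := maximalIdeal B)).2
        (Ideal.isMaximal_def.1 inferInstance)
    exact Module.length_eq_one B _
  have hjsurj : Function.Surjective j := by
    intro z
    obtain ⟨n, hn⟩ := hFpt z
    let ιn : B ⊗[A] (En A E n) →ₗ[B] B ⊗[A] E := LinearMap.baseChange B (En A E n).subtype
    have hιn : Function.Injective ιn := by
      show Function.Injective (⇑(LinearMap.baseChange B (En A E n).subtype))
      rw [LinearMap.baseChange_eq_ltensor]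
      exact Module.Flat.lTensor_preserves_injective_linearMap _ (Submodule.subtype_injective _)
    have hmem : ∀ w, j (ιn w) ∈ En B F n := by
      intro w
      rw [mem_En]
      intro c hc
      rw [← map_smul]
      have hw : ιn w ∈ En B (B ⊗[A] E) n := by
        induction w using TensorProduct.induction_on with
        | zero => rw [map_zero]; exact Submodule.zero_mem _
        | tmul b e => exact tmul_mem_En hm n b e.1 e.2
        | add x y hx hy => rw [map_add]; exact Submodule.add_mem _ hx hy
      rw [mem_En.1 hw c hc, map_zero]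
    let cn : B ⊗[A] (En A E n) →ₗ[B] En B F n := LinearMap.codRestrict _ (j ∘ₗ ιn) hmem
    have hcninj : Function.Injective cn := by
      intro w w' hww
      apply hιn
      apply hjinj
      exact congrArg Subtype.val hww
    have hlen : Module.length B (B ⊗[A] (En A E n)) = Module.length B (En B F n) := by
      rw [IsLocalRing.length_baseChange A B (En A E n), hone, mul_one, length_En f hf n,
        length_En h hh n]
      have e1 : (B ⧸ (maximalIdeal B) ^ n) ≃ₗ[B]
          (B ⧸ ((maximalIdeal A) ^ n).map (algebraMap A B)) :=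
        Submodule.quotEquivOfEq _ _ (by rw [Ideal.map_pow, hm])
      rw [e1.length_eq,
        (Algebra.TensorProduct.quotIdealMapEquivTensorQuot B
          ((maximalIdeal A) ^ n)).toLinearEquiv.length_eq,
        IsLocalRing.length_baseChange A B (A ⧸ (maximalIdeal A) ^ n), hone, mul_one]
    have hfin : Module.length B (B ⊗[A] (En A E n)) ≠ ⊤ := by
      rw [IsLocalRing.length_baseChange A B (En A E n), hone, mul_one, length_En f hf n,
        Module.length_ne_top_iff]
      exact isFiniteLength_quot_pow n
    obtain ⟨w, hw⟩ := surjective_of_injective_of_length_eq cn hcninj hlen hfin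
      ⟨z, mem_En.2 hn⟩
    exact ⟨ιn w, congrArg Subtype.val hw⟩
  let eq : (B ⊗[A] E) ≃ₗ[B] F := LinearEquiv.ofBijective j ⟨hjinj, hjsurj⟩
  exact ⟨g, ⟨hgess, injective_of_linearEquiv eq.symm hh.isInjective⟩⟩

end baseChange

end Groth.Agent.Helper7.Matlis
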