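import Mathlib

/-!
# Coproducts of sheafified representables, in terms of sections

`Cofan.mk (a(yX)) (a(y sᵢ))` is a coproduct of the `a(y Yᵢ)` iff for every sheaf `F`
the map `F(X) → Π F(Yᵢ)` is bijective.
-/

set_option autoImplicit false
open CategoryTheory CategoryTheory.Limits Opposite
universe u w

namespace Groth.Agent.Helper7

variable {C : Type u} [SmallCategory C] (J : GrothendieckTopology C)

/-- `Hom(a(yX), F) ≃ F(X)`. -/
noncomputable def shYonedaEquiv (X : C) (F : Sheaf J (Type u)) :
    ((presheafToSheaf J (Type u)).obj (yoneda.obj X) ⟶ F) ≃ F.obj.obj (op X) :=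
  ((sheafificationAdjunction J (Type u)).homEquiv (yoneda.obj X) F).trans yonedaEquiv

lemma shYonedaEquiv_naturality {X Y : C} (s : Y ⟶ X) (F : Sheaf J (Type u))
    (φ : (presheafToSheaf J (Type u)).obj (yoneda.obj X) ⟶ F) :
    shYonedaEquiv J Y F ((presheafToSheaf J (Type u)).map (yoneda.map s) ≫ φ) =
      F.obj.map s.op (shYonedaEquiv J X F φ) := by
  simp only [shYonedaEquiv, Equiv.trans_apply, Adjunction.homEquiv_naturality_left]
  rw [yonedaEquiv_naturality]

theorem isColimit_cofan_sheafify_iff {X : C} {ι : Type w} (Y : ι → C) (s : ∀ i, Y i ⟶ X) :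
    Nonempty (IsColimit (Cofan.mk ((presheafToSheaf J (Type u)).obj (yoneda.obj X))
      (fun i => (presheafToSheaf J (Type u)).map (yoneda.map (s i))))) ↔
    ∀ F : Sheaf J (Type u),
      Function.Bijective (fun (t : F.obj.obj (op X)) (i : ι) => F.obj.map (s i).op t) := by
  have hinj : ∀ i, (Cofan.mk ((presheafToSheaf J (Type u)).obj (yoneda.obj X))
      (fun i => (presheafToSheaf J (Type u)).map (yoneda.map (s i)))).inj i =
      (presheafToSheaf J (Type u)).map (yoneda.map (s i)) := fun i => rfl
  constructor
  · rintro ⟨hc⟩ F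
    constructor
    · intro t t' htt'
      have h1 : (shYonedaEquiv J X F).symm t = (shYonedaEquiv J X F).symm t' := by
        refine Cofan.IsColimit.hom_ext hc _ _ (fun i => ?_)
        apply (shYonedaEquiv J (Y i) F).injective
        have := congrFun htt' i
        rw [hinj, shYonedaEquiv_naturality, shYonedaEquiv_naturality]
        simpa using this
      exact (shYonedaEquiv J X F).symm.injective h1
    · intro t
      refine ⟨shYonedaEquiv J X F (Cofan.IsColimit.desc hc
        (fun i => (shYonedaEquiv J (Y i) F).symm (t i))), ?_⟩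
      funext i
      have := Cofan.IsColimit.fac hc (fun i => (shYonedaEquiv J (Y i) F).symm (t i)) i
      rw [hinj] at this
      have h2 := shYonedaEquiv_naturality J (s i) F (Cofan.IsColimit.desc hc
        (fun i => (shYonedaEquiv J (Y i) F).symm (t i)))
      rw [this] at h2
      simpa using h2.symm
  · intro h
    choose g hg using fun (F : Sheaf J (Type u)) => (h F).surjective
    refine ⟨Cofan.IsColimit.mk _
      (fun t => (shYonedaEquiv J X t.pt).symm
        (g t.pt (fun i => shYonedaEquiv J (Y i) t.pt (t.inj i)))) ?_ ?_⟩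
    · intro t i
      apply (shYonedaEquiv J (Y i) t.pt).injective
      have hspec := hg t.pt (fun i => shYonedaEquiv J (Y i) t.pt (t.inj i))
      rw [hinj, shYonedaEquiv_naturality, Equiv.apply_symm_apply]
      exact congrFun hspec i
    · intro t m hm
      apply (shYonedaEquiv J X t.pt).injective
      rw [Equiv.apply_symm_apply]
      apply (h t.pt).injective
      have hspec := hg t.pt (fun i => shYonedaEquiv J (Y i) t.pt (t.inj i))
      rw [hspec]
      funext i
      have hm' := hm i
      rw [hinj] at hm'
      rw [← hm', shYonedaEquiv_naturality]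

end Groth.Agent.Helper7
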