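import Mathlib

/-!
# Associated primes of `N ⊗[R] M` for `N` flat over a Noetherian ring `R`
(Matsumura, Theorem 23.2), in the form needed for S2069.
-/

open TensorProduct

namespace Groth.Agent.Helper7.AssFlat

universe u

variable {R S : Type u} [CommRing R] [CommRing S] [Algebra R S]
variable {N : Type u} [AddCommGroup N] [Module S N] [Module R N] [IsScalarTower R S N]

/-- `lTensor` is `S`-linear. -/
theorem lTensor_smul' {X Y : Type u} [AddCommGroup X] [Module R X] [AddCommGroup Y] [Module R Y]
    (f : X →ₗ[R] Y) (s : S) (ξ : N ⊗[R] X) :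
    LinearMap.lTensor N f (s • ξ) = s • LinearMap.lTensor N f ξ :=
  (TensorProduct.AlgebraTensorModule.lTensor S N f).map_smul s ξ

/-- A nonzerodivisor on `X` stays a nonzerodivisor on `N ⊗ X` for flat `N`. -/
theorem flat_nzd [Module.Flat R N] {X : Type u} [AddCommGroup X] [Module R X] (a : R)
    (ha : ∀ x : X, a • x = 0 → x = 0) (ζ : N ⊗[R] X) (hζ : a • ζ = 0) : ζ = 0 := by
  have hinj : Function.Injective (LinearMap.lsmul R X a) := by
    rw [injective_iff_map_eq_zero]
    intro x hx
    exact ha x (by simpa using hx)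
  have h2 := Module.Flat.lTensor_preserves_injective_linearMap (M := N) _ hinj
  have h3 : LinearMap.lTensor N (LinearMap.lsmul R X a) = a • LinearMap.id := by
    apply TensorProduct.ext'
    intro n x
    simp [TensorProduct.tmul_smul]
  apply h2
  rw [h3]
  simpa using hζ

/-- General "coprimary" computation of the contraction of an associated prime. -/
theorem comap_eq_of_coprimary {Y : Type u} [AddCommGroup Y] [Module S Y] (P : Ideal R)
    (h1 : ∀ r ∈ P, ∃ k : ℕ, ∀ y : Y, (algebraMap R S r) ^ k • y = 0)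
    (h2 : ∀ r, r ∉ P → ∀ y : Y, (algebraMap R S r) • y = 0 → y = 0)
    {q : Ideal S} (hq : q ∈ associatedPrimes S Y) : q.comap (algebraMap R S) = P := by
  obtain ⟨hqp, y, hqy⟩ := hq
  have hy0 : y ≠ 0 := by
    rintro rfl
    apply hqp.ne_top
    rw [hqy, Submodule.colon_singleton_zero, Ideal.radical_top]
  have h2' : ∀ r, r ∉ P → ∀ k : ℕ, ∀ y : Y, (algebraMap R S r) ^ k • y = 0 → y = 0 := by
    intro r hr k
    induction k with
    | zero => intro y hy; simpa using hy
    | succ k ih =>
      intro y hy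
      rw [pow_succ, mul_smul] at hy
      exact h2 r hr y (ih _ hy)
  ext r
  rw [Ideal.mem_comap]
  constructor
  · intro hr
    by_contra hrP
    rw [hqy] at hr
    obtain ⟨k, hk⟩ := hr
    rw [Submodule.mem_colon_singleton, Submodule.mem_bot] at hk
    exact hy0 (h2' r hrP k y hk)
  · intro hr
    obtain ⟨k, hk⟩ := h1 r hr
    rw [hqy]
    refine ⟨k, ?_⟩
    rw [Submodule.mem_colon_singleton, Submodule.mem_bot]
    exact hk y

/-- Claim C: for a primary submodule `J`, associated primes of `N ⊗ (M ⧸ J)` contract to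
the radical of `J : M`. -/
theorem comap_eq_of_primary [Module.Flat R N] {M : Type u} [AddCommGroup M] [Module R M]
    {J : Submodule R M} (hJ : J.IsPrimary) {q : Ideal S}
    (hq : q ∈ associatedPrimes S (N ⊗[R] (M ⧸ J))) :
    q.comap (algebraMap R S) = (J.colon Set.univ).radical := by
  refine comap_eq_of_coprimary _ ?_ ?_ hq
  · intro r hr
    obtain ⟨k, hk⟩ := hr
    refine ⟨k, ?_⟩
    have hkill : ∀ x : M ⧸ J, (r ^ k) • x = 0 := by
      intro x
      obtain ⟨m, rfl⟩ := Submodule.Quotient.mk_surjective J x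
      rw [← Submodule.Quotient.mk_smul, Submodule.Quotient.mk_eq_zero]
      exact Submodule.mem_colon.mp hk m (Set.mem_univ m)
    intro ζ
    rw [← map_pow, algebraMap_smul]
    induction ζ using TensorProduct.induction_on with
    | zero => simp
    | tmul n x => rw [← TensorProduct.tmul_smul, hkill, TensorProduct.tmul_zero]
    | add a b ha hb => rw [smul_add, ha, hb, add_zero]
  · intro r hr ζ hζ
    rw [algebraMap_smul] at hζ
    refine flat_nzd r ?_ ζ hζ
    intro x hx
    obtain ⟨m, rfl⟩ := Submodule.Quotient.mk_surjective J x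
    rw [← Submodule.Quotient.mk_smul, Submodule.Quotient.mk_eq_zero] at hx
    rcases hJ.mem_or_mem hx with h | h
    · exact (Submodule.Quotient.mk_eq_zero J).mpr h
    · exact absurd h hr

/-- The `S`-linear map `N ⧸ (pS)N → N ⊗ X`, `n ↦ n ⊗ f 1`, for an injective `f : R ⧸ p → X`. -/
theorem exists_quot_inj' [Module.Flat R N] {X : Type u} [AddCommGroup X] [Module R X] (p : Ideal R)
    (f : R ⧸ p →ₗ[R] X) (hf : Function.Injective f) :
    ∃ φ : (N ⧸ (p.map (algebraMap R S) • (⊤ : Submodule S N))) →ₗ[S] N ⊗[R] X,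
      Function.Injective φ ∧ (Function.Surjective f → Function.Surjective φ) ∧
        ∀ n : N, φ (Submodule.Quotient.mk n) = n ⊗ₜ[R] f 1 := by
  obtain ⟨m₀, hm₀⟩ : ∃ m₀ : X, m₀ = f 1 := ⟨_, rfl⟩
  let g : N →ₗ[S] N ⊗[R] X :=
    { toFun := fun n => n ⊗ₜ[R] m₀
      map_add' := fun a b => TensorProduct.add_tmul a b m₀
      map_smul' := fun s n => by simp [TensorProduct.smul_tmul'] }
  have hg : ∀ n, g n = n ⊗ₜ[R] m₀ := fun n => rfl
  have hone : ∀ r : R, r • (1 : R ⧸ p) = Ideal.Quotient.mk p r := by
    intro r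
    rw [Algebra.smul_def, mul_one, Ideal.Quotient.algebraMap_eq]
  have hpm : ∀ r ∈ p, r • m₀ = 0 := by
    intro r hr
    rw [hm₀, ← map_smul, hone, Ideal.Quotient.eq_zero_iff_mem.mpr hr, map_zero]
  have h1 : p.map (algebraMap R S) • (⊤ : Submodule S N) ≤ LinearMap.ker g := by
    rw [Submodule.smul_le]
    intro s hs n _
    have hle : p.map (algebraMap R S) ≤ (LinearMap.ker g).colon Set.univ := by
      rw [Ideal.map_le_iff_le_comap]
      intro r hr
      rw [Ideal.mem_comap, Submodule.mem_colon]
      intro n' _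
      rw [LinearMap.mem_ker, hg, algebraMap_smul, TensorProduct.smul_tmul, hpm r hr,
        TensorProduct.tmul_zero]
    exact Submodule.mem_colon.mp (hle hs) n (Set.mem_univ n)
  have h2 : LinearMap.ker g ≤ p.map (algebraMap R S) • (⊤ : Submodule S N) := by
    intro n hn
    rw [LinearMap.mem_ker, hg] at hn
    have hinj := Module.Flat.lTensor_preserves_injective_linearMap (M := N) f hf
    have h0 : n ⊗ₜ[R] (1 : R ⧸ p) = 0 := by
      apply hinj
      rw [LinearMap.lTensor_tmul, map_zero, ← hm₀]
      exact hn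
    have h4 := TensorProduct.tensorQuotEquivQuotSMul_tmul_mk (M := N) p n (1 : R)
    rw [one_smul, map_one, h0, map_zero] at h4
    have h3 : n ∈ p • (⊤ : Submodule R N) := (Submodule.Quotient.mk_eq_zero _).mp h4.symm
    refine Submodule.smul_induction_on
      (p := fun x => x ∈ p.map (algebraMap R S) • (⊤ : Submodule S N)) h3 ?_ ?_
    · intro r hr n' _
      rw [← algebraMap_smul S r n']
      exact Submodule.smul_mem_smul (Ideal.mem_map_of_mem _ hr) Submodule.mem_top
    · intro x y hx hy
      exact add_mem hx hy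
  refine ⟨Submodule.liftQ _ g h1, ?_, ?_, ?_⟩
  rotate_left 2
  · intro n
    rw [Submodule.liftQ_apply, hg, hm₀]
  · rw [← LinearMap.ker_eq_bot]
    exact Submodule.ker_liftQ_eq_bot _ g h1 h2
  · intro hsurj ζ
    induction ζ using TensorProduct.induction_on with
    | zero => exact ⟨0, map_zero _⟩
    | tmul n x =>
      obtain ⟨c, rfl⟩ := hsurj x
      obtain ⟨r, rfl⟩ := Ideal.Quotient.mk_surjective c
      refine ⟨Submodule.Quotient.mk (r • n), ?_⟩
      rw [Submodule.liftQ_apply, hg, TensorProduct.smul_tmul, hm₀, ← map_smul, hone]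
    | add a b ha hb =>
      obtain ⟨a', rfl⟩ := ha
      obtain ⟨b', rfl⟩ := hb
      exact ⟨a' + b', map_add _ _ _⟩

theorem exists_quot_inj [Module.Flat R N] {X : Type u} [AddCommGroup X] [Module R X] (p : Ideal R)
    (f : R ⧸ p →ₗ[R] X) (hf : Function.Injective f) :
    ∃ φ : (N ⧸ (p.map (algebraMap R S) • (⊤ : Submodule S N))) →ₗ[S] N ⊗[R] X,
      Function.Injective φ ∧ (Function.Surjective f → Function.Surjective φ) := by
  obtain ⟨φ, h1, h2, -⟩ := exists_quot_inj' (S := S) (N := N) p f hf
  exact ⟨φ, h1, h2⟩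

/-- Claim E: associated primes of `N ⧸ (p'S)N` contract to `p'`. -/
theorem comap_of_quot [Module.Flat R N] {p' : Ideal R} (hp' : p'.IsPrime) {q : Ideal S}
    (hq : q ∈ associatedPrimes S (N ⧸ (p'.map (algebraMap R S) • (⊤ : Submodule S N)))) :
    q.comap (algebraMap R S) = p' := by
  haveI := hp'
  obtain ⟨φ, hφi, -⟩ := exists_quot_inj (S := S) (N := N) p'
    (LinearMap.id : R ⧸ p' →ₗ[R] R ⧸ p') Function.injective_id
  refine comap_eq_of_coprimary _ ?_ ?_ hq
  · intro r hr
    refine ⟨1, fun y => ?_⟩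
    rw [pow_one]
    obtain ⟨n, rfl⟩ := Submodule.Quotient.mk_surjective _ y
    rw [← Submodule.Quotient.mk_smul, Submodule.Quotient.mk_eq_zero]
    exact Submodule.smul_mem_smul (Ideal.mem_map_of_mem _ hr) Submodule.mem_top
  · intro r hr y hy
    apply hφi
    rw [map_zero]
    have h1 : φ (algebraMap R S r • y) = 0 := by rw [hy, map_zero]
    rw [map_smul, algebraMap_smul] at h1
    refine flat_nzd r ?_ _ h1
    intro x hx
    have h5 : (Ideal.Quotient.mk p' r) * x = 0 := by
      rwa [Algebra.smul_def, Ideal.Quotient.algebraMap_eq] at hx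
    rcases mul_eq_zero.mp h5 with h | h
    · exact absurd (Ideal.Quotient.eq_zero_iff_mem.mp h) hr
    · exact h

/-- Flat base change of a short exact sequence and associated primes over `S`. -/
theorem ass_subset_union [Module.Flat R N] {X₁ X₂ X₃ : Type u} [AddCommGroup X₁] [Module R X₁]
    [AddCommGroup X₂] [Module R X₂] [AddCommGroup X₃] [Module R X₃]
    (f : X₁ →ₗ[R] X₂) (g : X₂ →ₗ[R] X₃) (hf : Function.Injective f)
    (hg : Function.Surjective g) (hfg : Function.Exact f g) :
    associatedPrimes S (N ⊗[R] X₂) ⊆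
      associatedPrimes S (N ⊗[R] X₁) ∪ associatedPrimes S (N ⊗[R] X₃) := by
  refine associatedPrimes.subset_union_of_exact
    (f := TensorProduct.AlgebraTensorModule.lTensor S N f)
    (g := TensorProduct.AlgebraTensorModule.lTensor S N g) ?_ ?_
  · change Function.Injective (LinearMap.lTensor N f)
    exact Module.Flat.lTensor_preserves_injective_linearMap f hf
  · change Function.Exact (LinearMap.lTensor N f) (LinearMap.lTensor N g)
    exact lTensor_exact N hfg hg

/-- Claim D: prime filtration argument. -/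
theorem exists_prime_of_finite [IsNoetherianRing R] [Module.Flat R N] (X : Type u)
    [AddCommGroup X] [Module R X] [Module.Finite R X] :
    ∀ q ∈ associatedPrimes S (N ⊗[R] X), ∃ p' : Ideal R, p'.IsPrime ∧
      q ∈ associatedPrimes S (N ⧸ (p'.map (algebraMap R S) • (⊤ : Submodule S N))) := by
  induction ‹Module.Finite R X› using
    IsNoetherianRing.induction_on_isQuotientEquivQuotientPrime R with
  | subsingleton X =>
    intro q hq
    rw [associatedPrimes.eq_empty_of_subsingleton] at hq
    exact absurd hq (Set.notMem_empty _)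
  | quotient X p e =>
    intro q hq
    obtain ⟨φ, hφi, hφs⟩ := exists_quot_inj (S := S) (N := N) p.1
      (e.symm : R ⧸ p.1 →ₗ[R] X) (by exact e.symm.injective)
    have hφs' := hφs (by exact e.symm.surjective)
    refine ⟨p.1, p.2, ?_⟩
    rw [LinearEquiv.AssociatedPrimes.eq (LinearEquiv.ofBijective φ ⟨hφi, hφs'⟩)]
    exact hq
  | exact X₁ X₂ X₃ f g hf hg hfg h₁ h₃ =>
    intro q hq
    rcases ass_subset_union f g hf hg hfg hq with h | h
    · exact h₁ q h
    · exact h₃ q h

/-- An element of `N ⊗ M` vanishing in all `N ⊗ (M ⧸ J)` for a decomposition of `0` is zero. -/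
theorem eq_zero_of_decomp [Module.Flat R N] {M : Type u} [AddCommGroup M] [Module R M]
    (t : Finset (Submodule R M)) (ht : t.inf id = ⊥) (η : N ⊗[R] M)
    (h : ∀ J ∈ t, LinearMap.lTensor N (Submodule.mkQ J) η = 0) : η = 0 := by
  classical
  let φ : M →ₗ[R] (∀ J : t, M ⧸ J.1) := LinearMap.pi (fun J => J.1.mkQ)
  have hφ : Function.Injective φ := by
    rw [← LinearMap.ker_eq_bot, LinearMap.ker_pi]
    simp only [Submodule.ker_mkQ]
    rw [eq_bot_iff, ← ht]
    exact Finset.le_inf fun J hJ => iInf_le (fun J : t => (J : Submodule R M)) ⟨J, hJ⟩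
  have hinj := Module.Flat.lTensor_preserves_injective_linearMap (M := N) φ hφ
  apply hinj
  rw [map_zero]
  apply (TensorProduct.piRight R R N (fun J : t => M ⧸ J.1)).injective
  rw [map_zero]
  funext J
  rw [Pi.zero_apply, ← h J.1 J.2]
  have hcomp : ∀ η : N ⊗[R] M,
      (TensorProduct.piRight R R N (fun J : t => M ⧸ J.1)) (LinearMap.lTensor N φ η) J =
        LinearMap.lTensor N J.1.mkQ η := by
    intro η
    induction η using TensorProduct.induction_on with
    | zero => simp
    | tmul n m => simp [φ]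
    | add a b ha hb => simp only [map_add, Pi.add_apply, ha, hb]
  exact hcomp η

/-- The contraction of an associated prime of `N ⊗ M` is an associated prime of `M`
(`M` finite over Noetherian `R`). -/
theorem comap_mem_ass [IsNoetherianRing R] [Module.Flat R N] (M : Type u) [AddCommGroup M]
    [Module R M] [Module.Finite R M] {q : Ideal S} (hq : q ∈ associatedPrimes S (N ⊗[R] M)) :
    q.comap (algebraMap R S) ∈ associatedPrimes R M := by
  classical
  obtain ⟨hqp, ξ, hqξ⟩ := hq
  obtain ⟨t, ht⟩ := Submodule.IsLasker.exists_isMinimalPrimaryDecomposition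
    (Submodule.isLasker R M) ⊥
  have key : t.inf (fun J : Submodule R M =>
      (⊥ : Submodule S (N ⊗[R] (M ⧸ J))).colon {LinearMap.lTensor N J.mkQ ξ}) ≤ q := by
    intro s hs
    rw [Submodule.mem_finsetInf] at hs
    rw [hqξ]
    apply Ideal.le_radical
    rw [Submodule.mem_colon_singleton, Submodule.mem_bot]
    apply eq_zero_of_decomp t ht.inf_eq
    intro J hJ
    rw [lTensor_smul']
    have := hs J hJ
    simp only [Submodule.mem_colon_singleton, Submodule.mem_bot] at this
    exact this
  obtain ⟨J, hJt, hJq⟩ := (Ideal.IsPrime.inf_le' hqp).mp key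
  have hq2 : q = ((⊥ : Submodule S (N ⊗[R] (M ⧸ J))).colon
      {LinearMap.lTensor N J.mkQ ξ}).radical := by
    apply le_antisymm
    · rw [hqξ]
      apply Ideal.radical_mono
      intro s hs
      rw [Submodule.mem_colon_singleton, Submodule.mem_bot] at hs ⊢
      rw [← lTensor_smul', hs, map_zero]
    · exact (hqp.radical_le_iff).mpr hJq
  have hqJ : q ∈ associatedPrimes S (N ⊗[R] (M ⧸ J)) :=
    ⟨hqp, LinearMap.lTensor N J.mkQ ξ, hq2⟩
  rw [comap_eq_of_primary (ht.primary hJt) hqJ]
  exact ht.mem_associatedPrimes hJt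

theorem fg_case [IsNoetherianRing R] [Module.Flat R N] (M : Type u) [AddCommGroup M] [Module R M]
    [Module.Finite R M] {q : Ideal S} (hq : q ∈ associatedPrimes S (N ⊗[R] M)) :
    ∃ p ∈ associatedPrimes R M,
      q ∈ associatedPrimes S (N ⧸ (p.map (algebraMap R S) • (⊤ : Submodule S N))) := by
  obtain ⟨p', hp', hqp'⟩ := exists_prime_of_finite M q hq
  have h1 : q.comap (algebraMap R S) = p' := comap_of_quot hp' hqp'
  refine ⟨p', ?_, hqp'⟩
  rw [← h1]
  exact comap_mem_ass M hq

theorem main_subset [IsNoetherianRing R] [Module.Flat R N] (M : Type u) [AddCommGroup M]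
    [Module R M] {q : Ideal S} (hq : q ∈ associatedPrimes S (N ⊗[R] M)) :
    ∃ p ∈ associatedPrimes R M,
      q ∈ associatedPrimes S (N ⧸ (p.map (algebraMap R S) • (⊤ : Submodule S N))) := by
  obtain ⟨hqp, ξ, hqξ⟩ := hq
  obtain ⟨M₀, hfin, hsub⟩ := TensorProduct.exists_finite_submodule_right_of_setFinite
    ({ξ} : Set (N ⊗[R] M)) (Set.finite_singleton ξ)
  obtain ⟨ξ₀, hξ₀⟩ := hsub (Set.mem_singleton ξ)
  have hinj : Function.Injective (LinearMap.lTensor N M₀.subtype) :=
    Module.Flat.lTensor_preserves_injective_linearMap _ M₀.injective_subtype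
  have hq₀ : q ∈ associatedPrimes S (N ⊗[R] M₀) := by
    refine ⟨hqp, ξ₀, ?_⟩
    rw [hqξ, ← hξ₀]
    congr 1
    ext s
    rw [Submodule.mem_colon_singleton, Submodule.mem_colon_singleton, Submodule.mem_bot,
      Submodule.mem_bot, ← lTensor_smul']
    constructor
    · intro h
      exact hinj (by rw [h, map_zero])
    · intro h
      rw [h, map_zero]
  obtain ⟨p, hp, hqp'⟩ := fg_case M₀ hq₀
  exact ⟨p, associatedPrimes.subset_of_injective M₀.injective_subtype hp, hqp'⟩

theorem main_supset [IsNoetherianRing R] [Module.Flat R N] (M : Type u) [AddCommGroup M]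
    [Module R M] {p : Ideal R} (hp : p ∈ associatedPrimes R M) :
    associatedPrimes S (N ⧸ (p.map (algebraMap R S) • (⊤ : Submodule S N))) ⊆
      associatedPrimes S (N ⊗[R] M) := by
  obtain ⟨-, f, hf⟩ := (isAssociatedPrime_iff_exists_injective_linearMap p M).mp hp
  obtain ⟨φ, hφ, -⟩ := exists_quot_inj (S := S) (N := N) p f hf
  exact associatedPrimes.subset_of_injective hφ

theorem main [IsNoetherianRing R] [Module.Flat R N] (M : Type u) [AddCommGroup M] [Module R M] :
    associatedPrimes S (N ⊗[R] M) =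
      ⋃ p ∈ associatedPrimes R M,
        associatedPrimes S (N ⧸ p.map (algebraMap R S) • (⊤ : Submodule S N)) := by
  ext q
  simp only [Set.mem_iUnion]
  constructor
  · intro hq
    obtain ⟨p, hp, h⟩ := main_subset M hq
    exact ⟨p, hp, h⟩
  · rintro ⟨p, hp, h⟩
    exact main_supset M hp h

end Groth.Agent.Helper7.AssFlat
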