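import Mathlib
import Groth.Prelude.Def_W4c4cptpiccptjacBI

/-! Basic inequality, twists and exceptional vertices on weighted multigraphs (helper7). -/

set_option autoImplicit false
universe u

namespace Groth.Agent.Helper7.BI

open LabGraph

variable {V E : Type u} [Fintype V] [Fintype E] [DecidableEq V] [DecidableEq E]
variable (ends : E → V × V)

lemma cut_eqZ (A : Finset V) :
    (cut ends A : ℤ) = ∑ e, (if ((ends e).1 ∈ A ∧ (ends e).2 ∉ A) ∨
      ((ends e).1 ∉ A ∧ (ends e).2 ∈ A) then (1:ℤ) else 0) := by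
  unfold LabGraph.cut
  rw [Finset.card_filter, Nat.cast_sum]
  exact Finset.sum_congr rfl fun e _ => by split_ifs <;> simp

lemma sum_twist_on (φ : V → ℤ) (A : Finset V) :
    ∑ v ∈ A, twist ends φ v =
      ∑ e, ((if (ends e).1 ∈ A then φ (ends e).2 - φ (ends e).1 else 0) +
        (if (ends e).2 ∈ A then φ (ends e).1 - φ (ends e).2 else 0)) := by
  unfold LabGraph.twist
  rw [Finset.sum_comm]
  refine Finset.sum_congr rfl fun e _ => ?_
  rw [Finset.sum_add_distrib, Finset.sum_ite_eq, Finset.sum_ite_eq]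

lemma sum_twist_ind_sub {Z A : Finset V} (hZA : Z ⊆ A)
    (hsep : ∀ e : E, ¬ (((ends e).1 ∈ Z ∧ (ends e).2 ∉ A) ∨ ((ends e).2 ∈ Z ∧ (ends e).1 ∉ A))) :
    ∑ v ∈ A, twist ends (fun u => if u ∈ Z then (1:ℤ) else 0) v = 0 := by
  rw [sum_twist_on]
  refine Finset.sum_eq_zero fun e _ => ?_
  have h1 : (ends e).1 ∈ Z → (ends e).2 ∈ A := fun h => by
    by_contra h'; exact hsep e (Or.inl ⟨h, h'⟩)
  have h2 : (ends e).2 ∈ Z → (ends e).1 ∈ A := fun h => by
    by_contra h'; exact hsep e (Or.inr ⟨h, h'⟩)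
  have h3 : (ends e).1 ∈ Z → (ends e).1 ∈ A := fun h => hZA h
  have h4 : (ends e).2 ∈ Z → (ends e).2 ∈ A := fun h => hZA h
  by_cases a1 : (ends e).1 ∈ A <;> by_cases a2 : (ends e).2 ∈ A <;>
    by_cases z1 : (ends e).1 ∈ Z <;> by_cases z2 : (ends e).2 ∈ Z <;> simp_all

lemma sum_twist_ind_self (A : Finset V) :
    ∑ v ∈ A, twist ends (fun u => if u ∈ A then (1:ℤ) else 0) v = -(cut ends A : ℤ) := by
  rw [sum_twist_on, cut_eqZ, ← Finset.sum_neg_distrib]
  refine Finset.sum_congr rfl fun e _ => ?_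
  by_cases a1 : (ends e).1 ∈ A <;> by_cases a2 : (ends e).2 ∈ A <;> simp [a1, a2]

lemma term_nonneg {Z : Finset V} {y : V} (hy : y ∉ Z) (e : E) :
    0 ≤ (if (ends e).1 = y then (if (ends e).2 ∈ Z then (1:ℤ) else 0) -
        (if (ends e).1 ∈ Z then 1 else 0) else 0) +
      (if (ends e).2 = y then (if (ends e).1 ∈ Z then (1:ℤ) else 0) -
        (if (ends e).2 ∈ Z then 1 else 0) else 0) := by
  have g1 : (ends e).1 = y → (ends e).1 ∉ Z := fun h => by rw [h]; exact hy
  have g2 : (ends e).2 = y → (ends e).2 ∉ Z := fun h => by rw [h]; exact hy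
  by_cases c1 : (ends e).1 = y <;> by_cases c2 : (ends e).2 = y <;>
    by_cases z1 : (ends e).1 ∈ Z <;> by_cases z2 : (ends e).2 ∈ Z <;> simp_all

lemma twist_ind_nonneg {Z : Finset V} {y : V} (hy : y ∉ Z) :
    0 ≤ twist ends (fun u => if u ∈ Z then (1:ℤ) else 0) y := by
  unfold LabGraph.twist
  exact Finset.sum_nonneg fun e _ => term_nonneg ends hy e

lemma twist_ind_pos {Z : Finset V} {y : V} (hy : y ∉ Z) (e : E)
    (he : ((ends e).1 = y ∧ (ends e).2 ∈ Z) ∨ ((ends e).2 = y ∧ (ends e).1 ∈ Z)) :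
    1 ≤ twist ends (fun u => if u ∈ Z then (1:ℤ) else 0) y := by
  unfold LabGraph.twist
  have hterm : (1:ℤ) ≤ (if (ends e).1 = y then (if (ends e).2 ∈ Z then (1:ℤ) else 0) -
        (if (ends e).1 ∈ Z then 1 else 0) else 0) +
      (if (ends e).2 = y then (if (ends e).1 ∈ Z then (1:ℤ) else 0) -
        (if (ends e).2 ∈ Z then 1 else 0) else 0) := by
    rcases he with ⟨h1, h2⟩ | ⟨h1, h2⟩
    · have hne : (ends e).2 ≠ y := fun h => hy (by rw [← h]; exact h2)
      have hz : (ends e).1 ∉ Z := by rw [h1]; exact hy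
      rw [if_pos h1, if_pos h2, if_neg hz, if_neg hne]; norm_num
    · have hne : (ends e).1 ≠ y := fun h => hy (by rw [← h]; exact h2)
      have hz : (ends e).2 ∉ Z := by rw [h1]; exact hy
      rw [if_neg hne, if_pos h1, if_pos h2, if_neg hz]; norm_num
  refine le_trans hterm ?_
  exact Finset.single_le_sum (f := fun e' => (if (ends e').1 = y then
      (if (ends e').2 ∈ Z then (1:ℤ) else 0) - (if (ends e').1 ∈ Z then 1 else 0) else 0) +
      (if (ends e').2 = y then (if (ends e').1 ∈ Z then (1:ℤ) else 0) -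
        (if (ends e').2 ∈ Z then 1 else 0) else 0))
    (fun e' _ => term_nonneg ends hy e') (Finset.mem_univ e)

lemma endCount_exc {w : V → ℕ} {u : V} (hu : IsExceptional ends w u) :
    endCount ends Finset.univ u = 2 := by
  refine Eq.trans ?_ hu.2.2
  unfold LabGraph.endCount LabGraph.cut
  rw [Finset.card_filter]
  refine Finset.sum_congr rfl fun e _ => ?_
  have hl := hu.2.1 e
  by_cases c1 : (ends e).1 = u <;> by_cases c2 : (ends e).2 = u
  · have : ends e = (u, u) := Prod.ext c1 c2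
    exact absurd this hl
  · simp [c1, c2]
  · simp [c1, c2]
  · simp [c1, c2]

lemma sum_endCount_on (U : Finset V) :
    ∑ u ∈ U, (endCount ends Finset.univ u : ℤ) =
      ∑ e, ((if (ends e).1 ∈ U then (1:ℤ) else 0) + (if (ends e).2 ∈ U then 1 else 0)) := by
  unfold LabGraph.endCount
  push_cast
  rw [Finset.sum_comm]
  refine Finset.sum_congr rfl fun e _ => ?_
  rw [Finset.sum_add_distrib, Finset.sum_ite_eq, Finset.sum_ite_eq]

lemma canDeg_univ (w : V → ℕ) : canDeg ends w Finset.univ = 2 * genus ends w - 2 := by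
  unfold LabGraph.canDeg LabGraph.genus
  rw [Finset.sum_add_distrib, Finset.sum_sub_distrib, sum_endCount_on, ← Finset.mul_sum]
  simp only [Finset.mem_univ, if_true, Finset.sum_const, Finset.card_univ, nsmul_eq_mul]
  ring

lemma canDeg_exc {w : V → ℕ} {u : V} (hu : IsExceptional ends w u) :
    2 * (w u : ℤ) - 2 + (endCount ends Finset.univ u : ℤ) = 0 := by
  rw [endCount_exc ends hu, hu.1]
  norm_num

lemma twist_ind_eq_zero {A : Finset V} (h : cut ends A = 0) (v : V) :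
    twist ends (fun u => if u ∈ A then (1:ℤ) else 0) v = 0 := by
  unfold LabGraph.cut at h
  rw [Finset.card_eq_zero, Finset.filter_eq_empty_iff] at h
  unfold LabGraph.twist
  refine Finset.sum_eq_zero fun e _ => ?_
  have he := h (Finset.mem_univ e)
  by_cases a1 : (ends e).1 ∈ A
  · have a2 : (ends e).2 ∈ A := by
      by_contra a2; exact he (Or.inl ⟨a1, a2⟩)
    simp only [if_pos a1, if_pos a2, sub_self, ite_self, add_zero]
  · have a2 : (ends e).2 ∉ A := fun a2 => he (Or.inr ⟨a1, a2⟩)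
    simp only [if_neg a1, if_neg a2, sub_self, ite_self, add_zero]

lemma edge_ineq (A U : Finset V) (e : E)
    (f1 : (ends e).1 ∈ A → (ends e).2 ∉ A → (ends e).1 ∈ U)
    (f2 : (ends e).2 ∈ A → (ends e).1 ∉ A → (ends e).2 ∈ U)
    (f3 : (ends e).1 ∈ U → (ends e).1 ∈ A) (f4 : (ends e).2 ∈ U → (ends e).2 ∈ A) :
    (if ((ends e).1 ∈ A \ U ∧ (ends e).2 ∉ A \ U) ∨ ((ends e).1 ∉ A \ U ∧ (ends e).2 ∈ A \ U)
        then (1:ℤ) else 0) +
      (if ((ends e).1 ∈ A ∧ (ends e).2 ∉ A) ∨ ((ends e).1 ∉ A ∧ (ends e).2 ∈ A)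
        then (1:ℤ) else 0) ≤
    (if (ends e).1 ∈ U then (1:ℤ) else 0) + (if (ends e).2 ∈ U then 1 else 0) := by
  by_cases a1 : (ends e).1 ∈ A <;> by_cases a2 : (ends e).2 ∈ A <;>
    by_cases u1 : (ends e).1 ∈ U <;> by_cases u2 : (ends e).2 ∈ U <;>
    simp_all [Finset.mem_sdiff]

theorem cut_top_zero (w : V → ℕ) (hK : 0 < canDeg ends w Finset.univ) (d d' : V → ℤ)
    (hD : ∑ v, d v = ∑ v, d' v) (hBI' : SatisfiesBI ends w d')
    (hone : ∀ v : V, IsExceptional ends w v → d v = 1)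
    (hone' : ∀ v : V, IsExceptional ends w v → d' v = 1)
    (hstrict : ∀ Y : Finset V, Y.Nonempty → Y ≠ Finset.univ →
      2 * (canDeg ends w Finset.univ * (∑ v ∈ Y, d v) - (∑ v, d v) * canDeg ends w Y)
          = (cut ends Y : ℤ) * canDeg ends w Finset.univ →
      ∀ e : E, (((ends e).1 ∈ Y ∧ (ends e).2 ∉ Y) ∨ ((ends e).1 ∉ Y ∧ (ends e).2 ∈ Y)) →
        (IsExceptional ends w (ends e).1 ∨ IsExceptional ends w (ends e).2))
    (A : Finset V)
    (hextA : 2 * (canDeg ends w Finset.univ * (∑ v ∈ A, d v) - (∑ v, d v) * canDeg ends w A)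
          = (cut ends A : ℤ) * canDeg ends w Finset.univ)
    (s : V → ℤ) (hs0 : ∀ y, y ∉ A → 0 ≤ s y) (hsA : ∑ v ∈ A, s v = 0)
    (hsum : ∀ v, d' v = d v + s v + twist ends (fun u => if u ∈ A then (1:ℤ) else 0) v) :
    cut ends A = 0 := by
  classical
  obtain ⟨U, hUdef⟩ : ∃ U : Finset V, U = A.filter (fun u => ∃ e : E,
      ((ends e).1 = u ∧ (ends e).2 ∉ A) ∨ ((ends e).2 = u ∧ (ends e).1 ∉ A)) := ⟨_, rfl⟩
  have hUA : U ⊆ A := by rw [hUdef]; exact Finset.filter_subset _ _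
  have hUexc : ∀ u ∈ U, IsExceptional ends w u := by
    intro u hu
    rw [hUdef] at hu
    obtain ⟨huA, e, he⟩ := Finset.mem_filter.1 hu
    have hne : A.Nonempty := ⟨u, huA⟩
    have hout : ∀ y, y ∉ A → (((ends e).1 = y ∧ (ends e).2 ∈ A) ∨
        ((ends e).2 = y ∧ (ends e).1 ∈ A)) → ¬ IsExceptional ends w y := by
      intro y hy hey hexc
      have e1 := hsum y
      rw [hone' y hexc, hone y hexc] at e1
      have e2 := hs0 y hy
      have e3 := twist_ind_pos ends hy e hey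
      linarith
    rcases he with ⟨h1, h2⟩ | ⟨h1, h2⟩
    · have hnu : A ≠ Finset.univ := fun h => h2 (by rw [h]; exact Finset.mem_univ _)
      have h1A : (ends e).1 ∈ A := by rw [h1]; exact huA
      rcases hstrict A hne hnu hextA e (Or.inl ⟨h1A, h2⟩) with hx | hx
      · rw [h1] at hx; exact hx
      · exact absurd hx (hout _ h2 (Or.inr ⟨rfl, h1A⟩))
    · have hnu : A ≠ Finset.univ := fun h => h2 (by rw [h]; exact Finset.mem_univ _)
      have h2A : (ends e).2 ∈ A := by rw [h1]; exact huA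
      rcases hstrict A hne hnu hextA e (Or.inr ⟨h2, h2A⟩) with hx | hx
      · exact absurd hx (hout _ h2 (Or.inl ⟨rfl, h2A⟩))
      · rw [h1] at hx; exact hx
  have hdA' : ∑ v ∈ A, d' v = ∑ v ∈ A, d v - (cut ends A : ℤ) := by
    rw [Finset.sum_congr rfl (fun v _ => hsum v), Finset.sum_add_distrib, Finset.sum_add_distrib,
      hsA, sum_twist_ind_self]
    ring
  have hU1 : ∑ u ∈ U, d' u = (U.card : ℤ) := by
    rw [Finset.sum_congr rfl (fun u hu => hone' u (hUexc u hu))]
    simp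
  have hsplit : ∑ v ∈ A \ U, d' v + ∑ v ∈ U, d' v = ∑ v ∈ A, d' v := Finset.sum_sdiff hUA
  have hcd : canDeg ends w (A \ U) = canDeg ends w A := by
    unfold LabGraph.canDeg
    rw [← Finset.sum_sdiff hUA]
    have : ∑ v ∈ U, (2 * (w v : ℤ) - 2 + (endCount ends Finset.univ v : ℤ)) = 0 :=
      Finset.sum_eq_zero fun u hu => canDeg_exc ends (hUexc u hu)
    rw [this, add_zero]
  have hb := hBI' (A \ U)
  have hb2 := neg_abs_le (canDeg ends w Finset.univ * (∑ v ∈ A \ U, d' v) -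
    (∑ v : V, d' v) * canDeg ends w (A \ U))
  rw [hcd, ← hD] at hb hb2
  have h4 : (cut ends (A \ U) : ℤ) + (cut ends A : ℤ) ≤ 2 * (U.card : ℤ) := by
    have hUsum : ∑ u ∈ U, (endCount ends Finset.univ u : ℤ) = 2 * (U.card : ℤ) := by
      rw [Finset.sum_congr rfl (fun u hu => by rw [endCount_exc ends (hUexc u hu)])]
      simp [mul_comm]
    rw [← hUsum, sum_endCount_on, cut_eqZ, cut_eqZ, ← Finset.sum_add_distrib]
    refine Finset.sum_le_sum fun e _ => ?_
    refine edge_ineq ends A U e ?_ ?_ (fun h => hUA h) (fun h => hUA h)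
    · intro a b
      rw [hUdef]
      exact Finset.mem_filter.2 ⟨a, e, Or.inl ⟨rfl, b⟩⟩
    · intro a b
      rw [hUdef]
      exact Finset.mem_filter.2 ⟨a, e, Or.inr ⟨rfl, b⟩⟩
  have h5 : 0 ≤ (2 * (U.card : ℤ) - (cut ends (A \ U) : ℤ) - (cut ends A : ℤ)) *
      canDeg ends w Finset.univ := mul_nonneg (by linarith) hK.le
  have hYs : ∑ v ∈ A \ U, d' v = ∑ v ∈ A, d v - (cut ends A : ℤ) - (U.card : ℤ) := by linarith
  rw [hYs] at hb2 hb
  have h6 : (cut ends A : ℤ) * canDeg ends w Finset.univ ≤ 0 := by nlinarith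
  have h7 : (0:ℤ) ≤ (cut ends A : ℤ) := Int.natCast_nonneg _
  by_contra hne
  have h8 : (0:ℤ) < (cut ends A : ℤ) :=
    lt_of_le_of_ne h7 (fun h => hne (by exact_mod_cast h.symm))
  have := mul_pos h8 hK
  linarith

theorem core (w : V → ℕ) (hK : 0 < canDeg ends w Finset.univ) (d : V → ℤ)
    (hone : ∀ v : V, IsExceptional ends w v → d v = 1)
    (hstrict : ∀ Y : Finset V, Y.Nonempty → Y ≠ Finset.univ →
      2 * (canDeg ends w Finset.univ * (∑ v ∈ Y, d v) - (∑ v, d v) * canDeg ends w Y)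
          = (cut ends Y : ℤ) * canDeg ends w Finset.univ →
      ∀ e : E, (((ends e).1 ∈ Y ∧ (ends e).2 ∉ Y) ∨ ((ends e).1 ∉ Y ∧ (ends e).2 ∈ Y)) →
        (IsExceptional ends w (ends e).1 ∨ IsExceptional ends w (ends e).2)) :
    ∀ (m : ℕ) (Z : Fin m → Finset V) (d' : V → ℤ), (∑ v, d v = ∑ v, d' v) →
      SatisfiesBI ends w d' → (∀ v : V, IsExceptional ends w v → d' v = 1) →
      (∀ i j : Fin m, i ≤ j → Z i ⊆ Z j) →
      (∀ i : Fin m, 2 * (canDeg ends w Finset.univ * (∑ v ∈ Z i, d v) -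
          (∑ v, d v) * canDeg ends w (Z i)) = (cut ends (Z i) : ℤ) * canDeg ends w Finset.univ) →
      (∀ i j : Fin m, j < i → ∀ e : E,
        ¬ (((ends e).1 ∈ Z j ∧ (ends e).2 ∉ Z i) ∨ ((ends e).2 ∈ Z j ∧ (ends e).1 ∉ Z i))) →
      (∀ v : V, d' v = d v +
        ∑ i : Fin m, twist ends (fun u => if u ∈ Z i then (1 : ℤ) else 0) v) →
      d = d' := by
  intro m
  induction m with
  | zero =>
    intro Z d' _ _ _ _ _ _ hsum
    funext v
    rw [hsum v]
    simp
  | succ m ih =>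
    intro Z d' hD hBI' hone' hmono hext hsep hsum
    have hcut : cut ends (Z (Fin.last m)) = 0 := by
      refine cut_top_zero ends w hK d d' hD hBI' hone hone' hstrict (Z (Fin.last m))
        (hext _) (fun v => ∑ i : Fin m,
          twist ends (fun u => if u ∈ Z i.castSucc then (1 : ℤ) else 0) v) ?_ ?_ ?_
      · intro y hy
        exact Finset.sum_nonneg fun i _ =>
          twist_ind_nonneg ends (fun h => hy (hmono _ _ (Fin.le_last _) h))
      · rw [Finset.sum_comm]
        exact Finset.sum_eq_zero fun i _ =>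
          sum_twist_ind_sub ends (hmono _ _ (Fin.le_last _))
            (hsep (Fin.last m) i.castSucc (Fin.castSucc_lt_last i))
      · intro v
        rw [hsum v, Fin.sum_univ_castSucc]
        ring
    refine ih (fun i => Z i.castSucc) d' hD hBI' hone'
      (fun i j hij => hmono _ _ (Fin.castSucc_le_castSucc_iff.2 hij)) (fun i => hext _)
      (fun i j hji e => hsep _ _ (Fin.castSucc_lt_castSucc_iff.2 hji) e) ?_
    intro v
    rw [hsum v, Fin.sum_univ_castSucc, twist_ind_eq_zero ends hcut v, add_zero]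

end Groth.Agent.Helper7.BI
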