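import Mathlib
import Groth.Agent.Lib.Helper7.BI

/-! Cuts and exceptional vertices: the saturation of a vertex set minimises the cut (helper7). -/

set_option autoImplicit false
universe u

namespace Groth.Agent.Helper7.BI

open LabGraph

variable {V E : Type u} [Fintype V] [Fintype E] [DecidableEq V] [DecidableEq E]
variable (ends : E → V × V)

/-- crossing indicator -/
def xi (A : Finset V) (e : E) : ℤ :=
  if ((ends e).1 ∈ A ∧ (ends e).2 ∉ A) ∨ ((ends e).1 ∉ A ∧ (ends e).2 ∈ A) then 1 else 0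

/-- number of ends of `e` at `v` -/
def nn (v : V) (e : E) : ℤ :=
  (if (ends e).1 = v then 1 else 0) + (if (ends e).2 = v then 1 else 0)

lemma xi_nonneg (A : Finset V) (e : E) : 0 ≤ xi ends A e := by
  unfold xi; split_ifs <;> norm_num

lemma xi_le_one (A : Finset V) (e : E) : xi ends A e ≤ 1 := by
  unfold xi; split_ifs <;> norm_num

lemma nn_nonneg (v : V) (e : E) : 0 ≤ nn ends v e := by
  unfold nn; split_ifs <;> norm_num

lemma cut_eq_xi (A : Finset V) : (cut ends A : ℤ) = ∑ e, xi ends A e := by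
  unfold xi; exact cut_eqZ ends A

lemma xi_eq_zero_of_mem {A : Finset V} {e : E} (h1 : (ends e).1 ∈ A) (h2 : (ends e).2 ∈ A) :
    xi ends A e = 0 := by
  unfold xi
  rw [if_neg]
  rintro (⟨_, h⟩ | ⟨h, _⟩)
  · exact h h2
  · exact h h1

lemma pe1 {S Y Wh : Finset V} (e : E) (hns : ¬ ((ends e).1 ∈ S ∧ (ends e).2 ∈ S))
    (h1 : (ends e).1 ∉ S → ((ends e).1 ∈ Wh ↔ (ends e).1 ∈ Y))
    (h2 : (ends e).2 ∉ S → ((ends e).2 ∈ Wh ↔ (ends e).2 ∈ Y)) :
    xi ends Wh e - xi ends Y e =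
      ((if (ends e).1 ∈ S then (1:ℤ) else 0) + (if (ends e).2 ∈ S then 1 else 0)) *
        (xi ends Wh e - xi ends Y e) := by
  by_cases s1 : (ends e).1 ∈ S <;> by_cases s2 : (ends e).2 ∈ S
  · exact absurd ⟨s1, s2⟩ hns
  · simp [s1, s2]
  · simp [s1, s2]
  · have e1 := h1 s1
    have e2 := h2 s2
    have : xi ends Wh e = xi ends Y e := by unfold xi; simp only [e1, e2]
    rw [this]; simp

lemma pe2 {Y Wh : Finset V} {v : V} (e : E) (hv : v ∈ Wh)
    (hn : ((ends e).1 = v → (ends e).2 ∈ Wh) ∧ ((ends e).2 = v → (ends e).1 ∈ Wh)) :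
    nn ends v e * (xi ends Wh e - xi ends Y e) ≤ 0 := by
  by_cases hat : (ends e).1 = v ∨ (ends e).2 = v
  · have hz : xi ends Wh e = 0 := by
      rcases hat with c | c
      · exact xi_eq_zero_of_mem ends (by rw [c]; exact hv) (hn.1 c)
      · exact xi_eq_zero_of_mem ends (hn.2 c) (by rw [c]; exact hv)
    rw [hz]
    nlinarith [nn_nonneg ends v e, xi_nonneg ends Y e,
      mul_nonneg (nn_nonneg ends v e) (xi_nonneg ends Y e)]
  · push Not at hat
    unfold nn
    rw [if_neg hat.1, if_neg hat.2]; simp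

lemma pe3 {Y Wh : Finset V} {v : V} (e : E) (hv1 : v ∉ Wh) (hv2 : v ∉ Y)
    (h1 : (ends e).1 = v → ((ends e).2 ∈ Wh ↔ (ends e).2 ∈ Y))
    (h2 : (ends e).2 = v → ((ends e).1 ∈ Wh ↔ (ends e).1 ∈ Y)) :
    nn ends v e * (xi ends Wh e - xi ends Y e) ≤ 0 := by
  by_cases c1 : (ends e).1 = v
  · have : xi ends Wh e = xi ends Y e := by
      unfold xi; rw [c1]
      simp [hv1, hv2, h1 c1]
    rw [this]; simp
  · by_cases c2 : (ends e).2 = v
    · have : xi ends Wh e = xi ends Y e := by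
        unfold xi; rw [c2]
        simp [hv1, hv2, h2 c2]
      rw [this]; simp
    · unfold nn; rw [if_neg c1, if_neg c2]; simp

lemma pe4 (Y Wh : Finset V) (v : V) (e : E) :
    0 ≤ nn ends v e - nn ends v e * (xi ends Wh e - xi ends Y e) := by
  nlinarith [nn_nonneg ends v e, xi_nonneg ends Y e, xi_le_one ends Wh e,
    mul_nonneg (nn_nonneg ends v e) (xi_nonneg ends Y e),
    mul_nonneg (nn_nonneg ends v e) (sub_nonneg.2 (xi_le_one ends Wh e))]

lemma pe5 {Y Wh : Finset V} {v : V} (e : E) (hv1 : v ∉ Wh) (hv2 : v ∈ Y)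
    (he : ((ends e).1 = v ∧ (ends e).2 ∉ Wh ∧ (ends e).2 ∉ Y) ∨
      ((ends e).2 = v ∧ (ends e).1 ∉ Wh ∧ (ends e).1 ∉ Y)) :
    2 ≤ nn ends v e - nn ends v e * (xi ends Wh e - xi ends Y e) := by
  rcases he with ⟨c, a, b⟩ | ⟨c, a, b⟩
  · have hne : (ends e).2 ≠ v := fun h => b (by rw [h]; exact hv2)
    have x1 : xi ends Wh e = 0 := by
      unfold xi; rw [if_neg]; rw [c]
      rintro (⟨h, _⟩ | ⟨_, h⟩)
      · exact hv1 h
      · exact a h
    have x2 : xi ends Y e = 1 := by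
      unfold xi; rw [if_pos]; rw [c]; exact Or.inl ⟨hv2, b⟩
    have x3 : nn ends v e = 1 := by unfold nn; rw [if_pos c, if_neg hne]; norm_num
    rw [x1, x2, x3]; norm_num
  · have hne : (ends e).1 ≠ v := fun h => b (by rw [h]; exact hv2)
    have x1 : xi ends Wh e = 0 := by
      unfold xi; rw [if_neg]; rw [c]
      rintro (⟨h, _⟩ | ⟨_, h⟩)
      · exact a h
      · exact hv1 h
    have x2 : xi ends Y e = 1 := by
      unfold xi; rw [if_pos]; rw [c]; exact Or.inr ⟨b, hv2⟩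
    have x3 : nn ends v e = 1 := by unfold nn; rw [if_neg hne, if_pos c]; norm_num
    rw [x1, x2, x3]; norm_num

theorem cut_le_of_exc (w : V → ℕ) (S Y Wh : Finset V) (hS : ∀ v ∈ S, IsExceptional ends w v)
    (hq : ∀ e : E, ¬ ((ends e).1 ∈ S ∧ (ends e).2 ∈ S))
    (hagree : ∀ x, x ∉ S → (x ∈ Wh ↔ x ∈ Y))
    (hin : ∀ v ∈ S, v ∈ Wh → ∀ e : E,
      ((ends e).1 = v → (ends e).2 ∈ Wh) ∧ ((ends e).2 = v → (ends e).1 ∈ Wh))
    (hout : ∀ v ∈ S, v ∉ Wh → ∃ e : E,
      ((ends e).1 = v ∧ (ends e).2 ∉ Wh) ∨ ((ends e).2 = v ∧ (ends e).1 ∉ Wh)) :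
    cut ends Wh ≤ cut ends Y := by
  have hTv : ∀ v ∈ S, ∑ e, nn ends v e * (xi ends Wh e - xi ends Y e) ≤ 0 := by
    intro v hvS
    have hoth1 : ∀ e : E, (ends e).1 = v → (ends e).2 ∉ S :=
      fun e h h' => hq e ⟨by rw [h]; exact hvS, h'⟩
    have hoth2 : ∀ e : E, (ends e).2 = v → (ends e).1 ∉ S :=
      fun e h h' => hq e ⟨h', by rw [h]; exact hvS⟩
    by_cases hv1 : v ∈ Wh
    · exact Finset.sum_nonpos fun e _ => pe2 ends e hv1 (hin v hvS hv1 e)
    · by_cases hv2 : v ∈ Y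
      · obtain ⟨e₀, he₀⟩ := hout v hvS hv1
        have hsumn : ∑ e, nn ends v e = 2 := by
          have h := endCount_exc ends (hS v hvS)
          unfold LabGraph.endCount at h
          have h' := congrArg (Nat.cast : ℕ → ℤ) h
          push_cast at h'
          unfold nn
          exact h'
        have h2 : 2 ≤ nn ends v e₀ - nn ends v e₀ * (xi ends Wh e₀ - xi ends Y e₀) := by
          refine pe5 ends e₀ hv1 hv2 ?_
          rcases he₀ with ⟨c, a⟩ | ⟨c, a⟩
          · exact Or.inl ⟨c, a, fun h => a ((hagree _ (hoth1 e₀ c)).2 h)⟩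
          · exact Or.inr ⟨c, a, fun h => a ((hagree _ (hoth2 e₀ c)).2 h)⟩
        have h3 : 2 ≤ ∑ e, (nn ends v e - nn ends v e * (xi ends Wh e - xi ends Y e)) :=
          h2.trans (Finset.single_le_sum
            (f := fun e => nn ends v e - nn ends v e * (xi ends Wh e - xi ends Y e))
            (fun e _ => pe4 ends Y Wh v e) (Finset.mem_univ e₀))
        rw [Finset.sum_sub_distrib, hsumn] at h3
        linarith
      · exact Finset.sum_nonpos fun e _ => pe3 ends e hv1 hv2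
          (fun h => hagree _ (hoth1 e h)) (fun h => hagree _ (hoth2 e h))
  have key : ∑ e, (xi ends Wh e - xi ends Y e) ≤ 0 := by
    have h1 : ∀ e, xi ends Wh e - xi ends Y e =
        ∑ v ∈ S, nn ends v e * (xi ends Wh e - xi ends Y e) := by
      intro e
      rw [← Finset.sum_mul]
      have : ∑ v ∈ S, nn ends v e =
          (if (ends e).1 ∈ S then (1:ℤ) else 0) + (if (ends e).2 ∈ S then 1 else 0) := by
        unfold nn
        rw [Finset.sum_add_distrib, Finset.sum_ite_eq, Finset.sum_ite_eq]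
      rw [this]
      exact pe1 ends e (hq e) (hagree _) (hagree _)
    rw [Finset.sum_congr rfl (fun e _ => h1 e), Finset.sum_comm]
    exact Finset.sum_nonpos fun v hv => hTv v hv
  have h := key
  rw [Finset.sum_sub_distrib, ← cut_eq_xi, ← cut_eq_xi] at h
  have : (cut ends Wh : ℤ) ≤ (cut ends Y : ℤ) := by linarith
  exact_mod_cast this

end Groth.Agent.Helper7.BI
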