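import Mathlib
import Groth.Agent.Lib.Helper7.BI2

/-! Twisting by a vertex set at the upper extreme preserves the basic inequality (helper7). -/

set_option autoImplicit false
universe u

namespace Groth.Agent.Helper7.BI

open LabGraph

variable {V E : Type u} [Fintype V] [Fintype E] [DecidableEq V] [DecidableEq E]
variable (ends : E → V × V)

/-- per-edge contribution to the sum over `A` of the twist of the indicator of `Z` -/
def tau (Z A : Finset V) (e : E) : ℤ :=
  (if (ends e).1 ∈ A then (if (ends e).2 ∈ Z then (1:ℤ) else 0) -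
    (if (ends e).1 ∈ Z then 1 else 0) else 0) +
  (if (ends e).2 ∈ A then (if (ends e).1 ∈ Z then (1:ℤ) else 0) -
    (if (ends e).2 ∈ Z then 1 else 0) else 0)

lemma sum_twist_ind_on (Z A : Finset V) :
    ∑ v ∈ A, twist ends (fun u => if u ∈ Z then (1:ℤ) else 0) v = ∑ e, tau ends Z A e :=
  sum_twist_on ends _ A

lemma sum_twist_univ (φ : V → ℤ) : ∑ v, twist ends φ v = 0 := by
  rw [sum_twist_on]
  refine Finset.sum_eq_zero fun e _ => ?_
  simp only [Finset.mem_univ, if_true]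
  ring

lemma pe_upper (Y Z : Finset V) (e : E) :
    xi ends (Y ∪ Z) e - xi ends Z e + xi ends (Y ∩ Z) e + 2 * tau ends Z Y e ≤ xi ends Y e := by
  unfold xi tau
  simp only [Finset.mem_union, Finset.mem_inter]
  by_cases y1 : (ends e).1 ∈ Y <;> by_cases y2 : (ends e).2 ∈ Y <;>
    by_cases z1 : (ends e).1 ∈ Z <;> by_cases z2 : (ends e).2 ∈ Z <;> simp [y1, y2, z1, z2]

lemma pe_lower (Y Z : Finset V) (e : E) :
    0 ≤ xi ends Z e - xi ends (Z \ Y) e - xi ends (Y \ Z) e + 2 * tau ends Z Y e +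
      xi ends Y e := by
  unfold xi tau
  simp only [Finset.mem_sdiff]
  by_cases y1 : (ends e).1 ∈ Y <;> by_cases y2 : (ends e).2 ∈ Y <;>
    by_cases z1 : (ends e).1 ∈ Z <;> by_cases z2 : (ends e).2 ∈ Z <;> simp [y1, y2, z1, z2]

theorem BI_twist (w : V → ℕ) (hK : 0 < canDeg ends w Finset.univ) (d : V → ℤ)
    (hBI : SatisfiesBI ends w d) (Z : Finset V)
    (hZ : 2 * (canDeg ends w Finset.univ * (∑ v ∈ Z, d v) -
      (∑ v : V, d v) * canDeg ends w Z) = (cut ends Z : ℤ) * canDeg ends w Finset.univ) :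
    SatisfiesBI ends w (fun v => d v + twist ends (fun u => if u ∈ Z then (1:ℤ) else 0) v) := by
  intro Y
  show 2 * |canDeg ends w Finset.univ *
      (∑ v ∈ Y, (d v + twist ends (fun u => if u ∈ Z then (1:ℤ) else 0) v)) -
      (∑ v, (d v + twist ends (fun u => if u ∈ Z then (1:ℤ) else 0) v)) * canDeg ends w Y| ≤
      (cut ends Y : ℤ) * canDeg ends w Finset.univ
  rw [Finset.sum_add_distrib, Finset.sum_add_distrib, sum_twist_univ, add_zero, sum_twist_ind_on]
  have hd1 := Finset.sum_union_inter (s₁ := Y) (s₂ := Z) (f := d)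
  have hc1 : canDeg ends w (Y ∪ Z) + canDeg ends w (Y ∩ Z) =
      canDeg ends w Y + canDeg ends w Z := by
    unfold LabGraph.canDeg; exact Finset.sum_union_inter
  have hd2 := Finset.sum_inter_add_sum_sdiff Y Z d
  have hc2 : canDeg ends w (Y ∩ Z) + canDeg ends w (Y \ Z) = canDeg ends w Y := by
    unfold LabGraph.canDeg; exact Finset.sum_inter_add_sum_sdiff Y Z _
  have hd3 := Finset.sum_inter_add_sum_sdiff Z Y d
  have hc3 : canDeg ends w (Z ∩ Y) + canDeg ends w (Z \ Y) = canDeg ends w Z := by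
    unfold LabGraph.canDeg; exact Finset.sum_inter_add_sum_sdiff Z Y _
  rw [Finset.inter_comm Z Y] at hd3 hc3
  have up : ∀ A : Finset V, 2 * (canDeg ends w Finset.univ * (∑ v ∈ A, d v) -
      (∑ v : V, d v) * canDeg ends w A) ≤ (cut ends A : ℤ) * canDeg ends w Finset.univ :=
    fun A => by
      have h1 := hBI A
      have h2 := le_abs_self (canDeg ends w Finset.univ * (∑ v ∈ A, d v) -
        (∑ v : V, d v) * canDeg ends w A)
      linarith
  have lo : ∀ A : Finset V, -((cut ends A : ℤ) * canDeg ends w Finset.univ) ≤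
      2 * (canDeg ends w Finset.univ * (∑ v ∈ A, d v) - (∑ v : V, d v) * canDeg ends w A) :=
    fun A => by
      have h1 := hBI A
      have h2 := neg_abs_le (canDeg ends w Finset.univ * (∑ v ∈ A, d v) -
        (∑ v : V, d v) * canDeg ends w A)
      linarith
  have P1 : (cut ends (Y ∪ Z) : ℤ) - (cut ends Z : ℤ) + (cut ends (Y ∩ Z) : ℤ) +
      2 * ∑ e, tau ends Z Y e ≤ (cut ends Y : ℤ) := by
    have := Finset.sum_le_sum (fun e (_ : e ∈ Finset.univ) => pe_upper ends Y Z e)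
    simp only [Finset.sum_add_distrib, Finset.sum_sub_distrib, ← Finset.mul_sum] at this
    rw [cut_eq_xi, cut_eq_xi, cut_eq_xi, cut_eq_xi]
    linarith [this]
  have P2 : 0 ≤ (cut ends Z : ℤ) - (cut ends (Z \ Y) : ℤ) - (cut ends (Y \ Z) : ℤ) +
      2 * ∑ e, tau ends Z Y e + (cut ends Y : ℤ) := by
    have := Finset.sum_nonneg (fun e (_ : e ∈ Finset.univ) => pe_lower ends Y Z e)
    simp only [Finset.sum_add_distrib, Finset.sum_sub_distrib, ← Finset.mul_sum] at this
    rw [cut_eq_xi, cut_eq_xi, cut_eq_xi, cut_eq_xi]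
    linarith [this]
  have PK1 := mul_le_mul_of_nonneg_left P1 hK.le
  have PK2 := mul_nonneg hK.le P2
  have u1 := up (Y ∪ Z)
  have u2 := up (Y ∩ Z)
  have u3 := up (Z \ Y)
  have l1 := lo (Y \ Z)
  have hdY : ∑ v ∈ Y, d v = ∑ v ∈ Y ∪ Z, d v + ∑ v ∈ Y ∩ Z, d v - ∑ v ∈ Z, d v := by linarith
  have hcY : canDeg ends w Y =
      canDeg ends w (Y ∪ Z) + canDeg ends w (Y ∩ Z) - canDeg ends w Z := by linarith
  have hup : 2 * (canDeg ends w Finset.univ * (∑ v ∈ Y, d v + ∑ e, tau ends Z Y e) -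
      (∑ v : V, d v) * canDeg ends w Y) ≤ (cut ends Y : ℤ) * canDeg ends w Finset.univ := by
    rw [hdY, hcY]; nlinarith [PK1, u1, u2, hZ]
  have hdY' : ∑ v ∈ Y, d v = ∑ v ∈ Y \ Z, d v + ∑ v ∈ Z, d v - ∑ v ∈ Z \ Y, d v := by linarith
  have hcY' : canDeg ends w Y =
      canDeg ends w (Y \ Z) + canDeg ends w Z - canDeg ends w (Z \ Y) := by linarith
  have hlo : -((cut ends Y : ℤ) * canDeg ends w Finset.univ) ≤
      2 * (canDeg ends w Finset.univ * (∑ v ∈ Y, d v + ∑ e, tau ends Z Y e) -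
      (∑ v : V, d v) * canDeg ends w Y) := by
    rw [hdY', hcY']; nlinarith [PK2, u3, l1, hZ]
  obtain ⟨x, hx⟩ : ∃ x : ℤ, x = canDeg ends w Finset.univ *
      (∑ v ∈ Y, d v + ∑ e, tau ends Z Y e) - (∑ v : V, d v) * canDeg ends w Y := ⟨_, rfl⟩
  rw [← hx] at hup hlo ⊢
  rcases abs_cases x with ⟨h, _⟩ | ⟨h, _⟩ <;> rw [h] <;> linarith

end Groth.Agent.Helper7.BI
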