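import Mathlib
import Groth.Agent.Lib.Helper7.BI3

/-! Level sets of a twisting function between two multidegrees satisfying the basic inequality
(helper7). -/

set_option autoImplicit false
universe u

namespace Groth.Agent.Helper7.BI

open LabGraph

variable {V E : Type u} [Fintype V] [Fintype E] [DecidableEq V] [DecidableEq E]
variable (ends : E → V × V)

lemma pe_level (t a b : ℕ) :
    ((if t ≤ a then (b:ℤ) - a else 0) + (if t ≤ b then (a:ℤ) - b else 0)) ≤
      -(if (t ≤ a ∧ ¬ t ≤ b) ∨ (¬ t ≤ a ∧ t ≤ b) then (1:ℤ) else 0) := by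
  split_ifs <;> omega

def Lt (h : V → ℕ) (t : ℕ) (e : E) : ℤ :=
  (if t ≤ h (ends e).1 then (h (ends e).2 : ℤ) - h (ends e).1 else 0) +
    (if t ≤ h (ends e).2 then (h (ends e).1 : ℤ) - h (ends e).2 else 0)

def Rt (h : V → ℕ) (t : ℕ) (e : E) : ℤ :=
  if (t ≤ h (ends e).1 ∧ ¬ t ≤ h (ends e).2) ∨ (¬ t ≤ h (ends e).1 ∧ t ≤ h (ends e).2)
    then 1 else 0

lemma Lt_le (h : V → ℕ) (t : ℕ) (e : E) : Lt ends h t e ≤ - Rt ends h t e := by
  unfold Lt Rt; exact pe_level t _ _

theorem level_eq (w : V → ℕ) (hK : 0 < canDeg ends w Finset.univ) (d d' : V → ℤ)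
    (hD : ∑ v, d v = ∑ v, d' v) (hBI : SatisfiesBI ends w d) (hBI' : SatisfiesBI ends w d')
    (h : V → ℕ) (hdd : ∀ v, d v - d' v = twist ends (fun u => (h u : ℤ)) v) (t : ℕ) (e : E) :
    Lt ends h t e = - Rt ends h t e := by
  classical
  obtain ⟨Y, hY⟩ : ∃ Y : Finset V, Y = Finset.univ.filter (fun v => t ≤ h v) := ⟨_, rfl⟩
  have e1 : ∑ v ∈ Y, twist ends (fun u => (h u : ℤ)) v = ∑ e : E, Lt ends h t e := by
    rw [sum_twist_on]
    refine Finset.sum_congr rfl fun e _ => ?_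
    simp only [Lt, hY, Finset.mem_filter, Finset.mem_univ, true_and]
  have e2 : (cut ends Y : ℤ) = ∑ e : E, Rt ends h t e := by
    rw [cut_eqZ]
    refine Finset.sum_congr rfl fun e _ => ?_
    simp only [Rt, hY, Finset.mem_filter, Finset.mem_univ, true_and]
  have b1 := hBI Y
  have b1' := neg_abs_le (canDeg ends w Finset.univ * (∑ v ∈ Y, d v) -
    (∑ v : V, d v) * canDeg ends w Y)
  have b2 := hBI' Y
  have b2' := le_abs_self (canDeg ends w Finset.univ * (∑ v ∈ Y, d' v) -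
    (∑ v : V, d' v) * canDeg ends w Y)
  rw [← hD] at b2 b2'
  have hge : -(cut ends Y : ℤ) ≤ ∑ v ∈ Y, (d v - d' v) := by
    rw [Finset.sum_sub_distrib]
    by_contra hcon
    push Not at hcon
    have h1 : (1:ℤ) ≤ ∑ v ∈ Y, d' v - ∑ v ∈ Y, d v - (cut ends Y : ℤ) := by linarith
    have h2 := mul_le_mul_of_nonneg_left h1 hK.le
    nlinarith
  rw [Finset.sum_congr rfl (fun v _ => hdd v), e1, e2, ← Finset.sum_neg_distrib] at hge
  have hnn : ∀ e' ∈ (Finset.univ : Finset E), 0 ≤ (-(Rt ends h t e') - Lt ends h t e') :=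
    fun e' _ => sub_nonneg.2 (Lt_le ends h t e')
  have hz : ∑ e', (-(Rt ends h t e') - Lt ends h t e') = 0 :=
    le_antisymm (by rw [Finset.sum_sub_distrib]; linarith) (Finset.sum_nonneg hnn)
  have := (Finset.sum_eq_zero_iff_of_nonneg hnn).1 hz e (Finset.mem_univ e)
  linarith

lemma lip_of_level (h : V → ℕ) (e : E) (H : ∀ t, Lt ends h t e = - Rt ends h t e) :
    h (ends e).1 ≤ h (ends e).2 + 1 ∧ h (ends e).2 ≤ h (ends e).1 + 1 := by
  constructor
  · have := H (h (ends e).1)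
    unfold Lt Rt at this
    split_ifs at this <;> omega
  · have := H (h (ends e).2)
    unfold Lt Rt at this
    split_ifs at this <;> omega

end Groth.Agent.Helper7.BI
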