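import Mathlib
import Groth.Prelude.Def_W4c1nerontoraddGraph

/-! Labelled multigraphs whose labels are constant on circuits: splitting a vertex function
according to edge labels (helper7). -/

set_option autoImplicit false
universe u v

namespace Groth.Agent.Helper7.LabG

open LabGraph

variable {V E : Type u} [Fintype V] [Fintype E] [DecidableEq V] [DecidableEq E]
variable (ends : E → V × V)

lemma even_sum' {ι : Type*} (s : Finset ι) (f : ι → ℕ) (h : ∀ a ∈ s, Even (f a)) :
    Even (∑ a ∈ s, f a) :=
  Finset.sum_induction f Even (fun _ _ ha hb => ha.add hb) Even.zero h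

/-- A minimal even set containing `e₀` is a circuit. -/
lemma exists_circuit {D : Finset E} (hD : ∀ v, Even (endCount ends D v)) {e₀ : E} (he₀ : e₀ ∈ D) :
    ∃ C : Finset E, C ⊆ D ∧ e₀ ∈ C ∧ IsCircuit ends C := by
  classical
  let 𝒟 : Finset (Finset E) :=
    D.powerset.filter (fun C => e₀ ∈ C ∧ ∀ v, Even (endCount ends C v))
  have hne : 𝒟.Nonempty :=
    ⟨D, Finset.mem_filter.2 ⟨Finset.mem_powerset.2 (Finset.Subset.refl D), he₀, hD⟩⟩
  obtain ⟨C, hC, hmin⟩ := Finset.exists_min_image 𝒟 Finset.card hne
  have hC' := Finset.mem_filter.1 hC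
  have hCD : C ⊆ D := Finset.mem_powerset.1 hC'.1
  refine ⟨C, hCD, hC'.2.1, ⟨e₀, hC'.2.1⟩, hC'.2.2, ?_⟩
  intro C' hss hne'
  by_contra hcon
  push Not at hcon
  by_cases h0 : e₀ ∈ C'
  · have hmem : C' ∈ 𝒟 :=
      Finset.mem_filter.2 ⟨Finset.mem_powerset.2 (hss.subset.trans hCD), h0, hcon⟩
    have h1 := hmin C' hmem
    have h2 := Finset.card_lt_card hss
    omega
  · have hsub : C' ⊆ C := hss.subset
    have hev : ∀ v, Even (endCount ends (C \ C') v) := by
      intro v
      have hsum : endCount ends (C \ C') v + endCount ends C' v = endCount ends C v := by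
        simp only [endCount]
        exact Finset.sum_sdiff hsub
      have h1 := hC'.2.2 v
      have h2 := hcon v
      rw [← hsum] at h1
      exact (Nat.even_add.1 h1).2 h2
    have hmem : C \ C' ∈ 𝒟 :=
      Finset.mem_filter.2 ⟨Finset.mem_powerset.2 (Finset.sdiff_subset.trans hCD),
        Finset.mem_sdiff.2 ⟨hC'.2.1, h0⟩, hev⟩
    have h3 := hmin _ hmem
    have h4 : (C \ C').card < C.card := Finset.card_lt_card (Finset.sdiff_ssubset hsub hne')
    omega

/-- A function constant along all edges of an even set but one is constant along that one too. -/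
lemma level_parity {α : Type*} {C : Finset E} (hC : ∀ v, Even (endCount ends C v)) {e₀ : E}
    (he₀ : e₀ ∈ C) (h : V → α) (hh : ∀ e ∈ C, e ≠ e₀ → h (ends e).1 = h (ends e).2) :
    h (ends e₀).1 = h (ends e₀).2 := by
  classical
  by_contra hne
  let W : Finset V := Finset.univ.filter (fun v => h v = h (ends e₀).1)
  have hW : ∀ v, v ∈ W ↔ h v = h (ends e₀).1 := fun v => by simp [W]
  have h1 : Even (∑ v ∈ W, endCount ends C v) := even_sum' _ _ (fun v _ => hC v)
  have h2 : ∑ v ∈ W, endCount ends C v = ∑ e ∈ C,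
      ((if (ends e).1 ∈ W then 1 else 0) + (if (ends e).2 ∈ W then 1 else 0)) := by
    simp only [endCount]
    rw [Finset.sum_comm]
    refine Finset.sum_congr rfl (fun e _ => ?_)
    rw [Finset.sum_add_distrib, Finset.sum_ite_eq, Finset.sum_ite_eq]
  rw [h2, ← Finset.add_sum_erase C _ he₀] at h1
  have h3 : Even (∑ e ∈ C.erase e₀,
      ((if (ends e).1 ∈ W then 1 else 0) + (if (ends e).2 ∈ W then 1 else 0))) := by
    refine even_sum' _ _ (fun e he => ?_)
    have hne' := Finset.ne_of_mem_erase he
    have hmem := Finset.mem_of_mem_erase he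
    have heq := hh e hmem hne'
    have hiff : (ends e).1 ∈ W ↔ (ends e).2 ∈ W := by rw [hW, hW, heq]
    by_cases hw : (ends e).1 ∈ W
    · rw [if_pos hw, if_pos (hiff.1 hw)]; decide
    · rw [if_neg hw, if_neg (fun h' => hw (hiff.2 h'))]; decide
  have h4 : (ends e₀).1 ∈ W := (hW _).2 rfl
  have h5 : (ends e₀).2 ∉ W := fun h' => hne ((hW _).1 h').symm
  rw [if_pos h4, if_neg h5] at h1
  have h6 := (Nat.even_add.1 h1).2 h3
  exact absurd h6 (by decide)

/-- one step along an edge of `S` -/
def step (S : Finset E) (v w : V) : Prop := ∃ e ∈ S, ends e = (v, w) ∨ ends e = (w, v)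

lemma exists_odd_set (S : Finset E) {u w : V}
    (h : Relation.ReflTransGen (step ends S) u w) :
    ∃ D : Finset E, D ⊆ S ∧ ∀ v,
      (endCount ends D v + (if u = v then 1 else 0) + (if w = v then 1 else 0)) % 2 = 0 := by
  classical
  induction h with
  | refl =>
    refine ⟨∅, Finset.empty_subset _, fun v => ?_⟩
    simp only [endCount, Finset.sum_empty]
    split_ifs <;> omega
  | tail hab hbc ih =>
    rename_i b c
    obtain ⟨D, hDS, hD⟩ := ih
    obtain ⟨e, heS, hends⟩ := hbc
    have ht : ∀ v, ((if (ends e).1 = v then 1 else 0) + (if (ends e).2 = v then 1 else 0) : ℕ) =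
        (if b = v then 1 else 0) + (if c = v then 1 else 0) := by
      intro v
      rcases hends with h | h
      · rw [h]
      · rw [h]; exact add_comm _ _
    by_cases heD : e ∈ D
    · refine ⟨D.erase e, (Finset.erase_subset _ _).trans hDS, fun v => ?_⟩
      have h1 : ((if (ends e).1 = v then 1 else 0) + (if (ends e).2 = v then 1 else 0)) +
          endCount ends (D.erase e) v = endCount ends D v := by
        simp only [endCount]
        exact Finset.add_sum_erase D (fun e => (if (ends e).1 = v then 1 else 0) + (if (ends e).2 = v then 1 else 0)) heD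
      have h2 := hD v
      rw [ht v] at h1
      split_ifs at h1 h2 ⊢ <;> omega
    · refine ⟨insert e D, Finset.insert_subset heS hDS, fun v => ?_⟩
      have h1 : endCount ends (insert e D) v =
          ((if (ends e).1 = v then 1 else 0) + (if (ends e).2 = v then 1 else 0)) +
            endCount ends D v := by
        simp only [endCount]
        exact Finset.sum_insert heD
      have h2 := hD v
      rw [ht v] at h1
      split_ifs at h1 h2 ⊢ <;> omega

lemma dichotomy (S : Finset E) (e₀ : E) (he₀ : e₀ ∉ S) :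
    (∃ D : Finset E, D ⊆ insert e₀ S ∧ e₀ ∈ D ∧ ∀ v, Even (endCount ends D v)) ∨
    (∃ W : Set V, (ends e₀).2 ∈ W ∧ (ends e₀).1 ∉ W ∧
      ∀ e ∈ S, ((ends e).1 ∈ W ↔ (ends e).2 ∈ W)) := by
  classical
  by_cases hR : Relation.ReflTransGen (step ends S) (ends e₀).2 (ends e₀).1
  · left
    obtain ⟨D, hDS, hD⟩ := exists_odd_set ends S hR
    have he₀D : e₀ ∉ D := fun h => he₀ (hDS h)
    refine ⟨insert e₀ D, Finset.insert_subset_insert _ hDS, Finset.mem_insert_self _ _,
      fun v => ?_⟩
    have h1 : endCount ends (insert e₀ D) v =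
        ((if (ends e₀).1 = v then 1 else 0) + (if (ends e₀).2 = v then 1 else 0)) +
          endCount ends D v := by
      simp only [endCount]
      exact Finset.sum_insert he₀D
    have h2 := hD v
    rw [Nat.even_iff, h1]
    split_ifs at h2 ⊢ <;> omega
  · right
    refine ⟨{v | Relation.ReflTransGen (step ends S) (ends e₀).2 v},
      Relation.ReflTransGen.refl, hR, fun e he => ?_⟩
    constructor
    · intro h
      exact Relation.ReflTransGen.tail h ⟨e, he, Or.inl rfl⟩
    · intro h
      exact Relation.ReflTransGen.tail h ⟨e, he, Or.inr rfl⟩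

variable {L : Type v} (lab : E → L)

theorem exists_potential
    (hcirc : ∀ C : Finset E, IsCircuit ends C → ∀ e ∈ C, ∀ e' ∈ C, lab e = lab e')
    (f : V → ℤ) (ℓ : L) (S : Finset E) :
    ∃ g : V → ℤ, ∀ e ∈ S,
      (lab e = ℓ → g (ends e).1 - g (ends e).2 = f (ends e).1 - f (ends e).2) ∧
      (lab e ≠ ℓ → g (ends e).1 = g (ends e).2) := by
  classical
  induction S using Finset.induction_on with
  | empty => exact ⟨0, fun e he => absurd he (Finset.notMem_empty e)⟩
  | insert e₀ S he₀ ih =>
    obtain ⟨g, hg⟩ := ih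
    rcases dichotomy ends S e₀ he₀ with ⟨D, hDS, he₀D, hDev⟩ | ⟨W, hW2, hW1, hWS⟩
    · obtain ⟨C, hCD, he₀C, hC⟩ := exists_circuit ends hDev he₀D
      have hlab : ∀ e ∈ C, lab e = lab e₀ := fun e he => hcirc C hC e he e₀ he₀C
      have hCS : ∀ e ∈ C, e ≠ e₀ → e ∈ S := fun e he hne =>
        (Finset.mem_insert.1 (hDS (hCD he))).resolve_left hne
      refine ⟨g, fun e he => ?_⟩
      rcases Finset.mem_insert.1 he with h0 | heS
      · subst h0
        constructor
        · intro hl
          have h2 : g (ends e).1 - f (ends e).1 = g (ends e).2 - f (ends e).2 :=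
            level_parity ends hC.2.1 he₀C (fun v => g v - f v) (fun e' he' hne => by
              have h1 := (hg e' (hCS e' he' hne)).1 ((hlab e' he').trans hl)
              show g _ - f _ = g _ - f _
              linarith)
          linarith
        · intro hl
          exact level_parity ends hC.2.1 he₀C g (fun e' he' hne =>
            (hg e' (hCS e' he' hne)).2 (by rw [hlab e' he']; exact hl))
      · exact hg e heS
    · have key : ∀ c : ℤ, ∃ g' : V → ℤ,
          (g' (ends e₀).1 - g' (ends e₀).2 = g (ends e₀).1 - g (ends e₀).2 - c) ∧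
          ∀ e ∈ S, g' (ends e).1 - g' (ends e).2 = g (ends e).1 - g (ends e).2 := by
        intro c
        refine ⟨fun v => g v + (if v ∈ W then c else 0), ?_, fun e he => ?_⟩
        · show (g _ + (if (ends e₀).1 ∈ W then c else 0)) -
            (g _ + (if (ends e₀).2 ∈ W then c else 0)) = _
          rw [if_neg hW1, if_pos hW2]; ring
        · show (g _ + (if (ends e).1 ∈ W then c else 0)) -
            (g _ + (if (ends e).2 ∈ W then c else 0)) = _
          have hiff := hWS e he
          by_cases hw : (ends e).1 ∈ W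
          · rw [if_pos hw, if_pos (hiff.1 hw)]; ring
          · rw [if_neg hw, if_neg (fun h' => hw (hiff.2 h'))]; ring
      by_cases hl : lab e₀ = ℓ
      · obtain ⟨g', hg'0, hg'S⟩ :=
          key (g (ends e₀).1 - g (ends e₀).2 - (f (ends e₀).1 - f (ends e₀).2))
        refine ⟨g', fun e he => ?_⟩
        rcases Finset.mem_insert.1 he with h0 | heS
        · subst h0
          exact ⟨fun _ => by linarith, fun h => absurd hl h⟩
        · have h1 := hg'S e heS
          exact ⟨fun h => by have := (hg e heS).1 h; linarith,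
            fun h => by have := (hg e heS).2 h; linarith⟩
      · obtain ⟨g', hg'0, hg'S⟩ := key (g (ends e₀).1 - g (ends e₀).2)
        refine ⟨g', fun e he => ?_⟩
        rcases Finset.mem_insert.1 he with h0 | heS
        · subst h0
          exact ⟨fun h => absurd h hl, fun _ => by linarith⟩
        · have h1 := hg'S e heS
          exact ⟨fun h => by have := (hg e heS).1 h; linarith,
            fun h => by have := (hg e heS).2 h; linarith⟩

theorem decomp (n : E → ℕ) (hconn : Connected ends)
    (hcirc : ∀ C : Finset E, IsCircuit ends C → ∀ e ∈ C, ∀ e' ∈ C, lab e = lab e')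
    (f : V → ℤ) (hf : IsCartier ends n f) (v₀ : V) :
    ∃ (T : Finset L) (G : L → V → ℤ),
      (∀ ℓ, IsCartier ends n (G ℓ) ∧
        (∃ B : Finset E, (∀ e ∈ B, ∀ e' ∈ B, lab e = lab e') ∧
          ∀ e, e ∉ B → G ℓ (ends e).1 = G ℓ (ends e).2) ∧ G ℓ v₀ = 0) ∧
      ∀ v, f v = ∑ ℓ ∈ T, G ℓ v + f v₀ := by
  classical
  choose g hg using (fun ℓ => exists_potential ends lab hcirc f ℓ Finset.univ)
  refine ⟨Finset.univ.image lab, fun ℓ v => g ℓ v - g ℓ v₀, fun ℓ => ⟨?_, ?_, ?_⟩, ?_⟩
  · intro e
    show (n e : ℤ) ∣ (g ℓ (ends e).1 - g ℓ v₀) - (g ℓ (ends e).2 - g ℓ v₀)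
    by_cases hl : lab e = ℓ
    · have h1 := (hg ℓ e (Finset.mem_univ e)).1 hl
      have h2 : (g ℓ (ends e).1 - g ℓ v₀) - (g ℓ (ends e).2 - g ℓ v₀) =
          f (ends e).1 - f (ends e).2 := by linarith
      rw [h2]; exact hf e
    · have h1 := (hg ℓ e (Finset.mem_univ e)).2 hl
      have h2 : (g ℓ (ends e).1 - g ℓ v₀) - (g ℓ (ends e).2 - g ℓ v₀) = 0 := by
        rw [h1]; ring
      rw [h2]; exact dvd_zero _
  · refine ⟨Finset.univ.filter (fun e => lab e = ℓ), ?_, ?_⟩
    · intro e he e' he'
      rw [(Finset.mem_filter.1 he).2, (Finset.mem_filter.1 he').2]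
    · intro e he
      have hl : lab e ≠ ℓ := fun h => he (Finset.mem_filter.2 ⟨Finset.mem_univ _, h⟩)
      show g ℓ _ - g ℓ v₀ = g ℓ _ - g ℓ v₀
      rw [(hg ℓ e (Finset.mem_univ e)).2 hl]
  · show g ℓ v₀ - g ℓ v₀ = 0
    exact sub_self _
  · obtain ⟨F, hF⟩ : ∃ F : V → ℤ, ∀ v, F v = ∑ ℓ ∈ Finset.univ.image lab, (g ℓ v - g ℓ v₀) :=
      ⟨_, fun v => rfl⟩
    have hedge : ∀ e, F (ends e).1 - F (ends e).2 = f (ends e).1 - f (ends e).2 := by
      intro e
      rw [hF, hF, ← Finset.sum_sub_distrib, Finset.sum_eq_single (lab e)]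
      · have h1 := (hg (lab e) e (Finset.mem_univ e)).1 rfl
        linarith
      · intro ℓ _ hne
        have h1 := (hg ℓ e (Finset.mem_univ e)).2 (Ne.symm hne)
        rw [h1]; ring
      · intro h
        exact absurd (Finset.mem_image_of_mem lab (Finset.mem_univ e)) h
    have hconst : ∀ v w, Relation.ReflTransGen (Adj ends) v w → f w - F w = f v - F v := by
      intro v w h
      induction h with
      | refl => rfl
      | tail hab hbc ih =>
        rename_i b c
        obtain ⟨e, he | he⟩ := hbc
        · have h1 := hedge e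
          rw [he] at h1
          dsimp only at h1
          linarith
        · have h1 := hedge e
          rw [he] at h1
          dsimp only at h1
          linarith
    intro v
    have h1 := hconst v₀ v (hconn.2 v₀ v)
    have h2 : F v₀ = 0 := by rw [hF]; simp
    rw [← hF v]
    linarith

end Groth.Agent.Helper7.LabG
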