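import Mathlib
import Groth.Prelude.Def_W4c2conddiscmodels
import Groth.Agent.Lib.Helper7.LabG

/-! Graph-theoretic lemmas for the weighted matrix-tree theorem (helper7): incidence vectors,
connectedness, spanning trees have `#V - 1` edges, degrees in a tree. -/

set_option autoImplicit false
universe u

namespace Groth.Agent.Helper7.MatTree

open LabGraph Groth.Agent.Helper7.LabG Finset

variable {V E : Type u} [Fintype V] [Fintype E] [DecidableEq V] [DecidableEq E]
variable (ends : E → V × V)

/-- connectedness of the subgraph with edge set `T` -/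
def SConn (T : Finset E) : Prop := ∀ x y, Relation.ReflTransGen (step ends T) x y

lemma step_symm (S : Finset E) : Symmetric (step ends S) := by
  rintro a b ⟨e, he, h⟩
  exact ⟨e, he, h.symm⟩

lemma rtg_symm (S : Finset E) {a b : V}
    (h : Relation.ReflTransGen (step ends S) a b) : Relation.ReflTransGen (step ends S) b a := by
  induction h with
  | refl => exact Relation.ReflTransGen.refl
  | tail _ hbc ih => exact Relation.ReflTransGen.head (step_symm ends S hbc) ih

lemma erase_conn {S C : Finset E} (hCS : C ⊆ S)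
    (hC : ∀ v, Even (LabGraph.endCount ends C v)) {e₁ : E} (he₁ : e₁ ∈ C)
    (hS : SConn ends S) : SConn ends (S.erase e₁) := by
  have h12 : Relation.ReflTransGen (step ends (S.erase e₁)) (ends e₁).1 (ends e₁).2 := by
    have key : (Relation.ReflTransGen (step ends (S.erase e₁)) (ends e₁).1 (ends e₁).1) =
        (Relation.ReflTransGen (step ends (S.erase e₁)) (ends e₁).1 (ends e₁).2) := by
      refine level_parity ends hC he₁
        (fun w => Relation.ReflTransGen (step ends (S.erase e₁)) (ends e₁).1 w) ?_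
      intro e' he' hne
      have hmem : e' ∈ S.erase e₁ := Finset.mem_erase.2 ⟨hne, hCS he'⟩
      change Relation.ReflTransGen (step ends (S.erase e₁)) (ends e₁).1 (ends e').1 =
        Relation.ReflTransGen (step ends (S.erase e₁)) (ends e₁).1 (ends e').2
      apply propext
      constructor
      · intro h; exact h.tail ⟨e', hmem, Or.inl rfl⟩
      · intro h; exact h.tail ⟨e', hmem, Or.inr rfl⟩
    exact key.mp Relation.ReflTransGen.refl
  have h21 : Relation.ReflTransGen (step ends (S.erase e₁)) (ends e₁).2 (ends e₁).1 :=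
    rtg_symm ends _ h12
  intro x y
  have hxy := hS x y
  induction hxy with
  | refl => exact Relation.ReflTransGen.refl
  | tail _ hbc ih =>
    refine ih.trans ?_
    obtain ⟨e', he', h⟩ := hbc
    by_cases hee : e' = e₁
    · rw [hee] at h
      rcases h with h | h
      · simpa [h] using h12
      · simpa [h] using h21
    · exact Relation.ReflTransGen.single ⟨e', Finset.mem_erase.2 ⟨hee, he'⟩, h⟩

lemma exists_sep_of_not_sconn {T : Finset E} (h : ¬ SConn ends T) :
    ∃ W : Set V, (∃ x, x ∈ W) ∧ (∃ y, y ∉ W) ∧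
      ∀ e ∈ T, ((ends e).1 ∈ W ↔ (ends e).2 ∈ W) := by
  unfold SConn at h
  push Not at h
  obtain ⟨x, y, hxy⟩ := h
  refine ⟨{z | Relation.ReflTransGen (step ends T) x z}, ⟨x, Relation.ReflTransGen.refl⟩,
    ⟨y, hxy⟩, fun e he => ?_⟩
  simp only [Set.mem_ofPred_eq]
  constructor
  · intro h1; exact h1.tail ⟨e, he, Or.inl rfl⟩
  · intro h2; exact h2.tail ⟨e, he, Or.inr rfl⟩

/-- incidence vector of an edge -/
def bvec (R : Type*) [Ring R] (e : E) : V → R :=
  Pi.single (ends e).2 1 - Pi.single (ends e).1 1

lemma bvec_apply (R : Type*) [Ring R] (e : E) (v : V) :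
    bvec ends R e v = (if v = (ends e).2 then 1 else 0) - (if v = (ends e).1 then 1 else 0) := by
  simp [bvec, Pi.single_apply]

lemma sum_bvec (R : Type*) [Ring R] (e : E) : ∑ v, bvec ends R e v = 0 := by
  simp [bvec_apply, Finset.sum_sub_distrib]

lemma sum_mul_bvec {R : Type*} [CommRing R] (χ : V → R) (e : E) :
    ∑ v, χ v * bvec ends R e v = χ (ends e).2 - χ (ends e).1 := by
  simp [bvec_apply, mul_sub, Finset.sum_sub_distrib]

lemma conn_coeff (R : Type*) [CommRing R] (T : Finset E) {a b : V}
    (h : Relation.ReflTransGen (step ends T) a b) :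
    ∃ cf : E → R, (∀ e, e ∉ T → cf e = 0) ∧
      (Pi.single b 1 - Pi.single a 1 : V → R) = ∑ e, cf e • bvec ends R e := by
  induction h with
  | refl => exact ⟨0, fun _ _ => rfl, by simp⟩
  | tail hab hbc ih =>
    rename_i b c
    obtain ⟨c₀, hc₀, hsum⟩ := ih
    obtain ⟨e, he, hends⟩ := hbc
    have key : ∃ s : R, (Pi.single c 1 - Pi.single b 1 : V → R) = s • bvec ends R e := by
      rcases hends with h | h
      · exact ⟨1, by simp [bvec, h]⟩
      · exact ⟨-1, by simp [bvec, h]⟩
    obtain ⟨s, hs⟩ := key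
    refine ⟨c₀ + Pi.single e s, ?_, ?_⟩
    · intro e' he'
      have hne : e' ≠ e := fun h => he' (h ▸ he)
      simp [hc₀ e' he', Pi.single_apply, hne]
    · have h1 : (Pi.single c 1 - Pi.single a 1 : V → R) =
          (Pi.single b 1 - Pi.single a 1) + (Pi.single c 1 - Pi.single b 1) := by abel
      have h2 : ∑ e', (Pi.single e s : E → R) e' • bvec ends R e' = s • bvec ends R e := by
        rw [Finset.sum_eq_single e]
        · simp
        · intro e' _ hne
          simp [Pi.single_apply, hne]
        · intro h; exact absurd (Finset.mem_univ _) h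
      rw [h1, hs, hsum, ← h2, ← Finset.sum_add_distrib]
      refine Finset.sum_congr rfl fun e' _ => ?_
      rw [Pi.add_apply, add_smul]

lemma coeff_of_sum_zero (R : Type*) [CommRing R] {T : Finset E} (hT : SConn ends T) (x : V → R)
    (hx : ∑ v, x v = 0) :
    ∃ cf : E → R, (∀ e, e ∉ T → cf e = 0) ∧ x = ∑ e, cf e • bvec ends R e := by
  by_cases hV : IsEmpty V
  · exact ⟨0, fun _ _ => rfl, by funext v; exact (hV.false v).elim⟩
  · rw [not_isEmpty_iff] at hV
    obtain ⟨v₀⟩ := hV
    choose cf hcf0 hcf using fun v => conn_coeff ends R T (hT v₀ v)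
    refine ⟨fun e => ∑ v, x v * cf v e, fun e he => ?_, ?_⟩
    · simp [hcf0 _ e he]
    · have hx' : x = ∑ v, x v • (Pi.single v (1:R) - Pi.single v₀ 1 : V → R) := by
        funext w
        rw [Finset.sum_apply]
        simp only [Pi.smul_apply, Pi.sub_apply, Pi.single_apply, smul_eq_mul, mul_sub, mul_ite,
          mul_one, mul_zero, Finset.sum_sub_distrib, Finset.sum_ite_eq, Finset.mem_univ, if_true]
        by_cases hw : w = v₀
        · simp [hw, hx]
        · simp [hw]
      conv_lhs => rw [hx']
      simp only [hcf, Finset.smul_sum, Finset.sum_smul, smul_smul]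
      rw [Finset.sum_comm]

lemma finrank_ker_sum [Nonempty V] :
    Module.finrank ℚ (LinearMap.ker (∑ v : V, (LinearMap.proj v : (V → ℚ) →ₗ[ℚ] ℚ))) + 1 =
      Fintype.card V := by
  set φ : (V → ℚ) →ₗ[ℚ] ℚ := ∑ v, LinearMap.proj v with hφdef
  have hφ : ∀ x, φ x = ∑ v, x v := fun x => by simp [φ]
  have hsurj : LinearMap.range φ = ⊤ := by
    rw [LinearMap.range_eq_top]
    intro c
    obtain ⟨v₀⟩ := ‹Nonempty V›
    exact ⟨Pi.single v₀ c, by rw [hφ]; simp⟩
  have h := LinearMap.finrank_range_add_finrank_ker φ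
  rw [hsurj, finrank_top, Module.finrank_self, Module.finrank_fintype_fun_eq_card] at h
  omega

lemma card_ge_of_sconn [Nonempty V] {T : Finset E} (hT : SConn ends T) :
    Fintype.card V ≤ T.card + 1 := by
  classical
  have hker : LinearMap.ker (∑ v : V, (LinearMap.proj v : (V → ℚ) →ₗ[ℚ] ℚ)) ≤
      Submodule.span ℚ ((T.image (bvec ends ℚ) : Finset (V → ℚ)) : Set (V → ℚ)) := by
    intro x hx
    rw [LinearMap.mem_ker, LinearMap.sum_apply] at hx
    simp only [LinearMap.proj_apply] at hx
    obtain ⟨cf, hcf0, rfl⟩ := coeff_of_sum_zero ends ℚ hT x hx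
    refine Submodule.sum_mem _ fun e _ => ?_
    by_cases he : e ∈ T
    · exact Submodule.smul_mem _ _ (Submodule.subset_span
        (Finset.mem_coe.2 (Finset.mem_image_of_mem _ he)))
    · rw [hcf0 e he, zero_smul]; exact Submodule.zero_mem _
  have h1 := Submodule.finrank_mono hker
  have h2 : Module.finrank ℚ (Submodule.span ℚ
      ((T.image (bvec ends ℚ) : Finset (V → ℚ)) : Set (V → ℚ))) ≤ T.card :=
    (finrank_span_finset_le_card _).trans Finset.card_image_le
  have h3 := finrank_ker_sum (V := V)
  omega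

lemma card_le_of_forest [Nonempty V] {T : Finset E}
    (hF : ∀ C : Finset E, C ⊆ T → ¬ IsCircuit ends C) :
    T.card + 1 ≤ Fintype.card V := by
  classical
  have hli : LinearIndependent ℚ (fun e : ↥T => bvec ends ℚ e.1) := by
    rw [Fintype.linearIndependent_iff]
    intro g hg e₀
    rcases dichotomy ends (T.erase e₀.1) e₀.1 (Finset.notMem_erase _ _) with
      ⟨D, hD, he₀D, hev⟩ | ⟨W, h2W, h1W, hW⟩
    · exfalso
      rw [Finset.insert_erase e₀.2] at hD
      obtain ⟨C, hCD, -, hC⟩ := exists_circuit ends hev he₀D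
      exact hF C (hCD.trans hD) hC
    · let χ : V → ℚ := fun v => if v ∈ W then 1 else 0
      have h0 : ∑ v, χ v * (∑ e : ↥T, g e • bvec ends ℚ e.1) v = 0 := by rw [hg]; simp
      have h1 : ∑ v, χ v * (∑ e : ↥T, g e • bvec ends ℚ e.1) v =
          ∑ e : ↥T, g e * (χ (ends e.1).2 - χ (ends e.1).1) := by
        simp only [Finset.sum_apply, Pi.smul_apply, smul_eq_mul, Finset.mul_sum]
        rw [Finset.sum_comm]
        refine Finset.sum_congr rfl fun e _ => ?_
        rw [← sum_mul_bvec ends χ e.1, Finset.mul_sum]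
        refine Finset.sum_congr rfl fun v _ => by ring
      have h2 : ∑ e : ↥T, g e * (χ (ends e.1).2 - χ (ends e.1).1) = g e₀ := by
        rw [Finset.sum_eq_single e₀]
        · simp [χ, h2W, h1W]
        · intro e _ hne
          have hmem : e.1 ∈ T.erase e₀.1 :=
            Finset.mem_erase.2 ⟨fun h => hne (Subtype.ext h), e.2⟩
          have hiff := hW e.1 hmem
          have : χ (ends e.1).2 = χ (ends e.1).1 := by
            simp only [χ]
            by_cases h : (ends e.1).1 ∈ W
            · rw [if_pos h, if_pos (hiff.1 h)]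
            · rw [if_neg h, if_neg (fun h' => h (hiff.2 h'))]
          rw [this, sub_self, mul_zero]
        · intro h; exact absurd (Finset.mem_univ _) h
      rw [← h2, ← h1, h0]
  have h1 := finrank_span_eq_card hli
  rw [Fintype.card_coe] at h1
  have hle : Submodule.span ℚ (Set.range fun e : ↥T => bvec ends ℚ e.1) ≤
      LinearMap.ker (∑ v : V, (LinearMap.proj v : (V → ℚ) →ₗ[ℚ] ℚ)) := by
    rw [Submodule.span_le]
    rintro _ ⟨e, rfl⟩
    rw [SetLike.mem_coe, LinearMap.mem_ker, LinearMap.sum_apply]
    simpa using sum_bvec ends ℚ e.1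
  have h2 := Submodule.finrank_mono hle
  have h3 := finrank_ker_sum (V := V)
  omega

lemma endCount_subtype (T : Finset E) (D : Finset ↥T) (v : V) :
    endCount (fun e : ↥T => ends e.1) D v =
      endCount ends (D.map (Function.Embedding.subtype _)) v :=
  (Finset.sum_map D (Function.Embedding.subtype _)
    (fun e => (if (ends e).1 = v then 1 else 0) + (if (ends e).2 = v then 1 else 0))).symm

lemma isCircuit_subtype {T C : Finset E} (hCT : C ⊆ T) (hC : IsCircuit ends C) :
    IsCircuit (fun e : ↥T => ends e.1) (C.subtype (· ∈ T)) := by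
  have hmap : (C.subtype (· ∈ T)).map (Function.Embedding.subtype _) = C :=
    Finset.subtype_map_of_mem hCT
  refine ⟨?_, fun v => ?_, fun D hD hDne => ?_⟩
  · rw [← Finset.map_nonempty (f := Function.Embedding.subtype _), hmap]; exact hC.1
  · rw [endCount_subtype, hmap]; exact hC.2.1 v
  · have h1 : D.map (Function.Embedding.subtype _) ⊂ C := by
      rw [← hmap]; exact Finset.map_ssubset_map.2 hD
    obtain ⟨v, hv⟩ := hC.2.2 _ h1 (Finset.map_nonempty.2 hDne)
    exact ⟨v, by rw [endCount_subtype]; exact hv⟩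

lemma sconn_of_connected {T : Finset E} (h : Connected (fun e : ↥T => ends e.1)) :
    SConn ends T :=
  fun x y => (h.2 x y).lift id (fun a b hab => by
    obtain ⟨e', he'⟩ := hab
    exact ⟨e'.1, e'.2, he'⟩)

lemma connected_of_sconn [Nonempty V] {T : Finset E} (h : SConn ends T) :
    Connected (fun e : ↥T => ends e.1) :=
  ⟨inferInstance, fun x y => (h x y).lift id (fun a b hab => by
    obtain ⟨e', he', h'⟩ := hab
    exact ⟨⟨e', he'⟩, h'⟩)⟩

lemma forest_of_tree {T : Finset E} (hT : IsSpanningTree ends T) :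
    ∀ C : Finset E, C ⊆ T → ¬ IsCircuit ends C :=
  fun _ hCT hC => hT.2 _ (isCircuit_subtype ends hCT hC)

theorem tree_iff [Nonempty V] (T : Finset E) :
    IsSpanningTree ends T ↔ SConn ends T ∧ T.card + 1 = Fintype.card V := by
  constructor
  · intro hT
    have hs := sconn_of_connected ends hT.1
    exact ⟨hs, le_antisymm (card_le_of_forest ends (forest_of_tree ends hT))
      (card_ge_of_sconn ends hs)⟩
  · rintro ⟨hs, hcard⟩
    refine ⟨connected_of_sconn ends hs, fun C' hC' => ?_⟩
    obtain ⟨⟨⟨e₁, he₁T⟩, he₁⟩, hev', -⟩ := hC'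
    have hsub : C'.map (Function.Embedding.subtype _) ⊆ T := by
      intro x hx
      obtain ⟨y, -, rfl⟩ := Finset.mem_map.1 hx
      exact y.2
    have hmem : e₁ ∈ C'.map (Function.Embedding.subtype _) :=
      Finset.mem_map.2 ⟨⟨e₁, he₁T⟩, he₁, rfl⟩
    have heven : ∀ w, Even (endCount ends (C'.map (Function.Embedding.subtype _)) w) :=
      fun w => by rw [← endCount_subtype]; exact hev' w
    have h1 := card_ge_of_sconn ends (erase_conn ends hsub heven hmem hs)
    have h4 := Finset.card_erase_lt_of_mem he₁T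
    omega

lemma no_loop {T : Finset E} (hF : ∀ C : Finset E, C ⊆ T → ¬ IsCircuit ends C) {e : E}
    (he : e ∈ T) : (ends e).1 ≠ (ends e).2 := by
  intro h
  have hev : ∀ v, Even (endCount ends {e} v) := by
    intro v
    simp only [endCount, Finset.sum_singleton, h]
    exact ⟨_, rfl⟩
  obtain ⟨C, hC1, -, hC⟩ := exists_circuit ends hev (Finset.mem_singleton_self e)
  exact hF C (hC1.trans (Finset.singleton_subset_iff.2 he)) hC

lemma no_parallel {T : Finset E} (hF : ∀ C : Finset E, C ⊆ T → ¬ IsCircuit ends C) {e e' : E}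
    (he : e ∈ T) (he' : e' ∈ T) {v w : V}
    (h : ends e = (v, w) ∨ ends e = (w, v)) (h' : ends e' = (v, w) ∨ ends e' = (w, v)) :
    e = e' := by
  by_contra hne
  have hpair : ∀ (f : E) (x : V), (ends f = (v, w) ∨ ends f = (w, v)) →
      ((if (ends f).1 = x then 1 else 0) + (if (ends f).2 = x then 1 else 0) : ℕ) =
        (if v = x then 1 else 0) + (if w = x then 1 else 0) := by
    intro f x hf
    rcases hf with hf | hf
    · rw [hf]
    · rw [hf]; exact add_comm _ _
  have hev : ∀ x, Even (endCount ends {e, e'} x) := by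
    intro x
    simp only [endCount, Finset.sum_pair hne]
    rw [hpair e x h, hpair e' x h']
    exact ⟨_, rfl⟩
  obtain ⟨C, hC1, -, hC⟩ := exists_circuit ends hev (Finset.mem_insert_self e _)
  refine hF C (hC1.trans ?_) hC
  intro x hx
  rcases Finset.mem_insert.1 hx with rfl | hx
  · exact he
  · rw [Finset.mem_singleton.1 hx]; exact he'

lemma nbrCount_eq_endCount {T : Finset E}
    (hF : ∀ C : Finset E, C ⊆ T → ¬ IsCircuit ends C) (v : V) :
    nbrCount ends T v = endCount ends T v := by
  classical
  have h1 : endCount ends T v = (T.filter fun e => (ends e).1 = v ∨ (ends e).2 = v).card := by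
    rw [Finset.card_filter]
    unfold endCount
    refine Finset.sum_congr rfl fun e he => ?_
    have := no_loop ends hF he
    by_cases a : (ends e).1 = v <;> by_cases b : (ends e).2 = v
    · exact absurd (a.trans b.symm) this
    · simp [a, b]
    · simp [a, b]
    · simp [a, b]
  rw [h1]
  unfold nbrCount
  symm
  set i : E → V := fun e => if (ends e).1 = v then (ends e).2 else (ends e).1 with hi
  have hjoin : ∀ e, ((ends e).1 = v ∨ (ends e).2 = v) →
      ends e = (v, i e) ∨ ends e = (i e, v) := by
    intro e hev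
    by_cases a : (ends e).1 = v
    · left; simp only [hi, if_pos a]; exact Prod.ext a rfl
    · right; simp only [hi, if_neg a]; exact Prod.ext rfl (hev.resolve_left a)
  refine Finset.card_bij (fun e _ => i e) ?_ ?_ ?_
  · intro e he
    obtain ⟨heT, hev⟩ := Finset.mem_filter.1 he
    have hl := no_loop ends hF heT
    have hj := hjoin e hev
    simp only [Finset.mem_filter, Finset.mem_univ, true_and]
    refine ⟨fun hiv => ?_, e, heT, hj⟩
    rw [hiv] at hj
    rcases hj with hj | hj <;> · rw [hj] at hl; exact hl rfl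
  · intro e he e' he' heq
    obtain ⟨heT, hev⟩ := Finset.mem_filter.1 he
    obtain ⟨heT', hev'⟩ := Finset.mem_filter.1 he'
    have hj := hjoin e hev
    have hj' := hjoin e' hev'
    have heq' : i e = i e' := heq
    rw [← heq'] at hj'
    exact no_parallel ends hF heT heT' hj hj'
  · intro w hw
    simp only [Finset.mem_filter, Finset.mem_univ, true_and] at hw
    obtain ⟨hwv, e, heT, hj⟩ := hw
    rcases hj with hj | hj
    · refine ⟨e, Finset.mem_filter.2 ⟨heT, Or.inl (by rw [hj])⟩, ?_⟩
      simp only [hi, hj, if_true]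
    · refine ⟨e, Finset.mem_filter.2 ⟨heT, Or.inr (by rw [hj])⟩, ?_⟩
      simp only [hi, hj, if_neg hwv]

lemma prod_edge_weight {R : Type*} [CommRing R] (β : V → R) (T : Finset E) :
    ∏ e ∈ T, (β (ends e).1 * β (ends e).2) = ∏ v, β v ^ endCount ends T v := by
  unfold endCount
  symm
  calc ∏ v, β v ^ (∑ e ∈ T, ((if (ends e).1 = v then 1 else 0) +
          (if (ends e).2 = v then 1 else 0)))
      = ∏ v, ∏ e ∈ T, (β v ^ (if (ends e).1 = v then 1 else 0) *
          β v ^ (if (ends e).2 = v then 1 else 0)) := by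
        refine Finset.prod_congr rfl fun v _ => ?_
        rw [← Finset.prod_pow_eq_pow_sum]
        refine Finset.prod_congr rfl fun e _ => pow_add _ _ _
    _ = ∏ e ∈ T, ∏ v, (β v ^ (if (ends e).1 = v then 1 else 0) *
          β v ^ (if (ends e).2 = v then 1 else 0)) := Finset.prod_comm
    _ = ∏ e ∈ T, (β (ends e).1 * β (ends e).2) := by
        refine Finset.prod_congr rfl fun e _ => ?_
        rw [Finset.prod_mul_distrib, Finset.prod_pow_boole, Finset.prod_pow_boole]
        simp

end Groth.Agent.Helper7.MatTree
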