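import Mathlib
import Groth.Agent.Lib.Helper7.BI3
import Groth.Agent.Lib.Helper7.MatTree2

/-! Existence of a representative satisfying the basic inequality in every twist class, by
minimising a quadratic energy (helper7). -/

set_option autoImplicit false
universe u

namespace Groth.Agent.Helper7.BI

open LabGraph Groth.Agent.Helper7.LabG Groth.Agent.Helper7.MatTree

variable {V E : Type u} [Fintype V] [Fintype E] [DecidableEq V] [DecidableEq E]
variable (ends : E → V × V)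

/-- the energy -/
def FF (K : ℤ) (c : V → ℤ) (ψ : V → ℤ) : ℤ :=
  K * ∑ e, (ψ (ends e).1 - ψ (ends e).2) ^ 2 - 2 * ∑ v, ψ v * c v

lemma sconn_univ (hconn : Connected ends) : SConn ends Finset.univ :=
  fun x y => (hconn.2 x y).lift id (fun a b hab => by
    obtain ⟨e, he⟩ := hab
    exact ⟨e, Finset.mem_univ e, he⟩)

lemma FF_bdd (hconn : Connected ends) (K : ℤ) (hK : 0 < K) (c : V → ℤ) (hc : ∑ v, c v = 0) :
    ∃ B : ℤ, ∀ ψ : V → ℤ, B ≤ FF ends K c ψ := by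
  obtain ⟨γ, -, hγ⟩ := coeff_of_sum_zero ends ℤ (sconn_univ ends hconn) c hc
  refine ⟨-∑ e, (γ e) ^ 2, fun ψ => ?_⟩
  have hcv : ∀ v, c v = ∑ e, γ e * ((if v = (ends e).2 then 1 else 0) -
      (if v = (ends e).1 then 1 else 0)) := by
    intro v
    rw [hγ]
    simp only [Finset.sum_apply, Pi.smul_apply, smul_eq_mul, bvec_apply]
  have hlin : ∑ v, ψ v * c v = ∑ e, γ e * (ψ (ends e).2 - ψ (ends e).1) := by
    simp only [hcv, Finset.mul_sum]
    rw [Finset.sum_comm]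
    refine Finset.sum_congr rfl fun e _ => ?_
    have : ∀ v, ψ v * (γ e * ((if v = (ends e).2 then 1 else 0) -
        (if v = (ends e).1 then 1 else 0))) =
        γ e * ((if v = (ends e).2 then ψ v else 0) - (if v = (ends e).1 then ψ v else 0)) := by
      intro v; split_ifs <;> ring
    rw [Finset.sum_congr rfl (fun v _ => this v), ← Finset.mul_sum, Finset.sum_sub_distrib,
      Finset.sum_ite_eq', Finset.sum_ite_eq']
    simp
  unfold FF
  rw [hlin, Finset.mul_sum, Finset.mul_sum, ← Finset.sum_sub_distrib, ← Finset.sum_neg_distrib]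
  refine Finset.sum_le_sum fun e _ => ?_
  have hK1 : (0:ℤ) ≤ K - 1 := by omega
  nlinarith [sq_nonneg (ψ (ends e).1 - ψ (ends e).2 + γ e),
    mul_nonneg hK1 (sq_nonneg (ψ (ends e).1 - ψ (ends e).2))]

lemma exists_min (hconn : Connected ends) (K : ℤ) (hK : 0 < K) (c : V → ℤ)
    (hc : ∑ v, c v = 0) : ∃ ψ₀ : V → ℤ, ∀ ψ, FF ends K c ψ₀ ≤ FF ends K c ψ := by
  obtain ⟨B, hB⟩ := FF_bdd ends hconn K hK c hc
  obtain ⟨lb, ⟨ψ₀, hψ₀⟩, hlb⟩ := Int.exists_least_of_bdd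
    (P := fun z => ∃ ψ, FF ends K c ψ = z)
    ⟨B, fun z hz => by obtain ⟨ψ, rfl⟩ := hz; exact hB ψ⟩ ⟨_, 0, rfl⟩
  refine ⟨ψ₀, fun ψ => ?_⟩
  rw [hψ₀]; exact hlb _ ⟨ψ, rfl⟩

lemma FF_var (K : ℤ) (c ψ : V → ℤ) (Y : Finset V) (ε : ℤ) (hε : ε ^ 2 = 1) :
    FF ends K c (fun v => ψ v + ε * (if v ∈ Y then 1 else 0)) - FF ends K c ψ =
      K * (cut ends Y : ℤ) - 2 * ε * (∑ v ∈ Y, c v + K * ∑ v ∈ Y, twist ends ψ v) := by
  simp only [FF]
  rw [cut_eq_xi, sum_twist_on]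
  have h1 : ∑ v, (ψ v + ε * (if v ∈ Y then 1 else 0)) * c v =
      ∑ v, ψ v * c v + ε * ∑ v ∈ Y, c v := by
    have : ∀ v, (ψ v + ε * (if v ∈ Y then (1:ℤ) else 0)) * c v =
        ψ v * c v + ε * (if v ∈ Y then c v else 0) := by
      intro v; split_ifs <;> ring
    rw [Finset.sum_congr rfl (fun v _ => this v), Finset.sum_add_distrib, ← Finset.mul_sum,
      Finset.sum_ite_mem, Finset.univ_inter]
  have h2 : ∀ e : E, ((ψ (ends e).1 + ε * (if (ends e).1 ∈ Y then 1 else 0)) -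
      (ψ (ends e).2 + ε * (if (ends e).2 ∈ Y then 1 else 0))) ^ 2 =
      (ψ (ends e).1 - ψ (ends e).2) ^ 2 + xi ends Y e
        - 2 * ε * ((if (ends e).1 ∈ Y then ψ (ends e).2 - ψ (ends e).1 else 0) +
          (if (ends e).2 ∈ Y then ψ (ends e).1 - ψ (ends e).2 else 0)) := by
    intro e
    unfold xi
    by_cases a1 : (ends e).1 ∈ Y <;> by_cases a2 : (ends e).2 ∈ Y <;> simp [a1, a2] <;>
      first | linear_combination hε | ring1
  rw [h1, Finset.sum_congr rfl (fun e _ => h2 e)]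
  rw [Finset.sum_sub_distrib, Finset.sum_add_distrib, ← Finset.mul_sum]
  ring

theorem exists_BI (w : V → ℕ) (hconn : Connected ends)
    (hK : 0 < canDeg ends w Finset.univ) (d : V → ℤ) :
    ∃ ψ : V → ℤ, SatisfiesBI ends w (fun v => d v + twist ends ψ v) := by
  obtain ⟨c, hcdef⟩ : ∃ c : V → ℤ, ∀ v, c v = canDeg ends w Finset.univ * d v -
      (∑ u, d u) * (2 * (w v : ℤ) - 2 + (endCount ends Finset.univ v : ℤ)) :=
    ⟨_, fun _ => rfl⟩
  have hcY : ∀ Y : Finset V, ∑ v ∈ Y, c v =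
      canDeg ends w Finset.univ * (∑ v ∈ Y, d v) - (∑ u, d u) * canDeg ends w Y := by
    intro Y
    rw [Finset.sum_congr rfl (fun v _ => hcdef v), Finset.sum_sub_distrib, ← Finset.mul_sum,
      ← Finset.mul_sum]
    rfl
  have hc0 : ∑ v, c v = 0 := by rw [hcY]; ring
  obtain ⟨ψ₀, hmin⟩ := exists_min ends hconn _ hK c hc0
  refine ⟨ψ₀, fun Y => ?_⟩
  show 2 * |canDeg ends w Finset.univ * (∑ v ∈ Y, (d v + twist ends ψ₀ v)) -
      (∑ v, (d v + twist ends ψ₀ v)) * canDeg ends w Y| ≤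
      (cut ends Y : ℤ) * canDeg ends w Finset.univ
  rw [Finset.sum_add_distrib, Finset.sum_add_distrib, sum_twist_univ, add_zero]
  have key : ∀ ε : ℤ, ε ^ 2 = 1 → 0 ≤ canDeg ends w Finset.univ * (cut ends Y : ℤ) -
      2 * ε * (∑ v ∈ Y, c v + canDeg ends w Finset.univ * ∑ v ∈ Y, twist ends ψ₀ v) :=
    fun ε hε => by
      rw [← FF_var ends _ c ψ₀ Y ε hε]
      exact sub_nonneg.2 (hmin _)
  have k1 := key 1 (by norm_num)
  have k2 := key (-1) (by norm_num)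
  rw [hcY] at k1 k2
  obtain ⟨x, hx⟩ : ∃ x : ℤ, x = canDeg ends w Finset.univ *
      (∑ v ∈ Y, d v + ∑ v ∈ Y, twist ends ψ₀ v) - (∑ v : V, d v) * canDeg ends w Y := ⟨_, rfl⟩
  rw [← hx]
  have hx' : x = (canDeg ends w Finset.univ * (∑ v ∈ Y, d v) -
      (∑ v : V, d v) * canDeg ends w Y) +
      canDeg ends w Finset.univ * ∑ v ∈ Y, twist ends ψ₀ v := by rw [hx]; ring
  rcases abs_cases x with ⟨h, _⟩ | ⟨h, _⟩ <;> rw [h] <;> linarith

end Groth.Agent.Helper7.BI
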