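import Mathlib

/-!
# Binary dihedral groups inside `SL₂` (helper7)
-/

set_option autoImplicit false

namespace Groth.Agent.Helper7.BinDihedral

/-- abstract recognition of the binary dihedral group -/
theorem exists_hom {G : Type*} [Group G] (n : ℕ) (hn : 2 ≤ n) (σ τ : G)
    (hστ : σ * τ * σ = τ) (hτ : τ * τ = σ ^ n) (hσ : σ ^ (2 * n) = 1)
    (hord : ∀ k : ℕ, σ ^ k = 1 → 2 * n ∣ k) :
    ∃ f : QuaternionGroup n →* G, Function.Injective f := by
  have : NeZero (2 * n) := ⟨by omega⟩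
  obtain ⟨P, hP⟩ : ∃ P : ZMod (2 * n) → G, ∀ i, P i = σ ^ i.val := ⟨_, fun _ => rfl⟩
  have hP_add : ∀ i j, P (i + j) = P i * P j := by
    intro i j
    rw [hP, hP, hP, ZMod.val_add, ← pow_add, ← pow_eq_pow_mod _ hσ]
  have hP0 : P 0 = 1 := by rw [hP, ZMod.val_zero, pow_zero]
  have hP_neg : ∀ i, P (-i) = (P i)⁻¹ := by
    intro i
    apply eq_inv_of_mul_eq_one_right
    rw [← hP_add, add_neg_cancel, hP0]
  have hP_sub : ∀ j i, P (j - i) = P j * (P i)⁻¹ := by
    intro j i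
    rw [sub_eq_add_neg, hP_add, hP_neg]
  have hPn : P (n : ZMod (2 * n)) = σ ^ n := by
    rw [hP, ZMod.val_natCast, Nat.mod_eq_of_lt (by omega)]
  have hcomm : ∀ i j, (P i)⁻¹ * P j = P j * (P i)⁻¹ := by
    intro i j
    rw [hP, hP]
    exact ((Commute.refl σ).pow_pow _ _).inv_left.eq
  have hστ' : σ * τ = τ * σ⁻¹ := eq_mul_inv_of_mul_eq hστ
  have hc1 : ∀ k : ℕ, σ ^ k * τ = τ * (σ ^ k)⁻¹ := by
    intro k
    induction k with
    | zero => simp
    | succ k ih =>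
      calc σ ^ (k + 1) * τ = σ ^ k * (σ * τ) := by rw [pow_succ, mul_assoc]
        _ = (σ ^ k * τ) * σ⁻¹ := by rw [hστ', mul_assoc]
        _ = τ * ((σ ^ k)⁻¹ * σ⁻¹) := by rw [ih, mul_assoc]
        _ = τ * (σ ^ (k + 1))⁻¹ := by rw [← mul_inv_rev, ← pow_succ']
  have hc2 : ∀ i, P i * τ = τ * (P i)⁻¹ := by
    intro i; rw [hP]; exact hc1 _
  let f0 : QuaternionGroup n → G := fun g => match g with
    | QuaternionGroup.a i => P i
    | QuaternionGroup.xa i => τ * P i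
  have hmul : ∀ g h, f0 (g * h) = f0 g * f0 h := by
    intro g h
    rcases g with i | i <;> rcases h with j | j
    · rw [QuaternionGroup.a_mul_a]
      exact hP_add i j
    · rw [QuaternionGroup.a_mul_xa]
      show τ * P (j - i) = P i * (τ * P j)
      calc τ * P (j - i) = τ * ((P i)⁻¹ * P j) := by rw [hP_sub, hcomm]
        _ = (τ * (P i)⁻¹) * P j := by rw [mul_assoc]
        _ = (P i * τ) * P j := by rw [← hc2]
        _ = P i * (τ * P j) := by rw [mul_assoc]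
    · rw [QuaternionGroup.xa_mul_a]
      show τ * P (i + j) = (τ * P i) * P j
      rw [hP_add, mul_assoc]
    · rw [QuaternionGroup.xa_mul_xa]
      show P ((n : ZMod (2 * n)) + j - i) = (τ * P i) * (τ * P j)
      calc P ((n : ZMod (2 * n)) + j - i) = σ ^ n * ((P i)⁻¹ * P j) := by
            rw [add_sub_assoc, hP_add, hPn, hP_sub, hcomm]
        _ = (τ * τ) * ((P i)⁻¹ * P j) := by rw [hτ]
        _ = τ * ((τ * (P i)⁻¹) * P j) := by simp only [mul_assoc]
        _ = τ * ((P i * τ) * P j) := by rw [← hc2]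
        _ = (τ * P i) * (τ * P j) := by simp only [mul_assoc]
  refine ⟨MonoidHom.mk' f0 hmul, ?_⟩
  rw [injective_iff_map_eq_one]
  intro g hg
  rcases g with i | i
  · have h1 : P i = 1 := hg
    rw [hP] at h1
    have h2 : i.val = 0 := Nat.eq_zero_of_dvd_of_lt (hord _ h1) (ZMod.val_lt i)
    have h3 : i = 0 := (ZMod.val_eq_zero i).mp h2
    rw [h3, QuaternionGroup.a_zero]
  · exfalso
    have h1 : τ * P i = 1 := hg
    have h2 : τ = (P i)⁻¹ := eq_inv_of_mul_eq_one_left h1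
    rw [hP] at h2
    have h3 : σ * τ = τ * σ := by
      rw [h2]; exact ((Commute.self_pow σ _).inv_right).eq
    have h4 : σ = σ⁻¹ := mul_left_cancel (h3.symm.trans hστ')
    have h5 : σ ^ 2 = 1 := by
      calc σ ^ 2 = σ * σ := pow_two σ
        _ = σ * σ⁻¹ := congrArg (σ * ·) h4
        _ = 1 := mul_inv_cancel σ
    have := Nat.le_of_dvd (by norm_num) (hord 2 h5)
    omega

section mats

variable {K : Type*} [Field K]

/-- the "rotation" matrix with trace `2c` -/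
def Ms (c : K) : Matrix (Fin 2) (Fin 2) K := !![c, c ^ 2 - 1; 1, c]

/-- the "reflection" matrix -/
def Mt (c x y : K) : Matrix (Fin 2) (Fin 2) K := !![x, -((c ^ 2 - 1) * y); y, -x]

lemma det_Ms (c : K) : (Ms c).det = 1 := by
  simp [Ms, Matrix.det_fin_two]; ring

lemma det_Mt (c x y : K) (h : x ^ 2 - (c ^ 2 - 1) * y ^ 2 = -1) : (Mt c x y).det = 1 := by
  simp [Mt, Matrix.det_fin_two]; linear_combination -h

lemma Mt_mul_Mt (c x y : K) (h : x ^ 2 - (c ^ 2 - 1) * y ^ 2 = -1) :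
    Mt c x y * Mt c x y = -1 := by
  ext i j
  fin_cases i <;> fin_cases j <;> simp [Mt, Matrix.mul_apply, Fin.sum_univ_two] <;>
    first | linear_combination h | ring

lemma Ms_Mt_Ms (c x y : K) : Ms c * Mt c x y * Ms c = Mt c x y := by
  ext i j
  fin_cases i <;> fin_cases j <;> simp [Ms, Mt, Matrix.mul_apply, Fin.sum_univ_two] <;> ring

lemma Ms_charpoly (c : K) :
    Polynomial.aeval (Ms c) (Polynomial.X ^ 2 - Polynomial.C (2 * c) * Polynomial.X + 1) = 0 := by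
  simp only [map_add, map_sub, map_mul, map_pow, Polynomial.aeval_X, Polynomial.aeval_C, map_one]
  ext i j
  fin_cases i <;> fin_cases j <;>
    simp [Ms, pow_two, Matrix.mul_apply, Fin.sum_univ_two, Matrix.algebraMap_matrix_apply] <;> ring

lemma Ms_pow_eq_neg_one (c ξ : K) (n : ℕ) (hc : 2 * c = ξ + ξ⁻¹) (hξ0 : ξ ≠ 0) (hne : ξ ≠ ξ⁻¹)
    (hξn : ξ ^ n = -1) : Ms c ^ n = -1 := by
  have h1 : Polynomial.IsRoot (Polynomial.X ^ n + 1 : Polynomial K) ξ := by
    simp [hξn]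
  have h2 : Polynomial.IsRoot (Polynomial.X ^ n + 1 : Polynomial K) ξ⁻¹ := by
    simp [inv_pow, hξn]
  have hcop : IsCoprime (Polynomial.X - Polynomial.C ξ) (Polynomial.X - Polynomial.C ξ⁻¹) :=
    Polynomial.isCoprime_X_sub_C_of_isUnit_sub (sub_ne_zero.mpr hne).isUnit
  obtain ⟨q, hq⟩ := IsCoprime.mul_dvd hcop (Polynomial.dvd_iff_isRoot.mpr h1)
    (Polynomial.dvd_iff_isRoot.mpr h2)
  have hCC : Polynomial.C ξ * Polynomial.C ξ⁻¹ = (1 : Polynomial K) := by
    rw [← Polynomial.C_mul, mul_inv_cancel₀ hξ0, Polynomial.C_1]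
  have hprod : (Polynomial.X - Polynomial.C ξ) * (Polynomial.X - Polynomial.C ξ⁻¹) =
      Polynomial.X ^ 2 - Polynomial.C (2 * c) * Polynomial.X + 1 := by
    rw [hc, Polynomial.C_add]
    linear_combination hCC
  have h3 := congrArg (Polynomial.aeval (Ms c)) hq
  rw [hprod, map_mul, Ms_charpoly, zero_mul, map_add, map_pow, Polynomial.aeval_X, map_one] at h3
  exact eq_neg_of_add_eq_zero_left h3

lemma Ms_pow_eq_one (c ξ : K) (k : ℕ) (hc : 2 * c = ξ + ξ⁻¹) (hξ0 : ξ ≠ 0)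
    (hk : Ms c ^ k = 1) : ξ ^ k = 1 := by
  have h2 : 2 * c * ξ = ξ ^ 2 + 1 := by
    rw [hc, add_mul, inv_mul_cancel₀ hξ0, pow_two]
  have hv : (Ms c).mulVec ![ξ - c, 1] = ξ • ![ξ - c, 1] := by
    ext i
    fin_cases i
    · simp [Ms, Matrix.mulVec, dotProduct, Fin.sum_univ_two]
      linear_combination h2
    · simp [Ms, Matrix.mulVec, dotProduct, Fin.sum_univ_two]
  have hpow : ∀ m : ℕ, (Ms c ^ m).mulVec ![ξ - c, 1] = ξ ^ m • ![ξ - c, 1] := by
    intro m
    induction m with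
    | zero => simp
    | succ m ih =>
      rw [pow_succ, ← Matrix.mulVec_mulVec, hv, Matrix.mulVec_smul, ih, smul_smul, ← pow_succ']
  have h3 := hpow k
  rw [hk, Matrix.one_mulVec] at h3
  have h4 := congrFun h3 1
  simpa using h4.symm

end mats

theorem main {K : Type*} {L : Type*} [Field K] [Field L] [Algebra K L] (n : ℕ) (hn : 2 ≤ n) (ξ : L)
    (hξ : IsPrimitiveRoot ξ (2 * n)) (c : K) (hc : algebraMap K L (2 * c) = ξ + ξ⁻¹)
    (x y : K) (hsol : x ^ 2 - (c ^ 2 - 1) * y ^ 2 = -1) :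
    ∃ f : QuaternionGroup n →* Matrix.SpecialLinearGroup (Fin 2) K, Function.Injective f := by
  have hc' : 2 * algebraMap K L c = ξ + ξ⁻¹ := by rw [← hc, map_mul, map_ofNat]
  have hξ0 : ξ ≠ 0 := hξ.ne_zero (by omega)
  have hξn : ξ ^ n = -1 :=
    (hξ.pow (by omega) (by ring : 2 * n = n * 2)).eq_neg_one_of_two_right
  have hne : ξ ≠ ξ⁻¹ := by
    intro h
    have h1 : ξ ^ 2 = 1 := by
      rw [pow_two]
      calc ξ * ξ = ξ * ξ⁻¹ := congrArg (ξ * ·) h
        _ = 1 := mul_inv_cancel₀ hξ0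
    have := Nat.le_of_dvd (by norm_num) (hξ.dvd_of_pow_eq_one 2 h1)
    omega
  have hmap : (Ms c).map (algebraMap K L) = Ms (algebraMap K L c) := by
    ext i j
    fin_cases i <;> fin_cases j <;> simp [Ms]
  have hmappow : ∀ k : ℕ, (Ms c ^ k).map (algebraMap K L) = Ms (algebraMap K L c) ^ k := by
    intro k
    rw [← hmap, ← RingHom.mapMatrix_apply, map_pow, RingHom.mapMatrix_apply]
  have hinj : Function.Injective
      (fun M : Matrix (Fin 2) (Fin 2) K => M.map (algebraMap K L)) :=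
    Matrix.map_injective (algebraMap K L).injective
  have hF3 : Ms c ^ n = -1 := by
    apply hinj
    show (Ms c ^ n).map (algebraMap K L) = (-1 : Matrix (Fin 2) (Fin 2) K).map (algebraMap K L)
    rw [hmappow, Ms_pow_eq_neg_one _ ξ n hc' hξ0 hne hξn]
    ext i j
    fin_cases i <;> fin_cases j <;> simp
  have hF4 : ∀ k : ℕ, Ms c ^ k = 1 → 2 * n ∣ k := by
    intro k hk
    apply hξ.dvd_of_pow_eq_one
    apply Ms_pow_eq_one (algebraMap K L c) ξ k hc' hξ0
    rw [← hmappow, hk]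
    ext i j
    fin_cases i <;> fin_cases j <;> simp
  obtain ⟨σ, hσdef⟩ : ∃ σ : Matrix.SpecialLinearGroup (Fin 2) K,
      (σ : Matrix (Fin 2) (Fin 2) K) = Ms c := ⟨⟨Ms c, det_Ms c⟩, rfl⟩
  obtain ⟨τ, hτdef⟩ : ∃ τ : Matrix.SpecialLinearGroup (Fin 2) K,
      (τ : Matrix (Fin 2) (Fin 2) K) = Mt c x y := ⟨⟨Mt c x y, det_Mt c x y hsol⟩, rfl⟩
  refine exists_hom n hn σ τ ?_ ?_ ?_ ?_
  · apply Subtype.ext
    rw [Matrix.SpecialLinearGroup.coe_mul, Matrix.SpecialLinearGroup.coe_mul, hσdef, hτdef]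
    exact Ms_Mt_Ms c x y
  · apply Subtype.ext
    rw [Matrix.SpecialLinearGroup.coe_mul, Matrix.SpecialLinearGroup.coe_pow, hσdef, hτdef]
    exact (Mt_mul_Mt c x y hsol).trans hF3.symm
  · apply Subtype.ext
    rw [Matrix.SpecialLinearGroup.coe_pow, Matrix.SpecialLinearGroup.coe_one, hσdef,
      mul_comm 2 n, pow_mul, hF3, neg_one_sq]
  · intro k hk
    apply hF4
    have := congrArg Subtype.val hk
    rw [Matrix.SpecialLinearGroup.coe_pow, Matrix.SpecialLinearGroup.coe_one, hσdef] at this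
    exact this

end Groth.Agent.Helper7.BinDihedral
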