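import Groth.Agent.Lib.Helper7.BinDihedral

/-!
# Cyclic subgroups of `SL₂` (helper7)
-/

set_option autoImplicit false

namespace Groth.Agent.Helper7.BinDihedral

section
variable {K : Type*} [Field K]

lemma Ms_aeval_eq_zero (c ξ : K) (hc : 2 * c = ξ + ξ⁻¹) (hξ0 : ξ ≠ 0) (hne : ξ ≠ ξ⁻¹)
    (q : Polynomial K) (h1 : q.IsRoot ξ) (h2 : q.IsRoot ξ⁻¹) :
    Polynomial.aeval (Ms c) q = 0 := by
  have hcop : IsCoprime (Polynomial.X - Polynomial.C ξ) (Polynomial.X - Polynomial.C ξ⁻¹) :=
    Polynomial.isCoprime_X_sub_C_of_isUnit_sub (sub_ne_zero.mpr hne).isUnit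
  obtain ⟨r, hr⟩ := IsCoprime.mul_dvd hcop (Polynomial.dvd_iff_isRoot.mpr h1)
    (Polynomial.dvd_iff_isRoot.mpr h2)
  have hCC : Polynomial.C ξ * Polynomial.C ξ⁻¹ = (1 : Polynomial K) := by
    rw [← Polynomial.C_mul, mul_inv_cancel₀ hξ0, Polynomial.C_1]
  have hprod : (Polynomial.X - Polynomial.C ξ) * (Polynomial.X - Polynomial.C ξ⁻¹) =
      Polynomial.X ^ 2 - Polynomial.C (2 * c) * Polynomial.X + 1 := by
    rw [hc, Polynomial.C_add]
    linear_combination hCC
  rw [hr, hprod, map_mul, Ms_charpoly, zero_mul]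

end

theorem exists_order {K : Type*} {L : Type*} [Field K] [Field L] [CharZero K] [Algebra K L]
    (n : ℕ) (hn : 1 ≤ n) (ξ : L) (hξ : IsPrimitiveRoot ξ n) (c : K)
    (hc : algebraMap K L (2 * c) = ξ + ξ⁻¹) :
    ∃ M : Matrix.SpecialLinearGroup (Fin 2) K, orderOf M = n := by
  rcases Nat.lt_or_ge n 3 with h3 | h3
  · interval_cases n
    · exact ⟨1, orderOf_one⟩
    · obtain ⟨M, hM⟩ : ∃ M : Matrix.SpecialLinearGroup (Fin 2) K,
          (M : Matrix (Fin 2) (Fin 2) K) = !![-1, 0; 0, -1] :=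
        ⟨⟨!![-1, 0; 0, -1], by simp [Matrix.det_fin_two]⟩, rfl⟩
      refine ⟨M, ?_⟩
      have : Fact (Nat.Prime 2) := ⟨Nat.prime_two⟩
      apply orderOf_eq_prime
      · apply Subtype.ext
        rw [Matrix.SpecialLinearGroup.coe_pow, Matrix.SpecialLinearGroup.coe_one, hM]
        ext i j
        fin_cases i <;> fin_cases j <;> simp [pow_two, Matrix.mul_apply, Fin.sum_univ_two]
      · intro h
        have h1 : (M : Matrix (Fin 2) (Fin 2) K) 0 0 = (1 : Matrix (Fin 2) (Fin 2) K) 0 0 := by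
          rw [h, Matrix.SpecialLinearGroup.coe_one]
        rw [hM] at h1
        have h2 : (-1 : K) = 1 := by simpa using h1
        have h3 : (2 : K) = 0 := by linear_combination (-1 : K) * h2
        exact two_ne_zero h3
  · have hc' : 2 * algebraMap K L c = ξ + ξ⁻¹ := by rw [← hc, map_mul, map_ofNat]
    have hξ0 : ξ ≠ 0 := hξ.ne_zero (by omega)
    have hne : ξ ≠ ξ⁻¹ := by
      intro h
      have h1 : ξ ^ 2 = 1 := by
        rw [pow_two]
        calc ξ * ξ = ξ * ξ⁻¹ := congrArg (ξ * ·) h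
          _ = 1 := mul_inv_cancel₀ hξ0
      have := Nat.le_of_dvd (by norm_num) (hξ.dvd_of_pow_eq_one 2 h1)
      omega
    have hmap : (Ms c).map (algebraMap K L) = Ms (algebraMap K L c) := by
      ext i j
      fin_cases i <;> fin_cases j <;> simp [Ms]
    have hmappow : ∀ k : ℕ, (Ms c ^ k).map (algebraMap K L) = Ms (algebraMap K L c) ^ k := by
      intro k
      rw [← hmap, ← RingHom.mapMatrix_apply, map_pow, RingHom.mapMatrix_apply]
    have hinj : Function.Injective
        (fun M : Matrix (Fin 2) (Fin 2) K => M.map (algebraMap K L)) :=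
      Matrix.map_injective (algebraMap K L).injective
    have hone : (1 : Matrix (Fin 2) (Fin 2) K).map (algebraMap K L) = 1 := by
      ext i j
      fin_cases i <;> fin_cases j <;> simp
    have hpow : Ms c ^ n = 1 := by
      apply hinj
      show (Ms c ^ n).map (algebraMap K L) = (1 : Matrix (Fin 2) (Fin 2) K).map (algebraMap K L)
      rw [hmappow, hone]
      have h0 := Ms_aeval_eq_zero (algebraMap K L c) ξ hc' hξ0 hne (Polynomial.X ^ n - 1)
        (by simp [hξ.pow_eq_one]) (by simp [inv_pow, hξ.pow_eq_one])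
      rw [map_sub, map_pow, Polynomial.aeval_X, map_one] at h0
      exact sub_eq_zero.mp h0
    obtain ⟨σ, hσdef⟩ : ∃ σ : Matrix.SpecialLinearGroup (Fin 2) K,
        (σ : Matrix (Fin 2) (Fin 2) K) = Ms c := ⟨⟨Ms c, det_Ms c⟩, rfl⟩
    refine ⟨σ, ?_⟩
    rw [orderOf_eq_iff (by omega)]
    constructor
    · apply Subtype.ext
      rw [Matrix.SpecialLinearGroup.coe_pow, Matrix.SpecialLinearGroup.coe_one, hσdef]
      exact hpow
    · intro m hmn hm0 hm1
      have h1 := congrArg Subtype.val hm1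
      rw [Matrix.SpecialLinearGroup.coe_pow, Matrix.SpecialLinearGroup.coe_one, hσdef] at h1
      have h2 : ξ ^ m = 1 := by
        apply Ms_pow_eq_one (algebraMap K L c) ξ m hc' hξ0
        rw [← hmappow, h1, hone]
      have := Nat.le_of_dvd hm0 (hξ.dvd_of_pow_eq_one m h2)
      omega

end Groth.Agent.Helper7.BinDihedral
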