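import Mathlib
import Groth.Agent.Lib.Helper7.MatTree2

/-! Integer cycles of a multigraph: boundary in terms of incidence vectors, independence of the
incidence vectors of a forest over any ring, circuits carry integer cycles (helper7). -/

set_option autoImplicit false
universe u

namespace Groth.Agent.Helper7.MatTree

open LabGraph Groth.Agent.Helper7.LabG Finset

variable {V E : Type u} [Fintype V] [Fintype E] [DecidableEq V] [DecidableEq E]
variable (ends : E → V × V)

lemma boundary_eq (γ : E → ℤ) (v : V) :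
    LabGraph.boundary ends γ v = ∑ e, γ e * bvec ends ℤ e v := by
  unfold LabGraph.boundary
  refine Finset.sum_congr rfl fun e _ => ?_
  rw [bvec_apply]
  have e1 : (if v = (ends e).2 then (1:ℤ) else 0) = if (ends e).2 = v then 1 else 0 :=
    if_congr eq_comm rfl rfl
  have e2 : (if v = (ends e).1 then (1:ℤ) else 0) = if (ends e).1 = v then 1 else 0 :=
    if_congr eq_comm rfl rfl
  rw [e1, e2]
  by_cases h2 : (ends e).2 = v <;> by_cases h1 : (ends e).1 = v <;> simp [h1, h2]

lemma forest_indep (R : Type*) [CommRing R] {T : Finset E}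
    (hF : ∀ C : Finset E, C ⊆ T → ¬ IsCircuit ends C) (g : E → R)
    (hg : ∑ e ∈ T, g e • bvec ends R e = 0) : ∀ e₀ ∈ T, g e₀ = 0 := by
  classical
  intro e₀ he₀
  rcases dichotomy ends (T.erase e₀) e₀ (Finset.notMem_erase _ _) with
    ⟨D, hD, he₀D, hev⟩ | ⟨W, h2W, h1W, hW⟩
  · exfalso
    rw [Finset.insert_erase he₀] at hD
    obtain ⟨C, hCD, -, hC⟩ := exists_circuit ends hev he₀D
    exact hF C (hCD.trans hD) hC
  · let χ : V → R := fun v => if v ∈ W then 1 else 0
    have h0 : ∑ v, χ v * (∑ e ∈ T, g e • bvec ends R e) v = 0 := by rw [hg]; simp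
    have h1 : ∑ v, χ v * (∑ e ∈ T, g e • bvec ends R e) v =
        ∑ e ∈ T, g e * (χ (ends e).2 - χ (ends e).1) := by
      simp only [Finset.sum_apply, Pi.smul_apply, smul_eq_mul, Finset.mul_sum]
      rw [Finset.sum_comm]
      refine Finset.sum_congr rfl fun e _ => ?_
      rw [← sum_mul_bvec ends χ e, Finset.mul_sum]
      refine Finset.sum_congr rfl fun v _ => by ring
    have h2 : ∑ e ∈ T, g e * (χ (ends e).2 - χ (ends e).1) = g e₀ := by
      rw [Finset.sum_eq_single_of_mem e₀ he₀]
      · simp [χ, h2W, h1W]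
      · intro e he hne
        have hmem : e ∈ T.erase e₀ := Finset.mem_erase.2 ⟨hne, he⟩
        have hiff := hW e hmem
        have h3 : χ (ends e).2 = χ (ends e).1 := by
          simp only [χ]
          by_cases h : (ends e).1 ∈ W
          · rw [if_pos h, if_pos (hiff.1 h)]
          · rw [if_neg h, if_neg (fun h' => h (hiff.2 h'))]
        rw [h3, sub_self, mul_zero]
    rw [← h2, ← h1, h0]

lemma ends_conn_of_even {C : Finset E} (hC : ∀ v, Even (LabGraph.endCount ends C v)) {e₁ : E}
    (he₁ : e₁ ∈ C) :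
    Relation.ReflTransGen (step ends (C.erase e₁)) (ends e₁).1 (ends e₁).2 := by
  have key : (Relation.ReflTransGen (step ends (C.erase e₁)) (ends e₁).1 (ends e₁).1) =
      (Relation.ReflTransGen (step ends (C.erase e₁)) (ends e₁).1 (ends e₁).2) := by
    refine level_parity ends hC he₁
      (fun w => Relation.ReflTransGen (step ends (C.erase e₁)) (ends e₁).1 w) ?_
    intro e' he' hne
    have hmem : e' ∈ C.erase e₁ := Finset.mem_erase.2 ⟨hne, he'⟩
    change Relation.ReflTransGen (step ends (C.erase e₁)) (ends e₁).1 (ends e').1 =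
      Relation.ReflTransGen (step ends (C.erase e₁)) (ends e₁).1 (ends e').2
    apply propext
    constructor
    · intro h; exact h.tail ⟨e', hmem, Or.inl rfl⟩
    · intro h; exact h.tail ⟨e', hmem, Or.inr rfl⟩
  exact key.mp Relation.ReflTransGen.refl

/-- a circuit (indeed any even set) through `e₀` carries an integer cycle with value `1` at `e₀` -/
lemma exists_cycle_of_even {C : Finset E} (hC : ∀ v, Even (LabGraph.endCount ends C v)) {e₀ : E}
    (he₀ : e₀ ∈ C) :
    ∃ γ : E → ℤ, γ e₀ = 1 ∧ (∀ e, e ∉ C → γ e = 0) ∧ ∀ v, LabGraph.boundary ends γ v = 0 := by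
  have hconn := ends_conn_of_even ends hC he₀
  obtain ⟨cf, hcf0, hcf⟩ := conn_coeff ends ℤ (C.erase e₀) hconn
  refine ⟨fun e => (if e = e₀ then 1 else 0) - cf e, ?_, ?_, ?_⟩
  · simp [hcf0 e₀ (Finset.notMem_erase _ _)]
  · intro e he
    have h1 : e ≠ e₀ := fun h => he (h ▸ he₀)
    have h2 : e ∉ C.erase e₀ := fun h => he (Finset.mem_of_mem_erase h)
    simp [h1, hcf0 e h2]
  · intro v
    rw [boundary_eq]
    have h1 : ∑ e, ((if e = e₀ then 1 else 0) - cf e) * bvec ends ℤ e v =
        bvec ends ℤ e₀ v - ∑ e, cf e * bvec ends ℤ e v := by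
      simp only [sub_mul, Finset.sum_sub_distrib, ite_mul, one_mul, zero_mul,
        Finset.sum_ite_eq', Finset.mem_univ, if_true]
    have h2 := congrFun hcf v
    simp only [Finset.sum_apply, Pi.smul_apply, smul_eq_mul] at h2
    rw [h1, ← h2]
    simp [bvec]

end Groth.Agent.Helper7.MatTree
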