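import Mathlib

/-! A sublattice of `ℤ^ι` of finite index is everything as soon as, for every prime `p`, no
non-zero linear form on `𝔽_p^ι` vanishes on its reduction (helper7). -/

set_option autoImplicit false

namespace Groth.Agent.Helper7.LatLoc

variable {ι : Type*} [Fintype ι] [DecidableEq ι]

lemma exists_mod_prime (H : Submodule ℤ (ι → ℤ)) (p : ℕ) (hp : p.Prime)
    (hfun : ∀ c : ι → ZMod p, (∀ h ∈ H, ∑ i, (h i : ZMod p) * c i = 0) → c = 0)
    (x : ι → ℤ) : ∃ h ∈ H, ∃ z : ι → ℤ, x = h + (p : ℤ) • z := by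
  haveI : Fact p.Prime := ⟨hp⟩
  let W : Submodule (ZMod p) (ι → ZMod p) :=
    { carrier := {v | ∃ h ∈ H, (fun i => (h i : ZMod p)) = v}
      zero_mem' := ⟨0, H.zero_mem, by funext i; simp⟩
      add_mem' := by
        rintro _ _ ⟨h₁, hh₁, rfl⟩ ⟨h₂, hh₂, rfl⟩
        exact ⟨h₁ + h₂, H.add_mem hh₁ hh₂, by funext i; simp⟩
      smul_mem' := by
        rintro a _ ⟨h, hh, rfl⟩
        refine ⟨(a.cast : ℤ) • h, H.smul_mem _ hh, ?_⟩
        funext i
        simp [ZMod.intCast_zmod_cast] }
  by_cases hx : (fun i => (x i : ZMod p)) ∈ W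
  · obtain ⟨h, hh, heq⟩ := hx
    have hdvd : ∀ i, (p : ℤ) ∣ x i - h i := by
      intro i
      have := congrFun heq i
      exact (ZMod.intCast_eq_intCast_iff_dvd_sub (h i) (x i) p).1 this
    choose z hz using hdvd
    refine ⟨h, hh, z, ?_⟩
    funext i
    simp only [Pi.add_apply, Pi.smul_apply, smul_eq_mul]
    rw [← hz i]; ring
  · exfalso
    obtain ⟨f, hfx, hWf⟩ := Submodule.exists_le_ker_of_notMem hx
    have hc0 : (fun i => f (fun j => if i = j then 1 else 0)) = 0 := by
      apply hfun
      intro h hh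
      have h1 : f (fun i => (h i : ZMod p)) = 0 := hWf ⟨h, hh, rfl⟩
      rw [LinearMap.pi_apply_eq_sum_univ] at h1
      simpa using h1
    apply hfx
    rw [LinearMap.pi_apply_eq_sum_univ]
    refine Finset.sum_eq_zero fun i _ => ?_
    rw [congrFun hc0 i]
    simp

theorem eq_top_of_functionals (H : Submodule ℤ (ι → ℤ)) (N : ℕ) (hN0 : 0 < N)
    (hN : ∀ x : ι → ℤ, (N : ℤ) • x ∈ H)
    (hfun : ∀ p : ℕ, p.Prime → ∀ c : ι → ZMod p,
      (∀ h ∈ H, ∑ i, (h i : ZMod p) * c i = 0) → c = 0) : H = ⊤ := by
  have key : ∀ n : ℕ, 0 < n → (∀ x : ι → ℤ, (n : ℤ) • x ∈ H) → H = ⊤ := by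
    intro n
    induction n using Nat.strong_induction_on with
    | _ n ih =>
      intro hn0 hn
      by_cases h1 : n = 1
      · subst h1
        rw [eq_top_iff]
        intro x _
        simpa using hn x
      · have hp := Nat.minFac_prime h1
        obtain ⟨k, hk⟩ := Nat.minFac_dvd n
        have hk0 : 0 < k := by
          rcases Nat.eq_zero_or_pos k with h | h
          · rw [h, mul_zero] at hk; omega
          · exact h
        have hkn : k < n := by
          have := hp.one_lt
          calc k = 1 * k := (one_mul k).symm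
            _ < n.minFac * k := Nat.mul_lt_mul_of_pos_right this hk0
            _ = n := hk.symm
        apply ih k hkn hk0
        intro x
        obtain ⟨h, hh, z, rfl⟩ := exists_mod_prime H _ hp (hfun _ hp) x
        rw [smul_add]
        refine H.add_mem (H.smul_mem _ hh) ?_
        have h2 : (k : ℤ) • ((n.minFac : ℤ) • z) = (n : ℤ) • z := by
          rw [smul_smul]
          congr 1
          conv_rhs => rw [hk]
          push_cast
          ring
        rw [h2]
        exact hn z
  exact key N hN0 hN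

end Groth.Agent.Helper7.LatLoc
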