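import Mathlib
import Groth.Prelude.Def_W4c1nerontoraddGraph
import Groth.Agent.Lib.Helper7.CycLat
import Groth.Agent.Lib.Helper7.LatLoc

/-! Total blow-up graph of a labelled multigraph: graph-theoretic Chinese remainder theorem,
multidegree on the blow-up, second-order recursions along the subdivided edges (helper7). -/

set_option autoImplicit false
universe u

namespace Groth.Agent.Helper7.BlowUp

open LabGraph Groth.Agent.Helper7.LabG Groth.Agent.Helper7.MatTree

variable {V E : Type u} [Fintype V] [Fintype E] [DecidableEq V] [DecidableEq E]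
variable (ends : E → V × V) (l : E → ℕ)

/-- an integer cycle is orthogonal to every gradient -/
lemma sum_cycle_grad (γ : E → ℤ) (hγ : ∀ v, LabGraph.boundary ends γ v = 0) (φ : V → ℤ) :
    ∑ e, γ e * (φ (ends e).2 - φ (ends e).1) = 0 := by
  calc ∑ e, γ e * (φ (ends e).2 - φ (ends e).1)
      = ∑ e, ∑ v, φ v * (γ e * bvec ends ℤ e v) := by
        refine Finset.sum_congr rfl fun e _ => ?_
        rw [← sum_mul_bvec ends φ e, Finset.mul_sum]
        exact Finset.sum_congr rfl fun v _ => by ring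
    _ = ∑ v, ∑ e, φ v * (γ e * bvec ends ℤ e v) := Finset.sum_comm
    _ = ∑ v, φ v * LabGraph.boundary ends γ v := by
        refine Finset.sum_congr rfl fun v _ => ?_
        rw [boundary_eq, Finset.mul_sum]
    _ = 0 := by simp [hγ]

/-- graph-theoretic Chinese remainder theorem: on a circuit-coprime labelled graph every integer edge
vector is a multiple-of-the-labels vector plus a gradient -/
theorem gcrt_of_coprime (hl : ∀ e, 0 < l e) (hcc : LabGraph.IsCircuitCoprime ends l) (x : E → ℤ) :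
    ∃ (y : E → ℤ) (φ : V → ℤ), ∀ e, x e = (l e : ℤ) * y e + (φ (ends e).2 - φ (ends e).1) := by
  classical
  let H : Submodule ℤ (E → ℤ) :=
    { carrier := {x | ∃ (y : E → ℤ) (φ : V → ℤ),
          ∀ e, x e = (l e : ℤ) * y e + (φ (ends e).2 - φ (ends e).1)}
      zero_mem' := ⟨0, 0, fun e => by simp⟩
      add_mem' := by
        rintro x₁ x₂ ⟨y₁, φ₁, h₁⟩ ⟨y₂, φ₂, h₂⟩
        refine ⟨y₁ + y₂, φ₁ + φ₂, fun e => ?_⟩
        simp only [Pi.add_apply]
        rw [h₁ e, h₂ e]; ring
      smul_mem' := by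
        rintro n x ⟨y, φ, h⟩
        refine ⟨n • y, n • φ, fun e => ?_⟩
        simp only [Pi.smul_apply, smul_eq_mul]
        rw [h e]; ring }
  have hN0 : 0 < ∏ e, l e := Finset.prod_pos fun e _ => hl e
  have hN : ∀ x : E → ℤ, ((∏ e, l e : ℕ) : ℤ) • x ∈ H := by
    intro x
    refine ⟨fun e => (((∏ e', l e') / l e : ℕ) : ℤ) * x e, 0, fun e => ?_⟩
    have h1 : l e * ((∏ e', l e') / l e) = ∏ e', l e' :=
      Nat.mul_div_cancel' (Finset.dvd_prod_of_mem l (Finset.mem_univ e))
    have h2 : ((l e : ℕ) : ℤ) * (((∏ e', l e') / l e : ℕ) : ℤ) = ((∏ e', l e' : ℕ) : ℤ) := by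
      exact_mod_cast h1
    simp only [Pi.smul_apply, smul_eq_mul, Pi.zero_apply, sub_self, add_zero]
    rw [← mul_assoc, h2]
  have hfun : ∀ p : ℕ, p.Prime → ∀ c : E → ZMod p,
      (∀ h ∈ H, ∑ e, (h e : ZMod p) * c e = 0) → c = 0 := by
    intro p hp c hc
    haveI : Fact p.Prime := ⟨hp⟩
    have hα : ∀ f : E, (l f : ZMod p) * c f = 0 := by
      intro f
      have hmem : ((l f : ℕ) : ℤ) • (Pi.single f 1 : E → ℤ) ∈ H := by
        refine ⟨Pi.single f 1, 0, fun e => ?_⟩
        simp only [Pi.smul_apply, smul_eq_mul, Pi.single_apply, Pi.zero_apply, sub_self, add_zero]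
        by_cases h : e = f
        · rw [if_pos h, h]
        · rw [if_neg h]; ring
      have h1 := hc _ hmem
      rw [Finset.sum_eq_single f] at h1
      · simpa using h1
      · intro e _ hne
        simp [Pi.single_apply, hne]
      · intro h; exact absurd (Finset.mem_univ _) h
    have hβ : ∑ e, c e • bvec ends (ZMod p) e = 0 := by
      funext v
      have hmem : (fun e => bvec ends ℤ e v) ∈ H := by
        refine ⟨0, Pi.single v 1, fun e => ?_⟩
        simp only [Pi.zero_apply, mul_zero, zero_add, bvec, Pi.sub_apply]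
        rw [Pi.single_comm (ends e).2, Pi.single_comm (ends e).1]
      have h2 := hc _ hmem
      rw [Finset.sum_apply]
      simp only [Pi.smul_apply, smul_eq_mul, Pi.zero_apply]
      rw [← h2]
      refine Finset.sum_congr rfl fun e _ => ?_
      rw [bvec_apply, bvec_apply]
      push_cast
      ring
    by_contra hne
    by_cases hcirc : ∃ C : Finset E, C ⊆ Finset.univ.filter (fun e => c e ≠ 0) ∧
        LabGraph.IsCircuit ends C
    · obtain ⟨C, hCD, hC⟩ := hcirc
      have h1 : (p : ℕ) ∣ C.gcd l := by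
        apply Finset.dvd_gcd
        intro e he
        have hce : c e ≠ 0 := (Finset.mem_filter.1 (hCD he)).2
        rcases mul_eq_zero.1 (hα e) with h | h
        · exact (ZMod.natCast_eq_zero_iff _ _).1 h
        · exact absurd h hce
      rw [hcc C hC] at h1
      exact hp.one_lt.ne' (Nat.dvd_one.1 h1)
    · push Not at hcirc
      have hsum : ∑ e ∈ Finset.univ.filter (fun e => c e ≠ 0), c e • bvec ends (ZMod p) e = 0 := by
        rw [← hβ]
        apply Finset.sum_subset (Finset.subset_univ _)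
        intro e _ he
        have h0 : c e = 0 := by
          by_contra h; exact he (Finset.mem_filter.2 ⟨Finset.mem_univ _, h⟩)
        rw [h0, zero_smul]
      have h0 := forest_indep ends (ZMod p) (fun C hCD hC => hcirc C hCD hC) c hsum
      apply hne
      funext e
      by_contra h
      exact h (h0 e (Finset.mem_filter.2 ⟨Finset.mem_univ _, h⟩))
  have hH : H = ⊤ :=
    Groth.Agent.Helper7.LatLoc.eq_top_of_functionals H _ hN0 hN hfun
  have hx : x ∈ H := hH ▸ Submodule.mem_top
  exact hx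

/-- converse of the graph-theoretic Chinese remainder theorem -/
theorem coprime_of_gcrt
    (h : ∀ x : E → ℤ, ∃ (y : E → ℤ) (φ : V → ℤ),
      ∀ e, x e = (l e : ℤ) * y e + (φ (ends e).2 - φ (ends e).1)) :
    LabGraph.IsCircuitCoprime ends l := by
  classical
  intro C hC
  obtain ⟨e₀, he₀⟩ := hC.1
  obtain ⟨γ, hγ0, hγsupp, hγcyc⟩ := exists_cycle_of_even ends hC.2.1 he₀
  obtain ⟨y, φ, hy⟩ := h (Pi.single e₀ 1)
  have h3 : ∑ e, γ e * (Pi.single e₀ (1:ℤ) : E → ℤ) e = ∑ e, (l e : ℤ) * (γ e * y e) := by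
    calc ∑ e, γ e * (Pi.single e₀ (1:ℤ) : E → ℤ) e
        = ∑ e, ((l e : ℤ) * (γ e * y e) + γ e * (φ (ends e).2 - φ (ends e).1)) :=
          Finset.sum_congr rfl fun e _ => by rw [hy e]; ring
      _ = _ := by rw [Finset.sum_add_distrib, sum_cycle_grad ends γ hγcyc φ, add_zero]
  have h5 : ∑ e, γ e * (Pi.single e₀ (1:ℤ) : E → ℤ) e = γ e₀ := by
    simp only [Pi.single_apply, mul_ite, mul_one, mul_zero, Finset.sum_ite_eq', Finset.mem_univ,
      if_true]
  have h4 : (1:ℤ) = ∑ e ∈ C, (l e : ℤ) * (γ e * y e) := by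
    have h6 : ∑ e, (l e : ℤ) * (γ e * y e) = ∑ e ∈ C, (l e : ℤ) * (γ e * y e) := by
      symm
      apply Finset.sum_subset (Finset.subset_univ _)
      intro e _ he
      rw [hγsupp e he]; ring
    rw [← h6, ← h3, h5, hγ0]
  have h7 : ((C.gcd l : ℕ) : ℤ) ∣ 1 := by
    rw [h4]
    refine Finset.dvd_sum fun e he => Dvd.dvd.mul_right ?_ _
    exact Int.natCast_dvd_natCast.2 (Finset.gcd_dvd he)
  have h8 : (C.gcd l : ℕ) ∣ 1 := Int.natCast_dvd_natCast.1 (by simpa using h7)
  exact Nat.dvd_one.1 h8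

/-! ### vertices of the subdivided edges -/

lemma pathVert_zero (e : E) : pathVert ends l e 0 = Sum.inl (ends e).1 := by
  unfold pathVert; rw [dif_pos rfl]

lemma pathVert_mid (e : E) (j : ℕ) (h0 : j ≠ 0) (h : j < l e) :
    pathVert ends l e j = Sum.inr ⟨e, ⟨j - 1, by omega⟩⟩ := by
  unfold pathVert; rw [dif_neg h0, dif_pos h]

lemma pathVert_last (e : E) (j : ℕ) (h0 : j ≠ 0) (h : l e ≤ j) :
    pathVert ends l e j = Sum.inl (ends e).2 := by
  unfold pathVert; rw [dif_neg h0, dif_neg (by omega)]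

lemma pathVert_succ (e : E) (i : Fin (l e - 1)) :
    pathVert ends l e (i.val + 1) = Sum.inr ⟨e, i⟩ := by
  have h1 : i.val + 1 < l e := by have := i.isLt; omega
  rw [pathVert_mid ends l e (i.val + 1) (Nat.succ_ne_zero _) h1]
  have h2 : (⟨i.val + 1 - 1, by have := i.isLt; omega⟩ : Fin (l e - 1)) = i :=
    Fin.ext (Nat.add_sub_cancel _ _)
  rw [h2]

lemma pathVert_eq_inr_iff (e₀ : E) (i : Fin (l e₀ - 1)) (j : ℕ) :
    pathVert ends l e₀ j = Sum.inr ⟨e₀, i⟩ ↔ j = i.val + 1 := by
  constructor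
  · intro h
    unfold pathVert at h
    by_cases h0 : j = 0
    · rw [dif_pos h0] at h; exact absurd h Sum.inl_ne_inr
    · rw [dif_neg h0] at h
      by_cases h1 : j < l e₀
      · rw [dif_pos h1] at h
        have h3 := sigma_mk_injective (Sum.inr.inj h)
        have h4 : j - 1 = i.val := congrArg Fin.val h3
        omega
      · rw [dif_neg h1] at h; exact absurd h Sum.inl_ne_inr
  · rintro rfl; exact pathVert_succ ends l e₀ i

lemma pathVert_ne_inr (e e₀ : E) (hne : e ≠ e₀) (i : Fin (l e₀ - 1)) (j : ℕ) :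
    pathVert ends l e j ≠ Sum.inr ⟨e₀, i⟩ := by
  intro h
  unfold pathVert at h
  by_cases h0 : j = 0
  · rw [dif_pos h0] at h; exact absurd h Sum.inl_ne_inr
  · rw [dif_neg h0] at h
    by_cases h1 : j < l e
    · rw [dif_pos h1] at h
      exact hne (congrArg Sigma.fst (Sum.inr.inj h))
    · rw [dif_neg h1] at h; exact absurd h Sum.inl_ne_inr

lemma pathVert_eq_inl_iff (e : E) (j : ℕ) (v : V) :
    pathVert ends l e j = Sum.inl v ↔
      (j = 0 ∧ (ends e).1 = v) ∨ (j ≠ 0 ∧ l e ≤ j ∧ (ends e).2 = v) := by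
  unfold pathVert
  by_cases h0 : j = 0
  · rw [dif_pos h0]
    constructor
    · intro h; exact Or.inl ⟨h0, Sum.inl.inj h⟩
    · rintro (⟨_, h⟩ | ⟨h, _⟩)
      · rw [h]
      · exact absurd h0 h
  · rw [dif_neg h0]
    by_cases h1 : j < l e
    · rw [dif_pos h1]
      constructor
      · intro h; exact absurd h Sum.inr_ne_inl
      · rintro (⟨h, _⟩ | ⟨_, h, _⟩)
        · exact absurd h h0
        · omega
    · rw [dif_neg h1]
      constructor
      · intro h; exact Or.inr ⟨h0, by omega, Sum.inl.inj h⟩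
      · rintro (⟨h, _⟩ | ⟨_, _, h⟩)
        · exact absurd h h0
        · rw [h]

/-! ### the multidegree on the blow-up graph -/

lemma mdeg_bl (ψ : BlVert V E l → ℤ) (w : BlVert V E l) :
    LabGraph.mdeg (blEnds ends l) (fun _ => 1) ψ w =
      ∑ e : E, ∑ k : Fin (l e),
        ((if pathVert ends l e k.val = w then
            ψ (pathVert ends l e (k.val + 1)) - ψ (pathVert ends l e k.val) else 0) +
         (if pathVert ends l e (k.val + 1) = w then
            ψ (pathVert ends l e k.val) - ψ (pathVert ends l e (k.val + 1)) else 0)) := by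
  unfold LabGraph.mdeg
  rw [Fintype.sum_sigma]
  refine Finset.sum_congr rfl fun e _ => Finset.sum_congr rfl fun k _ => ?_
  simp only [blEnds, Nat.cast_one, Int.ediv_one]

lemma mdeg_bl_inr (ψ : BlVert V E l → ℤ) (e₀ : E) (i : Fin (l e₀ - 1)) :
    LabGraph.mdeg (blEnds ends l) (fun _ => 1) ψ (Sum.inr ⟨e₀, i⟩) =
      (ψ (pathVert ends l e₀ (i.val + 1 + 1)) - ψ (pathVert ends l e₀ (i.val + 1))) +
      (ψ (pathVert ends l e₀ i.val) - ψ (pathVert ends l e₀ (i.val + 1))) := by
  rw [mdeg_bl]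
  rw [Finset.sum_eq_single e₀]
  · have hi := i.isLt
    have hi1 : i.val + 1 < l e₀ := by omega
    have hi0 : i.val < l e₀ := by omega
    rw [Finset.sum_add_distrib]
    congr 1
    · rw [Finset.sum_eq_single (⟨i.val + 1, hi1⟩ : Fin (l e₀))]
      · dsimp only
        rw [if_pos ((pathVert_eq_inr_iff ends l e₀ i _).2 rfl)]
      · intro k _ hk
        refine if_neg fun h => hk (Fin.ext ?_)
        exact (pathVert_eq_inr_iff ends l e₀ i _).1 h
      · intro h; exact absurd (Finset.mem_univ _) h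
    · rw [Finset.sum_eq_single (⟨i.val, hi0⟩ : Fin (l e₀))]
      · dsimp only
        rw [if_pos ((pathVert_eq_inr_iff ends l e₀ i _).2 rfl)]
      · intro k _ hk
        refine if_neg fun h => hk (Fin.ext ?_)
        exact Nat.succ.inj ((pathVert_eq_inr_iff ends l e₀ i _).1 h)
      · intro h; exact absurd (Finset.mem_univ _) h
  · intro e _ hne
    apply Finset.sum_eq_zero
    intro k _
    rw [if_neg (pathVert_ne_inr ends l e e₀ hne i _),
      if_neg (pathVert_ne_inr ends l e e₀ hne i _), add_zero]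
  · intro h; exact absurd (Finset.mem_univ _) h

lemma mdeg_bl_inl (hl : ∀ e, 0 < l e) (ψ : BlVert V E l → ℤ) (v : V) :
    LabGraph.mdeg (blEnds ends l) (fun _ => 1) ψ (Sum.inl v) =
      ∑ e, ((if (ends e).1 = v then
              ψ (pathVert ends l e 1) - ψ (pathVert ends l e 0) else 0) +
            (if (ends e).2 = v then
              ψ (pathVert ends l e (l e - 1)) - ψ (pathVert ends l e (l e)) else 0)) := by
  rw [mdeg_bl]
  refine Finset.sum_congr rfl fun e _ => ?_
  have hle := hl e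
  rw [Finset.sum_add_distrib]
  congr 1
  · rw [Finset.sum_eq_single (⟨0, hle⟩ : Fin (l e))]
    · dsimp only
      by_cases hv : (ends e).1 = v
      · rw [if_pos hv, if_pos ((pathVert_eq_inl_iff ends l e 0 v).2 (Or.inl ⟨rfl, hv⟩))]
      · rw [if_neg hv, if_neg]
        intro h
        rcases (pathVert_eq_inl_iff ends l e 0 v).1 h with ⟨_, h'⟩ | ⟨h', _⟩
        · exact hv h'
        · exact h' rfl
    · intro k _ hk
      refine if_neg fun h => hk (Fin.ext ?_)
      rcases (pathVert_eq_inl_iff ends l e k.val v).1 h with ⟨h', _⟩ | ⟨_, h', _⟩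
      · exact h'
      · exact absurd k.isLt (by omega)
    · intro h; exact absurd (Finset.mem_univ _) h
  · rw [Finset.sum_eq_single (⟨l e - 1, by omega⟩ : Fin (l e))]
    · dsimp only
      have e1 : l e - 1 + 1 = l e := by omega
      rw [e1]
      by_cases hv : (ends e).2 = v
      · rw [if_pos hv, if_pos ((pathVert_eq_inl_iff ends l e (l e) v).2
          (Or.inr ⟨by omega, le_refl _, hv⟩))]
      · rw [if_neg hv, if_neg]
        intro h
        rcases (pathVert_eq_inl_iff ends l e (l e) v).1 h with ⟨h', _⟩ | ⟨_, _, h'⟩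
        · omega
        · exact hv h'
    · intro k _ hk
      refine if_neg fun h => hk (Fin.ext ?_)
      have hk' := k.isLt
      rcases (pathVert_eq_inl_iff ends l e (k.val + 1) v).1 h with ⟨h', _⟩ | ⟨_, h', _⟩
      · omega
      · show k.val = l e - 1
        omega
    · intro h; exact absurd (Finset.mem_univ _) h

/-! ### second-order recursions along a path -/

lemma arith_of_harmonic (P : ℕ → ℤ) (n : ℕ)
    (h : ∀ i, i + 1 < n → (P (i + 1 + 1) - P (i + 1)) + (P i - P (i + 1)) = 0) :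
    ∀ j, j ≤ n → P j = P 0 + (j : ℤ) * (P 1 - P 0) := by
  have key : ∀ j, (j ≤ n → P j = P 0 + (j : ℤ) * (P 1 - P 0)) ∧
      (j + 1 ≤ n → P (j + 1) = P 0 + ((j : ℤ) + 1) * (P 1 - P 0)) := by
    intro j
    induction j with
    | zero =>
      refine ⟨fun _ => by simp, fun _ => ?_⟩
      show P 1 = P 0 + ((0 : ℕ) + 1 : ℤ) * (P 1 - P 0)
      push_cast; ring
    | succ j ih =>
      refine ⟨fun hj => ?_, fun hj => ?_⟩
      · have := ih.2 hj
        rw [this]; push_cast; ring
      · have h1 := ih.1 (by omega)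
        have h2 := ih.2 (by omega)
        have h3 := h j (by omega)
        push_cast
        linear_combination h3 + 2 * h2 - h1
  intro j hj
  exact (key j).1 hj

lemma diff_of_harmonic (P : ℕ → ℤ) (n : ℕ)
    (h : ∀ i, i + 1 < n → (P (i + 1 + 1) - P (i + 1)) + (P i - P (i + 1)) = 0) :
    ∀ j, j + 1 ≤ n → P (j + 1) - P j = P 1 - P 0 := by
  intro j hj
  have h1 := arith_of_harmonic P n h j (by omega)
  have h2 := arith_of_harmonic P n h (j + 1) hj
  push_cast at h2
  linear_combination h2 - h1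

lemma seq_lemma (P : ℕ → ℤ) (n : ℕ) (c : ℤ) (hn : 2 ≤ n)
    (h : ∀ i, i + 1 < n → (P (i + 1 + 1) - P (i + 1)) + (P i - P (i + 1)) +
      (if i + 2 = n then c else 0) = 0) :
    c = (n : ℤ) * (P 1 - P 0) - (P n - P 0) := by
  obtain ⟨m, rfl⟩ : ∃ m, n = m + 2 := ⟨n - 2, by omega⟩
  have h1 : ∀ i, i + 1 < m + 1 → (P (i + 1 + 1) - P (i + 1)) + (P i - P (i + 1)) = 0 := by
    intro i hi
    have := h i (by omega)
    rw [if_neg (by omega), add_zero] at this
    exact this
  have h2 := arith_of_harmonic P (m + 1) h1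
  have h3 := h2 m (by omega)
  have h4 := h2 (m + 1) le_rfl
  have h5 : (P (m + 2) - P (m + 1)) + (P m - P (m + 1)) + c = 0 := by
    have := h m (by omega)
    rw [if_pos rfl] at this
    exact this
  push_cast at h4 ⊢
  linear_combination h5 + 2 * h4 - h3

/-- the solution of `Q 0 = 0`, `Q 1 = d`, `(Q (j+2) - Q (j+1)) + (Q j - Q (j+1)) + b (j+1) = 0`,
together with its difference sequence -/
def qseq (b : ℕ → ℤ) (d : ℤ) : ℕ → ℤ × ℤ
  | 0 => (0, d)
  | (j + 1) => ((qseq b d j).1 + (qseq b d j).2, (qseq b d j).2 - b (j + 1))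

lemma qseq_affine (b : ℕ → ℤ) (d : ℤ) (j : ℕ) :
    (qseq b d j).1 = (j : ℤ) * d + (qseq b 0 j).1 ∧ (qseq b d j).2 = d + (qseq b 0 j).2 := by
  induction j with
  | zero => simp [qseq]
  | succ j ih =>
    simp only [qseq]
    rw [ih.1, ih.2]
    push_cast
    constructor <;> ring

lemma qseq_rec (b : ℕ → ℤ) (d : ℤ) (j : ℕ) :
    ((qseq b d (j + 1 + 1)).1 - (qseq b d (j + 1)).1) +
      ((qseq b d j).1 - (qseq b d (j + 1)).1) + b (j + 1) = 0 := by
  simp only [qseq]
  ring

end Groth.Agent.Helper7.BlowUp
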