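import Mathlib

/-!
# Lifting maps on `H⁰` to chain maps into termwise injective complexes, compatibly
with a left exact sequence of complexes.
-/

open CategoryTheory CategoryTheory.Limits

namespace Groth.Agent.Helper7.CechDer

universe u v

section GR

variable {V : Type u} [Category.{v} V] [Preadditive V]
variable (X I : ℕ → V) (a : ∀ n, X n ⟶ X (n + 1)) (b : ∀ n, I n ⟶ I (n + 1))
  (hb : ∀ n, b n ≫ b (n + 1) = 0) (φ : ∀ n, X n ⟶ I n)
  (hφ : ∀ n, φ n ≫ b n = a n ≫ φ (n + 1))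
  (h0 : ∃ t : X 1 ⟶ I 0, a 0 ≫ t = φ 0)
  (hext : ∀ n (ψ : X (n + 1) ⟶ I (n + 1)), a n ≫ ψ = 0 →
    ∃ χ : X (n + 2) ⟶ I (n + 1), a (n + 1) ≫ χ = ψ)

omit hb hφ in
theorem gr_aux (n : ℕ) (h : {h : X (n + 1) ⟶ I n // a n ≫ h ≫ b n = a n ≫ φ (n + 1)}) :
    a n ≫ (φ (n + 1) - h.1 ≫ b n) = 0 := by
  rw [Preadditive.comp_sub, h.2, sub_self]

/-- one step of the recursion -/
noncomputable def grStep (n : ℕ)
    (h : {h : X (n + 1) ⟶ I n // a n ≫ h ≫ b n = a n ≫ φ (n + 1)}) :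
    {h' : X (n + 2) ⟶ I (n + 1) // a (n + 1) ≫ h' ≫ b (n + 1) = a (n + 1) ≫ φ (n + 2)} :=
  ⟨(hext n _ (gr_aux X I a b φ n h)).choose, by
    rw [← Category.assoc, (hext n _ (gr_aux X I a b φ n h)).choose_spec,
      Preadditive.sub_comp, Category.assoc, hb, comp_zero, sub_zero, hφ]⟩

theorem grStep_spec (n : ℕ)
    (h : {h : X (n + 1) ⟶ I n // a n ≫ h ≫ b n = a n ≫ φ (n + 1)}) :
    a (n + 1) ≫ (grStep X I a b hb φ hφ hext n h).1 = φ (n + 1) - h.1 ≫ b n :=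
  (hext n _ (gr_aux X I a b φ n h)).choose_spec

/-- the recursively defined sequence -/
noncomputable def grSeq :
    ∀ n, {h : X (n + 1) ⟶ I n // a n ≫ h ≫ b n = a n ≫ φ (n + 1)}
  | 0 => ⟨h0.choose, by rw [← Category.assoc, h0.choose_spec, hφ]⟩
  | n + 1 => grStep X I a b hb φ hφ hext n (grSeq n)

include hb hφ h0 hext in
theorem gr_exists : ∃ h : ∀ n, X (n + 1) ⟶ I n, a 0 ≫ h 0 = φ 0 ∧
    ∀ n, φ (n + 1) = h n ≫ b n + a (n + 1) ≫ h (n + 1) := by
  refine ⟨fun n => (grSeq X I a b hb φ hφ h0 hext n).1, ?_, ?_⟩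
  · exact h0.choose_spec
  · intro n
    have : a (n + 1) ≫ (grSeq X I a b hb φ hφ h0 hext (n + 1)).1 =
        φ (n + 1) - (grSeq X I a b hb φ hφ h0 hext n).1 ≫ b n :=
      grStep_spec X I a b hb φ hφ hext n _
    rw [this]; abel

end GR

variable {V : Type u} [Category.{v} V] [Abelian V]

theorem ext_of_exactAt (C : CochainComplex V ℕ) (n : ℕ) (hC : C.ExactAt (n + 1)) {J : V}
    [Injective J] (ψ : C.X (n + 1) ⟶ J) (hψ : C.d n (n + 1) ≫ ψ = 0) :
    ∃ χ : C.X (n + 2) ⟶ J, C.d (n + 1) (n + 2) ≫ χ = ψ := by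
  have h : (C.sc' n (n + 1) (n + 2)).Exact :=
    (C.exactAt_iff' n (n + 1) (n + 2) (by simp) (by simp)).1 hC
  exact ⟨h.descToInjective ψ hψ, h.comp_descToInjective ψ hψ⟩

theorem ext_of_cycles (C : CochainComplex V ℕ) {J : V} [Injective J] (ψ : C.X 0 ⟶ J)
    (hψ : C.iCycles 0 ≫ ψ = 0) : ∃ χ : C.X 1 ⟶ J, C.d 0 1 ≫ χ = ψ := by
  have h : (ShortComplex.mk (C.iCycles 0) (C.d 0 1) (by simp)).Exact :=
    ShortComplex.exact_of_f_is_kernel _ (C.cyclesIsKernel 0 1 (by simp))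
  exact ⟨h.descToInjective ψ hψ, h.comp_descToInjective ψ hψ⟩

/-- the successor step for `exists_lift` -/
noncomputable def liftSucc (C I : CochainComplex V ℕ) (hC : ∀ n, 0 < n → C.ExactAt n)
    [∀ n, Injective (I.X n)] (n : ℕ)
    (p : Σ' (f : C.X n ⟶ I.X n) (f' : C.X (n + 1) ⟶ I.X (n + 1)),
      f ≫ I.d n (n + 1) = C.d n (n + 1) ≫ f') :
    Σ' f'' : C.X (n + 2) ⟶ I.X (n + 2),
      p.2.1 ≫ I.d (n + 1) (n + 2) = C.d (n + 1) (n + 2) ≫ f'' :=
  have e := ext_of_exactAt C n (hC (n + 1) n.succ_pos) (p.2.1 ≫ I.d (n + 1) (n + 2))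
    (by rw [← Category.assoc, ← p.2.2, Category.assoc, I.d_comp_d, comp_zero])
  ⟨e.choose, e.choose_spec.symm⟩

theorem exists_lift (C I : CochainComplex V ℕ) (hC : ∀ n, 0 < n → C.ExactAt n)
    (injI : ∀ n, Injective (I.X n)) (g : C.homology 0 ⟶ I.homology 0) :
    ∃ f : C ⟶ I, HomologicalComplex.homologyMap f 0 = g := by
  have := injI
  let gt : C.cycles 0 ⟶ I.cycles 0 := C.homologyπ 0 ≫ g ≫ inv (I.homologyπ 0)
  let f0 : C.X 0 ⟶ I.X 0 := Injective.factorThru (gt ≫ I.iCycles 0) (C.iCycles 0)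
  have hf0 : C.iCycles 0 ≫ f0 = gt ≫ I.iCycles 0 := Injective.comp_factorThru _ _
  have h1 := ext_of_cycles C (f0 ≫ I.d 0 1)
    (by rw [← Category.assoc, hf0, Category.assoc, I.iCycles_d, comp_zero])
  let f : C ⟶ I := CochainComplex.mkHom C I f0 h1.choose h1.choose_spec.symm
    (fun n p => liftSucc C I hC n p)
  refine ⟨f, ?_⟩
  have hf_0 : f.f 0 = f0 := rfl
  have hcm : HomologicalComplex.cyclesMap f 0 = gt := by
    rw [← cancel_mono (I.iCycles 0), HomologicalComplex.cyclesMap_i, hf_0, hf0]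
  rw [← cancel_epi (C.homologyπ 0), HomologicalComplex.homologyπ_naturality, hcm]
  simp [gt]

theorem exists_homotopy_zero (C I : CochainComplex V ℕ) (hC : ∀ n, 0 < n → C.ExactAt n)
    (injI : ∀ n, Injective (I.X n)) (f : C ⟶ I)
    (hf : HomologicalComplex.homologyMap f 0 = 0) :
    ∃ h : ∀ n, C.X (n + 1) ⟶ I.X n, C.d 0 1 ≫ h 0 = f.f 0 ∧
      ∀ n, f.f (n + 1) = h n ≫ I.d n (n + 1) + C.d (n + 1) (n + 2) ≫ h (n + 1) := by
  have := injI
  have hcyc : C.iCycles 0 ≫ f.f 0 = 0 := by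
    have h1 : HomologicalComplex.cyclesMap f 0 = 0 := by
      rw [← cancel_mono (I.homologyπ 0), ← HomologicalComplex.homologyπ_naturality, hf,
        comp_zero, zero_comp]
    rw [← HomologicalComplex.cyclesMap_i, h1, zero_comp]
  exact gr_exists (fun n => C.X n) (fun n => I.X n) (fun n => C.d n (n + 1))
    (fun n => I.d n (n + 1)) (fun n => I.d_comp_d _ _ _) (fun n => f.f n)
    (fun n => f.comm n (n + 1)) (ext_of_cycles C (f.f 0) hcyc)
    (fun n ψ hψ => ext_of_exactAt C n (hC (n + 1) n.succ_pos) ψ hψ)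

theorem exists_nullHomotopic (C I : CochainComplex V ℕ) (H : ∀ n, C.X (n + 1) ⟶ I.X n) :
    ∃ N : C ⟶ I, N.f 0 = C.d 0 1 ≫ H 0 ∧
      (∀ n, N.f (n + 1) = H n ≫ I.d n (n + 1) + C.d (n + 1) (n + 2) ≫ H (n + 1)) ∧
      HomologicalComplex.homologyMap N 0 = 0 := by
  let Nf : ∀ n, C.X n ⟶ I.X n := fun n => match n with
    | 0 => C.d 0 1 ≫ H 0
    | n + 1 => H n ≫ I.d n (n + 1) + C.d (n + 1) (n + 2) ≫ H (n + 1)
  let N : C ⟶ I :=
    { f := Nf
      comm' := by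
        rintro i _ rfl
        cases i with
        | zero => simp [Nf]
        | succ n => simp [Nf]; rfl }
  refine ⟨N, rfl, fun n => rfl, ?_⟩
  have hcm : HomologicalComplex.cyclesMap N 0 = 0 := by
    rw [← cancel_mono (I.iCycles 0), HomologicalComplex.cyclesMap_i, zero_comp]
    show C.iCycles 0 ≫ C.d 0 1 ≫ H 0 = 0
    rw [← Category.assoc, C.iCycles_d, zero_comp]
  rw [← cancel_epi (C.homologyπ 0), HomologicalComplex.homologyπ_naturality, comp_zero, hcm,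
    zero_comp]

theorem exists_extend_mono (C' C I : CochainComplex V ℕ) (jC : C' ⟶ C)
    (mC : ∀ n, Mono (jC.f n)) (hC' : ∀ n, 0 < n → C'.ExactAt n)
    (injI : ∀ n, Injective (I.X n)) (ft : C ⟶ I) (φ' : C' ⟶ I)
    (h0 : HomologicalComplex.homologyMap (jC ≫ ft - φ') 0 = 0) :
    ∃ f : C ⟶ I, jC ≫ f = φ' ∧
      HomologicalComplex.homologyMap f 0 = HomologicalComplex.homologyMap ft 0 := by
  have := injI
  have := mC
  obtain ⟨h, h0', hs⟩ := exists_homotopy_zero C' I hC' injI (jC ≫ ft - φ') h0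
  let H : ∀ n, C.X (n + 1) ⟶ I.X n := fun n => Injective.factorThru (h n) (jC.f (n + 1))
  have hH : ∀ n, jC.f (n + 1) ≫ H n = h n := fun n => Injective.comp_factorThru _ _
  obtain ⟨N, hN0, hNs, hNh⟩ := exists_nullHomotopic C I H
  refine ⟨ft - N, ?_, ?_⟩
  · ext n
    cases n with
    | zero =>
      have e : C'.d 0 1 ≫ h 0 = jC.f 0 ≫ ft.f 0 - φ'.f 0 := by simpa using h0'
      simp only [HomologicalComplex.comp_f, HomologicalComplex.sub_f_apply, hN0,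
        Preadditive.comp_sub]
      rw [jC.comm_assoc, hH, e]; abel
    | succ n =>
      have e : jC.f (n + 1) ≫ ft.f (n + 1) - φ'.f (n + 1) =
          h n ≫ I.d n (n + 1) + C'.d (n + 1) (n + 2) ≫ h (n + 1) := by simpa using hs n
      simp only [HomologicalComplex.comp_f, HomologicalComplex.sub_f_apply, hNs,
        Preadditive.comp_sub, Preadditive.comp_add]
      rw [jC.comm_assoc, hH, ← Category.assoc, hH, ← e]; abel
  · rw [HomologicalComplex.homologyMap_sub, hNh, sub_zero]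

theorem exists_extend_quot (C' C C'' I'' : CochainComplex V ℕ) (jC : C' ⟶ C) (πC : C ⟶ C'')
    (mC : ∀ n, Mono (jC.f n)) (wC : ∀ n, jC.f n ≫ πC.f n = 0)
    (exC : ∀ n, (ShortComplex.mk (jC.f n) (πC.f n) (wC n)).Exact)
    (hC' : ∀ n, 0 < n → C'.ExactAt n) (hC : ∀ n, 0 < n → C.ExactAt n)
    (injI : ∀ n, Injective (I''.X n)) (ft : C'' ⟶ I'') (ψ : C ⟶ I'') (hjψ : jC ≫ ψ = 0)
    (h0 : HomologicalComplex.homologyMap (πC ≫ ft - ψ) 0 = 0) :
    ∃ f : C'' ⟶ I'', πC ≫ f = ψ ∧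
      HomologicalComplex.homologyMap f 0 = HomologicalComplex.homologyMap ft 0 := by
  have := injI
  have := mC
  obtain ⟨k, k0, ks⟩ := exists_homotopy_zero C I'' hC injI (πC ≫ ft - ψ) h0
  have hjπ : jC ≫ πC = 0 := by ext n; exact wC n
  have hjE : jC ≫ (πC ≫ ft - ψ) = 0 := by
    rw [Preadditive.comp_sub, ← Category.assoc, hjπ, zero_comp, hjψ, sub_zero]
  have hjE' : ∀ n, jC.f n ≫ (πC ≫ ft - ψ).f n = 0 := fun n => by
    rw [← HomologicalComplex.comp_f, hjE]; rfl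
  let κ : ∀ n, C'.X (n + 1) ⟶ I''.X n := fun n => jC.f (n + 1) ≫ k n
  have hκ0 : C'.d 0 1 ≫ κ 0 = 0 := by
    show C'.d 0 1 ≫ jC.f 1 ≫ k 0 = 0
    rw [← jC.comm_assoc, k0, hjE']
  have hκs : ∀ n, κ n ≫ I''.d n (n + 1) = (-C'.d (n + 1) (n + 2)) ≫ κ (n + 1) := by
    intro n
    have := hjE' (n + 1)
    rw [ks n, Preadditive.comp_add, jC.comm_assoc] at this
    show (jC.f (n + 1) ≫ k n) ≫ I''.d n (n + 1) = (-C'.d (n + 1) (n + 2)) ≫ jC.f (n + 2) ≫ k (n + 1)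
    rw [Preadditive.neg_comp, Category.assoc]
    exact eq_neg_of_add_eq_zero_left this
  obtain ⟨m, m0, ms⟩ := gr_exists (fun n => C'.X (n + 1)) (fun n => I''.X n)
    (fun n => -C'.d (n + 1) (n + 2)) (fun n => I''.d n (n + 1)) (fun n => I''.d_comp_d _ _ _) κ hκs
    (by
      obtain ⟨χ, hχ⟩ := ext_of_exactAt C' 0 (hC' 1 Nat.one_pos) (κ 0) hκ0
      exact ⟨-χ, by simp [hχ]⟩)
    (by
      intro n ψ' hψ'
      have hψ'' : C'.d (n + 1) (n + 2) ≫ ψ' = 0 := by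
        rw [Preadditive.neg_comp, neg_eq_zero] at hψ'; exact hψ'
      obtain ⟨χ, hχ⟩ := ext_of_exactAt C' (n + 1) (hC' (n + 2) (Nat.succ_pos _)) ψ' hψ''
      exact ⟨-χ, by simp [hχ]⟩)
  have m0' : C'.d 1 2 ≫ m 0 = -κ 0 := by
    have := m0
    rw [Preadditive.neg_comp] at this
    rw [← this, neg_neg]
  have ms' : ∀ n, κ (n + 1) = m n ≫ I''.d n (n + 1) - C'.d (n + 2) (n + 3) ≫ m (n + 1) := by
    intro n
    have := ms n
    rw [Preadditive.neg_comp] at this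
    rw [this]; abel
  let M : ∀ n, C.X (n + 2) ⟶ I''.X n := fun n => Injective.factorThru (m n) (jC.f (n + 2))
  have hM : ∀ n, jC.f (n + 2) ≫ M n = m n := fun n => Injective.comp_factorThru _ _
  let k' : ∀ n, C.X (n + 1) ⟶ I''.X n := fun n => match n with
    | 0 => k 0 + C.d 1 2 ≫ M 0
    | n + 1 => k (n + 1) - M n ≫ I''.d n (n + 1) + C.d (n + 2) (n + 3) ≫ M (n + 1)
  have hk'j : ∀ n, jC.f (n + 1) ≫ k' n = 0 := by
    intro n
    cases n with
    | zero =>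
      show jC.f 1 ≫ (k 0 + C.d 1 2 ≫ M 0) = 0
      rw [Preadditive.comp_add, jC.comm_assoc, hM, m0']
      show κ 0 + -κ 0 = 0
      abel
    | succ n =>
      show jC.f (n + 2) ≫ (k (n + 1) - M n ≫ I''.d n (n + 1) + C.d (n + 2) (n + 3) ≫ M (n + 1)) = 0
      rw [Preadditive.comp_add, Preadditive.comp_sub, jC.comm_assoc, hM, ← Category.assoc, hM]
      show κ (n + 1) - m n ≫ I''.d n (n + 1) + C'.d (n + 2) (n + 3) ≫ m (n + 1) = 0
      rw [ms' n]; abel
  have hk'0 : C.d 0 1 ≫ k' 0 = (πC ≫ ft - ψ).f 0 := by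
    show C.d 0 1 ≫ (k 0 + C.d 1 2 ≫ M 0) = _
    rw [Preadditive.comp_add, k0, C.d_comp_d_assoc, zero_comp, add_zero]
  have hk's : ∀ n, (πC ≫ ft - ψ).f (n + 1) =
      k' n ≫ I''.d n (n + 1) + C.d (n + 1) (n + 2) ≫ k' (n + 1) := by
    intro n
    cases n with
    | zero =>
      show _ = (k 0 + C.d 1 2 ≫ M 0) ≫ I''.d 0 1 +
        C.d 1 2 ≫ (k 1 - M 0 ≫ I''.d 0 1 + C.d 2 3 ≫ M 1)
      rw [ks 0]
      simp only [Preadditive.add_comp, Preadditive.comp_add, Preadditive.comp_sub,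
        Category.assoc, HomologicalComplex.d_comp_d_assoc, zero_comp]
      abel
    | succ n =>
      show _ = (k (n + 1) - M n ≫ I''.d n (n + 1) + C.d (n + 2) (n + 3) ≫ M (n + 1)) ≫
          I''.d (n + 1) (n + 2) +
        C.d (n + 2) (n + 3) ≫ (k (n + 2) - M (n + 1) ≫ I''.d (n + 1) (n + 2) +
          C.d (n + 3) (n + 4) ≫ M (n + 2))
      rw [ks (n + 1)]
      simp only [Preadditive.add_comp, Preadditive.sub_comp, Preadditive.comp_add,
        Preadditive.comp_sub, Category.assoc, HomologicalComplex.d_comp_d_assoc,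
        HomologicalComplex.d_comp_d, zero_comp, comp_zero]
      abel
  let K : ∀ n, C''.X (n + 1) ⟶ I''.X n := fun n =>
    (exC (n + 1)).descToInjective (k' n) (hk'j n)
  have hK : ∀ n, πC.f (n + 1) ≫ K n = k' n := fun n =>
    (exC (n + 1)).comp_descToInjective (k' n) (hk'j n)
  obtain ⟨N, hN0, hNs, hNh⟩ := exists_nullHomotopic C'' I'' K
  refine ⟨ft - N, ?_, ?_⟩
  · ext n
    cases n with
    | zero =>
      have e : C.d 0 1 ≫ k' 0 = πC.f 0 ≫ ft.f 0 - ψ.f 0 := by simpa using hk'0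
      simp only [HomologicalComplex.comp_f, HomologicalComplex.sub_f_apply, hN0,
        Preadditive.comp_sub]
      rw [πC.comm_assoc, hK, e]; abel
    | succ n =>
      have e : πC.f (n + 1) ≫ ft.f (n + 1) - ψ.f (n + 1) =
          k' n ≫ I''.d n (n + 1) + C.d (n + 1) (n + 2) ≫ k' (n + 1) := by simpa using hk's n
      simp only [HomologicalComplex.comp_f, HomologicalComplex.sub_f_apply, hNs,
        Preadditive.comp_sub, Preadditive.comp_add]
      rw [πC.comm_assoc, hK, ← Category.assoc, hK, ← e]; abel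
  · rw [HomologicalComplex.homologyMap_sub, hNh, sub_zero]

end Groth.Agent.Helper7.CechDer
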