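import Mathlib
import Groth.Prelude.Def_HopfRep
import Groth.Prelude.Def_Hoch
import Groth.Agent.H29.ComodDual
import Groth.Agent.H15.FundComod
import Groth.Agent.H13.ComodSS

/-!
# Coefficient coalgebras of comodules (helper7)

For a right `C`-comodule `V` over a field and a submodule `N` of `V` over the dual algebra,
`coeffOf N = (ann N)^⊥` is the coefficient space of `N`: the least subspace `D` of `C` with
`ρ(N) ⊆ V ⊗ D`.  It is a subcoalgebra, simple when `N` is simple.
-/

set_option autoImplicit false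

namespace Groth.Agent.Helper7.Coalg7

open TensorProduct Groth.Agent.H29

attribute [local instance] Groth.Agent.H29.dualModule

universe u v w

section LinAlg

variable {K : Type u} [Field K] {C : Type v} [AddCommGroup C] [Module K C]
variable {V : Type w} [AddCommGroup V] [Module K V]

lemma apply_lid_rTensor (φ : C →ₗ[K] K) (f : V →ₗ[K] K) (x : V ⊗[K] C) :
    φ (TensorProduct.lid K C (f.rTensor C x)) = f (rAct V φ x) := by
  induction x using TensorProduct.induction_on with
  | zero => simp
  | tmul v c => simp [mul_comm]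
  | add x y hx hy => simp only [map_add, hx, hy]

lemma mem_range_lTensor_of_forall (D : Submodule K C) (x : V ⊗[K] C)
    (h : ∀ f : V →ₗ[K] K, TensorProduct.lid K C (f.rTensor C x) ∈ D) :
    x ∈ LinearMap.range (D.subtype.lTensor V) := by
  classical
  let b := Module.Free.chooseBasis K V
  have hx : x = (TensorProduct.equivFinsuppOfBasisLeft b).symm
      (TensorProduct.equivFinsuppOfBasisLeft b x) := (LinearEquiv.symm_apply_apply _ _).symm
  rw [hx, TensorProduct.equivFinsuppOfBasisLeft_symm_apply]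
  unfold Finsupp.sum
  refine Submodule.sum_mem _ fun j _ => ?_
  have hj : TensorProduct.equivFinsuppOfBasisLeft b x j ∈ D := by
    rw [TensorProduct.equivFinsuppOfBasisLeft_apply]
    exact h (b.coord j)
  exact ⟨b j ⊗ₜ[K] (⟨TensorProduct.equivFinsuppOfBasisLeft b x j, hj⟩ : D), by simp⟩

lemma mem_range_map_of_mem (W : Submodule K V) (D : Submodule K C) (x : V ⊗[K] C)
    (h1 : x ∈ LinearMap.range (W.subtype.rTensor C))
    (h2 : x ∈ LinearMap.range (D.subtype.lTensor V)) :
    x ∈ LinearMap.range (TensorProduct.map W.subtype D.subtype) := by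
  classical
  obtain ⟨y, rfl⟩ := h2
  have hy : y ∈ LinearMap.range (W.subtype.rTensor D) := by
    rw [mem_range_rTensor_subtype_iff W (Module.Free.chooseBasis K D)]
    intro j
    rw [TensorProduct.equivFinsuppOfBasisRight_apply]
    obtain ⟨φ, hφ⟩ := LinearMap.exists_extend ((Module.Free.chooseBasis K D).coord j)
    have h3 : TensorProduct.rid K V (((Module.Free.chooseBasis K D).coord j).lTensor V y) =
        rAct V φ (D.subtype.lTensor V y) := by
      rw [← hφ, LinearMap.lTensor_comp]
      rfl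
    rw [h3]
    obtain ⟨z, hz⟩ := h1
    rw [← hz, ← rAct_natural]
    exact (rAct W φ z).2
  obtain ⟨z, rfl⟩ := hy
  exact ⟨z, (LinearMap.congr_fun (LinearMap.lTensor_comp_rTensor _ W.subtype D.subtype) z).symm⟩

lemma rAct_map_subtype_eq_zero (B : Submodule K C) (φ : C →ₗ[K] K) (hφ : ∀ b ∈ B, φ b = 0)
    (z : B ⊗[K] B) : rAct C φ (TensorProduct.map B.subtype B.subtype z) = 0 := by
  induction z using TensorProduct.induction_on with
  | zero => simp
  | tmul a b => simp [hφ b.1 b.2]
  | add y z hy hz => simp only [map_add, hy, hz, add_zero]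

lemma rAct_lTensor_subtype_eq_zero (D : Submodule K C) (φ : C →ₗ[K] K) (hφ : ∀ d ∈ D, φ d = 0)
    (y : V ⊗[K] D) : rAct V φ (D.subtype.lTensor V y) = 0 := by
  induction y using TensorProduct.induction_on with
  | zero => simp
  | tmul v d => simp [hφ d.1 d.2]
  | add y z hy hz => simp only [map_add, hy, hz, add_zero]

end LinAlg

section Coalg

variable {K : Type u} [Field K] {C : Type v} [AddCommGroup C] [Module K C] [Coalgebra K C]

lemma isSubcomod_of_isSubcoalg (B : Submodule K C)
    (hB : ∀ b ∈ B, CoalgebraStruct.comul (R := K) b ∈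
      LinearMap.range (TensorProduct.map B.subtype B.subtype)) :
    HopfRep.IsSubcomod (k := K) (A := C) B := by
  intro b hb
  obtain ⟨z, hz⟩ := hB b hb
  refine ⟨B.subtype.lTensor B z, ?_⟩
  have h2 : HopfRep.Comod.coact (k := K) (A := C) b = CoalgebraStruct.comul (R := K) b := rfl
  rw [h2, ← hz]
  exact LinearMap.congr_fun (LinearMap.rTensor_comp_lTensor _ B.subtype B.subtype) z

lemma apply_dualAct_regular (ψ φ : C →ₗ[K] K) (c : C) :
    ψ (dualAct φ c) = (WithConv.toConv ψ * WithConv.toConv φ).ofConv c := by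
  have key : ∀ y : C ⊗[K] C, ψ (rAct C φ y) = LinearMap.mul' K K (TensorProduct.map ψ φ y) := by
    intro y
    induction y using TensorProduct.induction_on with
    | zero => simp
    | tmul a b => simp [mul_comm]
    | add y z hy hz => simp only [map_add, hy, hz]
  exact key _

lemma counit_dualAct_regular (φ : C →ₗ[K] K) (c : C) :
    Coalgebra.counit (R := K) (A := C) (dualAct φ c) = φ c := by
  rw [apply_dualAct_regular, ← one_ofConv_eq_counit, WithConv.toConv_ofConv, one_mul,
    WithConv.ofConv_toConv]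

variable {V : Type w} [AddCommGroup V] [Module K V] [HopfRep.Comod K C V]

variable (C) in
/-- The matrix coefficient map `v ↦ Σ f(v₀) v₁`. -/
noncomputable def mcoef (f : V →ₗ[K] K) : V →ₗ[K] C :=
  (TensorProduct.lid K C).toLinearMap ∘ₗ f.rTensor C ∘ₗ HopfRep.Comod.coact (k := K) (A := C)

lemma apply_mcoef (φ : C →ₗ[K] K) (f : V →ₗ[K] K) (v : V) :
    φ (mcoef C f v) = f (dualAct φ v) := by
  rw [dualAct_apply, ← apply_lid_rTensor]
  rfl

lemma mcoef_dualAct (f : V →ₗ[K] K) (φ : C →ₗ[K] K) (v : V) :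
    mcoef C f (dualAct φ v) = dualAct φ (mcoef C f v) := by
  rw [← sub_eq_zero]
  apply (Module.forall_dual_apply_eq_zero_iff K _).mp
  intro ψ
  rw [map_sub, sub_eq_zero]
  show ψ (mcoef C f (dualAct φ v)) = ψ (dualAct φ (mcoef C f v))
  rw [apply_mcoef, apply_dualAct_regular, apply_mcoef, dualAct_mul]

lemma isComodHom_mcoef (f : V →ₗ[K] K) : Hoch.IsComodHom C (mcoef C f) :=
  (isComodHom_iff _).mpr fun φ v => mcoef_dualAct f φ v

lemma coact_injective : Function.Injective (HopfRep.Comod.coact (k := K) (A := C) (V := V)) := by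
  rw [injective_iff_map_eq_zero]
  intro v hv
  have h := dualAct_counit (k := K) (C := C) v
  rw [dualAct_apply, hv, map_zero] at h
  exact h.symm

/-- The coefficient space `(ann N)^⊥` of a submodule over the dual algebra. -/
noncomputable def coeffOf (N : Submodule (DualAlg K C) V) : Submodule K C where
  carrier := {x | ∀ φ : C →ₗ[K] K, (∀ n ∈ N, dualAct φ n = 0) → φ x = 0}
  add_mem' := by
    intro a b ha hb φ hφ
    rw [map_add, ha φ hφ, hb φ hφ, add_zero]
  zero_mem' := by
    intro φ _
    exact map_zero φ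
  smul_mem' := by
    intro c x hx φ hφ
    rw [map_smul, hx φ hφ, smul_zero]

lemma mem_coeffOf {N : Submodule (DualAlg K C) V} {x : C} :
    x ∈ coeffOf N ↔ ∀ φ : C →ₗ[K] K, (∀ n ∈ N, dualAct φ n = 0) → φ x = 0 := Iff.rfl

lemma mcoef_mem_coeffOf (N : Submodule (DualAlg K C) V) (f : V →ₗ[K] K) {n : V} (hn : n ∈ N) :
    mcoef C f n ∈ coeffOf N := by
  refine mem_coeffOf.mpr fun φ hφ => ?_
  rw [apply_mcoef, hφ n hn, map_zero]

lemma coeffOf_le_iff (N : Submodule (DualAlg K C) V) (D : Submodule K C) :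
    coeffOf N ≤ D ↔ ∀ φ : C →ₗ[K] K, (∀ d ∈ D, φ d = 0) → ∀ n ∈ N, dualAct φ n = 0 := by
  constructor
  · intro h φ hφ n hn
    apply (Module.forall_dual_apply_eq_zero_iff K _).mp
    intro f
    show f (dualAct φ n) = 0
    rw [← apply_mcoef]
    exact hφ _ (h (mcoef_mem_coeffOf N f hn))
  · intro h x hx
    by_contra hxD
    obtain ⟨φ, hφx, hφD⟩ := Submodule.exists_le_ker_of_notMem hxD
    exact hφx (hx φ (h φ (fun d hd => LinearMap.mem_ker.mp (hφD hd))))

lemma coeffOf_le_of_coact_mem (N : Submodule (DualAlg K C) V) (D : Submodule K C)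
    (h : ∀ n ∈ N, HopfRep.Comod.coact (k := K) (A := C) n ∈
      LinearMap.range (D.subtype.lTensor V)) :
    coeffOf N ≤ D := by
  rw [coeffOf_le_iff]
  intro φ hφ n hn
  obtain ⟨y, hy⟩ := h n hn
  rw [dualAct_apply, ← hy]
  exact rAct_lTensor_subtype_eq_zero D φ hφ y

lemma coact_mem_of_coeffOf_le (N : Submodule (DualAlg K C) V) (D : Submodule K C)
    (h : coeffOf N ≤ D) {n : V} (hn : n ∈ N) :
    HopfRep.Comod.coact (k := K) (A := C) n ∈ LinearMap.range (D.subtype.lTensor V) := by
  apply mem_range_lTensor_of_forall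
  intro f
  exact h (mcoef_mem_coeffOf N f hn)

lemma coeffOf_ne_bot (N : Submodule (DualAlg K C) V) (hN : N ≠ ⊥) : coeffOf N ≠ ⊥ := by
  obtain ⟨n, hn, hn0⟩ := (Submodule.ne_bot_iff N).mp hN
  obtain ⟨f, hf⟩ : ∃ f : V →ₗ[K] K, f n ≠ 0 := by
    by_contra hcon
    push Not at hcon
    exact hn0 ((Module.forall_dual_apply_eq_zero_iff K n).mp hcon)
  intro hbot
  have hmem := mcoef_mem_coeffOf N f hn
  rw [hbot, Submodule.mem_bot] at hmem
  have h := apply_mcoef (Coalgebra.counit (R := K) (A := C)) f n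
  rw [hmem, map_zero, dualAct_counit] at h
  exact hf h.symm

theorem coeffOf_isSubcoalg (N : Submodule (DualAlg K C) V) :
    ∀ b ∈ coeffOf N, CoalgebraStruct.comul (R := K) b ∈
      LinearMap.range (TensorProduct.map (coeffOf N).subtype (coeffOf N).subtype) := by
  intro x hx
  apply mem_range_map_of_mem
  · have hsub : HopfRep.IsSubcomod (k := K) (A := C) (coeffOf N) := by
      rw [isSubcomod_iff]
      intro ψ w hw
      refine mem_coeffOf.mpr fun φ hφ => ?_
      rw [apply_dualAct_regular]
      apply hw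
      intro n hn
      rw [dualAct_mul]
      exact hφ _ (N.smul_mem (WithConv.toConv ψ) hn)
    exact hsub x hx
  · apply mem_range_lTensor_of_forall
    intro f
    refine mem_coeffOf.mpr fun φ hφ => ?_
    rw [apply_lid_rTensor]
    have h := apply_dualAct_regular f φ x
    rw [dualAct_apply] at h
    have h2 : HopfRep.Comod.coact (k := K) (A := C) x = CoalgebraStruct.comul (R := K) x := rfl
    rw [h2] at h
    rw [h]
    apply hx
    intro n hn
    rw [dualAct_mul]
    show dualAct f (dualAct φ n) = 0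
    rw [hφ n hn, map_zero]

theorem coeffOf_le_of_injective (N : Submodule (DualAlg K C) V) (B : Submodule K C)
    (hB : ∀ b ∈ B, CoalgebraStruct.comul (R := K) b ∈
      LinearMap.range (TensorProduct.map B.subtype B.subtype))
    (g : N →ₗ[DualAlg K C] C) (hg : Function.Injective g) (hgB : ∀ n, g n ∈ B) :
    coeffOf N ≤ B := by
  rw [coeffOf_le_iff]
  intro φ hφ n hn
  have h1 : g (WithConv.toConv φ • (⟨n, hn⟩ : N)) = 0 := by
    rw [map_smul]
    obtain ⟨z, hz⟩ := hB _ (hgB ⟨n, hn⟩)
    show dualAct φ (g ⟨n, hn⟩) = 0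
    rw [dualAct_apply]
    have h2 : HopfRep.Comod.coact (k := K) (A := C) (g ⟨n, hn⟩) =
        CoalgebraStruct.comul (R := K) (g ⟨n, hn⟩) := rfl
    rw [h2, ← hz]
    exact rAct_map_subtype_eq_zero B φ hφ z
  have h2 := hg (h1.trans (map_zero g).symm)
  exact congrArg Subtype.val h2

theorem map_mem_coeffOf (N : Submodule (DualAlg K C) V) (g : N →ₗ[DualAlg K C] C) (n : N) :
    g n ∈ coeffOf N := by
  refine mem_coeffOf.mpr fun φ hφ => ?_
  rw [← counit_dualAct_regular φ (g n)]
  have h0 : WithConv.toConv φ • n = 0 := Subtype.ext (hφ n.1 n.2)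
  have h1 : dualAct φ (g n) = g (WithConv.toConv φ • n) := (map_smul g _ _).symm
  rw [h1, h0, map_zero, map_zero]

theorem exists_simple_le (P : Submodule (DualAlg K C) V) (hP : P ≠ ⊥) :
    ∃ S : Submodule (DualAlg K C) V, S ≤ P ∧ IsSimpleModule (DualAlg K C) S := by
  obtain ⟨v, hvP, hv0⟩ := (Submodule.ne_bot_iff P).mp hP
  obtain ⟨W, hWfin, hvW, hW⟩ := Groth.Agent.H15.FundComod.fund K C V v
  let 𝒮 : Set (Submodule (DualAlg K C) V) := {Q | Q ≠ ⊥ ∧ Q ≤ P ∧ ofDualSub Q ≤ W}
  have hne : 𝒮.Nonempty := by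
    refine ⟨P ⊓ toDualSub W hW, ?_, inf_le_left, fun x hx => hx.2⟩
    intro h
    have hv : v ∈ P ⊓ toDualSub W hW := ⟨hvP, hvW⟩
    rw [h, Submodule.mem_bot] at hv
    exact hv0 hv
  obtain ⟨Q, hQ, hmin⟩ := WellFounded.has_min
    (measure fun Q : Submodule (DualAlg K C) V => Module.finrank K (ofDualSub Q)).wf 𝒮 hne
  refine ⟨Q, hQ.2.1, isSimpleModule_iff_isAtom.mpr ⟨hQ.1, fun Q' hlt => ?_⟩⟩
  by_contra hQ'
  have hQ'mem : Q' ∈ 𝒮 :=
    ⟨hQ', hlt.le.trans hQ.2.1, le_trans (show ofDualSub Q' ≤ ofDualSub Q from hlt.le) hQ.2.2⟩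
  apply hmin Q' hQ'mem
  have : FiniteDimensional K W := hWfin
  have : FiniteDimensional K (ofDualSub Q) := Submodule.finiteDimensional_of_le hQ.2.2
  have hlt' : ofDualSub Q' < ofDualSub Q :=
    lt_of_le_of_ne (show ofDualSub Q' ≤ ofDualSub Q from hlt.le)
      (fun h => hlt.ne (ofDualSub_injective h))
  exact Submodule.finrank_lt_finrank_of_lt hlt'

/-- The submodules of the regular comodule isomorphic to `N`. -/
def copies (N : Submodule (DualAlg K C) V) : Set (Submodule (DualAlg K C) C) :=
  {M | Nonempty (N ≃ₗ[DualAlg K C] M)}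

lemma isSimpleModule_of_mem_copies (N : Submodule (DualAlg K C) V)
    [IsSimpleModule (DualAlg K C) N] (m : copies N) : IsSimpleModule (DualAlg K C) m.1 := by
  obtain ⟨m, ⟨e⟩⟩ := m
  exact IsSimpleModule.congr (M := ↥m) (N := ↥N) e.symm

theorem coeffOf_le_sSup_copies (N : Submodule (DualAlg K C) V) [IsSimpleModule (DualAlg K C) N] :
    coeffOf N ≤ ofDualSub (sSup (copies N)) := by
  rw [coeffOf_le_iff]
  intro φ hφ n hn
  apply (Module.forall_dual_apply_eq_zero_iff K _).mp
  intro f
  show f (dualAct φ n) = 0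
  rw [← apply_mcoef]
  apply hφ
  let F : N →ₗ[DualAlg K C] C := (toDualHom (mcoef C f) (isComodHom_mcoef f)).domRestrict N
  rcases LinearMap.injective_or_eq_zero (R := DualAlg K C) (M := ↥N) (N := C) F with hinj | h0
  · have hmem : LinearMap.range F ∈ copies N := ⟨LinearEquiv.ofInjective F hinj⟩
    exact (le_sSup hmem) ⟨⟨n, hn⟩, rfl⟩
  · have h1 : mcoef C f n = 0 := LinearMap.congr_fun h0 ⟨n, hn⟩
    rw [h1]
    exact Submodule.zero_mem _

theorem coeffOf_simple (N : Submodule (DualAlg K C) V) [IsSimpleModule (DualAlg K C) N]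
    (B : Submodule K C) (hBle : B ≤ coeffOf N)
    (hB : ∀ b ∈ B, CoalgebraStruct.comul (R := K) b ∈
      LinearMap.range (TensorProduct.map B.subtype B.subtype)) (hB0 : B ≠ ⊥) :
    B = coeffOf N := by
  apply le_antisymm hBle
  have hBsub : HopfRep.IsSubcomod (k := K) (A := C) B := isSubcomod_of_isSubcoalg B hB
  have hne : toDualSub B hBsub ≠ ⊥ := fun h =>
    hB0 (by rw [← ofDualSub_toDualSub B hBsub, h, ofDualSub_bot])
  obtain ⟨S, hSle, hS⟩ := exists_simple_le (toDualSub B hBsub) hne
  have hS2 : S ≤ sSup (copies N) := fun x hx => coeffOf_le_sSup_copies N (hBle (hSle hx))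
  have : ∀ m : copies N, IsSimpleModule (DualAlg K C) m.1 := isSimpleModule_of_mem_copies N
  obtain ⟨M, ⟨e⟩, ⟨e'⟩⟩ := Submodule.linearEquiv_of_le_sSup S (copies N) hS2
  let g : N →ₗ[DualAlg K C] C := S.subtype ∘ₗ (e.trans e'.symm).toLinearMap
  refine coeffOf_le_of_injective N B hB g ?_ (fun n => hSle ((e.trans e'.symm) n).2)
  exact S.subtype_injective.comp (e.trans e'.symm).injective

theorem finite_coeffOf (N : Submodule (DualAlg K C) V) [Module.Finite K (ofDualSub N)] :
    Module.Finite K (coeffOf N) := by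
  classical
  let b := Module.finBasis K (ofDualSub N)
  choose F hF using fun i => LinearMap.exists_extend (b.coord i)
  let D' : Submodule K C := ⨆ i, (ofDualSub N).map (mcoef C (F i))
  have hle : coeffOf N ≤ D' := by
    rw [coeffOf_le_iff]
    intro φ hφ n hn
    have hmem : dualAct φ n ∈ ofDualSub N := N.smul_mem (WithConv.toConv φ) hn
    have h0 : (⟨dualAct φ n, hmem⟩ : ofDualSub N) = 0 := by
      apply b.ext_elem
      intro i
      rw [map_zero, Finsupp.zero_apply]
      have h1 : b.repr ⟨dualAct φ n, hmem⟩ i = F i (dualAct φ n) :=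
        (LinearMap.congr_fun (hF i) ⟨dualAct φ n, hmem⟩).symm
      rw [h1, ← apply_mcoef]
      apply hφ
      exact le_iSup (fun i => (ofDualSub N).map (mcoef C (F i))) i ⟨n, hn, rfl⟩
    exact congrArg Subtype.val h0
  have : FiniteDimensional K D' := Submodule.finite_iSup _
  exact Submodule.finiteDimensional_of_le hle

theorem isSemisimpleModule_of_regular [IsSemisimpleModule (DualAlg K C) C] :
    IsSemisimpleModule (DualAlg K C) V := by
  classical
  let b := Module.Free.chooseBasis K V
  let F : V →ₗ[DualAlg K C] (Module.Free.ChooseBasisIndex K V →₀ C) :=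
    { toFun := fun v => TensorProduct.equivFinsuppOfBasisLeft b
        (HopfRep.Comod.coact (k := K) (A := C) v)
      map_add' := fun x y => by rw [map_add, map_add]
      map_smul' := fun φ v => by
        ext j
        rw [RingHom.id_apply, Finsupp.smul_apply, TensorProduct.equivFinsuppOfBasisLeft_apply,
          TensorProduct.equivFinsuppOfBasisLeft_apply]
        exact mcoef_dualAct (b.coord j) φ.ofConv v }
  have hF : Function.Injective F := fun x y h =>
    coact_injective ((TensorProduct.equivFinsuppOfBasisLeft b).injective h)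
  exact IsSemisimpleModule.of_injective F hF

end Coalg

end Groth.Agent.Helper7.Coalg7
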