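import Mathlib
import Groth.Prelude.Def_ComodSub
import Groth.Agent.Lib.Helper7.Coalg7

/-!
# Simple subcoalgebras, cosemisimplicity (helper7)
-/

set_option autoImplicit false

namespace Groth.Agent.Helper7.Coalg7

open TensorProduct Groth.Agent.H29

attribute [local instance] Groth.Agent.H29.dualModule

universe u v w

section

variable {K : Type u} [Field K] {C : Type v} [AddCommGroup C] [Module K C] [Coalgebra K C]

/-- A simple subcoalgebra, in the unfolded form used by the statements. -/
def IsSimpleSubcoalg (D : Submodule K C) : Prop :=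
  D ≠ ⊥ ∧ (∀ b ∈ D, CoalgebraStruct.comul (R := K) b ∈
      LinearMap.range (TensorProduct.map D.subtype D.subtype)) ∧
    ∀ B : Submodule K C, B ≤ D → (∀ b ∈ B, CoalgebraStruct.comul (R := K) b ∈
      LinearMap.range (TensorProduct.map B.subtype B.subtype)) → B = ⊥ ∨ B = D

variable {V : Type w} [AddCommGroup V] [Module K V] [HopfRep.Comod K C V]

lemma isSimpleSubcoalg_coeffOf (S : Submodule (DualAlg K C) V) [hS : IsSimpleModule (DualAlg K C) S] :
    IsSimpleSubcoalg (coeffOf S) := by
  refine ⟨coeffOf_ne_bot S (isSimpleModule_iff_isAtom.mp hS).1, coeffOf_isSubcoalg S,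
    fun B hB1 hB2 => ?_⟩
  by_cases hB0 : B = ⊥
  · left
    exact hB0
  · right
    exact coeffOf_simple S B hB1 hB2 hB0

lemma coeffOf_eq_of_le (S : Submodule (DualAlg K C) V) [hS : IsSimpleModule (DualAlg K C) S]
    (D : Submodule K C) (hD : IsSimpleSubcoalg D)
    (g : S →ₗ[DualAlg K C] C) (hg : Function.Injective g) (hgD : ∀ n, g n ∈ D) :
    coeffOf S = D := by
  have hle : coeffOf S ≤ D := coeffOf_le_of_injective S D hD.2.1 g hg hgD
  rcases hD.2.2 (coeffOf S) hle (coeffOf_isSubcoalg S) with h | h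
  · exact absurd h (coeffOf_ne_bot S (isSimpleModule_iff_isAtom.mp hS).1)
  · exact h

lemma exists_simple_coeffOf_eq (D : Submodule K C) (hD : IsSimpleSubcoalg D) :
    ∃ S : Submodule (DualAlg K C) C, IsSimpleModule (DualAlg K C) S ∧ ofDualSub S ≤ D ∧
      coeffOf S = D := by
  have hDsub : HopfRep.IsSubcomod (k := K) (A := C) D := isSubcomod_of_isSubcoalg D hD.2.1
  have hne : toDualSub D hDsub ≠ ⊥ := fun h =>
    hD.1 (by rw [← ofDualSub_toDualSub D hDsub, h, ofDualSub_bot])
  obtain ⟨S, hSle, hS⟩ := exists_simple_le (toDualSub D hDsub) hne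
  exact ⟨S, hS, fun x hx => hSle hx,
    coeffOf_eq_of_le S D hD S.subtype S.subtype_injective (fun n => hSle n.2)⟩

lemma iSupIndep_ofDualSub {ι : Type*} (t : ι → Submodule (DualAlg K C) V) (h : iSupIndep t) :
    iSupIndep (fun i => ofDualSub (t i)) := by
  intro i
  have h1 := h i
  rw [disjoint_iff] at h1 ⊢
  have h2 : (⨆ j, ⨆ (_ : j ≠ i), ofDualSub (t j)) = ofDualSub (⨆ j, ⨆ (_ : j ≠ i), t j) := by
    simp_rw [Groth.Agent.H13.ComodSS.ofDualSub_iSup]
  rw [h2, ← ofDualSub_inf, h1, ofDualSub_bot]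

/-- If `C` is the sum of simple subcoalgebras, the regular comodule is semisimple over the dual
algebra. -/
theorem isSemisimpleModule_regular {ι : Type*} (D : ι → Submodule K C) (hsup : iSup D = ⊤)
    (hD : ∀ i, IsSimpleSubcoalg (D i)) : IsSemisimpleModule (DualAlg K C) C := by
  apply IsSemisimpleModule.of_sSup_simples_eq_top
  rw [eq_top_iff]
  have hle : iSup D ≤ ofDualSub (sSup {m : Submodule (DualAlg K C) C |
      IsSimpleModule (DualAlg K C) m}) := by
    apply iSup_le
    intro i
    obtain ⟨S, hS, -, hcoef⟩ := exists_simple_coeffOf_eq (D i) (hD i)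
    rw [← hcoef]
    refine le_trans (coeffOf_le_sSup_copies S) ?_
    have hsub : copies S ⊆ {m : Submodule (DualAlg K C) C | IsSimpleModule (DualAlg K C) m} :=
      fun m hm => isSimpleModule_of_mem_copies S ⟨m, hm⟩
    exact fun x hx => sSup_le_sSup hsub hx
  intro x _
  have hx : x ∈ iSup D := by rw [hsup]; exact Submodule.mem_top
  exact hle hx

end

section Restr

variable {K : Type u} [Field K] {C : Type v} [AddCommGroup C] [Module K C] [Coalgebra K C]
variable {V : Type w} [AddCommGroup V] [Module K V] [HopfRep.Comod K C V]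
variable (S : Submodule (DualAlg K C) V)

/-- The restricted comodule structure on a submodule over the dual algebra. -/
@[reducible] noncomputable def subComod : HopfRep.Comod K C ↥(ofDualSub S) :=
  ComodSub.Comod.restr inferInstance (ofDualSub S) (isSubcomod_ofDualSub S)

attribute [local instance] subComod

lemma coe_dualAct_sub (φ : C →ₗ[K] K) (x : ↥(ofDualSub S)) :
    ((dualAct φ x : ↥(ofDualSub S)) : V) = dualAct φ (x : V) :=
  (isComodHom_iff (ofDualSub S).subtype).mp
    (ComodSub.isComodHom_subtype inferInstance (ofDualSub S) (isSubcomod_ofDualSub S)) φ x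

/-- The identification of the restricted comodule with the submodule over the dual algebra. -/
noncomputable def subEquiv : ↥(ofDualSub S) ≃ₗ[DualAlg K C] ↥S where
  toFun x := ⟨x.1, x.2⟩
  invFun y := ⟨y.1, y.2⟩
  map_add' _ _ := rfl
  map_smul' φ x := Subtype.ext (coe_dualAct_sub S φ.ofConv x)
  left_inv _ := rfl
  right_inv _ := rfl

lemma subEquiv_apply_coe (x : ↥(ofDualSub S)) : ((subEquiv S x : ↥S) : V) = (x : V) := rfl

lemma isSimpleComod_sub [IsSimpleModule (DualAlg K C) S] :
    HopfRep.IsSimpleComod K C ↥(ofDualSub S) := by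
  apply isSimpleComod_of_isSimpleModule
  exact IsSimpleModule.congr (M := ↥(ofDualSub S)) (N := ↥S) (subEquiv S)

/-- A map from `S` linear over the dual algebra, as a comodule map from the restricted comodule. -/
noncomputable def ofSub (g : S →ₗ[DualAlg K C] C) : ↥(ofDualSub S) →ₗ[K] C :=
  ofDualHom (g ∘ₗ (subEquiv S).toLinearMap)

lemma ofSub_apply (g : S →ₗ[DualAlg K C] C) (x : ↥(ofDualSub S)) :
    ofSub S g x = g ⟨x.1, x.2⟩ := rfl

lemma isComodHom_ofSub (g : S →ₗ[DualAlg K C] C) : Hoch.IsComodHom C (ofSub S g) :=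
  isComodHom_ofDualHom _

lemma ofSub_injective (g : S →ₗ[DualAlg K C] C) (hg : Function.Injective g) :
    Function.Injective (ofSub S g) := by
  intro x y h
  have h1 : (⟨x.1, x.2⟩ : ↥S) = ⟨y.1, y.2⟩ := hg h
  exact Subtype.ext (congrArg Subtype.val h1)

lemma range_ofSub (M : Submodule (DualAlg K C) C) (e : S ≃ₗ[DualAlg K C] M) :
    LinearMap.range (ofSub S (M.subtype ∘ₗ e.toLinearMap)) = ofDualSub M := by
  ext x
  constructor
  · rintro ⟨y, rfl⟩
    exact (e ⟨y.1, y.2⟩).2
  · intro hx
    refine ⟨⟨(e.symm ⟨x, hx⟩).1, (e.symm ⟨x, hx⟩).2⟩, ?_⟩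
    rw [ofSub_apply]
    show ((e (e.symm ⟨x, hx⟩) : ↥M) : C) = x
    rw [LinearEquiv.apply_symm_apply]

end Restr

end Groth.Agent.Helper7.Coalg7
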