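import Mathlib
import Groth.Agent.Lib.Helper7.Coalg7b

/-!
# A coalgebra whose regular comodule is semisimple is a direct sum of simple subcoalgebras
-/

set_option autoImplicit false

namespace Groth.Agent.Helper7.Coalg7

open TensorProduct Groth.Agent.H29

attribute [local instance] Groth.Agent.H29.dualModule

universe u v

variable {K : Type u} [Field K] {C : Type v} [AddCommGroup C] [Module K C] [Coalgebra K C]

theorem exists_decomp_of_isSemisimpleModule (hreg : IsSemisimpleModule (DualAlg K C) C) :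
    ∃ (ι : Type v) (D : ι → Submodule K C), iSupIndep D ∧ iSup D = ⊤ ∧
      ∀ i, IsSimpleSubcoalg (D i) := by
  classical
  have hsubc : ∀ j : {D : Submodule K C // IsSimpleSubcoalg D},
      HopfRep.IsSubcomod (k := K) (A := C) j.1 := fun j => isSubcomod_of_isSubcoalg j.1 j.2.2.1
  refine ⟨{D : Submodule K C // IsSimpleSubcoalg D}, fun j => j.1, ?_, ?_, fun j => j.2⟩
  · intro i
    rw [disjoint_iff]
    by_contra hne
    let P : Submodule (DualAlg K C) C := toDualSub i.1 (hsubc i) ⊓
      ⨆ j, ⨆ (_ : j ≠ i), toDualSub j.1 (hsubc j)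
    have hP : ofDualSub P = i.1 ⊓ ⨆ j, ⨆ (_ : j ≠ i), j.1 := by
      rw [ofDualSub_inf, ofDualSub_toDualSub]
      simp_rw [Groth.Agent.H13.ComodSS.ofDualSub_iSup, ofDualSub_toDualSub]
    have hP0 : P ≠ ⊥ := by
      intro h0
      apply hne
      rw [← hP, h0, ofDualSub_bot]
    obtain ⟨S, hSle, hS⟩ := exists_simple_le P hP0
    have h1 : coeffOf S = i.1 :=
      coeffOf_eq_of_le S i.1 i.2 S.subtype S.subtype_injective (fun n => (hSle n.2).1)
    let s' : Set (Submodule (DualAlg K C) C) :=
      {m | IsSimpleModule (DualAlg K C) m ∧ ∃ j : {D : Submodule K C // IsSimpleSubcoalg D},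
        j ≠ i ∧ m ≤ toDualSub j.1 (hsubc j)}
    have hle : S ≤ sSup s' := by
      refine le_trans (le_trans hSle inf_le_right) ?_
      apply iSup_le
      intro j
      apply iSup_le
      intro hj
      rw [← IsSemisimpleModule.sSup_simples_le (toDualSub j.1 (hsubc j))]
      exact sSup_le_sSup (fun m hm => ⟨hm.1, j, hj, hm.2⟩)
    have hall : ∀ m : s', IsSimpleModule (DualAlg K C) m.1 := fun m => m.2.1
    obtain ⟨S', ⟨-, j, hj, hS'le⟩, ⟨e⟩⟩ := Submodule.linearEquiv_of_le_sSup S s' hle
    have h2 : coeffOf S = j.1 :=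
      coeffOf_eq_of_le S j.1 j.2 (S'.subtype ∘ₗ e.toLinearMap)
        (S'.subtype_injective.comp e.injective) (fun n => hS'le (e n).2)
    exact hj (Subtype.ext (h2.symm.trans h1))
  · let T' : Submodule (DualAlg K C) C := ⨆ j : {D : Submodule K C // IsSimpleSubcoalg D},
      toDualSub j.1 (hsubc j)
    have hT' : ofDualSub T' = ⨆ j : {D : Submodule K C // IsSimpleSubcoalg D}, j.1 := by
      simp_rw [T', Groth.Agent.H13.ComodSS.ofDualSub_iSup, ofDualSub_toDualSub]
    have htop : T' = ⊤ := by
      rw [eq_top_iff, ← IsSemisimpleModule.sSup_simples_eq_top (DualAlg K C) C]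
      apply sSup_le
      intro m hm
      have hms : IsSimpleModule (DualAlg K C) m := hm
      have hmle : m ≤ toDualSub (coeffOf m) (hsubc ⟨coeffOf m, isSimpleSubcoalg_coeffOf m⟩) :=
        fun x hx => map_mem_coeffOf m m.subtype ⟨x, hx⟩
      exact le_trans hmle (le_iSup (fun j : {D : Submodule K C // IsSimpleSubcoalg D} =>
        toDualSub j.1 (hsubc j)) ⟨coeffOf m, isSimpleSubcoalg_coeffOf m⟩)
    rw [← hT', htop, ofDualSub_top]

end Groth.Agent.Helper7.Coalg7
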