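import Mathlib

/-! Edge labellings of finite simple graphs: the vertex-boundary map and the alternating
labelling along a walk. -/

namespace Groth.Agent.Lib.Helper7.Comb7

open Finset

variable {V : Type*} [Fintype V] [DecidableEq V] {A : Type*} [AddCommGroup A]

/-- The vertex boundary of an edge labelling. -/
def bd (G : SimpleGraph V) [DecidableRel G.Adj] : (Sym2 V → A) →+ (V → A) where
  toFun x v := ∑ e ∈ G.incidenceFinset v, x e
  map_zero' := by ext v; simp
  map_add' x y := by ext v; simp [Finset.sum_add_distrib]

theorem bd_apply (G : SimpleGraph V) [DecidableRel G.Adj] (x : Sym2 V → A) (v : V) :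
    bd G x v = ∑ e ∈ G.incidenceFinset v, x e := rfl

theorem bd_single (G : SimpleGraph V) [DecidableRel G.Adj] {v w : V} (h : G.Adj v w) (a : A) :
    bd G (Pi.single s(v, w) a) = Pi.single v a + Pi.single w a := by
  ext z
  have hne : v ≠ w := h.ne
  rw [bd_apply, Finset.sum_pi_single']
  simp only [SimpleGraph.mem_incidenceFinset, SimpleGraph.mk'_mem_incidenceSet_iff, h, true_and,
    Pi.add_apply, Pi.single_apply]
  by_cases h1 : z = v
  · subst h1; simp [hne]
  · by_cases h2 : z = w
    · subst h2; simp [h1]
    · simp [h1, h2]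

/-- The alternating labelling along a walk, additive in the label. -/
def alt (H : SimpleGraph V) (A : Type*) [AddCommGroup A] :
    ∀ {v w : V}, H.Walk v w → (A →+ (Sym2 V → A))
  | _, _, .nil => 0
  | _, _, @SimpleGraph.Walk.cons _ _ u v _ _ p =>
      AddMonoidHom.single (fun _ : Sym2 V => A) s(u, v) - alt H A p

theorem alt_apply_of_not_mem (H : SimpleGraph V) (a : A) :
    ∀ {v w : V} (p : H.Walk v w) (e : Sym2 V), e ∉ p.edges → alt H A p a e = 0 := by
  intro v w p
  induction p with
  | nil => intro e _; simp [alt]
  | @cons u v w h p ih =>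
    intro e he
    rw [SimpleGraph.Walk.edges_cons, List.mem_cons, not_or] at he
    simp only [alt, AddMonoidHom.sub_apply, AddMonoidHom.single_apply, Pi.sub_apply]
    rw [Pi.single_eq_of_ne he.1, ih e he.2, sub_zero]

theorem bd_alt (G H : SimpleGraph V) [DecidableRel G.Adj] (hle : H ≤ G) (c : V → Bool)
    (hbip : ∀ v w : V, G.Adj v w → c v ≠ c w) (a : A) :
    ∀ {v w : V} (p : H.Walk v w), bd G (alt H A p a) =
      Pi.single v a - (if c v = c w then Pi.single w a else - Pi.single w a) := by
  intro v w p
  induction p with
  | nil => simp [alt]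
  | @cons u v w h p ih =>
    have hG : G.Adj u v := hle h
    have hc := hbip u v hG
    have key : (c u = c w) ↔ ¬ (c v = c w) := by
      cases hcu : c u <;> cases hcv : c v <;> cases hcw : c w <;> simp_all
    simp only [alt, AddMonoidHom.sub_apply, AddMonoidHom.single_apply, map_sub, bd_single G hG, ih]
    by_cases hvw : c v = c w
    · rw [if_pos hvw, if_neg (by rw [key, not_not]; exact hvw)]; abel
    · rw [if_neg hvw, if_pos (key.mpr hvw)]; abel

end Groth.Agent.Lib.Helper7.Comb7
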