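import Mathlib
import Groth.Prelude.Def_HopfRep

/-!
# Decomposition of a comodule along a decomposition of the coalgebra into subcoalgebras
-/

open TensorProduct

namespace Groth.Agent.Helper7.ComodDecomp

universe u v w w'

section Proj

variable {R : Type u} {C : Type v} [CommRing R] [AddCommGroup C] [Module R C] {ι : Type w}

theorem exists_proj (D : ι → Submodule R C) (hind : iSupIndep D) (htop : iSup D = ⊤) :
    ∃ π : ι → (C →ₗ[R] C), (∀ i c, π i c ∈ D i) ∧ (∀ i c, c ∈ D i → π i c = c) ∧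
      (∀ i j c, i ≠ j → c ∈ D j → π i c = 0) ∧
      ∀ c, ∃ s : Finset ι, (∀ i ∉ s, π i c = 0) ∧ c = ∑ i ∈ s, π i c := by
  classical
  have hint : DirectSum.IsInternal D :=
    (DirectSum.isInternal_submodule_iff_iSupIndep_and_iSup_eq_top D).2 ⟨hind, htop⟩
  let e := LinearEquiv.ofBijective (DirectSum.coeLinearMap D) hint
  refine ⟨fun i => (D i).subtype ∘ₗ DirectSum.component R ι (fun i => D i) i ∘ₗ
    e.symm.toLinearMap, ?_, ?_, ?_, ?_⟩
  · intro i c
    exact Submodule.coe_mem _
  · intro i c hc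
    show ((e.symm c) i : C) = c
    rw [hint.ofBijective_coeLinearMap_of_mem hc]
  · intro i j c hij hc
    show ((e.symm c) i : C) = 0
    rw [hint.ofBijective_coeLinearMap_of_mem_ne (Ne.symm hij) hc]; rfl
  · intro c
    refine ⟨(e.symm c).support, ?_, ?_⟩
    · intro i hi
      show ((e.symm c) i : C) = 0
      rw [DFinsupp.notMem_support_iff.1 hi]; rfl
    · show c = ∑ i ∈ (e.symm c).support, ((e.symm c) i : C)
      conv_lhs => rw [← e.apply_symm_apply c, ← DirectSum.sum_support_of (e.symm c), map_sum]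
      refine Finset.sum_congr rfl fun i _ => ?_
      exact DirectSum.coeLinearMap_of D i _

end Proj

section Tensor

variable {R : Type u} {C : Type v} [CommRing R] [AddCommGroup C] [Module R C] {ι : Type w}
variable {V : Type w'} [AddCommGroup V] [Module R V]

theorem finite_decomp (π : ι → (C →ₗ[R] C))
    (hπ : ∀ c, ∃ s : Finset ι, (∀ i ∉ s, π i c = 0) ∧ c = ∑ i ∈ s, π i c) (x : V ⊗[R] C) :
    ∃ s : Finset ι, (∀ i ∉ s, LinearMap.lTensor V (π i) x = 0) ∧
      x = ∑ i ∈ s, LinearMap.lTensor V (π i) x := by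
  classical
  induction x using TensorProduct.induction_on with
  | zero => exact ⟨∅, fun i _ => map_zero _, by simp⟩
  | tmul v c =>
    obtain ⟨s, hs0, hs⟩ := hπ c
    refine ⟨s, fun i hi => by rw [LinearMap.lTensor_tmul, hs0 i hi, tmul_zero], ?_⟩
    simp only [LinearMap.lTensor_tmul]
    rw [← tmul_sum, ← hs]
  | add x y hx hy =>
    obtain ⟨sx, hx0, hx⟩ := hx
    obtain ⟨sy, hy0, hy⟩ := hy
    refine ⟨sx ∪ sy, ?_, ?_⟩
    · intro i hi
      rw [Finset.mem_union, not_or] at hi
      rw [map_add, hx0 i hi.1, hy0 i hi.2, add_zero]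
    · simp only [map_add, Finset.sum_add_distrib]
      have h1 : ∑ i ∈ sx ∪ sy, LinearMap.lTensor V (π i) x = ∑ i ∈ sx, LinearMap.lTensor V (π i) x :=
        (Finset.sum_subset Finset.subset_union_left (fun i _ hi => hx0 i hi)).symm
      have h2 : ∑ i ∈ sx ∪ sy, LinearMap.lTensor V (π i) y = ∑ i ∈ sy, LinearMap.lTensor V (π i) y :=
        (Finset.sum_subset Finset.subset_union_right (fun i _ hi => hy0 i hi)).symm
      rw [h1, h2, ← hx, ← hy]

theorem A1 (f : C →ₗ[R] R) :
    ((TensorProduct.rid R (V ⊗[R] C)).toLinearMap ∘ₗ LinearMap.lTensor (V ⊗[R] C) f :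
      (V ⊗[R] C) ⊗[R] C →ₗ[R] V ⊗[R] C) =
    LinearMap.lTensor V ((TensorProduct.rid R C).toLinearMap ∘ₗ LinearMap.lTensor C f) ∘ₗ
      (TensorProduct.assoc R V C C).toLinearMap := by
  apply TensorProduct.ext_threefold
  intro v c c'
  simp

theorem B1 (f : C →ₗ[R] R) :
    (LinearMap.rTensor C ((TensorProduct.rid R V).toLinearMap ∘ₗ LinearMap.lTensor V f) :
      (V ⊗[R] C) ⊗[R] C →ₗ[R] V ⊗[R] C) =
    LinearMap.lTensor V ((TensorProduct.lid R C).toLinearMap ∘ₗ LinearMap.rTensor C f) ∘ₗ
      (TensorProduct.assoc R V C C).toLinearMap := by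
  apply TensorProduct.ext_threefold
  intro v c c'
  simp [TensorProduct.smul_tmul']

theorem A2 (ρ : V →ₗ[R] V ⊗[R] C) (f : C →ₗ[R] R) (x : V ⊗[R] C) :
    ρ (TensorProduct.rid R V (LinearMap.lTensor V f x)) =
      TensorProduct.rid R (V ⊗[R] C) (LinearMap.lTensor (V ⊗[R] C) f (LinearMap.rTensor C ρ x)) := by
  induction x using TensorProduct.induction_on with
  | zero => simp
  | tmul v c => simp
  | add x y hx hy => simp only [map_add, hx, hy]

end Tensor

section Main

variable {R : Type u} {C : Type v} [CommRing R] [AddCommGroup C] [Module R C] [Coalgebra R C]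
variable {ι : Type w} (D : ι → Submodule R C)

theorem K1 (hD : ∀ i, ∀ d ∈ D i, CoalgebraStruct.comul (R := R) d ∈
      LinearMap.range (TensorProduct.map (D i).subtype (D i).subtype))
    (htop : iSup D = ⊤) (π : ι → (C →ₗ[R] C))
    (h2 : ∀ i c, c ∈ D i → π i c = c) (h3 : ∀ i j c, i ≠ j → c ∈ D j → π i c = 0) (i : ι) :
    (TensorProduct.rid R C).toLinearMap ∘ₗ
      LinearMap.lTensor C (CoalgebraStruct.counit (R := R) (A := C) ∘ₗ π i) ∘ₗ
        CoalgebraStruct.comul (R := R) (A := C) = π i := by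
  classical
  ext c
  have hc : c ∈ ⨆ j, D j := by rw [htop]; trivial
  induction hc using Submodule.iSup_induction' with
  | zero => simp
  | add x y _ _ hx hy => rw [map_add, map_add, hx, hy]
  | mem j c hc =>
    obtain ⟨t, ht⟩ := hD j c hc
    simp only [LinearMap.comp_apply, LinearEquiv.coe_coe]
    rw [← ht, ← LinearMap.comp_apply (LinearMap.lTensor C _), LinearMap.lTensor_comp_map]
    by_cases hij : i = j
    · subst hij
      have e1 : (CoalgebraStruct.counit (R := R) (A := C) ∘ₗ π i) ∘ₗ (D i).subtype =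
          CoalgebraStruct.counit (R := R) (A := C) ∘ₗ (D i).subtype := by
        ext d; simp [h2 i d d.2]
      rw [e1, ← LinearMap.lTensor_comp_map, LinearMap.comp_apply, ht,
        Coalgebra.lTensor_counit_comul, TensorProduct.rid_tmul, one_smul, h2 i c hc]
    · have e1 : (CoalgebraStruct.counit (R := R) (A := C) ∘ₗ π i) ∘ₗ (D j).subtype = 0 := by
        ext d; simp [h3 i j d hij d.2]
      rw [e1, TensorProduct.map_zero_right, LinearMap.zero_apply, map_zero, h3 i j c hij hc]

theorem K2 (hD : ∀ i, ∀ d ∈ D i, CoalgebraStruct.comul (R := R) d ∈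
      LinearMap.range (TensorProduct.map (D i).subtype (D i).subtype))
    (htop : iSup D = ⊤) (π : ι → (C →ₗ[R] C))
    (h2 : ∀ i c, c ∈ D i → π i c = c) (h3 : ∀ i j c, i ≠ j → c ∈ D j → π i c = 0) (i : ι) :
    (TensorProduct.lid R C).toLinearMap ∘ₗ
      LinearMap.rTensor C (CoalgebraStruct.counit (R := R) (A := C) ∘ₗ π i) ∘ₗ
        CoalgebraStruct.comul (R := R) (A := C) = π i := by
  classical
  ext c
  have hc : c ∈ ⨆ j, D j := by rw [htop]; trivial
  induction hc using Submodule.iSup_induction' with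
  | zero => simp
  | add x y _ _ hx hy => rw [map_add, map_add, hx, hy]
  | mem j c hc =>
    obtain ⟨t, ht⟩ := hD j c hc
    simp only [LinearMap.comp_apply, LinearEquiv.coe_coe]
    rw [← ht, ← LinearMap.comp_apply (LinearMap.rTensor C _), LinearMap.rTensor_comp_map]
    by_cases hij : i = j
    · subst hij
      have e1 : (CoalgebraStruct.counit (R := R) (A := C) ∘ₗ π i) ∘ₗ (D i).subtype =
          CoalgebraStruct.counit (R := R) (A := C) ∘ₗ (D i).subtype := by
        ext d; simp [h2 i d d.2]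
      rw [e1, ← LinearMap.rTensor_comp_map, LinearMap.comp_apply, ht,
        Coalgebra.rTensor_counit_comul, TensorProduct.lid_tmul, one_smul, h2 i c hc]
    · have e1 : (CoalgebraStruct.counit (R := R) (A := C) ∘ₗ π i) ∘ₗ (D j).subtype = 0 := by
        ext d; simp [h3 i j d hij d.2]
      rw [e1, TensorProduct.map_zero_left, LinearMap.zero_apply, map_zero, h3 i j c hij hc]

variable {V : Type w'} [AddCommGroup V] [Module R V] [HopfRep.Comod R C V]

theorem main
    (hD : ∀ i, ∀ d ∈ D i, CoalgebraStruct.comul (R := R) d ∈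
      LinearMap.range (TensorProduct.map (D i).subtype (D i).subtype))
    (hind : iSupIndep D) (htop : iSup D = ⊤) :
    (∀ i, HopfRep.IsSubcomod (k := R) (A := C) ((LinearMap.range (LinearMap.lTensor V (D i).subtype)).comap
        (HopfRep.Comod.coact (k := R) (A := C) (V := V)))) ∧
    iSupIndep (fun i => ((LinearMap.range (LinearMap.lTensor V (D i).subtype)).comap
        (HopfRep.Comod.coact (k := R) (A := C) (V := V)))) ∧
    (⨆ i, ((LinearMap.range (LinearMap.lTensor V (D i).subtype)).comap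
        (HopfRep.Comod.coact (k := R) (A := C) (V := V)))) = ⊤ ∧
    ∀ i, ∀ v ∈ ((LinearMap.range (LinearMap.lTensor V (D i).subtype)).comap
        (HopfRep.Comod.coact (k := R) (A := C) (V := V))),
      HopfRep.Comod.coact (k := R) (A := C) v ∈
        LinearMap.range (TensorProduct.map ((LinearMap.range (LinearMap.lTensor V (D i).subtype)).comap
        (HopfRep.Comod.coact (k := R) (A := C) (V := V))).subtype (D i).subtype) := by
  classical
  obtain ⟨π, h1, h2, h3, h4⟩ := exists_proj D hind htop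
  set ρ : V →ₗ[R] V ⊗[R] C := HopfRep.Comod.coact (k := R) (A := C) (V := V) with hρ
  set Vi : ι → Submodule R V := fun i =>
    (LinearMap.range (LinearMap.lTensor V (D i).subtype)).comap ρ with hVi
  have hVimem : ∀ i v, v ∈ Vi i ↔ ρ v ∈ LinearMap.range (LinearMap.lTensor V (D i).subtype) :=
    fun i v => Iff.rfl
  let ε : C →ₗ[R] R := CoalgebraStruct.counit (R := R) (A := C)
  let Δ : C →ₗ[R] C ⊗[R] C := CoalgebraStruct.comul (R := R) (A := C)
  let p : ι → (V →ₗ[R] V) := fun i =>
    (TensorProduct.rid R V).toLinearMap ∘ₗ LinearMap.lTensor V (ε ∘ₗ π i) ∘ₗ ρ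
  have hcoassoc : ∀ v, (TensorProduct.assoc R V C C) (LinearMap.rTensor C ρ (ρ v)) =
      LinearMap.lTensor V Δ (ρ v) := fun v =>
    LinearMap.congr_fun (HopfRep.Comod.coassoc (k := R) (A := C) (V := V)) v
  have hcounit : ∀ v, TensorProduct.rid R V (LinearMap.lTensor V ε (ρ v)) = v := by
    intro v
    have := LinearMap.congr_fun (HopfRep.Comod.counit_comp (k := R) (A := C) (V := V)) v
    simp only [LinearMap.comp_apply, LinearMap.flip_apply, TensorProduct.mk_apply] at this
    show TensorProduct.rid R V (LinearMap.lTensor V ε (ρ v)) = v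
    rw [this, TensorProduct.rid_tmul, one_smul]
  -- P1
  have P1 : ∀ i v, ρ (p i v) = LinearMap.lTensor V (π i) (ρ v) := by
    intro i v
    show ρ (TensorProduct.rid R V (LinearMap.lTensor V (ε ∘ₗ π i) (ρ v))) = _
    rw [A2 ρ (ε ∘ₗ π i) (ρ v)]
    have := LinearMap.congr_fun (A1 (V := V) (ε ∘ₗ π i)) (LinearMap.rTensor C ρ (ρ v))
    simp only [LinearMap.comp_apply, LinearEquiv.coe_coe] at this
    rw [this, hcoassoc, ← LinearMap.comp_apply (LinearMap.lTensor V _) (LinearMap.lTensor V Δ),
      ← LinearMap.lTensor_comp]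
    have hk := K1 D hD htop π h2 h3 i
    rw [LinearMap.comp_assoc, hk]
  -- P2
  have P2 : ∀ i v, LinearMap.rTensor C (p i) (ρ v) = LinearMap.lTensor V (π i) (ρ v) := by
    intro i v
    have e0 : LinearMap.rTensor C (p i) (ρ v) =
        LinearMap.rTensor C ((TensorProduct.rid R V).toLinearMap ∘ₗ LinearMap.lTensor V (ε ∘ₗ π i))
          (LinearMap.rTensor C ρ (ρ v)) := by
      rw [← LinearMap.comp_apply (LinearMap.rTensor C _) (LinearMap.rTensor C ρ),
        ← LinearMap.rTensor_comp]
      rfl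
    rw [e0]
    have := LinearMap.congr_fun (B1 (V := V) (ε ∘ₗ π i)) (LinearMap.rTensor C ρ (ρ v))
    simp only [LinearMap.comp_apply, LinearEquiv.coe_coe] at this
    rw [this, hcoassoc, ← LinearMap.comp_apply (LinearMap.lTensor V _) (LinearMap.lTensor V Δ),
      ← LinearMap.lTensor_comp]
    have hk := K2 D hD htop π h2 h3 i
    rw [LinearMap.comp_assoc, hk]
  -- P3
  have P3same : ∀ i v, v ∈ Vi i → LinearMap.lTensor V (π i) (ρ v) = ρ v := by
    intro i v hv
    obtain ⟨t, ht⟩ := (hVimem i v).1 hv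
    rw [← ht, ← LinearMap.comp_apply, ← LinearMap.lTensor_comp]
    have : π i ∘ₗ (D i).subtype = (D i).subtype := by ext d; simp [h2 i d d.2]
    rw [this]
  have P3ne : ∀ i j v, j ≠ i → v ∈ Vi i → LinearMap.lTensor V (π j) (ρ v) = 0 := by
    intro i j v hji hv
    obtain ⟨t, ht⟩ := (hVimem i v).1 hv
    rw [← ht, ← LinearMap.comp_apply, ← LinearMap.lTensor_comp]
    have : π j ∘ₗ (D i).subtype = 0 := by ext d; simp [h3 j i d hji d.2]
    rw [this, LinearMap.lTensor_zero, LinearMap.zero_apply]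
  have hp_eq : ∀ i v, p i v = TensorProduct.rid R V (LinearMap.lTensor V ε
      (LinearMap.lTensor V (π i) (ρ v))) := by
    intro i v
    show TensorProduct.rid R V (LinearMap.lTensor V (ε ∘ₗ π i) (ρ v)) = _
    rw [LinearMap.lTensor_comp_apply]
  have P5same : ∀ i v, v ∈ Vi i → p i v = v := by
    intro i v hv
    rw [hp_eq, P3same i v hv, hcounit]
  have P5ne : ∀ i j v, j ≠ i → v ∈ Vi i → p j v = 0 := by
    intro i j v hji hv
    rw [hp_eq, P3ne i j v hji hv, map_zero, map_zero]
  have P6 : ∀ i v, p i v ∈ Vi i := by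
    intro i v
    rw [hVimem, P1]
    have : π i = (D i).subtype ∘ₗ (π i).codRestrict (D i) (h1 i) := by ext c; rfl
    rw [this, LinearMap.lTensor_comp_apply]
    exact ⟨_, rfl⟩
  -- (d)
  have hd : ∀ i, ∀ v ∈ Vi i, ρ v ∈ LinearMap.range (TensorProduct.map (Vi i).subtype (D i).subtype) := by
    intro i v hv
    have e1 : ρ v = TensorProduct.map (p i) (π i) (ρ v) := by
      rw [← LinearMap.rTensor_comp_lTensor, LinearMap.comp_apply, P3same i v hv, P2, P3same i v hv]
    have e2 : TensorProduct.map (p i) (π i) =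
        TensorProduct.map (Vi i).subtype (D i).subtype ∘ₗ
          TensorProduct.map ((p i).codRestrict (Vi i) (P6 i)) ((π i).codRestrict (D i) (h1 i)) := by
      rw [← TensorProduct.map_comp]
      rfl
    rw [e1, e2, LinearMap.comp_apply]
    exact ⟨_, rfl⟩
  refine ⟨?_, ?_, ?_, hd⟩
  · intro i w hw
    obtain ⟨t, ht⟩ := hd i w hw
    rw [← ht, ← LinearMap.rTensor_comp_lTensor, LinearMap.comp_apply]
    exact ⟨_, rfl⟩
  · rw [iSupIndep_def]
    intro i
    rw [Submodule.disjoint_def]
    intro x hx hx'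
    have hker : (⨆ j, ⨆ (_ : j ≠ i), Vi j) ≤ LinearMap.ker (p i) := by
      refine iSup₂_le fun j hj v hv => ?_
      rw [LinearMap.mem_ker]
      exact P5ne j i v (Ne.symm hj) hv
    have := hker hx'
    rw [LinearMap.mem_ker, P5same i x hx] at this
    exact this
  · rw [eq_top_iff]
    intro v _
    obtain ⟨s, _, hs⟩ := finite_decomp (V := V) π h4 (ρ v)
    have hv : v = ∑ i ∈ s, p i v := by
      conv_lhs => rw [← hcounit v, hs, map_sum, map_sum]
      exact Finset.sum_congr rfl fun i _ => (hp_eq i v).symm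
    rw [hv]
    exact Submodule.sum_mem _ fun i _ => Submodule.mem_iSup_of_mem i (P6 i v)

end Main

end Groth.Agent.Helper7.ComodDecomp
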