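import Groth.Prelude.Def_W4c2conddiscmodels
import Mathlib

/-!
Helper lemmas on the matrix of a multigraph with multiplicity function (`LabGraph.mfMatrix`) and on
contraction of edges (`DualGr.ctrEnds`): edge-sum form of the rows of the matrix, and exactness of
the diagonal division for the contracted graph.
-/

set_option autoImplicit false
universe u
open Finset

namespace Groth.Agent.Helper7.Contract

set_option linter.unusedSectionVars false
set_option linter.unusedDecidableInType false
variable {V E : Type u} [Fintype V] [Fintype E] [DecidableEq V] [DecidableEq E]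

/-- Neighbour sum in edge form. -/
def nbSum (ends : E → V × V) (g : V → ℤ) (v : V) : ℤ :=
  ∑ e : E, ((if (ends e).1 = v ∧ (ends e).2 ≠ v then g (ends e).2 else 0) +
            (if (ends e).2 = v ∧ (ends e).1 ≠ v then g (ends e).1 else 0))

/-- The antisymmetric edge quantity `β(a) g(b) - β(b) g(a)` for an edge `(a, b)`. -/
def om (ends : E → V × V) (β g : V → ℤ) (e : E) : ℤ :=
  β (ends e).1 * g (ends e).2 - β (ends e).2 * g (ends e).1

lemma sum_erase_edgeMult (ends : E → V × V) (g : V → ℤ) (v : V) :
    ∑ w ∈ univ.erase v, g w * (LabGraph.edgeMult ends v w : ℤ) = nbSum ends g v := by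
  unfold nbSum LabGraph.edgeMult
  simp only [Finset.card_filter, Nat.cast_sum, Nat.cast_ite, Nat.cast_one, Nat.cast_zero,
    Finset.mul_sum]
  rw [Finset.sum_comm]
  apply Finset.sum_congr rfl
  intro e _
  have key : ∀ w ∈ univ.erase v, g w * (if ends e = (v, w) ∨ ends e = (w, v) then (1:ℤ) else 0) =
      (if (ends e).2 = w then (if (ends e).1 = v ∧ (ends e).2 ≠ v then g (ends e).2 else 0) else 0) +
      (if (ends e).1 = w then (if (ends e).2 = v ∧ (ends e).1 ≠ v then g (ends e).1 else 0) else 0) := by
    intro w hw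
    have hwv : w ≠ v := (Finset.mem_erase.1 hw).1
    rcases hab : ends e with ⟨a, b⟩
    simp only [Prod.mk.injEq]
    by_cases h1 : a = v <;> by_cases h2 : b = v <;> by_cases h3 : a = w <;> by_cases h4 : b = w <;>
      simp_all
  rw [Finset.sum_congr rfl key, Finset.sum_add_distrib, Finset.sum_ite_eq, Finset.sum_ite_eq]
  congr 1
  · by_cases h : (ends e).2 = v <;> simp [h]
  · by_cases h : (ends e).1 = v <;> simp [h]

lemma mfMatrix_diag (ends : E → V × V) (β : V → ℤ) (v : V) :
    LabGraph.mfMatrix ends β v v =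
      -(∑ u ∈ univ.erase v, β u * (LabGraph.edgeMult ends v u : ℤ)) / β v := by
  simp [LabGraph.mfMatrix]

lemma mfMatrix_off (ends : E → V × V) (β : V → ℤ) {v w : V} (h : v ≠ w) :
    LabGraph.mfMatrix ends β v w = (LabGraph.edgeMult ends v w : ℤ) := by
  simp [LabGraph.mfMatrix, h]

lemma beta_mul_diag (ends : E → V × V) (β : V → ℤ) (v : V)
    (hdiv : β v ∣ ∑ w ∈ univ.erase v, β w * (LabGraph.edgeMult ends v w : ℤ)) :
    β v * LabGraph.mfMatrix ends β v v = - nbSum ends β v := by
  rw [mfMatrix_diag, Int.mul_ediv_cancel' ((dvd_neg).2 hdiv), sum_erase_edgeMult]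

lemma beta_mul_mulVec (ends : E → V × V) (β g : V → ℤ) (v : V)
    (hdiv : β v ∣ ∑ w ∈ univ.erase v, β w * (LabGraph.edgeMult ends v w : ℤ)) :
    β v * (Matrix.mulVec (LabGraph.mfMatrix ends β) g) v = - LabGraph.boundary ends (om ends β g) v := by
  have h1 : (Matrix.mulVec (LabGraph.mfMatrix ends β) g) v =
      LabGraph.mfMatrix ends β v v * g v + nbSum ends g v := by
    rw [← sum_erase_edgeMult, Matrix.mulVec, dotProduct,
      ← Finset.add_sum_erase _ _ (Finset.mem_univ v)]
    congr 1
    apply Finset.sum_congr rfl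
    intro w hw
    have hvw : v ≠ w := (Finset.mem_erase.1 hw).1.symm
    rw [mfMatrix_off ends β hvw, mul_comm]
  rw [h1, mul_add, ← mul_assoc, beta_mul_diag ends β v hdiv]
  unfold nbSum LabGraph.boundary
  rw [Finset.mul_sum, neg_mul, Finset.sum_mul, ← Finset.sum_neg_distrib, ← Finset.sum_neg_distrib,
    ← Finset.sum_add_distrib]
  apply Finset.sum_congr rfl
  intro e _
  by_cases h1 : (ends e).1 = v <;> by_cases h2 : (ends e).2 = v <;>
    simp [om, h1, h2] <;> ring

lemma term_at (ends : E → V × V) (β g : V → ℤ) (e' : E) (a b : V) (hab : a ≠ b)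
    (h : ends e' = (a, b) ∨ ends e' = (b, a)) :
    (if (ends e').2 = a then om ends β g e' else 0) - (if (ends e').1 = a then om ends β g e' else 0) =
      -(β a * g b - β b * g a) := by
  rcases h with h | h
  · simp [om, h, hab.symm]
  · simp [om, h, hab.symm]

lemma nb_term (ends : E → V × V) (g : V → ℤ) (e' : E) (a b : V) (hab : a ≠ b)
    (h : ends e' = (a, b) ∨ ends e' = (b, a)) :
    (if (ends e').1 = a ∧ (ends e').2 ≠ a then g (ends e').2 else 0) +
      (if (ends e').2 = a ∧ (ends e').1 ≠ a then g (ends e').1 else 0) = g b := by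
  rcases h with h | h
  · simp [h, hab.symm]
  · simp [h, hab.symm]

/-- Exactness of the diagonal division for the contracted graph, when `β` is constant on classes. -/
lemma ctr_dvd (ends : E → V × V) (D : Finset E) (β : V → ℤ)
    (hβq : ∀ v, LabGraph.ctrFn ends D β (DualGr.ctrMk ends D v) = β v)
    (hdiv : ∀ v, β v ∣ ∑ w ∈ univ.erase v, β w * (LabGraph.edgeMult ends v w : ℤ))
    (c : DualGr.CtrVert ends D) :
    LabGraph.ctrFn ends D β c ∣ ∑ c' ∈ univ.erase c, LabGraph.ctrFn ends D β c' *
      (LabGraph.edgeMult (DualGr.ctrEnds ends D) c c' : ℤ) := by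
  classical
  rw [sum_erase_edgeMult]
  -- the per-edge terms
  let T : E → ℤ := fun e =>
    (if DualGr.ctrMk ends D (ends e).1 = c ∧ DualGr.ctrMk ends D (ends e).2 ≠ c then β (ends e).2 else 0) +
    (if DualGr.ctrMk ends D (ends e).2 = c ∧ DualGr.ctrMk ends D (ends e).1 ≠ c then β (ends e).1 else 0)
  let R : E → ℤ := fun e =>
    if DualGr.ctrMk ends D (ends e).1 = c ∧ DualGr.ctrMk ends D (ends e).2 = c ∧ (ends e).1 ≠ (ends e).2
      then β (ends e).1 + β (ends e).2 else 0
  have h1 : nbSum (DualGr.ctrEnds ends D) (LabGraph.ctrFn ends D β) c = ∑ e' : DualGr.CtrEdge D, T e'.1 := by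
    unfold nbSum
    apply Finset.sum_congr rfl
    intro e' _
    show (if DualGr.ctrMk ends D (ends e'.1).1 = c ∧ DualGr.ctrMk ends D (ends e'.1).2 ≠ c then
        LabGraph.ctrFn ends D β (DualGr.ctrMk ends D (ends e'.1).2) else 0) +
      (if DualGr.ctrMk ends D (ends e'.1).2 = c ∧ DualGr.ctrMk ends D (ends e'.1).1 ≠ c then
        LabGraph.ctrFn ends D β (DualGr.ctrMk ends D (ends e'.1).1) else 0) = T e'.1
    rw [hβq, hβq]
  have hTD : ∀ e, e ∈ D → T e = 0 := by
    intro e he
    have := DualGr.ctrMk_fst_eq_ctrMk_snd ends D he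
    simp only [T]
    rw [this]
    simp
  have h2 : ∑ e' : DualGr.CtrEdge D, T e'.1 = ∑ e : E, T e := by
    rw [← Finset.sum_subtype (Finset.univ.filter (fun e : E => e ∉ D)) (p := fun e => e ∉ D)
      (by intro e; simp) T]
    apply Finset.sum_filter_of_ne
    intro e _ hne
    by_contra h
    exact hne (hTD e h)
  have h3 : ∑ v ∈ univ.filter (fun v => DualGr.ctrMk ends D v = c), nbSum ends β v =
      ∑ e : E, (T e + R e) := by
    unfold nbSum
    rw [Finset.sum_comm]
    apply Finset.sum_congr rfl
    intro e _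
    have k1 : ∀ v : V, (if (ends e).1 = v ∧ (ends e).2 ≠ v then β (ends e).2 else 0) =
        (if (ends e).1 = v then (if (ends e).2 ≠ (ends e).1 then β (ends e).2 else 0) else 0) := by
      intro v
      by_cases h : (ends e).1 = v
      · subst h; simp
      · simp [h]
    have k2 : ∀ v : V, (if (ends e).2 = v ∧ (ends e).1 ≠ v then β (ends e).1 else 0) =
        (if (ends e).2 = v then (if (ends e).1 ≠ (ends e).2 then β (ends e).1 else 0) else 0) := by
      intro v
      by_cases h : (ends e).2 = v
      · subst h; simp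
      · simp [h]
    simp only [k1, k2]
    rw [Finset.sum_add_distrib, Finset.sum_ite_eq, Finset.sum_ite_eq]
    simp only [Finset.mem_filter, Finset.mem_univ, true_and, T, R]
    clear k1 k2
    generalize (ends e).1 = a
    generalize (ends e).2 = b
    by_cases g3 : a = b
    · subst g3
      by_cases g1 : DualGr.ctrMk ends D a = c <;> simp [g1]
    · have g3' : b ≠ a := fun h => g3 h.symm
      by_cases g1 : DualGr.ctrMk ends D a = c <;> by_cases g2 : DualGr.ctrMk ends D b = c <;>
        simp [g1, g2, g3, g3', add_comm]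
  have h4 : nbSum (DualGr.ctrEnds ends D) (LabGraph.ctrFn ends D β) c =
      ∑ v ∈ univ.filter (fun v => DualGr.ctrMk ends D v = c), nbSum ends β v - ∑ e : E, R e := by
    have h5 : ∑ e : E, (T e + R e) = ∑ e : E, T e + ∑ e : E, R e := Finset.sum_add_distrib
    rw [h1, h2, h3, h5]
    ring
  rw [h4]
  apply dvd_sub
  · apply Finset.dvd_sum
    intro v hv
    have hv' : DualGr.ctrMk ends D v = c := (Finset.mem_filter.1 hv).2
    rw [← hv', hβq, ← sum_erase_edgeMult]
    exact hdiv v
  · apply Finset.dvd_sum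
    intro e _
    simp only [R]
    split_ifs with h
    · rw [← hβq (ends e).1, ← hβq (ends e).2, h.1, h.2.1]
      exact dvd_add dvd_rfl dvd_rfl
    · exact dvd_zero _

end Groth.Agent.Helper7.Contract
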