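import Groth.Prelude.Def_W4c2conddiscmodels
import Mathlib
import Groth.Agent.Lib.Helper7.Contract

set_option autoImplicit false
universe u
open Finset

namespace Groth.Agent.Helper7.Contract2

open Groth.Agent.Helper7

set_option linter.unusedSectionVars false
set_option linter.unusedDecidableInType false
variable {V E : Type u} [Fintype V] [Fintype E] [DecidableEq V] [DecidableEq E]

theorem hq_eq (ends : E → V × V) {k : ℕ} (f : Fin (k + 1) → V) (e : Fin k → E)
    (hC : LabGraph.IsChain ends f e) (D : Finset E) (hD : D = univ.image e) :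
    ∀ v w, DualGr.ctrMk ends D v = DualGr.ctrMk ends D w →
      v = w ∨ ((∃ i, v = f i) ∧ (∃ j, w = f j)) := by
  classical
  intro v w h
  have h' : Relation.EqvGen (DualGr.CtrRel ends D) v w := Quotient.exact h
  clear h
  induction h' with
  | rel a b hab =>
    obtain ⟨e', he', hends⟩ := hab
    rw [hD] at he'
    obtain ⟨i, -, rfl⟩ := Finset.mem_image.mp he'
    right
    rcases hC.2.2 i with h1 | h1
    · rw [h1] at hends
      obtain ⟨rfl, rfl⟩ := Prod.mk.inj hends
      exact ⟨⟨_, rfl⟩, ⟨_, rfl⟩⟩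
    · rw [h1] at hends
      obtain ⟨rfl, rfl⟩ := Prod.mk.inj hends
      exact ⟨⟨_, rfl⟩, ⟨_, rfl⟩⟩
  | refl a => left; rfl
  | symm a b _ ih =>
    rcases ih with h | ⟨h1, h2⟩
    · left; exact h.symm
    · right; exact ⟨h2, h1⟩
  | trans a b c _ _ ih1 ih2 =>
    rcases ih1 with h1 | ⟨h1, h1'⟩ <;> rcases ih2 with h2 | ⟨h2, h2'⟩
    · left; exact h1.trans h2
    · right; rw [h1]; exact ⟨h2, h2'⟩
    · right; rw [← h2]; exact ⟨h1, h1'⟩
    · right; exact ⟨h1, h2'⟩

theorem main800 (ends : E → V × V) (β : V → ℤ) (hβ : LabGraph.IsMultFn ends β)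
    {k : ℕ} (f : Fin (k + 1) → V) (e : Fin k → E) (hC : LabGraph.IsChain ends f e)
    (hconst : ∀ i j, β (f i) = β (f j)) :
    LabGraph.IsMultFn (DualGr.ctrEnds ends (univ.image e))
      (LabGraph.ctrFn ends (univ.image e) β) := by
  classical
  obtain ⟨D, hD⟩ : ∃ D, D = univ.image e := ⟨_, rfl⟩
  rw [← hD]
  have hβ' : ∀ v, LabGraph.ctrFn ends D β (DualGr.ctrMk ends D v) = β v := by
    intro v
    have h1 : DualGr.ctrMk ends D (Quotient.out (DualGr.ctrMk ends D v)) =
        DualGr.ctrMk ends D v := Quotient.out_eq _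
    show β (Quotient.out (DualGr.ctrMk ends D v)) = β v
    rcases hq_eq ends f e hC D hD _ _ h1 with h | ⟨⟨i, hi⟩, ⟨j, hj⟩⟩
    · rw [h]
    · rw [hi, hj]; exact hconst i j
  intro c
  refine ⟨by show 0 < β _; exact (hβ _).1, ?_⟩
  exact Contract.ctr_dvd ends D β hβ' (fun v => (hβ v).2) c

end Groth.Agent.Helper7.Contract2
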