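import Groth.Prelude.Def_W4c2conddiscmodels
import Mathlib
import Groth.Agent.Lib.Helper7.Contract

/-!
Contraction of a connecting chain: the extension-by-zero map induces a surjection of component
groups (`ker β'/im α' → ker β/im α`).
-/

set_option autoImplicit false
universe u
open Finset
open LabGraph

namespace Groth.Agent.Helper7.Contract3

open Groth.Agent.Helper7

lemma prop_aux1 (P Q R : Prop) (h : ¬ (P ↔ ¬ Q)) : (P ↔ R) ↔ (Q ↔ R) := by
  by_cases hP : P <;> by_cases hQ : Q <;> by_cases hR : R <;> simp_all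

lemma prop_aux2 (P Q : Prop) (h : P ↔ ¬ Q) : ¬ (Q ↔ P) := by
  by_cases hP : P <;> by_cases hQ : Q <;> simp_all

lemma term_gen {V E : Type u} [Fintype V] [Fintype E] [DecidableEq V] [DecidableEq E]
    (ends : E → V × V) (β g : V → ℤ) (e' : E) (a b v : V)
    (h : ends e' = (a, b) ∨ ends e' = (b, a)) :
    (if (ends e').2 = v then Contract.om ends β g e' else 0) -
      (if (ends e').1 = v then Contract.om ends β g e' else 0) =
    (if b = v then (β a * g b - β b * g a) else 0) - (if a = v then (β a * g b - β b * g a) else 0) := by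
  rcases h with h | h <;> simp only [Contract.om, h] <;> split_ifs <;> ring

set_option maxHeartbeats 1600000 in
theorem main801 {V E : Type u} [Fintype V] [Fintype E] [DecidableEq V] [DecidableEq E]
    (ends : E → V × V) (β : V → ℤ) (hβ : LabGraph.IsMultFn ends β)
    (m : ℕ) (f : Fin (m + 1) → V) (e : Fin m → E) (hC : LabGraph.IsChain ends f e)
    (hconn : ∀ i, LabGraph.IsConnecting ends (e i)) (hβm : ∀ i, β (f i) = m)
    (hα : ∀ i, LabGraph.mfMatrix ends β (f i) (f i) = -2)
    (D : Finset E) (hDe : ∀ e', e' ∈ D ↔ ∃ i, e i = e') :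
    ∃ φ : LabGraph.CompGrp (DualGr.ctrEnds ends D) (LabGraph.ctrFn ends D β) →+
        LabGraph.CompGrp ends β,
      Function.Surjective φ ∧
      ∀ (x : LinearMap.ker (LabGraph.betaHom (LabGraph.ctrFn ends D β)))
        (y : LinearMap.ker (LabGraph.betaHom β)),
        (y : V → ℤ) = LabGraph.liftAt ends D (f 0) (x : DualGr.CtrVert ends D → ℤ) →
        φ (Submodule.Quotient.mk x) = Submodule.Quotient.mk y := by
  classical
  have hm : 0 < m := by
    by_contra hm0
    have h1 := (hβ (f 0)).1
    rw [hβm 0] at h1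
    omega
  have hmne : (m : ℤ) ≠ 0 := by exact_mod_cast hm.ne'
  have hβpos : ∀ v, 0 < β v := fun v => (hβ v).1
  obtain ⟨fn, hfn⟩ : ∃ fn : ℕ → V, ∀ k (h : k < m + 1), fn k = f ⟨k, h⟩ :=
    ⟨fun k => if h : k < m + 1 then f ⟨k, h⟩ else f 0, fun k h => dif_pos h⟩
  obtain ⟨en, hen⟩ : ∃ en : ℕ → E, ∀ k (h : k < m), en k = e ⟨k, h⟩ :=
    ⟨fun k => if h : k < m then e ⟨k, h⟩ else e ⟨0, hm⟩, fun k h => dif_pos h⟩
  have hf0 : f 0 = fn 0 := by
    rw [hfn 0 (by omega)]
    exact congrArg f (Fin.ext (by simp))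
  have hchain : ∀ k, k < m → ends (en k) = (fn k, fn (k+1)) ∨ ends (en k) = (fn (k+1), fn k) := by
    intro k hk
    rw [hen k hk, hfn k (by omega), hfn (k+1) (by omega)]
    exact hC.2.2 ⟨k, hk⟩
  have hfn_inj : ∀ j k, j ≤ m → k ≤ m → fn j = fn k → j = k := by
    intro j k hj hk h
    rw [hfn j (by omega), hfn k (by omega)] at h
    have := hC.1 h
    exact Fin.mk.inj_iff.1 this
  have hfn_ne : ∀ j k, j ≤ m → k ≤ m → j ≠ k → fn j ≠ fn k :=
    fun j k hj hk hne h => hne (hfn_inj j k hj hk h)
  have hen_inj : ∀ j k, j < m → k < m → en j = en k → j = k := by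
    intro j k hj hk h
    rw [hen j hj, hen k hk] at h
    have := hC.2.1 h
    exact Fin.mk.inj_iff.1 this
  have hD_mem : ∀ e', e' ∈ D ↔ ∃ k, k < m ∧ e' = en k := by
    intro e'
    constructor
    · intro h
      obtain ⟨i, rfl⟩ := (hDe e').1 h
      exact ⟨i.val, i.isLt, (hen i.val i.isLt).symm⟩
    · rintro ⟨k, hk, rfl⟩
      exact (hDe _).2 ⟨⟨k, hk⟩, (hen k hk).symm⟩
  have hβn : ∀ k, k ≤ m → β (fn k) = m := by
    intro k hk
    rw [hfn k (by omega)]
    exact hβm _
  have hαn : ∀ k, k ≤ m → LabGraph.mfMatrix ends β (fn k) (fn k) = -2 := by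
    intro k hk
    rw [hfn k (by omega)]
    exact hα _
  -- classes of the contraction
  have hq_chain : ∀ k, k ≤ m → DualGr.ctrMk ends D (fn k) = DualGr.ctrMk ends D (fn 0) := by
    intro k
    induction k with
    | zero => intro _; rfl
    | succ k ih =>
      intro hk
      rw [← ih (by omega)]
      have hmem : en k ∈ D := (hD_mem _).2 ⟨k, by omega, rfl⟩
      have h1 := DualGr.ctrMk_fst_eq_ctrMk_snd ends D hmem
      rcases hchain k (by omega) with h | h <;> rw [h] at h1
      · exact h1.symm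
      · exact h1
  have hq_eq : ∀ v w, DualGr.ctrMk ends D v = DualGr.ctrMk ends D w →
      v = w ∨ ((∃ k, k ≤ m ∧ v = fn k) ∧ (∃ k, k ≤ m ∧ w = fn k)) := by
    intro v w h
    have h' : Relation.EqvGen (DualGr.CtrRel ends D) v w := Quotient.exact h
    clear h
    induction h' with
    | rel a b hab =>
      obtain ⟨e', he', hends⟩ := hab
      obtain ⟨k, hk, rfl⟩ := (hD_mem e').1 he'
      right
      rcases hchain k hk with h1 | h1
      · rw [h1] at hends
        obtain ⟨rfl, rfl⟩ := Prod.mk.inj hends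
        exact ⟨⟨k, by omega, rfl⟩, ⟨k+1, by omega, rfl⟩⟩
      · rw [h1] at hends
        obtain ⟨rfl, rfl⟩ := Prod.mk.inj hends
        exact ⟨⟨k+1, by omega, rfl⟩, ⟨k, by omega, rfl⟩⟩
    | refl a => left; rfl
    | symm a b _ ih =>
      rcases ih with h | ⟨h1, h2⟩
      · left; exact h.symm
      · right; exact ⟨h2, h1⟩
    | trans a b c _ _ ih1 ih2 =>
      rcases ih1 with h1 | ⟨h1, h1'⟩ <;> rcases ih2 with h2 | ⟨h2, h2'⟩
      · left; exact h1.trans h2
      · right; rw [h1]; exact ⟨h2, h2'⟩
      · right; rw [← h2]; exact ⟨h1, h1'⟩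
      · right; exact ⟨h1, h2'⟩
  have hβ' : ∀ v, LabGraph.ctrFn ends D β (DualGr.ctrMk ends D v) = β v := by
    intro v
    have h1 : DualGr.ctrMk ends D (Quotient.out (DualGr.ctrMk ends D v)) = DualGr.ctrMk ends D v :=
      Quotient.out_eq _
    show β (Quotient.out (DualGr.ctrMk ends D v)) = β v
    rcases hq_eq _ _ h1 with h | ⟨⟨j, hj, hj'⟩, ⟨k, hk, hk'⟩⟩
    · rw [h]
    · rw [hj', hβn j hj, hk', hβn k hk]
  -- the cut of the first edge
  obtain ⟨S, hS⟩ := hconn ⟨0, hm⟩
  have hS' : ∀ e', ((ends e').1 ∈ S ↔ (ends e').2 ∉ S) ↔ e' = en 0 := by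
    intro e'
    rw [hen 0 hm]
    exact hS e'
  obtain ⟨inA, hinA⟩ : ∃ inA : V → Prop, ∀ v, inA v ↔ (v ∈ S ↔ fn 0 ∈ S) :=
    ⟨fun v => (v ∈ S ↔ fn 0 ∈ S), fun v => Iff.rfl⟩
  have hA0 : inA (fn 0) := (hinA _).2 Iff.rfl
  have hA_edge : ∀ e', e' ≠ en 0 → (inA (ends e').1 ↔ inA (ends e').2) := by
    intro e' hne
    have h1 : ¬ ((ends e').1 ∈ S ↔ (ends e').2 ∉ S) := fun h => hne ((hS' e').1 h)
    rw [hinA, hinA]
    exact prop_aux1 _ _ _ h1
  have hA1 : ¬ inA (fn 1) := by
    have h1 := (hS' (en 0)).2 rfl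
    have h01 : ends (en 0) = (fn 0, fn 1) ∨ ends (en 0) = (fn 1, fn 0) := hchain 0 hm
    rw [hinA]
    rcases h01 with h | h
    · have h2 : fn 0 ∈ S ↔ fn 1 ∉ S := by rw [h] at h1; exact h1
      exact prop_aux2 _ _ h2
    · have h2 : fn 1 ∈ S ↔ fn 0 ∉ S := by rw [h] at h1; exact h1
      exact fun h3 => prop_aux2 _ _ h2 h3.symm
  have hAk : ∀ k, 1 ≤ k → k ≤ m → ¬ inA (fn k) := by
    intro k h1
    induction k, h1 using Nat.le_induction with
    | base => intro _; exact hA1
    | succ k h1 ih =>
      intro hk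
      have hne : en k ≠ en 0 := fun h => by
        have := hen_inj k 0 (by omega) hm h
        omega
      have h2 := hA_edge (en k) hne
      rcases hchain k (by omega) with h | h <;> rw [h] at h2
      · exact fun h' => ih (by omega) (h2.2 h')
      · exact fun h' => ih (by omega) (h2.1 h')
  -- interior analysis
  have hnb : ∀ k, k ≤ m → Contract.nbSum ends β (fn k) = 2 * m := by
    intro k hk
    have h1 := Contract.beta_mul_diag ends β (fn k) (hβ (fn k)).2
    rw [hαn k hk, hβn k hk] at h1
    linarith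
  have hint : ∀ k, 1 ≤ k → k < m → ∀ e', (((ends e').1 = fn k ∧ (ends e').2 ≠ fn k) ∨
      ((ends e').2 = fn k ∧ (ends e').1 ≠ fn k)) → e' = en (k-1) ∨ e' = en k := by
    intro k hk1 hk2 e' hinc
    by_contra hcon
    obtain ⟨hne1, hne2⟩ := not_or.1 hcon
    have hA : ∀ e'' : E, (0:ℤ) ≤ (if (ends e'').1 = fn k ∧ (ends e'').2 ≠ fn k then β (ends e'').2 else 0) := by
      intro e''
      split_ifs
      · exact (hβpos _).le
      · exact le_rfl
    have hB : ∀ e'' : E, (0:ℤ) ≤ (if (ends e'').2 = fn k ∧ (ends e'').1 ≠ fn k then β (ends e'').1 else 0) := by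
      intro e''
      split_ifs
      · exact (hβpos _).le
      · exact le_rfl
    obtain ⟨n, hn⟩ : ∃ n : E → ℤ, ∀ e'', n e'' =
      (if (ends e'').1 = fn k ∧ (ends e'').2 ≠ fn k then β (ends e'').2 else 0) +
      (if (ends e'').2 = fn k ∧ (ends e'').1 ≠ fn k then β (ends e'').1 else 0) := ⟨_, fun _ => rfl⟩
    have hsum : ∑ e'', n e'' = 2 * m := by
      rw [← hnb k (by omega)]
      unfold Contract.nbSum
      exact Finset.sum_congr rfl (fun e'' _ => hn e'')
    have hnonneg : ∀ e'', 0 ≤ n e'' := fun e'' => by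
      rw [hn]
      exact add_nonneg (hA e'') (hB e'')
    have hn1 : n (en k) = m := by
      rw [hn, Contract.nb_term ends β (en k) (fn k) (fn (k+1))
        (hfn_ne k (k+1) (by omega) (by omega) (by omega)) (hchain k hk2), hβn (k+1) (by omega)]
    have hn0 : n (en (k-1)) = m := by
      have hc := hchain (k-1) (by omega)
      rw [Nat.sub_add_cancel hk1] at hc
      rw [hn, Contract.nb_term ends β (en (k-1)) (fn k) (fn (k-1))
        (hfn_ne k (k-1) (by omega) (by omega) (by omega)) hc.symm, hβn (k-1) (by omega)]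
    have hn' : 0 < n e' := by
      rw [hn]
      rcases hinc with h | h
      · have := hB e'
        rw [if_pos h]
        linarith [hβpos (ends e').2]
      · have := hA e'
        rw [if_pos h]
        linarith [hβpos (ends e').1]
    have hne01 : en (k-1) ≠ en k := fun h => by
      have := hen_inj (k-1) k (by omega) hk2 h
      omega
    have hsub : ∑ e'' ∈ ({en (k-1), en k, e'} : Finset E), n e'' ≤ ∑ e'', n e'' :=
      Finset.sum_le_univ_sum_of_nonneg hnonneg
    rw [Finset.sum_insert (by simp [hne01, Ne.symm hne1]),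
      Finset.sum_insert (by simp [Ne.symm hne2]), Finset.sum_singleton, hn0, hn1, hsum] at hsub
    linarith
  -- fibre sums of the lift
  have hfiber : ∀ (x : DualGr.CtrVert ends D → ℤ) (c : DualGr.CtrVert ends D) (s : Finset V),
      (∀ v, v ∈ s ↔ DualGr.ctrMk ends D v = c) →
      ∑ v ∈ s, β v * LabGraph.liftAt ends D (f 0) x v = LabGraph.ctrFn ends D β c * x c := by
    intro x c s hs
    obtain ⟨v0, rfl⟩ := DualGr.ctrMk_surjective ends D c
    rw [hβ']
    by_cases hc : DualGr.ctrMk ends D v0 = DualGr.ctrMk ends D (fn 0)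
    · rw [Finset.sum_eq_single_of_mem (fn 0) ((hs _).2 hc.symm)]
      · have h1 : LabGraph.liftAt ends D (f 0) x (fn 0) = x (DualGr.ctrMk ends D (fn 0)) := by
          simp only [LabGraph.liftAt]
          rw [if_neg (fun h => h.2 hf0.symm)]
        have hbeq : β (fn 0) = β v0 := by rw [← hβ' (fn 0), ← hβ' v0, hc]
        rw [h1, hbeq, hc]
      · intro w hw hne
        have hw' : DualGr.ctrMk ends D w = DualGr.ctrMk ends D v0 := (hs w).1 hw
        have h1 : LabGraph.liftAt ends D (f 0) x w = 0 := by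
          simp only [LabGraph.liftAt]
          rw [if_pos ⟨by rw [hf0, hw', hc], by rw [hf0]; exact hne⟩]
        rw [h1, mul_zero]
    · rw [Finset.sum_eq_single_of_mem v0 ((hs _).2 rfl)]
      · have h1 : LabGraph.liftAt ends D (f 0) x v0 = x (DualGr.ctrMk ends D v0) := by
          simp only [LabGraph.liftAt]
          rw [if_neg (fun h => hc (by rw [h.1, hf0]))]
        rw [h1]
      · intro w hw hne
        exfalso
        have hw' : DualGr.ctrMk ends D w = DualGr.ctrMk ends D v0 := (hs w).1 hw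
        rcases hq_eq _ _ hw' with h | ⟨_, ⟨k, hk, hk'⟩⟩
        · exact hne h
        · exact hc (by rw [hk']; exact hq_chain k hk)
  have hbetaK : ∀ x : DualGr.CtrVert ends D → ℤ,
      LabGraph.betaHom β (LabGraph.liftAt ends D (f 0) x) =
        LabGraph.betaHom (LabGraph.ctrFn ends D β) x := by
    intro x
    simp only [LabGraph.betaHom, Fintype.linearCombination_apply, smul_eq_mul]
    rw [← Finset.sum_fiberwise Finset.univ (DualGr.ctrMk ends D)
      (fun v => LabGraph.liftAt ends D (f 0) x v * β v)]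
    apply Finset.sum_congr rfl
    intro c _
    have h := hfiber x c (Finset.univ.filter fun v => DualGr.ctrMk ends D v = c) (fun v => by simp)
    rw [mul_comm (x c), ← h]
    exact Finset.sum_congr (by ext v; simp) (fun v _ => mul_comm _ _)
  have hpush : ∀ (z : DualGr.CtrVert ends D → ℤ) (c : DualGr.CtrVert ends D) (s : Finset V),
      (∀ v, v ∈ s ↔ DualGr.ctrMk ends D v = c) →
      LabGraph.ctrFn ends D β c *
        (Matrix.mulVec (LabGraph.mfMatrix (DualGr.ctrEnds ends D) (LabGraph.ctrFn ends D β)) z) c =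
      ∑ v ∈ s, β v * (Matrix.mulVec (LabGraph.mfMatrix ends β)
        (fun v => z (DualGr.ctrMk ends D v))) v := by
    intro z c s hs
    rw [Contract.beta_mul_mulVec _ _ _ _ (Contract.ctr_dvd ends D β hβ' (fun v => (hβ v).2) _)]
    have hom' : Contract.om (DualGr.ctrEnds ends D) (LabGraph.ctrFn ends D β) z =
        DualGr.resE D (Contract.om ends β (fun v => z (DualGr.ctrMk ends D v))) := by
      funext e'
      show LabGraph.ctrFn ends D β (DualGr.ctrMk ends D (ends e'.1).1) *
          z (DualGr.ctrMk ends D (ends e'.1).2) -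
        LabGraph.ctrFn ends D β (DualGr.ctrMk ends D (ends e'.1).2) *
          z (DualGr.ctrMk ends D (ends e'.1).1) =
        Contract.om ends β (fun v => z (DualGr.ctrMk ends D v)) e'.1
      rw [hβ', hβ']
      rfl
    rw [hom']
    have hp := congrFun (DualGr.pushV_boundaryHom ends D
      (Contract.om ends β (fun v => z (DualGr.ctrMk ends D v)))) c
    simp only [DualGr.boundaryHom_apply] at hp
    rw [← hp]
    simp only [DualGr.pushV, LinearMap.coe_mk, AddHom.coe_mk]
    rw [← Finset.sum_neg_distrib]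
    refine Finset.sum_congr (by ext v; simp [hs v]) (fun v _ => ?_)
    rw [Contract.beta_mul_mulVec ends β _ v (hβ v).2]
  -- boundary along the chain
  have hDimg : D = (Finset.range m).image en := by
    ext e'
    rw [hD_mem, Finset.mem_image]
    constructor
    · rintro ⟨k, hk, rfl⟩
      exact ⟨k, Finset.mem_range.2 hk, rfl⟩
    · rintro ⟨k, hk, rfl⟩
      exact ⟨k, Finset.mem_range.1 hk, rfl⟩
  have hbdgen : ∀ (g : V → ℤ) (v : V),
      (∀ e', e' ∉ D → (ends e').1 ≠ (ends e').2 → ((ends e').1 = v ∨ (ends e').2 = v) →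
        Contract.om ends β g e' = 0) →
      LabGraph.boundary ends (Contract.om ends β g) v =
        ∑ k ∈ Finset.range m,
          ((if fn (k+1) = v then ((m:ℤ) * g (fn (k+1)) - m * g (fn k)) else 0) -
          (if fn k = v then ((m:ℤ) * g (fn (k+1)) - m * g (fn k)) else 0)) := by
    intro g v hg
    unfold LabGraph.boundary
    rw [← Finset.sum_subset (Finset.subset_univ D)]
    · rw [hDimg, Finset.sum_image]
      · apply Finset.sum_congr rfl
        intro k hk
        have hk' := Finset.mem_range.1 hk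
        rw [term_gen ends β g (en k) (fn k) (fn (k+1)) v (hchain k hk'), hβn k (by omega),
          hβn (k+1) (by omega)]
      · intro j hj k hk h
        exact hen_inj j k (Finset.mem_range.1 (Finset.mem_coe.1 hj))
          (Finset.mem_range.1 (Finset.mem_coe.1 hk)) h
    · intro e' _ he'
      by_cases a1 : (ends e').1 = v <;> by_cases a2 : (ends e').2 = v
      · rw [if_pos a2, if_pos a1, sub_self]
      · rw [hg e' he' (fun h => a2 (h.symm.trans a1)) (Or.inl a1)]
        simp
      · rw [hg e' he' (fun h => a1 (h.trans a2)) (Or.inr a2)]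
        simp
      · rw [if_neg a2, if_neg a1, sub_self]
  have hsum1 : ∀ (F : ℕ → ℤ) (j : ℕ), 1 ≤ j → j ≤ m →
      ∑ k ∈ Finset.range m, (if fn (k+1) = fn j then F k else 0) = F (j-1) := by
    intro F j hj1 hjm
    rw [Finset.sum_eq_single_of_mem (j-1) (Finset.mem_range.2 (by omega))]
    · rw [if_pos (by rw [Nat.sub_add_cancel hj1])]
    · intro k hk hne
      have hk' := Finset.mem_range.1 hk
      rw [if_neg (hfn_ne (k+1) j (by omega) hjm (by omega))]
  have hsum2 : ∀ (F : ℕ → ℤ) (j : ℕ), j < m →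
      ∑ k ∈ Finset.range m, (if fn k = fn j then F k else 0) = F j := by
    intro F j hjm
    rw [Finset.sum_eq_single_of_mem j (Finset.mem_range.2 hjm)]
    · rw [if_pos rfl]
    · intro k hk hne
      have hk' := Finset.mem_range.1 hk
      rw [if_neg (hfn_ne k j (by omega) (by omega) hne)]
  have hsum2' : ∀ (F : ℕ → ℤ),
      ∑ k ∈ Finset.range m, (if fn k = fn m then F k else 0) = 0 := by
    intro F
    apply Finset.sum_eq_zero
    intro k hk
    have hk' := Finset.mem_range.1 hk
    rw [if_neg (hfn_ne k m (by omega) le_rfl (by omega))]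
  have hαint : ∀ (g : V → ℤ) (j : ℕ), 1 ≤ j → j < m →
      (Matrix.mulVec (LabGraph.mfMatrix ends β) g) (fn j) =
        g (fn (j-1)) - 2 * g (fn j) + g (fn (j+1)) := by
    intro g j hj1 hjm
    have h1 := Contract.beta_mul_mulVec ends β g (fn j) (hβ (fn j)).2
    rw [hbdgen g (fn j) ?_, Finset.sum_sub_distrib, hsum1 _ j hj1 (by omega), hsum2 _ j hjm,
      hβn j (by omega)] at h1
    · rw [Nat.sub_add_cancel hj1] at h1
      apply mul_left_cancel₀ hmne
      linear_combination h1
    · intro e' he' hloop hinc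
      exfalso
      have h2 : e' = en (j-1) ∨ e' = en j := by
        rcases hinc with h | h
        · exact hint j hj1 hjm e' (Or.inl ⟨h, fun h2 => hloop (h.trans h2.symm)⟩)
        · exact hint j hj1 hjm e' (Or.inr ⟨h, fun h2 => hloop (h2.trans h.symm)⟩)
      rcases h2 with h | h
      · exact he' ((hD_mem _).2 ⟨j-1, by omega, h⟩)
      · exact he' ((hD_mem _).2 ⟨j, hjm, h⟩)
  have hoff : ∀ e', e' ∉ D → ∀ u,
      (((ends e').1 = fn m ∧ (ends e').2 = u) ∨ ((ends e').2 = fn m ∧ (ends e').1 = u)) →
      u ≠ fn m → ∀ k, k ≤ m → u ≠ fn k := by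
    intro e' he' u hu hne k hk huk
    rcases Nat.eq_zero_or_pos k with h0 | hkpos
    · rw [h0] at huk
      have hne0 : e' ≠ en 0 := fun h => he' ((hD_mem _).2 ⟨0, hm, h⟩)
      have hAe := hA_edge e' hne0
      rcases hu with ⟨h1, h2⟩ | ⟨h1, h2⟩
      · rw [h1, h2, huk] at hAe
        exact hAk m hm le_rfl (hAe.2 hA0)
      · rw [h1, h2, huk] at hAe
        exact hAk m hm le_rfl (hAe.1 hA0)
    · by_cases hkm : k = m
      · exact hne (by rw [huk, hkm])
      · have hlt : k < m := by omega
        have hmk : fn m ≠ fn k := hfn_ne m k le_rfl hk (by omega)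
        have h3 : e' = en (k-1) ∨ e' = en k := by
          rcases hu with ⟨h1, h2⟩ | ⟨h1, h2⟩
          · exact hint k hkpos hlt e' (Or.inr ⟨h2.trans huk, fun h => hmk (h1.symm.trans h)⟩)
          · exact hint k hkpos hlt e' (Or.inl ⟨h2.trans huk, fun h => hmk (h1.symm.trans h)⟩)
        rcases h3 with h | h
        · exact he' ((hD_mem _).2 ⟨k-1, by omega, h⟩)
        · exact he' ((hD_mem _).2 ⟨k, hlt, h⟩)
  have hαm : ∀ (g : V → ℤ), g (fn m) = 0 → (∀ v, (∀ k, k ≤ m → v ≠ fn k) → g v = 0) →
      (Matrix.mulVec (LabGraph.mfMatrix ends β) g) (fn m) = g (fn (m-1)) := by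
    intro g hgm hgoff
    have h1 := Contract.beta_mul_mulVec ends β g (fn m) (hβ (fn m)).2
    rw [hbdgen g (fn m) ?_, Finset.sum_sub_distrib, hsum1 _ m hm le_rfl, hsum2' _,
      hβn m le_rfl] at h1
    · rw [Nat.sub_add_cancel hm, hgm] at h1
      apply mul_left_cancel₀ hmne
      linear_combination h1
    · intro e' he' hloop hinc
      unfold Contract.om
      rcases hinc with h | h
      · have ha : g (ends e').1 = 0 := by rw [h]; exact hgm
        have hb : g (ends e').2 = 0 :=
          hgoff _ (hoff e' he' _ (Or.inl ⟨h, rfl⟩) (fun h2 => hloop (h.trans h2.symm)))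
        rw [ha, hb]
        ring
      · have hb : g (ends e').2 = 0 := by rw [h]; exact hgm
        have ha : g (ends e').1 = 0 :=
          hgoff _ (hoff e' he' _ (Or.inr ⟨h, rfl⟩) (fun h2 => hloop (h2.trans h.symm)))
        rw [ha, hb]
        ring
  -- the potential along the chain
  obtain ⟨pos, hpos⟩ : ∃ pos : V → ℕ, ∀ k, k ≤ m → pos (fn k) = k := by
    refine ⟨fun v => if h : ∃ k, k ≤ m ∧ fn k = v then h.choose else 0, fun k hk => ?_⟩
    have h : ∃ k', k' ≤ m ∧ fn k' = fn k := ⟨k, hk, rfl⟩
    show (if h : ∃ k', k' ≤ m ∧ fn k' = fn k then h.choose else 0) = k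
    rw [dif_pos h]
    exact hfn_inj _ _ h.choose_spec.1 hk h.choose_spec.2
  obtain ⟨I, hI⟩ : ∃ I : Finset V, ∀ v, v ∈ I ↔ ∃ k, 1 ≤ k ∧ k < m ∧ v = fn k := by
    refine ⟨(Finset.Ico 1 m).image fn, fun v => ?_⟩
    constructor
    · intro h
      obtain ⟨k, hk, rfl⟩ := Finset.mem_image.1 h
      exact ⟨k, (Finset.mem_Ico.1 hk).1, (Finset.mem_Ico.1 hk).2, rfl⟩
    · rintro ⟨k, h1, h2, rfl⟩
      exact Finset.mem_image_of_mem _ (Finset.mem_Ico.2 ⟨h1, h2⟩)
  obtain ⟨w, hw⟩ : ∃ w : V → ℤ, ∀ v, w v =
      if v ∈ I then (pos v : ℤ) else if inA v then 0 else β v :=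
    ⟨fun v => if v ∈ I then (pos v : ℤ) else if inA v then 0 else β v, fun v => rfl⟩
  have hwk : ∀ k, k ≤ m → w (fn k) = k := by
    intro k hk
    rw [hw]
    by_cases hkI : fn k ∈ I
    · rw [if_pos hkI, hpos k hk]
    · rw [if_neg hkI]
      have hk' : k = 0 ∨ k = m := by
        by_contra hcon
        apply hkI
        exact (hI _).2 ⟨k, by omega, by omega, rfl⟩
      rcases hk' with h0 | h0
      · rw [h0, if_pos hA0]
        simp
      · rw [h0, if_neg (hAk m hm le_rfl), hβn m le_rfl]
  have homw : ∀ e', e' ∉ D → Contract.om ends β w e' = 0 := by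
    intro e' he'
    by_cases hloop : (ends e').1 = (ends e').2
    · unfold Contract.om
      rw [hloop]
      ring
    · have h1I : (ends e').1 ∉ I := by
        intro h
        obtain ⟨k, hk1, hk2, hk⟩ := (hI _).1 h
        rcases hint k hk1 hk2 e' (Or.inl ⟨hk, fun h2 => hloop (hk.trans h2.symm)⟩) with h3 | h3
        · exact he' ((hD_mem _).2 ⟨k-1, by omega, h3⟩)
        · exact he' ((hD_mem _).2 ⟨k, hk2, h3⟩)
      have h2I : (ends e').2 ∉ I := by
        intro h
        obtain ⟨k, hk1, hk2, hk⟩ := (hI _).1 h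
        rcases hint k hk1 hk2 e' (Or.inr ⟨hk, fun h2 => hloop (h2.trans hk.symm)⟩) with h3 | h3
        · exact he' ((hD_mem _).2 ⟨k-1, by omega, h3⟩)
        · exact he' ((hD_mem _).2 ⟨k, hk2, h3⟩)
      have hne0 : e' ≠ en 0 := fun h => he' ((hD_mem _).2 ⟨0, hm, h⟩)
      have hAe := hA_edge e' hne0
      unfold Contract.om
      rw [hw (ends e').1, hw (ends e').2, if_neg h1I, if_neg h2I]
      by_cases hA : inA (ends e').1
      · rw [if_pos hA, if_pos (hAe.1 hA)]
        ring
      · rw [if_neg hA, if_neg (fun h => hA (hAe.2 h))]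
        ring
  have hαw : ∀ v, (Matrix.mulVec (LabGraph.mfMatrix ends β) w) v =
      (if fn 0 = v then 1 else 0) - (if fn m = v then 1 else 0) := by
    intro v
    have h1 := Contract.beta_mul_mulVec ends β w v (hβ v).2
    rw [hbdgen w v (fun e' he' _ _ => homw e' he')] at h1
    have h2 : ∀ k ∈ Finset.range m,
        ((if fn (k+1) = v then ((m:ℤ) * w (fn (k+1)) - m * w (fn k)) else 0) -
          (if fn k = v then ((m:ℤ) * w (fn (k+1)) - m * w (fn k)) else 0)) =
        (fun k => if fn k = v then (m:ℤ) else 0) (k+1) -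
          (fun k => if fn k = v then (m:ℤ) else 0) k := by
      intro k hk
      have hk' := Finset.mem_range.1 hk
      have h3 : (m:ℤ) * w (fn (k+1)) - m * w (fn k) = m := by
        rw [hwk k (by omega), hwk (k+1) (by omega)]
        push_cast
        ring
      rw [h3]
    rw [Finset.sum_congr rfl h2,
      Finset.sum_range_sub (fun k => if fn k = v then (m:ℤ) else 0) m] at h1
    beta_reduce at h1
    by_cases h0 : fn 0 = v
    · subst h0
      have hmv : fn m ≠ fn 0 := hfn_ne m 0 le_rfl (by omega) (by omega)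
      rw [if_neg hmv, if_pos rfl, hβn 0 (by omega)] at h1
      rw [if_pos rfl, if_neg hmv]
      apply mul_left_cancel₀ hmne
      linear_combination h1
    · by_cases hm' : fn m = v
      · subst hm'
        rw [if_pos rfl, if_neg h0, hβn m le_rfl] at h1
        rw [if_neg h0, if_pos rfl]
        apply mul_left_cancel₀ hmne
        linear_combination h1
      · rw [if_neg hm', if_neg h0] at h1
        rw [if_neg h0, if_neg hm']
        apply mul_left_cancel₀ (hβpos v).ne'
        linear_combination h1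
  -- im α' goes to im α
  have hW : ∀ z : DualGr.CtrVert ends D → ℤ,
      LabGraph.liftAt ends D (f 0) (Matrix.mulVec
        (LabGraph.mfMatrix (DualGr.ctrEnds ends D) (LabGraph.ctrFn ends D β)) z) ∈
        LinearMap.range (Matrix.mulVecLin (LabGraph.mfMatrix ends β)) := by
    intro z
    obtain ⟨y0, hy0⟩ : ∃ y0 : V → ℤ, y0 = fun v => z (DualGr.ctrMk ends D v) := ⟨_, rfl⟩
    obtain ⟨am, ham⟩ : ∃ am : ℤ, am = (Matrix.mulVec (LabGraph.mfMatrix ends β) y0) (fn m) :=
      ⟨_, rfl⟩
    have hy0k : ∀ k, k ≤ m → y0 (fn k) = y0 (fn 0) := by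
      intro k hk
      rw [hy0]
      show z _ = z _
      rw [hq_chain k hk]
    have hint0 : ∀ j, 1 ≤ j → j < m →
        (Matrix.mulVec (LabGraph.mfMatrix ends β) y0) (fn j) = 0 := by
      intro j h1 h2
      rw [hαint y0 j h1 h2, hy0k (j-1) (by omega), hy0k j (by omega), hy0k (j+1) (by omega)]
      ring
    refine ⟨y0 + am • w, ?_⟩
    rw [map_add, map_smul, Matrix.mulVecLin_apply, Matrix.mulVecLin_apply]
    funext v
    rw [Pi.add_apply, Pi.smul_apply, smul_eq_mul, hαw v]
    by_cases hv : DualGr.ctrMk ends D v = DualGr.ctrMk ends D (fn 0)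
    · obtain ⟨k, hk, rfl⟩ : ∃ k, k ≤ m ∧ v = fn k := by
        rcases hq_eq _ _ hv with h | ⟨h, _⟩
        · exact ⟨0, by omega, h⟩
        · exact h
      by_cases hk0 : k = 0
      · rw [hk0]
        have hmv : fn m ≠ fn 0 := hfn_ne m 0 le_rfl (by omega) (by omega)
        rw [if_pos rfl, if_neg hmv]
        have h1 : LabGraph.liftAt ends D (f 0) (Matrix.mulVec
            (LabGraph.mfMatrix (DualGr.ctrEnds ends D) (LabGraph.ctrFn ends D β)) z) (fn 0) =
            (Matrix.mulVec (LabGraph.mfMatrix (DualGr.ctrEnds ends D)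
              (LabGraph.ctrFn ends D β)) z) (DualGr.ctrMk ends D (fn 0)) := by
          simp only [LabGraph.liftAt]
          rw [if_neg (fun h => h.2 hf0.symm)]
        rw [h1]
        have h2 := hpush z (DualGr.ctrMk ends D (fn 0)) ((Finset.range (m+1)).image fn)
          (fun u => by
            rw [Finset.mem_image]
            constructor
            · rintro ⟨j, hj, rfl⟩
              exact hq_chain j (by have := Finset.mem_range.1 hj; omega)
            · intro h
              rcases hq_eq _ _ h with h' | ⟨⟨j, hj, hj'⟩, _⟩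
              · exact ⟨0, Finset.mem_range.2 (by omega), h'.symm⟩
              · exact ⟨j, Finset.mem_range.2 (by omega), hj'.symm⟩)
        rw [hβ', hβn 0 (by omega), Finset.sum_image (fun j hj k hk h =>
          hfn_inj j k (by have := Finset.mem_range.1 (Finset.mem_coe.1 hj); omega)
            (by have := Finset.mem_range.1 (Finset.mem_coe.1 hk); omega) h), ← hy0,
          Finset.sum_eq_add_of_mem 0 m (Finset.mem_range.2 (by omega))
            (Finset.mem_range.2 (by omega)) (by omega) ?_] at h2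
        · rw [hβn 0 (by omega), hβn m le_rfl, ← ham] at h2
          apply mul_left_cancel₀ hmne
          linear_combination -h2
        · intro j hj hne
          have hj' := Finset.mem_range.1 hj
          rw [hint0 j (by omega) (by omega), mul_zero]
      · have h1 : LabGraph.liftAt ends D (f 0) (Matrix.mulVec
            (LabGraph.mfMatrix (DualGr.ctrEnds ends D) (LabGraph.ctrFn ends D β)) z) (fn k) = 0 := by
          simp only [LabGraph.liftAt]
          rw [if_pos ⟨by rw [hf0]; exact hq_chain k hk,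
            by rw [hf0]; exact hfn_ne k 0 hk (by omega) hk0⟩]
        rw [h1]
        have h0k : fn 0 ≠ fn k := hfn_ne 0 k (by omega) hk (fun h => hk0 h.symm)
        by_cases hkm : k = m
        · rw [hkm, if_neg (hfn_ne 0 m (by omega) le_rfl (by omega)), if_pos rfl, ← ham]
          ring
        · rw [hint0 k (by omega) (by omega), if_neg h0k,
            if_neg (hfn_ne m k le_rfl hk (fun h => hkm h.symm))]
          ring
    · have h0 : fn 0 ≠ v := fun h => hv (by rw [← h])
      have hmm : fn m ≠ v := fun h => hv (by rw [← h]; exact hq_chain m le_rfl)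
      rw [if_neg h0, if_neg hmm]
      have h1 : LabGraph.liftAt ends D (f 0) (Matrix.mulVec
          (LabGraph.mfMatrix (DualGr.ctrEnds ends D) (LabGraph.ctrFn ends D β)) z) v =
          (Matrix.mulVec (LabGraph.mfMatrix (DualGr.ctrEnds ends D)
            (LabGraph.ctrFn ends D β)) z) (DualGr.ctrMk ends D v) := by
        simp only [LabGraph.liftAt]
        rw [if_neg (fun h => hv (by rw [h.1, hf0]))]
      rw [h1]
      have h2 := hpush z (DualGr.ctrMk ends D v) {v}
        (fun u => by
          rw [Finset.mem_singleton]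
          constructor
          · intro h
            rw [h]
          · intro h
            rcases hq_eq _ _ h with h' | ⟨_, ⟨k, hk, hk'⟩⟩
            · exact h'
            · exact absurd (by rw [hk']; exact hq_chain k hk) hv)
      rw [Finset.sum_singleton, hβ', ← hy0] at h2
      rw [mul_left_cancel₀ (hβpos v).ne' h2]
      ring
  -- α maps into ker β
  have hβα : ∀ g : V → ℤ,
      LabGraph.betaHom β (Matrix.mulVec (LabGraph.mfMatrix ends β) g) = 0 := by
    intro g
    simp only [LabGraph.betaHom, Fintype.linearCombination_apply, smul_eq_mul]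
    have h1 : ∀ v ∈ (Finset.univ : Finset V),
        (Matrix.mulVec (LabGraph.mfMatrix ends β) g) v * β v =
        - LabGraph.boundary ends (Contract.om ends β g) v := by
      intro v _
      rw [mul_comm, Contract.beta_mul_mulVec ends β g v (hβ v).2]
    rw [Finset.sum_congr rfl h1, Finset.sum_neg_distrib, neg_eq_zero]
    unfold LabGraph.boundary
    rw [Finset.sum_comm]
    apply Finset.sum_eq_zero
    intro e' _
    rw [Finset.sum_sub_distrib, Finset.sum_ite_eq, Finset.sum_ite_eq]
    simp
  -- surjectivity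
  have hS : ∀ y : V → ℤ, LabGraph.betaHom β y = 0 →
      ∃ x : DualGr.CtrVert ends D → ℤ, LabGraph.betaHom (LabGraph.ctrFn ends D β) x = 0 ∧
        LabGraph.liftAt ends D (f 0) x - y ∈
          LinearMap.range (Matrix.mulVecLin (LabGraph.mfMatrix ends β)) := by
    intro y hy
    obtain ⟨c, hc⟩ : ∃ c : ℕ → ℤ, ∀ k, c k =
        ∑ i ∈ Finset.range (m+1), ((i - k : ℕ) : ℤ) * y (fn i) := ⟨_, fun _ => rfl⟩
    have hcm : ∀ k, m ≤ k → c k = 0 := by
      intro k hk
      rw [hc]
      apply Finset.sum_eq_zero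
      intro i hi
      have h0 : i - k = 0 := by
        have := Finset.mem_range.1 hi
        omega
      rw [h0]
      simp
    have hsd : ∀ j, 1 ≤ j → j ≤ m → c (j-1) - 2 * c j + c (j+1) = y (fn j) := by
      intro j hj1 hjm
      rw [hc, hc, hc, Finset.mul_sum, ← Finset.sum_sub_distrib, ← Finset.sum_add_distrib,
        Finset.sum_eq_single_of_mem j (Finset.mem_range.2 (by omega))]
      · have e1 : j - (j-1) = 1 := by omega
        have e2 : j - j = 0 := by omega
        have e3 : j - (j+1) = 0 := by omega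
        rw [e1, e2, e3]
        push_cast
        ring
      · intro i hi hne
        have hi' := Finset.mem_range.1 hi
        rcases Nat.lt_or_gt_of_ne hne with h | h
        · have e1 : i - (j-1) = 0 := by omega
          have e2 : i - j = 0 := by omega
          have e3 : i - (j+1) = 0 := by omega
          rw [e1, e2, e3]
          push_cast
          ring
        · have e1 : ((i - (j-1) : ℕ) : ℤ) = (i:ℤ) - j + 1 := by omega
          have e2 : ((i - j : ℕ) : ℤ) = (i:ℤ) - j := by omega
          have e3 : ((i - (j+1) : ℕ) : ℤ) = (i:ℤ) - j - 1 := by omega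
          rw [e1, e2, e3]
          ring
    obtain ⟨g, hg⟩ : ∃ g : V → ℤ, ∀ v, g v =
        if (∃ k, k < m ∧ fn k = v) then c (pos v) else 0 := ⟨_, fun _ => rfl⟩
    have hgk : ∀ k, k ≤ m → g (fn k) = c k := by
      intro k hk
      rw [hg]
      by_cases hkm : k < m
      · rw [if_pos ⟨k, hkm, rfl⟩, hpos k hk]
      · rw [if_neg, hcm k (by omega)]
        rintro ⟨k', hk', h⟩
        have := hfn_inj k' k (by omega) hk h
        omega
    have hgoff : ∀ v, (∀ k, k ≤ m → v ≠ fn k) → g v = 0 := by
      intro v hv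
      rw [hg, if_neg]
      rintro ⟨k, hk, h⟩
      exact hv k (by omega) h.symm
    have hαg : ∀ j, 1 ≤ j → j ≤ m →
        (Matrix.mulVec (LabGraph.mfMatrix ends β) g) (fn j) = y (fn j) := by
      intro j hj1 hjm
      by_cases hlt : j < m
      · rw [hαint g j hj1 hlt, hgk (j-1) (by omega), hgk j hjm, hgk (j+1) (by omega)]
        exact hsd j hj1 hjm
      · have hj : j = m := by omega
        rw [hj, hαm g (by rw [hgk m le_rfl]; exact hcm m le_rfl) hgoff, hgk (m-1) (by omega)]
        have h3 := hsd m hm le_rfl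
        rw [hcm m le_rfl, hcm (m+1) (by omega)] at h3
        linarith
    obtain ⟨y', hy'⟩ : ∃ y' : V → ℤ, y' = y - Matrix.mulVec (LabGraph.mfMatrix ends β) g :=
      ⟨_, rfl⟩
    have hy'0 : ∀ j, 1 ≤ j → j ≤ m → y' (fn j) = 0 := by
      intro j h1 h2
      rw [hy', Pi.sub_apply, hαg j h1 h2, sub_self]
    obtain ⟨x, hx⟩ : ∃ x : DualGr.CtrVert ends D → ℤ, ∀ c', x c' =
        ∑ v ∈ Finset.univ.filter (fun v => DualGr.ctrMk ends D v = c'), y' v :=
      ⟨_, fun _ => rfl⟩
    have hlx : LabGraph.liftAt ends D (f 0) x = y' := by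
      funext v
      simp only [LabGraph.liftAt]
      by_cases hv : DualGr.ctrMk ends D v = DualGr.ctrMk ends D (f 0) ∧ v ≠ f 0
      · rw [if_pos hv]
        rw [hf0] at hv
        rcases hq_eq _ _ hv.1 with h | ⟨⟨k, hk, hk'⟩, _⟩
        · exact absurd h hv.2
        · have hk0 : k ≠ 0 := fun h => hv.2 (by rw [hk', h])
          rw [hk', hy'0 k (by omega) hk]
      · rw [if_neg hv, hx]
        have hvm : v ∈ Finset.univ.filter
            (fun u => DualGr.ctrMk ends D u = DualGr.ctrMk ends D v) :=
          Finset.mem_filter.2 ⟨Finset.mem_univ _, rfl⟩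
        rw [Finset.sum_eq_single_of_mem v hvm]
        intro u hu hne
        have hu' : DualGr.ctrMk ends D u = DualGr.ctrMk ends D v := (Finset.mem_filter.1 hu).2
        rcases hq_eq _ _ hu' with h | ⟨⟨j, hj, hj'⟩, ⟨k, hk, hk'⟩⟩
        · exact absurd h hne
        · have hv0 : v = fn 0 := by
            by_contra hcon
            apply hv
            rw [hf0]
            exact ⟨by rw [hk']; exact hq_chain k hk, hcon⟩
          have hj0 : j ≠ 0 := fun h => hne (by rw [hj', h, hv0])
          rw [hj', hy'0 j (by omega) hj]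
    refine ⟨x, ?_, ?_⟩
    · rw [← hbetaK x, hlx, hy', map_sub, hy, hβα g, sub_zero]
    · refine ⟨-g, ?_⟩
      rw [Matrix.mulVecLin_apply, Matrix.mulVec_neg, hlx, hy']
      abel
  -- assembly
  obtain ⟨L, hL⟩ : ∃ L : (DualGr.CtrVert ends D → ℤ) →ₗ[ℤ] (V → ℤ),
      ∀ x, L x = LabGraph.liftAt ends D (f 0) x := by
    refine ⟨{ toFun := LabGraph.liftAt ends D (f 0), map_add' := ?_, map_smul' := ?_ },
      fun x => rfl⟩
    · intro a b
      funext v
      simp only [LabGraph.liftAt, Pi.add_apply]
      split_ifs <;> simp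
    · intro n a
      funext v
      simp only [LabGraph.liftAt, Pi.smul_apply, smul_eq_mul, RingHom.id_apply]
      split_ifs <;> simp
  have hLK : ∀ x ∈ LinearMap.ker (LabGraph.betaHom (LabGraph.ctrFn ends D β)),
      L x ∈ LinearMap.ker (LabGraph.betaHom β) := by
    intro x hx
    rw [LinearMap.mem_ker] at hx ⊢
    rw [hL, hbetaK, hx]
  have hle : (LinearMap.range (Matrix.mulVecLin (LabGraph.mfMatrix (DualGr.ctrEnds ends D)
        (LabGraph.ctrFn ends D β)))).comap
        (LinearMap.ker (LabGraph.betaHom (LabGraph.ctrFn ends D β))).subtype ≤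
      ((LinearMap.range (Matrix.mulVecLin (LabGraph.mfMatrix ends β))).comap
        (LinearMap.ker (LabGraph.betaHom β)).subtype).comap (L.restrict hLK) := by
    intro x hx
    rw [Submodule.mem_comap] at hx
    rw [Submodule.mem_comap, Submodule.mem_comap, Submodule.subtype_apply,
      LinearMap.restrict_coe_apply, hL]
    obtain ⟨z, hz⟩ := hx
    rw [Submodule.subtype_apply, Matrix.mulVecLin_apply] at hz
    rw [← hz]
    exact hW z
  refine ⟨(Submodule.mapQ _ _ (L.restrict hLK) hle).toAddMonoidHom, ?_, ?_⟩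
  · intro t
    obtain ⟨y, rfl⟩ := Submodule.Quotient.mk_surjective _ t
    obtain ⟨x, hx, hxy⟩ := hS y.1 (LinearMap.mem_ker.1 y.2)
    refine ⟨Submodule.Quotient.mk ⟨x, LinearMap.mem_ker.2 hx⟩, ?_⟩
    rw [LinearMap.toAddMonoidHom_coe, Submodule.mapQ_apply, Submodule.Quotient.eq,
      Submodule.mem_comap, map_sub, Submodule.subtype_apply, Submodule.subtype_apply,
      LinearMap.restrict_coe_apply, hL]
    exact hxy
  · intro x y hxy
    rw [LinearMap.toAddMonoidHom_coe, Submodule.mapQ_apply]
    refine congrArg _ (Subtype.ext ?_)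
    rw [LinearMap.restrict_coe_apply, hL]
    exact hxy.symm

end Groth.Agent.Helper7.Contract3
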