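import Mathlib
import Groth.Prelude.Def_Dyn

set_option autoImplicit false
universe u
open TensorProduct

namespace Groth.Agent.Helper7.Conv3

variable {k : Type u} [CommRing k] {A : Type u} [CommRing A] [HopfAlgebra k A]
  {C : Type u} [CommRing C] [Algebra k C]

/-- The triple convolution is the product in the convolution monoid. -/
lemma conv3_eq (f g h : A →ₐ[k] C) :
    Dyn.conv3 k A f g h =
      (WithConv.toConv f * WithConv.toConv g * WithConv.toConv h).ofConv := by
  apply AlgHom.ext
  intro a
  have key : ∀ T : A ⊗[k] A,
      (Algebra.TensorProduct.map ((Algebra.TensorProduct.lmul' (S := C) k).comp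
          (Algebra.TensorProduct.map f g)) h)
        ((Algebra.TensorProduct.map (Bialgebra.comulAlgHom k A) (AlgHom.id k A)) T) =
      (Algebra.TensorProduct.map ((Algebra.TensorProduct.lmul' (S := C) k).comp
          ((Algebra.TensorProduct.map f g).comp (Bialgebra.comulAlgHom k A))) h) T := by
    intro T
    induction T using TensorProduct.induction_on with
    | zero => simp
    | tmul x y =>
      simp only [Algebra.TensorProduct.map_tmul, AlgHom.comp_apply, AlgHom.id_apply]
    | add s t hs ht => simp only [map_add, hs, ht]
  exact congrArg (Algebra.TensorProduct.lmul' (S := C) k) (key (Bialgebra.comulAlgHom k A a))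

/-- Triple convolution with the unit point on the right. -/
lemma conv3_one (f g : A →ₐ[k] C) :
    Dyn.conv3 k A f g ((Algebra.ofId k C).comp (Bialgebra.counitAlgHom k A)) =
      (WithConv.toConv f * WithConv.toConv g).ofConv := by
  rw [conv3_eq]
  have h1 : WithConv.toConv ((Algebra.ofId k C).comp (Bialgebra.counitAlgHom k A)) =
      (1 : WithConv (A →ₐ[k] C)) := rfl
  rw [h1, mul_one]

end Groth.Agent.Helper7.Conv3
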