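import Mathlib
import Groth.Prelude.Def_Curves
import Groth.Agent.Lib.Helper7.Cr

namespace Groth.Agent.Helper7.Cr3
open MvPolynomial

theorem eval_smul_homog {ι : Type*} {K : Type*} [Field K] (F : MvPolynomial ι K) {d : ℕ}
    (hF : F.IsHomogeneous d) (w : K) (x : ι → K) :
    eval (fun i => w * x i) F = w ^ d * eval x F := by
  rw [eval_eq, eval_eq, Finset.mul_sum]
  apply Finset.sum_congr rfl
  intro m hm
  have h1 := hF.degree_eq_sum_deg_support hm
  simp only [mul_pow]
  rw [Finset.prod_mul_distrib, Finset.prod_pow_eq_pow_sum, ← h1]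
  ring

theorem norm_surj {K : Type*} [Field K] (hK : Curves.IsCi K 2) {D : Type*} [DivisionRing D]
    [Algebra K D] [FiniteDimensional K D] (d : ℕ) (hd : Module.finrank K D = d ^ 2)
    (N : D →* K) {ι : Type*} [Fintype ι] (b : Module.Basis ι K D) (F : MvPolynomial ι K)
    (hF : F.IsHomogeneous d) (hNF : ∀ x : ι → K, N (∑ i, x i • b i) = eval x F) :
    Function.Surjective N := by
  classical
  have hcard : Fintype.card ι = d ^ 2 := by rw [← hd, Module.finrank_eq_card_basis b]
  have hdpos : 0 < d := by
    rcases Nat.eq_zero_or_pos d with h | h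
    · exfalso
      have : 0 < Module.finrank K D := Module.finrank_pos
      rw [hd, h] at this
      simp at this
    · exact h
  have hN0 : ∀ y : D, y ≠ 0 → N y ≠ 0 := by
    intro y hy h0
    have := congrArg N (mul_inv_cancel₀ hy)
    rw [map_mul, h0, zero_mul, map_one] at this
    exact zero_ne_one this
  intro c
  by_cases hc : c = 0
  · refine ⟨0, ?_⟩
    have h1 := hNF (fun _ => 0)
    simp only [zero_smul, Finset.sum_const_zero] at h1
    rw [h1, hc]
    have h2 := eval_smul_homog F hF 0 (fun _ => 0)
    simp only [zero_mul] at h2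
    rw [h2, zero_pow hdpos.ne', zero_mul]
  · obtain ⟨a, ha, hz⟩ := Cr.IsCi_general hK (ι := Fin 1) (τ := Option ι)
      (fun _ => rename some F - C c * X none ^ d) (fun _ => d)
      (fun _ => (hF.rename_isHomogeneous).sub (isHomogeneous_C_mul_X_pow c none d))
      (fun _ => hdpos) (by rw [Fintype.card_option, hcard]; simp)
    have hz' : eval (fun i => a (some i)) F = c * a none ^ d := by
      have := hz 0
      rw [map_sub, eval_rename, map_mul, eval_C, map_pow, eval_X, sub_eq_zero] at this
      exact this
    by_cases hz0 : a none = 0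
    · exfalso
      have h3 := hNF (fun i => a (some i))
      rw [hz', hz0, zero_pow hdpos.ne', mul_zero] at h3
      have hy : (∑ i, a (some i) • b i) ≠ 0 := by
        intro h
        apply ha
        have hcoef := Fintype.linearIndependent_iff.mp b.linearIndependent
          (fun i => a (some i)) h
        funext o
        cases o with
        | none => exact hz0
        | some i => exact hcoef i
      exact hN0 _ hy h3
    · refine ⟨∑ i, ((a none)⁻¹ * a (some i)) • b i, ?_⟩
      rw [hNF, eval_smul_homog F hF (a none)⁻¹ (fun i => a (some i)), hz', inv_pow]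
      field_simp

end Groth.Agent.Helper7.Cr3
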