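import Mathlib
import Groth.Prelude.Def_W4c6puncthilbintroLift
import Groth.Agent.Lib.Helper8.LocalCrit

/-!
# First-order liftings of an ideal over the dual numbers (helper7)

Flatness over `A[ε]` is checked with the square-zero case of the local criterion
(`Groth.Agent.Helper8.LocalCrit.flat_of_nilpotent`).
-/

set_option autoImplicit false
universe u
attribute [local instance] W4c6puncthilbintro.dualAlgebra

namespace Groth.Agent.Helper7.DualLift

open TensorProduct DualNumber TrivSqZeroExt W4c6puncthilbintro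

section General

/-- A module over a quotient `S` of `A` which is flat over `A` is flat over `S`. -/
theorem flat_of_surjective_algebraMap {A S X : Type u} [CommRing A] [CommRing S] [Algebra A S]
    [AddCommGroup X] [Module A X] [Module S X] [IsScalarTower A S X]
    (hs : Function.Surjective (algebraMap A S)) [Module.Flat A X] : Module.Flat S X := by
  obtain ⟨g, hg⟩ : ∃ g : S ⊗[A] X →ₗ[S] X, ∀ (s : S) (x : X), g (s ⊗ₜ[A] x) = s • x :=
    ⟨LinearMap.liftBaseChange S (LinearMap.id : X →ₗ[A] X), fun s x => by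
      rw [LinearMap.liftBaseChange_tmul, LinearMap.id_apply]⟩
  have hrep : ∀ z : S ⊗[A] X, ∃ x : X, z = (1 : S) ⊗ₜ[A] x := by
    intro z
    induction z using TensorProduct.induction_on with
    | zero => exact ⟨0, (TensorProduct.tmul_zero _ _).symm⟩
    | tmul s x =>
      obtain ⟨a, rfl⟩ := hs s
      refine ⟨a • x, ?_⟩
      rw [TensorProduct.tmul_smul, TensorProduct.smul_tmul', Algebra.smul_def, mul_one]
    | add x y hx hy =>
      obtain ⟨x1, rfl⟩ := hx
      obtain ⟨x2, rfl⟩ := hy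
      exact ⟨x1 + x2, (TensorProduct.tmul_add _ _ _).symm⟩
  have hinj : Function.Injective g := by
    rw [injective_iff_map_eq_zero]
    intro z hz
    obtain ⟨x, rfl⟩ := hrep z
    rw [hg, one_smul] at hz
    rw [hz, TensorProduct.tmul_zero]
  have hsurj : Function.Surjective g := fun x => ⟨(1 : S) ⊗ₜ[A] x, by rw [hg, one_smul]⟩
  exact Module.Flat.of_linearEquiv (LinearEquiv.ofBijective g ⟨hinj, hsurj⟩).symm

/-- For `e` with `e² = 0`: if `e n = 0` forces `n ∈ e N`, then `(e) ⊗ N → N` is injective. -/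
theorem rTensor_injective_of_sq_zero {Λ N : Type u} [CommRing Λ] [AddCommGroup N] [Module Λ N]
    (e : Λ) (he : e * e = 0) (h : ∀ n : N, e • n = 0 → ∃ n', n = e • n') :
    Function.Injective ((Ideal.span {e}).subtype.rTensor N) := by
  obtain ⟨e', he'⟩ : ∃ e' : ↥(Ideal.span {e}), (e' : Λ) = e :=
    ⟨⟨e, Ideal.mem_span_singleton_self e⟩, rfl⟩
  have hrep : ∀ z : ↥(Ideal.span {e}) ⊗[Λ] N, ∃ n : N, z = e' ⊗ₜ[Λ] n := by
    intro z
    induction z using TensorProduct.induction_on with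
    | zero => exact ⟨0, (TensorProduct.tmul_zero _ _).symm⟩
    | tmul u n =>
      obtain ⟨c, hc⟩ := Ideal.mem_span_singleton'.mp u.2
      refine ⟨c • n, ?_⟩
      have hu : u = c • e' := Subtype.ext (by simp [he', hc])
      rw [hu, TensorProduct.smul_tmul]
    | add x y hx hy =>
      obtain ⟨n1, rfl⟩ := hx
      obtain ⟨n2, rfl⟩ := hy
      exact ⟨n1 + n2, (TensorProduct.tmul_add _ _ _).symm⟩
  rw [injective_iff_map_eq_zero]
  intro z hz
  obtain ⟨n, rfl⟩ := hrep z
  rw [LinearMap.rTensor_tmul, Submodule.subtype_apply, he'] at hz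
  have h0 : e • n = 0 := by
    have h1 := congrArg (TensorProduct.lid Λ N) hz
    rwa [TensorProduct.lid_tmul, map_zero] at h1
  obtain ⟨n', rfl⟩ := h n h0
  have hee : e • e' = 0 := Subtype.ext (by simp [he', he])
  rw [← TensorProduct.smul_tmul, hee, TensorProduct.zero_tmul]

/-- Square-zero principal case of the local criterion of flatness. -/
theorem flat_of_sq_zero {A Λ N Y : Type u} [CommRing A] [CommRing Λ] [Algebra A Λ]
    [AddCommGroup N] [Module Λ N] [Module A N] [IsScalarTower A Λ N]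
    [AddCommGroup Y] [Module A Y] [Module.Flat A Y]
    (e : Λ) (he : e * e = 0)
    (hsurj : ∀ l : Λ, ∃ a : A, algebraMap A Λ a - l ∈ Ideal.span {e})
    (h1 : ∀ n : N, e • n = 0 → ∃ n', n = e • n')
    (ψ : N →ₗ[A] Y) (hψ : Function.Surjective ψ) (hker : ∀ n, ψ n = 0 ↔ ∃ n', n = e • n') :
    Module.Flat Λ N := by
  have hsq : (Ideal.span {e}) ^ 2 = ⊥ := by
    rw [Ideal.span_singleton_pow, pow_two, he]
    exact Ideal.span_singleton_eq_bot.mpr rfl
  refine Groth.Agent.Helper8.LocalCrit.flat_of_nilpotent (Ideal.span {e}) 2 hsq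
    (rTensor_injective_of_sq_zero e he h1) ?_
  have hs : Function.Surjective (algebraMap A (Λ ⧸ Ideal.span {e})) := by
    intro q
    obtain ⟨l, rfl⟩ := Ideal.Quotient.mk_surjective q
    obtain ⟨a, ha⟩ := hsurj l
    exact ⟨a, Ideal.Quotient.eq.mpr ha⟩
  have hkerEq : ((Ideal.span {e} • ⊤ : Submodule Λ N).restrictScalars A) = LinearMap.ker ψ := by
    ext n
    rw [Submodule.restrictScalars_mem, LinearMap.mem_ker, hker, Submodule.ideal_span_singleton_smul,
      Submodule.mem_smul_pointwise_iff_exists]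
    constructor
    · rintro ⟨b, -, rfl⟩
      exact ⟨b, rfl⟩
    · rintro ⟨n', rfl⟩
      exact ⟨n', Submodule.mem_top, rfl⟩
  let E : (Λ ⧸ Ideal.span {e}) ⊗[Λ] N ≃ₗ[A] Y :=
    ((quotTensorEquivQuotSMul N (Ideal.span {e})).restrictScalars A).trans
      (((Submodule.Quotient.restrictScalarsEquiv A (Ideal.span {e} • ⊤ : Submodule Λ N)).symm).trans
        ((Submodule.quotEquivOfEq _ _ hkerEq).trans (ψ.quotKerEquivOfSurjective hψ)))
  haveI : Module.Flat A ((Λ ⧸ Ideal.span {e}) ⊗[Λ] N) := Module.Flat.of_linearEquiv E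
  exact flat_of_surjective_algebraMap hs

/-- Over the dual numbers, `ε n = 0` in a flat module forces `n ∈ ε N`. -/
theorem exists_eps_smul_of_flat {A : Type u} [CommRing A] {N : Type u} [AddCommGroup N]
    [Module (DualNumber A) N] [Module.Flat (DualNumber A) N] (n : N)
    (h : (ε : DualNumber A) • n = 0) : ∃ n' : N, n = (ε : DualNumber A) • n' := by
  have hsum : ∑ i : Unit, (fun _ => (ε : DualNumber A)) i • (fun _ => n) i = 0 := by
    simpa using h
  obtain ⟨k, a, y, hxy, hfa⟩ := Module.Flat.isTrivialRelation_of_sum_smul_eq_zero hsum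
  have hx : n = ∑ j, a () j • y j := hxy ()
  have ha : ∀ j, a () j = ε * inl (snd (a () j)) := by
    intro j
    have h1 : (ε : DualNumber A) * a () j = 0 := by simpa using hfa j
    have h2 : snd ((ε : DualNumber A) * a () j) = 0 := by rw [h1]; rfl
    rw [DualNumber.snd_mul, fst_eps, snd_eps, zero_mul, one_mul, zero_add] at h2
    apply TrivSqZeroExt.ext
    · rw [h2, TrivSqZeroExt.fst_mul, fst_eps, zero_mul]
    · rw [DualNumber.snd_mul, fst_eps, snd_eps, zero_mul, one_mul, zero_add, fst_inl]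
  refine ⟨∑ j, (inl (snd (a () j)) : DualNumber A) • y j, ?_⟩
  rw [hx, Finset.smul_sum]
  refine Finset.sum_congr rfl fun j _ => ?_
  rw [smul_smul, ← ha j]

end General

section Concrete

variable (A : Type u) [CommRing A] {R : Type u} [CommRing R] [Algebra A R]

instance towerInst : IsScalarTower A (DualNumber A) (DualNumber R) :=
  IsScalarTower.of_algebraMap_eq (fun a => ((dualMap A R).commutes a).symm)

instance towerQuot (J : Ideal (DualNumber R)) :
    IsScalarTower A (DualNumber A) (DualNumber R ⧸ J) := inferInstance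

theorem eps_smul_mk (J : Ideal (DualNumber R)) (x : DualNumber R) :
    (ε : DualNumber A) • (Ideal.Quotient.mk J x) = Ideal.Quotient.mk J (ε * x) := by
  have h : (ε : DualNumber A) • x = ε * x := by
    rw [Algebra.smul_def]
    show (dualMap A R) ε * x = ε * x
    rw [dualMap_eps]
  rw [← h]
  rfl

theorem mem_liftIdeal {I : Ideal R} {φ : I →ₗ[R] R ⧸ I} {x : DualNumber R} :
    x ∈ liftIdeal I φ ↔ ∃ h : x.fst ∈ I, Ideal.Quotient.mk I x.snd = φ ⟨x.fst, h⟩ := Iff.rfl

theorem inl_add_inr_mem_liftIdeal {I : Ideal R} {φ : I →ₗ[R] R ⧸ I} (a : I) (b : R) :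
    (inl a.1 + inr b : DualNumber R) ∈ liftIdeal I φ ↔ Ideal.Quotient.mk I b = φ a := by
  rw [mem_liftIdeal]
  have h1 : (inl a.1 + inr b : DualNumber R).fst = a.1 := by simp
  have h2 : (inl a.1 + inr b : DualNumber R).snd = b := by simp
  constructor
  · rintro ⟨h, h'⟩
    rw [h2] at h'
    rw [h']
    exact congrArg φ (Subtype.ext h1)
  · intro h'
    refine ⟨h1.symm ▸ a.2, ?_⟩
    rw [h2, h']
    exact congrArg φ (Subtype.ext h1.symm)

theorem liftIdeal_H1 (I : Ideal R) (φ : I →ₗ[R] R ⧸ I) : ∀ x ∈ liftIdeal I φ, fst x ∈ I := by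
  intro x hx
  obtain ⟨h, -⟩ := mem_liftIdeal.mp hx
  exact h

theorem liftIdeal_H2 (I : Ideal R) (φ : I →ₗ[R] R ⧸ I) :
    ∀ a ∈ I, ∃ b, (inl a + inr b : DualNumber R) ∈ liftIdeal I φ := by
  intro a ha
  obtain ⟨b, hb⟩ := Ideal.Quotient.mk_surjective (φ ⟨a, ha⟩)
  exact ⟨b, (inl_add_inr_mem_liftIdeal ⟨a, ha⟩ b).mpr hb⟩

theorem liftIdeal_H3 (I : Ideal R) (φ : I →ₗ[R] R ⧸ I) :
    ∀ r, (inr r : DualNumber R) ∈ liftIdeal I φ → r ∈ I := by
  intro r hr
  obtain ⟨h, h'⟩ := mem_liftIdeal.mp hr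
  have e : (⟨(inr r : DualNumber R).fst, h⟩ : I) = 0 := Subtype.ext (by simp)
  rw [e, map_zero, Ideal.Quotient.eq_zero_iff_mem] at h'
  simpa using h'

theorem liftIdeal_injective (I : Ideal R) : Function.Injective (liftIdeal I) := by
  intro φ ψ h
  apply LinearMap.ext
  intro a
  obtain ⟨b, hb⟩ := Ideal.Quotient.mk_surjective (φ a)
  have hmem : (inl a.1 + inr b : DualNumber R) ∈ liftIdeal I φ :=
    (inl_add_inr_mem_liftIdeal a b).mpr hb
  rw [h] at hmem
  rw [← hb]
  exact (inl_add_inr_mem_liftIdeal a b).mp hmem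

theorem map_fst_eq (I : Ideal R) (J : Ideal (DualNumber R)) (H1 : ∀ x ∈ J, fst x ∈ I)
    (H2 : ∀ a ∈ I, ∃ b, (inl a + inr b : DualNumber R) ∈ J) :
    Ideal.map (fstHom A R R) J = I := by
  apply le_antisymm
  · rw [Ideal.map_le_iff_le_comap]
    intro x hx
    exact H1 x hx
  · intro a ha
    obtain ⟨b, hb⟩ := H2 a ha
    have := Ideal.mem_map_of_mem (fstHom A R R) hb
    have e : fstHom A R R (inl a + inr b : DualNumber R) = a := by simp
    rwa [e] at this

theorem exists_eq_eps_smul (I : Ideal R) (J : Ideal (DualNumber R))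
    (H2 : ∀ a ∈ I, ∃ b, (inl a + inr b : DualNumber R) ∈ J)
    (x : DualNumber R) (hx : fst x ∈ I) :
    ∃ n' : DualNumber R ⧸ J, Ideal.Quotient.mk J x = (ε : DualNumber A) • n' := by
  obtain ⟨b, hb⟩ := H2 _ hx
  refine ⟨Ideal.Quotient.mk J (inl (snd x - b)), ?_⟩
  rw [eps_smul_mk, Ideal.Quotient.eq]
  have e : x - ε * inl (snd x - b) = inl (fst x) + inr b := by
    apply TrivSqZeroExt.ext
    · simp
    · simp
  rw [e]
  exact hb

theorem flat_quot (I : Ideal R) [Module.Flat A (R ⧸ I)] (J : Ideal (DualNumber R))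
    (H1 : ∀ x ∈ J, fst x ∈ I) (H2 : ∀ a ∈ I, ∃ b, (inl a + inr b : DualNumber R) ∈ J)
    (H3 : ∀ r, (inr r : DualNumber R) ∈ J → r ∈ I) :
    Module.Flat (DualNumber A) (DualNumber R ⧸ J) := by
  obtain ⟨ψ, hψ⟩ : ∃ ψ : (DualNumber R ⧸ J) →ₐ[A] R ⧸ I,
      ∀ x, ψ (Ideal.Quotient.mk J x) = Ideal.Quotient.mk I (fst x) := by
    refine ⟨Ideal.Quotient.liftₐ J ((Ideal.Quotient.mkₐ A I).comp (fstHom A R R)) ?_, fun x => rfl⟩
    intro x hx
    exact Ideal.Quotient.eq_zero_iff_mem.mpr (H1 x hx)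
  refine flat_of_sq_zero (A := A) (Y := R ⧸ I) (ε : DualNumber A) eps_mul_eps ?_ ?_
    ψ.toLinearMap ?_ ?_
  · intro l
    refine ⟨fst l, ?_⟩
    rw [Ideal.mem_span_singleton']
    refine ⟨-inl (snd l), ?_⟩
    apply TrivSqZeroExt.ext
    · simp [TrivSqZeroExt.algebraMap_eq_inl']
    · simp [TrivSqZeroExt.algebraMap_eq_inl']
  · intro n hn
    obtain ⟨x, rfl⟩ := Ideal.Quotient.mk_surjective n
    rw [eps_smul_mk, Ideal.Quotient.eq_zero_iff_mem] at hn
    have e : (ε : DualNumber R) * x = inr (fst x) := by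
      apply TrivSqZeroExt.ext
      · simp
      · simp
    rw [e] at hn
    exact exists_eq_eps_smul A I J H2 x (H3 _ hn)
  · intro y
    obtain ⟨r, rfl⟩ := Ideal.Quotient.mk_surjective y
    refine ⟨Ideal.Quotient.mk J (inl r), ?_⟩
    show ψ (Ideal.Quotient.mk J (inl r)) = _
    rw [hψ, fst_inl]
  · intro n
    obtain ⟨x, rfl⟩ := Ideal.Quotient.mk_surjective n
    show ψ (Ideal.Quotient.mk J x) = 0 ↔ _
    rw [hψ, Ideal.Quotient.eq_zero_iff_mem]
    constructor
    · intro hx
      exact exists_eq_eps_smul A I J H2 x hx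
    · rintro ⟨n', hn'⟩
      obtain ⟨y, rfl⟩ := Ideal.Quotient.mk_surjective n'
      rw [eps_smul_mk, Ideal.Quotient.eq] at hn'
      have := H1 _ hn'
      simpa using this

theorem exists_phi (I : Ideal R) (J : Ideal (DualNumber R))
    (H1 : ∀ x ∈ J, fst x ∈ I) (H2 : ∀ a ∈ I, ∃ b, (inl a + inr b : DualNumber R) ∈ J)
    (H3 : ∀ r, (inr r : DualNumber R) ∈ J → r ∈ I) :
    ∃ φ : I →ₗ[R] R ⧸ I, J = liftIdeal I φ := by
  choose β hβ using H2
  have U : ∀ a b b', (inl a + inr b : DualNumber R) ∈ J → (inl a + inr b' : DualNumber R) ∈ J →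
      b - b' ∈ I := by
    intro a b b' h h'
    apply H3
    have := J.sub_mem h h'
    have e : (inl a + inr b : DualNumber R) - (inl a + inr b') = inr (b - b') := by
      apply TrivSqZeroExt.ext
      · simp
      · simp
    rwa [e] at this
  have V : ∀ i ∈ I, (inr i : DualNumber R) ∈ J := by
    intro i hi
    have := J.mul_mem_left (ε : DualNumber R) (hβ i hi)
    have e : (ε : DualNumber R) * (inl i + inr (β i hi)) = inr i := by
      apply TrivSqZeroExt.ext
      · simp
      · simp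
    rwa [e] at this
  obtain ⟨φ, hφ⟩ : ∃ φ : I →ₗ[R] R ⧸ I, ∀ a (h : a ∈ I), φ ⟨a, h⟩ = Ideal.Quotient.mk I (β a h) := by
    refine ⟨{ toFun := fun a => Ideal.Quotient.mk I (β a.1 a.2)
              map_add' := fun a a' => ?_
              map_smul' := fun r a => ?_ }, fun a h => rfl⟩
    · rw [← map_add, Ideal.Quotient.eq]
      refine U (a.1 + a'.1) _ _ (hβ _ (a + a').2) ?_
      have := J.add_mem (hβ a.1 a.2) (hβ a'.1 a'.2)
      have e : (inl a.1 + inr (β a.1 a.2) : DualNumber R) + (inl a'.1 + inr (β a'.1 a'.2)) =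
          inl (a.1 + a'.1) + inr (β a.1 a.2 + β a'.1 a'.2) := by
        apply TrivSqZeroExt.ext
        · simp
        · simp
      rwa [e] at this
    · rw [RingHom.id_apply]
      have e0 : r • Ideal.Quotient.mk I (β a.1 a.2) = Ideal.Quotient.mk I (r * β a.1 a.2) := rfl
      rw [e0, Ideal.Quotient.eq]
      refine U (r * a.1) _ _ (hβ _ (r • a).2) ?_
      have := J.mul_mem_left (inl r : DualNumber R) (hβ a.1 a.2)
      have e : (inl r : DualNumber R) * (inl a.1 + inr (β a.1 a.2)) =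
          inl (r * a.1) + inr (r * β a.1 a.2) := by
        apply TrivSqZeroExt.ext
        · simp
        · simp
      rwa [e] at this
  refine ⟨φ, ?_⟩
  ext x
  rw [mem_liftIdeal]
  constructor
  · intro hx
    have hx1 : fst x ∈ I := H1 x hx
    refine ⟨hx1, ?_⟩
    rw [hφ, Ideal.Quotient.eq]
    refine U (fst x) _ _ ?_ (hβ _ hx1)
    rwa [inl_fst_add_inr_snd_eq]
  · rintro ⟨hx1, hx2⟩
    rw [hφ, Ideal.Quotient.eq] at hx2
    have := J.add_mem (hβ _ hx1) (V _ hx2)
    have e : (inl (fst x) + inr (β (fst x) hx1) : DualNumber R) + inr (snd x - β (fst x) hx1) = x := by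
      apply TrivSqZeroExt.ext
      · simp
      · simp
    rwa [e] at this

theorem exists_of_flat (I : Ideal R) (J : Ideal (DualNumber R))
    (hJ : Module.Flat (DualNumber A) (DualNumber R ⧸ J))
    (hmap : Ideal.map (fstHom A R R) J = I) : ∃ φ : I →ₗ[R] R ⧸ I, J = liftIdeal I φ := by
  have H1 : ∀ x ∈ J, fst x ∈ I := fun x hx => by
    have := Ideal.mem_map_of_mem (fstHom A R R) hx
    rwa [hmap] at this
  have hsurj : Function.Surjective (fstHom A R R : DualNumber R →ₐ[A] R) := fun r => ⟨inl r, rfl⟩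
  have H2 : ∀ a ∈ I, ∃ b, (inl a + inr b : DualNumber R) ∈ J := fun a ha => by
    rw [← hmap, Ideal.mem_map_iff_of_surjective _ hsurj] at ha
    obtain ⟨x, hx, rfl⟩ := ha
    refine ⟨snd x, ?_⟩
    have : (inl (fstHom A R R x) + inr (snd x) : DualNumber R) = x := inl_fst_add_inr_snd_eq x
    rw [this]
    exact hx
  have H3 : ∀ r, (inr r : DualNumber R) ∈ J → r ∈ I := fun r hr => by
    have h0 : (ε : DualNumber A) • (Ideal.Quotient.mk J (inl r)) = 0 := by
      rw [eps_smul_mk, Ideal.Quotient.eq_zero_iff_mem]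
      have e : (ε : DualNumber R) * inl r = inr r := by
        apply TrivSqZeroExt.ext
        · simp
        · simp
      rw [e]
      exact hr
    haveI := hJ
    obtain ⟨n', hn'⟩ := exists_eps_smul_of_flat (A := A) (N := DualNumber R ⧸ J) _ h0
    obtain ⟨y, rfl⟩ := Ideal.Quotient.mk_surjective n'
    rw [eps_smul_mk, Ideal.Quotient.eq] at hn'
    have := H1 _ hn'
    simpa using this
  exact exists_phi I J H1 H2 H3

end Concrete

end Groth.Agent.Helper7.DualLift
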