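import Mathlib
import Groth.Prelude.Def_W4c6eohyperellchar2Gc

set_option autoImplicit false

namespace Groth.Agent.Helper7.EO

open W4c6eohyperellchar2

variable {c : ℕ} {k : Type*} [Field k]

lemma comb (f g : Fin c → k) :
    (∑ j : Fin c, f j • X c k (j.val + 1)) + (∑ m : Fin c, g m • Y c k (m.val + 1)) = (f, g) := by
  apply Prod.ext
  · funext j₀
    simp [X, Y, Prod.fst_sum, Finset.sum_apply, Fin.val_inj]
  · funext m₀
    simp [X, Y, Prod.snd_sum, Finset.sum_apply, Fin.val_inj]

/-- the coordinate subspace -/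
def Sub (c : ℕ) (k : Type*) [Field k] (i : ℕ) : Submodule k (GcMod c k) where
  carrier := {v | (∀ j : Fin c, j.val + 1 ≤ 2 * c - i → v.1 j = 0) ∧
    (∀ m : Fin c, min i c < m.val + 1 → v.2 m = 0)}
  add_mem' := by
    rintro x y ⟨h1, h2⟩ ⟨h3, h4⟩
    exact ⟨fun j hj => by rw [Prod.fst_add, Pi.add_apply, h1 j hj, h3 j hj, add_zero],
      fun m hm => by rw [Prod.snd_add, Pi.add_apply, h2 m hm, h4 m hm, add_zero]⟩
  zero_mem' := ⟨fun _ _ => rfl, fun _ _ => rfl⟩
  smul_mem' := by
    rintro a x ⟨h1, h2⟩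
    exact ⟨fun j hj => by rw [Prod.smul_fst, Pi.smul_apply, h1 j hj, smul_zero],
      fun m hm => by rw [Prod.smul_snd, Pi.smul_apply, h2 m hm, smul_zero]⟩

lemma Nfil_eq (i : ℕ) : Nfil c k i = Sub c k i := by
  apply le_antisymm
  · unfold Nfil
    rw [Submodule.span_le]
    rintro x (⟨n, hn, rfl⟩ | ⟨n, hn, rfl⟩)
    · refine ⟨fun j _ => rfl, fun m hm => ?_⟩
      show (if m.val + 1 = n then (1:k) else 0) = 0
      rw [if_neg]
      have := hn.2
      omega
    · refine ⟨fun j hj => ?_, fun m _ => rfl⟩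
      show (if j.val + 1 = n then (1:k) else 0) = 0
      rw [if_neg]
      have := hn.1
      omega
  · rintro v ⟨h1, h2⟩
    have hv : v = (∑ j : Fin c, v.1 j • X c k (j.val + 1)) +
        (∑ m : Fin c, v.2 m • Y c k (m.val + 1)) := (comb v.1 v.2).symm
    rw [hv]
    unfold Nfil
    refine Submodule.add_mem _ (Submodule.sum_mem _ fun j _ => ?_)
      (Submodule.sum_mem _ fun m _ => ?_)
    · by_cases hj : j.val + 1 ≤ 2 * c - i
      · rw [h1 j hj, zero_smul]; exact Submodule.zero_mem _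
      · exact Submodule.smul_mem _ _ (Submodule.subset_span
          (Or.inr ⟨j.val + 1, ⟨by omega, by have := j.2; omega⟩, rfl⟩))
    · by_cases hm : min i c < m.val + 1
      · rw [h2 m hm, zero_smul]; exact Submodule.zero_mem _
      · exact Submodule.smul_mem _ _ (Submodule.subset_span
          (Or.inl ⟨m.val + 1, ⟨by omega, by omega⟩, rfl⟩))

lemma memN (i : ℕ) (v : GcMod c k) :
    v ∈ Nfil c k i ↔ (∀ j : Fin c, j.val + 1 ≤ 2 * c - i → v.1 j = 0) ∧
      (∀ m : Fin c, min i c < m.val + 1 → v.2 m = 0) := by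
  rw [Nfil_eq]; rfl

lemma Nfil_mono {i i' : ℕ} (h : i ≤ i') {v : GcMod c k} (hv : v ∈ Nfil c k i) :
    v ∈ Nfil c k i' := by
  rw [memN] at hv ⊢
  exact ⟨fun j hj => hv.1 j (by omega), fun m hm => hv.2 m (by omega)⟩

lemma li : LinearIndependent k (Sum.elim (fun j : Fin c => X c k (j.val + 1))
    (fun m : Fin c => Y c k (m.val + 1))) := by
  rw [Fintype.linearIndependent_iff]
  intro g hg
  rw [Fintype.sum_sum_type] at hg
  simp only [Sum.elim_inl, Sum.elim_inr] at hg
  rw [comb] at hg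
  have h1 := congrArg Prod.fst hg
  have h2 := congrArg Prod.snd hg
  rintro (j | m)
  · exact congrFun h1 j
  · exact congrFun h2 m

lemma finrank_Nfil (i : ℕ) (hi : i ≤ 2 * c) : Module.finrank k (Nfil c k i) = i := by
  classical
  let b : (↑(Set.Icc 1 (min i c)) ⊕ ↑(Set.Ioc (2 * c - i) c)) → GcMod c k :=
    Sum.elim (fun n => Y c k n.1) (fun n => X c k n.1)
  let f : (↑(Set.Icc 1 (min i c)) ⊕ ↑(Set.Ioc (2 * c - i) c)) → Fin c ⊕ Fin c :=
    Sum.elim (fun n => Sum.inr ⟨n.1 - 1, by have := n.2.1; have := n.2.2; omega⟩)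
      (fun n => Sum.inl ⟨n.1 - 1, by have := n.2.1; have := n.2.2; omega⟩)
  have hf : Function.Injective f := by
    rintro (⟨n, hn⟩ | ⟨n, hn⟩) (⟨n', hn'⟩ | ⟨n', hn'⟩) h
    · change Sum.inr _ = Sum.inr _ at h
      have h1 : n - 1 = n' - 1 := congrArg Fin.val (Sum.inr.inj h)
      have := hn.1; have := hn'.1
      have : n = n' := by omega
      subst this; rfl
    · change Sum.inr _ = Sum.inl _ at h
      exact (Sum.inr_ne_inl h).elim
    · change Sum.inl _ = Sum.inr _ at h
      exact (Sum.inl_ne_inr h).elim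
    · change Sum.inl _ = Sum.inl _ at h
      have h1 : n - 1 = n' - 1 := congrArg Fin.val (Sum.inl.inj h)
      have := hn.1; have := hn'.1
      have : n = n' := by omega
      subst this; rfl
  have hb : b = (Sum.elim (fun j : Fin c => X c k (j.val + 1))
      (fun m : Fin c => Y c k (m.val + 1))) ∘ f := by
    funext x
    rcases x with ⟨n, hn⟩ | ⟨n, hn⟩
    · show Y c k n = Y c k (n - 1 + 1)
      congr 1; have := hn.1; omega
    · show X c k n = X c k (n - 1 + 1)
      congr 1; have := hn.1; omega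
  have hli : LinearIndependent k b := by rw [hb]; exact li.comp f hf
  have hrange : Set.range b = (fun n => Y c k n) '' Set.Icc 1 (min i c) ∪
      (fun n => X c k n) '' Set.Ioc (2 * c - i) c := by
    rw [Set.Sum.elim_range, Set.image_eq_range, Set.image_eq_range]
  have h := finrank_span_eq_card hli
  rw [hrange] at h
  unfold Nfil
  rw [h, Fintype.card_sum, ← Set.toFinset_card, ← Set.toFinset_card, Set.toFinset_Icc,
    Set.toFinset_Ioc, Nat.card_Icc, Nat.card_Ioc]
  omega

end Groth.Agent.Helper7.EO
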