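import Mathlib
import Groth.Agent.Lib.Helper7.EO1

set_option autoImplicit false

namespace Groth.Agent.Helper7.EO

open W4c6eohyperellchar2

variable {c : ℕ} {k : Type*} [Field k]

lemma coefY_add (v v' : GcMod c k) (n : ℕ) : coefY (v + v') n = coefY v n + coefY v' n := by
  unfold coefY; split_ifs
  · rfl
  · rw [add_zero]

lemma coefY_smul (y : k) (v : GcMod c k) (n : ℕ) : coefY (y • v) n = y * coefY v n := by
  unfold coefY; split_ifs
  · rfl
  · rw [mul_zero]

section
variable [CharP k 2] [PerfectRing k 2]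

noncomputable def nvc (a : ℕ → k) (v : GcMod c k) (m : Fin c) : k :=
  (frobeniusEquiv k 2).symm (coefY v (2 * (m.val + 1))) +
    Finset.univ.sum (fun j : Fin c => if (j.val + 1) % 2 = 1 ∧ (m.val + 1) + j.val / 2 ≤ c then
      (frobeniusEquiv k 2).symm (v.1 j * a ((m.val + 1) + j.val / 2)) else 0)

lemma NV_snd (a : ℕ → k) (v : GcMod c k) (m : Fin c) : (NV c k a v).2 m = nvc a v m := rfl

lemma NV_add (a : ℕ → k) (v v' : GcMod c k) :
    NV c k a (v + v') = NV c k a v + NV c k a v' := by
  apply Prod.ext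
  · show (0 : Fin c → k) = 0 + 0
    rw [add_zero]
  · funext m
    show nvc a (v + v') m = nvc a v m + nvc a v' m
    unfold nvc
    rw [coefY_add, map_add, add_add_add_comm, ← Finset.sum_add_distrib]
    congr 1
    apply Finset.sum_congr rfl
    intro j _
    split_ifs
    · rw [Prod.fst_add, Pi.add_apply, add_mul, map_add]
    · rw [add_zero]

lemma NV_smul (a : ℕ → k) (y : k) (v : GcMod c k) :
    NV c k a (y • v) = (frobeniusEquiv k 2).symm y • NV c k a v := by
  apply Prod.ext
  · show (0 : Fin c → k) = (frobeniusEquiv k 2).symm y • (0 : Fin c → k)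
    rw [smul_zero]
  · funext m
    show nvc a (y • v) m = (frobeniusEquiv k 2).symm y * nvc a v m
    unfold nvc
    rw [coefY_smul, map_mul]
    conv_rhs => rw [mul_add, Finset.mul_sum]
    congr 1
    apply Finset.sum_congr rfl
    intro j _
    split_ifs
    · rw [Prod.smul_fst, Pi.smul_apply, smul_eq_mul, mul_assoc, map_mul]
    · rw [mul_zero]

lemma NV_zero (a : ℕ → k) : NV c k a (0 : GcMod c k) = 0 := by
  have := NV_smul a 0 (0 : GcMod c k)
  rw [zero_smul, map_zero, zero_smul] at this
  exact this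

lemma NV_mem (a : ℕ → k) (i : ℕ) (hi : i ≤ 2 * c) (v : GcMod c k) (hv : v ∈ Nfil c k i) :
    NV c k a v ∈ Nfil c k (i / 2) := by
  rw [memN] at hv ⊢
  obtain ⟨h1, h2⟩ := hv
  refine ⟨fun j _ => rfl, fun m hm => ?_⟩
  rw [NV_snd]; unfold nvc
  have hm' := m.2
  have e1 : coefY v (2 * (m.val + 1)) = 0 := by
    unfold coefY
    split_ifs with hb
    · apply h2
      show min i c < 2 * (m.val + 1) - 1 + 1
      omega
    · rfl
  rw [e1, map_zero, zero_add]
  apply Finset.sum_eq_zero
  intro j _
  split_ifs with hc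
  · rw [h1 j (by omega), zero_mul, map_zero]
  · rfl

lemma exists_ve (a : ℕ → k) (ha : a c ≠ 0) (e : ℕ) (he1 : 1 ≤ e) (hec : e ≤ c) :
    ∃ ve : GcMod c k, ve ∈ Nfil c k (2 * e) ∧ ∃ β : k, β ≠ 0 ∧
      ∀ m : Fin c, m.val + 1 = e → (NV c k a ve).2 m = β := by
  by_cases h2e : 2 * e ≤ c
  · refine ⟨Y c k (2 * e), ?_, 1, one_ne_zero, ?_⟩
    · unfold Nfil
      exact Submodule.subset_span (Or.inl ⟨2 * e, ⟨by omega, by omega⟩, rfl⟩)
    · intro m hm
      rw [NV_snd]; unfold nvc
      have e1 : coefY (Y c k (2 * e)) (2 * (m.val + 1)) = 1 := by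
        unfold coefY
        rw [dif_pos ⟨by omega, by omega⟩]
        show (if 2 * (m.val + 1) - 1 + 1 = 2 * e then (1:k) else 0) = 1
        rw [if_pos (by omega)]
      rw [e1, map_one]
      have : (Finset.univ.sum fun j : Fin c =>
          if (j.val + 1) % 2 = 1 ∧ (m.val + 1) + j.val / 2 ≤ c then
            (frobeniusEquiv k 2).symm ((Y c k (2 * e)).1 j * a ((m.val + 1) + j.val / 2))
          else 0) = 0 := by
        apply Finset.sum_eq_zero
        intro j _
        split_ifs
        · show (frobeniusEquiv k 2).symm ((0:k) * _) = 0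
          rw [zero_mul, map_zero]
        · rfl
      rw [this, add_zero]
  · push_neg at h2e
    refine ⟨X c k (2 * (c - e) + 1), ?_, (frobeniusEquiv k 2).symm (a c), by simpa using ha, ?_⟩
    · unfold Nfil
      exact Submodule.subset_span (Or.inr ⟨2 * (c - e) + 1, ⟨by omega, by omega⟩, rfl⟩)
    · intro m hm
      rw [NV_snd]; unfold nvc
      have e1 : coefY (X c k (2 * (c - e) + 1)) (2 * (m.val + 1)) = 0 := by
        unfold coefY
        split_ifs
        · rfl
        · rfl
      rw [e1, map_zero, zero_add]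
      rw [Finset.sum_eq_single (⟨2 * (c - e), by omega⟩ : Fin c)]
      · rw [if_pos ⟨by show (2 * (c - e) + 1) % 2 = 1; omega,
          by show m.val + 1 + 2 * (c - e) / 2 ≤ c; omega⟩]
        have e2 : (X c k (2 * (c - e) + 1)).1 (⟨2 * (c - e), by omega⟩ : Fin c) = 1 := by
          show (if 2 * (c - e) + 1 = 2 * (c - e) + 1 then (1:k) else 0) = 1
          rw [if_pos rfl]
        rw [e2, one_mul]
        congr 2
        show m.val + 1 + 2 * (c - e) / 2 = c
        omega
      · intro j _ hne
        have : (X c k (2 * (c - e) + 1)).1 j = 0 := by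
          show (if j.val + 1 = 2 * (c - e) + 1 then (1:k) else 0) = 0
          rw [if_neg]
          intro h; apply hne
          exact Fin.ext (by show j.val = 2 * (c - e); omega)
        rw [this, zero_mul, map_zero, ite_self]
      · intro h; exact absurd (Finset.mem_univ _) h

lemma surjV (a : ℕ → k) (ha : a c ≠ 0) : ∀ i, i ≤ 2 * c → ∀ w ∈ Nfil c k (i / 2),
    ∃ v ∈ Nfil c k i, NV c k a v = w := by
  intro i
  induction i with
  | zero =>
    intro _ w hw
    refine ⟨0, Submodule.zero_mem _, ?_⟩
    rw [NV_zero]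
    rw [memN] at hw
    obtain ⟨h1, h2⟩ := hw
    symm
    apply Prod.ext
    · funext j
      have := j.2
      exact h1 j (by omega)
    · funext m
      exact h2 m (by omega)
  | succ i ih =>
    intro hi w hw
    rcases Nat.even_or_odd i with hev | hodd
    · have e1 : (i + 1) / 2 = i / 2 := by obtain ⟨t, rfl⟩ := hev; omega
      rw [e1] at hw
      obtain ⟨v, hv, hvw⟩ := ih (by omega) w hw
      exact ⟨v, Nfil_mono (by omega) hv, hvw⟩
    · obtain ⟨t, rfl⟩ := hodd
      have e1 : (2 * t + 1 + 1) / 2 = t + 1 := by omega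
      have e2 : (2 * t + 1) / 2 = t := by omega
      rw [e1] at hw
      rw [e2] at ih
      have het : t + 1 ≤ c := by omega
      obtain ⟨ve, hve, β, hβ, hcoord⟩ := exists_ve a ha (t + 1) (by omega) het
      obtain ⟨x, hx⟩ : ∃ x : k, x = w.2 ⟨t, by omega⟩ := ⟨_, rfl⟩
      have hy : (frobeniusEquiv k 2).symm ((x / β) ^ 2) = x / β := frobeniusEquiv_symm_pow k 2 _
      have hv1 : ((x / β) ^ 2) • ve ∈ Nfil c k (2 * (t + 1)) := Submodule.smul_mem _ _ hve
      have hNV1 : NV c k a (((x / β) ^ 2) • ve) = (x / β) • NV c k a ve := by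
        rw [NV_smul, hy]
      have hNV1mem : NV c k a (((x / β) ^ 2) • ve) ∈ Nfil c k (t + 1) := by
        have := NV_mem a (2 * (t + 1)) (by omega) _ hv1
        rwa [show 2 * (t + 1) / 2 = t + 1 by omega] at this
      have hw' : w - NV c k a (((x / β) ^ 2) • ve) ∈ Nfil c k t := by
        rw [memN]
        have hw2 := (memN (t + 1) w).mp hw
        have hn2 := (memN (t + 1) _).mp hNV1mem
        refine ⟨fun j hj => ?_, fun m hm => ?_⟩
        · have := j.2
          rw [Prod.fst_sub, Pi.sub_apply, hw2.1 j (by omega), hn2.1 j (by omega), sub_zero]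
        · have := m.2
          rw [Prod.snd_sub, Pi.sub_apply]
          by_cases hmt : m.val = t
          · have hm2 : m = ⟨t, by omega⟩ := Fin.ext hmt
            rw [hNV1, Prod.smul_snd, Pi.smul_apply, hcoord m (by omega), smul_eq_mul,
              div_mul_cancel₀ _ hβ, hx, hm2]
            exact sub_self _
          · rw [hw2.2 m (by omega), hn2.2 m (by omega), sub_zero]
      obtain ⟨v', hv', hvw'⟩ := ih (by omega) _ hw'
      refine ⟨((x / β) ^ 2) • ve + v', Submodule.add_mem _ ?_ (Nfil_mono (by omega) hv'), ?_⟩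
      · rw [show 2 * t + 1 + 1 = 2 * (t + 1) by ring]; exact hv1
      · rw [NV_add, hvw']; abel

end

lemma NF_pre (a : ℕ → k) (ha : a c ≠ 0) (i : ℕ) (hi : i ≤ 2 * c) (v : GcMod c k) :
    NF c k a v ∈ Nfil c k i ↔ v ∈ Nfil c k (c + (i + 1) / 2) := by
  rw [memN, memN]
  obtain ⟨h, hh⟩ : ∃ h : ℕ, h = (i + 1) / 2 := ⟨_, rfl⟩
  rw [← hh]
  constructor
  · rintro ⟨h1, h2⟩
    refine ⟨?_, fun m hm => absurd hm (by have := m.2; omega)⟩
    have key : ∀ n : ℕ, ∀ j : Fin c, j.val = n → j.val + 1 ≤ 2 * c - (c + h) → v.1 j = 0 := by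
      intro n
      induction n using Nat.strong_induction_on with
      | _ n ih =>
        intro j hjn hj
        have hjc := j.2
        by_cases hsmall : 2 * (j.val + 1) ≤ c
        · have h3 := h1 ⟨2 * j.val + 1, by omega⟩ (by show 2 * j.val + 1 + 1 ≤ 2 * c - i; omega)
          have e : (NF c k a v).1 ⟨2 * j.val + 1, by omega⟩ = (v.1 j) ^ 2 := by
            show (if (2 * j.val + 1 + 1) % 2 = 0 then
              coefX v ((2 * j.val + 1 + 1) / 2) ^ 2 else 0) = _
            rw [if_pos (by omega)]
            have e3 : (2 * j.val + 1 + 1) / 2 = j.val + 1 := by omega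
            rw [e3]
            unfold coefX
            rw [dif_pos ⟨by omega, by omega⟩]
            rfl
          rw [e] at h3
          exact pow_eq_zero_iff (two_ne_zero) |>.mp h3
        · push_neg at hsmall
          obtain ⟨t, ht⟩ : ∃ t : ℕ, t = c - (j.val + 1) := ⟨_, rfl⟩
          have h2' := h2 ⟨2 * t, by omega⟩ (by show min i c < 2 * t + 1; omega)
          have e : (NF c k a v).2 ⟨2 * t, by omega⟩ = v.1 j ^ 2 * a c := by
            show (if (2 * t + 1) % 2 = 1 then
              Finset.univ.sum (fun j' : Fin c =>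
                if c < 2 * (j'.val + 1) ∧ (j'.val + 1) + (2 * t) / 2 ≤ c then
                  v.1 j' ^ 2 * a ((j'.val + 1) + (2 * t) / 2) else 0) else 0) = _
            rw [if_pos (by omega), Finset.sum_eq_single j]
            · rw [if_pos ⟨by omega, by omega⟩]
              congr 2
              omega
            · intro j' _ hne
              split_ifs with hc
              · have hne' : j'.val ≠ j.val := fun h => hne (Fin.ext h)
                rw [ih j'.val (by omega) j' rfl (by omega)]
                ring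
              · rfl
            · intro h; exact absurd (Finset.mem_univ _) h
          rw [e] at h2'
          rcases mul_eq_zero.mp h2' with h5 | h5
          · exact pow_eq_zero_iff (two_ne_zero) |>.mp h5
          · exact absurd h5 ha
    exact fun j hj => key j.val j rfl hj
  · rintro ⟨h1, _⟩
    refine ⟨fun I0 hI => ?_, fun m hm => ?_⟩
    · have := I0.2
      show (if (I0.val + 1) % 2 = 0 then coefX v ((I0.val + 1) / 2) ^ 2 else 0) = 0
      split_ifs with hpar
      · unfold coefX
        split_ifs with hb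
        · rw [h1 _ (by show (I0.val + 1) / 2 - 1 + 1 ≤ 2 * c - (c + h); omega)]
          exact zero_pow two_ne_zero
        · exact zero_pow two_ne_zero
      · rfl
    · have := m.2
      show (if (m.val + 1) % 2 = 1 then
        Finset.univ.sum (fun j : Fin c =>
          if c < 2 * (j.val + 1) ∧ (j.val + 1) + m.val / 2 ≤ c then
            v.1 j ^ 2 * a ((j.val + 1) + m.val / 2) else 0) else 0) = 0
      split_ifs with hpar
      · apply Finset.sum_eq_zero
        intro j _
        split_ifs with hc
        · rw [h1 j (by omega)]; ring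
        · rfl
      · rfl

theorem main (c : ℕ) (k : Type*) [Field k] [CharP k 2] [PerfectRing k 2]
    (a : ℕ → k) (ha : a c ≠ 0) (i : ℕ) (hi : i ≤ 2 * c) :
    Module.finrank k (Nfil c k i) = i ∧
      NV c k a '' (Nfil c k i : Set (GcMod c k)) = (Nfil c k (i / 2) : Set (GcMod c k)) ∧
      NF c k a ⁻¹' (Nfil c k i : Set (GcMod c k)) =
        (Nfil c k (c + (i + 1) / 2) : Set (GcMod c k)) := by
  refine ⟨finrank_Nfil i hi, ?_, ?_⟩
  · ext w
    constructor
    · rintro ⟨v, hv, rfl⟩
      exact NV_mem a i hi v hv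
    · intro hw
      obtain ⟨v, hv, e⟩ := surjV a ha i hi w hw
      exact ⟨v, hv, e⟩
  · ext v
    exact NF_pre a ha i hi v

end Groth.Agent.Helper7.EO
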