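import Mathlib
import Groth.Prelude.Def_W4c61motalbdualityCompl

set_option autoImplicit false
universe u v w

namespace Groth.Agent.Helper7.FIC

open W4c61motalbduality

section

variable {X : Type u} [AddCommGroup X] [TopologicalSpace X] [IsTopologicalAddGroup X]

instance instDiscrete (U : OpenFI X) : DiscreteTopology (X ⧸ U.toAddSubgroup) :=
  QuotientAddGroup.discreteTopology U.isOpen'

instance instFinite (U : OpenFI X) : Finite (X ⧸ U.toAddSubgroup) :=
  have := U.finiteIndex'
  AddSubgroup.finite_quotient_of_finiteIndex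

omit [IsTopologicalAddGroup X] in
/-- Finite families of open finite-index subgroups have a common lower bound. -/
theorem exists_le_finset (I : Finset (OpenFI X)) :
    ∃ V : OpenFI X, ∀ j ∈ I, V.toAddSubgroup ≤ j.toAddSubgroup := by
  classical
  induction I using Finset.induction_on with
  | empty =>
    exact ⟨⟨⊤, isOpen_univ, inferInstance⟩, fun j hj => absurd hj (Finset.notMem_empty j)⟩
  | insert j I _ ih =>
    obtain ⟨V, hV⟩ := ih
    have h1 := V.finiteIndex'
    have h2 := j.finiteIndex'
    refine ⟨⟨V.toAddSubgroup ⊓ j.toAddSubgroup, V.isOpen'.inter j.isOpen', inferInstance⟩, ?_⟩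
    intro k hk
    rcases Finset.mem_insert.1 hk with rfl | hk
    · exact inf_le_right
    · exact inf_le_left.trans (hV k hk)

theorem isClosed_FICompl :
    IsClosed ((FICompl X : AddSubgroup ((U : OpenFI X) → X ⧸ U.toAddSubgroup)) :
      Set ((U : OpenFI X) → X ⧸ U.toAddSubgroup)) := by
  have : ((FICompl X : AddSubgroup ((U : OpenFI X) → X ⧸ U.toAddSubgroup)) :
      Set ((U : OpenFI X) → X ⧸ U.toAddSubgroup)) =
      ⋂ (U : OpenFI X) (V : OpenFI X) (h : U.toAddSubgroup ≤ V.toAddSubgroup),
        {x | QuotientAddGroup.map U.toAddSubgroup V.toAddSubgroup (AddMonoidHom.id X) h (x U) = x V} := by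
    ext x
    simp only [Set.mem_iInter, Set.mem_ofPred_eq]
    rfl
  rw [this]
  refine isClosed_iInter fun U => isClosed_iInter fun V => isClosed_iInter fun h => ?_
  exact isClosed_eq (continuous_of_discreteTopology.comp (continuous_apply U)) (continuous_apply V)

theorem isCompact_FICompl :
    IsCompact ((FICompl X : AddSubgroup ((U : OpenFI X) → X ⧸ U.toAddSubgroup)) :
      Set ((U : OpenFI X) → X ⧸ U.toAddSubgroup)) :=
  isClosed_FICompl.isCompact

end

theorem mem_closure_of_forall_finset {J : Type*} {F : J → Type*} [∀ j, TopologicalSpace (F j)]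
    (S : Set (∀ j, F j)) (y : ∀ j, F j)
    (h : ∀ I : Finset J, ∃ s ∈ S, ∀ j ∈ I, s j = y j) : y ∈ closure S := by
  rw [mem_closure_iff]
  intro O hO hyO
  obtain ⟨I, u, hu, hsub⟩ := isOpen_pi_iff.1 hO y hyO
  obtain ⟨s, hsS, hs⟩ := h I
  refine ⟨s, hsub ?_, hsS⟩
  intro j hj
  rw [hs j hj]
  exact (hu j hj).2

section

variable {X : Type u} [AddCommGroup X] [TopologicalSpace X] [IsTopologicalAddGroup X]

omit [IsTopologicalAddGroup X] in
theorem dense_toFICompl (z : FICompl X) :
    z.1 ∈ closure (Set.range fun a : X => (toFICompl X a).1) := by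
  apply mem_closure_of_forall_finset
  intro I
  obtain ⟨V, hV⟩ := exists_le_finset I
  obtain ⟨a, ha⟩ := QuotientAddGroup.mk_surjective (z.1 V)
  refine ⟨_, ⟨a, rfl⟩, fun j hj => ?_⟩
  have := z.2 V j (hV j hj)
  rw [← this, ← ha]
  rfl

end

section

variable {A : Type u} [AddCommGroup A] [TopologicalSpace A] [IsTopologicalAddGroup A]
variable {B : Type v} [AddCommGroup B] [TopologicalSpace B] [IsTopologicalAddGroup B]

/-- The formula for `FICompl.map` on the whole product. -/
def mapFun (f : A →+ B) (hf : Continuous f) :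
    ((U : OpenFI A) → A ⧸ U.toAddSubgroup) → ((V : OpenFI B) → B ⧸ V.toAddSubgroup) :=
  fun x V => QuotientAddGroup.map (V.comap f hf).toAddSubgroup V.toAddSubgroup f
    (V.comap_le f) (x (V.comap f hf))

omit [IsTopologicalAddGroup B] in
theorem continuous_mapFun (f : A →+ B) (hf : Continuous f) : Continuous (mapFun f hf) := by
  apply continuous_pi
  intro V
  exact continuous_of_discreteTopology.comp (continuous_apply (V.comap f hf))

omit [IsTopologicalAddGroup A] [IsTopologicalAddGroup B] in
theorem map_val (f : A →+ B) (hf : Continuous f) (x : FICompl A) :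
    (FICompl.map f hf x).1 = mapFun f hf x.1 := rfl

theorem isClosed_image_mapFun (f : A →+ B) (hf : Continuous f) :
    IsClosed (mapFun f hf '' ((FICompl A : AddSubgroup ((U : OpenFI A) → A ⧸ U.toAddSubgroup)) :
      Set ((U : OpenFI A) → A ⧸ U.toAddSubgroup))) :=
  (isCompact_FICompl.image (continuous_mapFun f hf)).isClosed

end

end Groth.Agent.Helper7.FIC
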