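import Mathlib
import Groth.Agent.S5778

/-!
# `A/J^N ≃ (A/J)[T]/(T)^N` for a quasi-regular `J` with `A/J` formally smooth
-/

set_option autoImplicit false
universe u v
open MvPolynomial

namespace Groth.Agent.Helper7.FSmoothJet

section
variable (R : Type u) {A : Type v} [CommRing R] [CommRing A] [Algebra R A] {d : ℕ} (x : Fin d → A)
  (N : ℕ)

local notation "𝔍" => Ideal.span (Set.range x)
local notation "𝔪" => Ideal.span (Set.range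
  (MvPolynomial.X : Fin d → MvPolynomial (Fin d) (A ⧸ Ideal.span (Set.range x))))

/-- the filtration of `A/J^N` by the images of `J^n`. -/
def F (n : ℕ) : Ideal (A ⧸ 𝔍 ^ N) := Ideal.map (Ideal.Quotient.mk (𝔍 ^ N)) (𝔍 ^ n)

theorem F_top : F x N N = ⊥ := Ideal.map_quotient_self _

theorem F_anti {n m : ℕ} (h : n ≤ m) : F x N m ≤ F x N n :=
  Ideal.map_mono (Ideal.pow_le_pow_right h)

theorem mem_F {n : ℕ} {y : A ⧸ 𝔍 ^ N} :
    y ∈ F x N n ↔ ∃ a ∈ 𝔍 ^ n, Ideal.Quotient.mk (𝔍 ^ N) a = y :=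
  Ideal.mem_map_iff_of_surjective _ Ideal.Quotient.mk_surjective

theorem mul_mem_F {n : ℕ} {y z : A ⧸ 𝔍 ^ N} (hy : y ∈ F x N 1) (hz : z ∈ F x N n) :
    y * z ∈ F x N (n + 1) := by
  have : F x N 1 * F x N n = F x N (n + 1) := by
    unfold F
    rw [← Ideal.map_mul, ← pow_add, add_comm]
  rw [← this]; exact Ideal.mul_mem_mul hy hz

/-- the projection `A/J^N → A/J`. -/
noncomputable def piN (hN : N ≠ 0) : (A ⧸ 𝔍 ^ N) →ₐ[R] (A ⧸ 𝔍) :=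
  Ideal.Quotient.factorₐ R (Ideal.pow_le_self hN)

theorem piN_mk (hN : N ≠ 0) (a : A) :
    piN R x N hN (Ideal.Quotient.mk _ a) = Ideal.Quotient.mk _ a :=
  Ideal.Quotient.factorₐ_apply_mk R _ a

theorem piN_surjective (hN : N ≠ 0) : Function.Surjective (piN R x N hN) := by
  intro b
  obtain ⟨a, rfl⟩ := Ideal.Quotient.mk_surjective b
  exact ⟨Ideal.Quotient.mk _ a, piN_mk R x N hN a⟩

theorem mem_F_one_of_piN (hN : N ≠ 0) {y : A ⧸ 𝔍 ^ N} (h : piN R x N hN y = 0) :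
    y ∈ F x N 1 := by
  obtain ⟨a, rfl⟩ := Ideal.Quotient.mk_surjective y
  rw [piN_mk, Ideal.Quotient.eq_zero_iff_mem] at h
  exact (mem_F x N).mpr ⟨a, by rwa [pow_one], rfl⟩

theorem piN_nil (hN : N ≠ 0) :
    IsNilpotent (RingHom.ker (piN R x N hN : (A ⧸ 𝔍 ^ N) →+* (A ⧸ 𝔍))) := by
  refine ⟨N, ?_⟩
  rw [Ideal.zero_eq_bot, eq_bot_iff]
  have h1 : RingHom.ker (piN R x N hN : (A ⧸ 𝔍 ^ N) →+* (A ⧸ 𝔍)) ≤ F x N 1 :=
    fun y hy => mem_F_one_of_piN R x N hN (RingHom.mem_ker.mp hy)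
  have h2 : F x N 1 ^ N = ⊥ := by
    unfold F
    rw [← Ideal.map_pow, pow_one]
    exact Ideal.map_quotient_self _
  exact h2 ▸ Ideal.pow_right_mono h1 N

/-- the comparison map `(A/J)[T] → A/J^N` attached to a section `s`. -/
noncomputable def Phi (s : (A ⧸ 𝔍) →ₐ[R] (A ⧸ 𝔍 ^ N)) :
    MvPolynomial (Fin d) (A ⧸ 𝔍) →ₐ[R] (A ⧸ 𝔍 ^ N) :=
  MvPolynomial.aevalTower s (fun i => Ideal.Quotient.mk (𝔍 ^ N) (x i))

theorem Phi_X (s : (A ⧸ 𝔍) →ₐ[R] (A ⧸ 𝔍 ^ N)) (i : Fin d) :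
    Phi R x N s (X i) = Ideal.Quotient.mk _ (x i) := MvPolynomial.aevalTower_X _ _ i

theorem Phi_C (s : (A ⧸ 𝔍) →ₐ[R] (A ⧸ 𝔍 ^ N)) (b : A ⧸ 𝔍) :
    Phi R x N s (C b) = s b := MvPolynomial.aevalTower_C _ _ b

theorem Phi_monomial (s : (A ⧸ 𝔍) →ₐ[R] (A ⧸ 𝔍 ^ N)) (α : Fin d →₀ ℕ) (b : A ⧸ 𝔍) :
    Phi R x N s (monomial α b) = s b * Ideal.Quotient.mk _ (S5778.mon x α) := by
  rw [MvPolynomial.monomial_eq, map_mul, Phi_C, map_finsuppProd]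
  congr 1
  unfold S5778.mon
  rw [map_finsuppProd]
  refine Finsupp.prod_congr (fun i _ => ?_)
  rw [map_pow, map_pow, Phi_X]

theorem Phi_mem (s : (A ⧸ 𝔍) →ₐ[R] (A ⧸ 𝔍 ^ N)) {n : ℕ}
    {p : MvPolynomial (Fin d) (A ⧸ 𝔍)} (hp : p ∈ 𝔪 ^ n) : Phi R x N s p ∈ F x N n := by
  have h1 : Ideal.map (Phi R x N s) 𝔪 ≤ Ideal.map (Ideal.Quotient.mk (𝔍 ^ N)) 𝔍 := by
    rw [Ideal.map_span, Ideal.span_le]
    rintro _ ⟨_, ⟨i, rfl⟩, rfl⟩
    rw [Phi_X]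
    exact Ideal.mem_map_of_mem _ (Ideal.subset_span ⟨i, rfl⟩)
  have h2 : Phi R x N s p ∈ Ideal.map (Phi R x N s) (𝔪 ^ n) := Ideal.mem_map_of_mem _ hp
  rw [Ideal.map_pow] at h2
  have h3 := Ideal.pow_right_mono h1 n h2
  rw [← Ideal.map_pow] at h3
  exact h3

theorem Phi_zero_of_mem (s : (A ⧸ 𝔍) →ₐ[R] (A ⧸ 𝔍 ^ N))
    (p : MvPolynomial (Fin d) (A ⧸ 𝔍)) (hp : p ∈ 𝔪 ^ N) : Phi R x N s p = 0 := by
  have := Phi_mem R x N s hp
  rw [F_top] at this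
  exact (Ideal.mem_bot).mp this

/-- the induced map `(A/J)[T]/(T)^N → A/J^N`. -/
noncomputable def Phibar (s : (A ⧸ 𝔍) →ₐ[R] (A ⧸ 𝔍 ^ N)) :
    (MvPolynomial (Fin d) (A ⧸ 𝔍) ⧸ 𝔪 ^ N) →ₐ[R] (A ⧸ 𝔍 ^ N) :=
  Ideal.Quotient.liftₐ (𝔪 ^ N) (Phi R x N s) (Phi_zero_of_mem R x N s)

theorem Phibar_mk (s : (A ⧸ 𝔍) →ₐ[R] (A ⧸ 𝔍 ^ N)) (p : MvPolynomial (Fin d) (A ⧸ 𝔍)) :
    Phibar R x N s (Ideal.Quotient.mk _ p) = Phi R x N s p := rfl

theorem sec_sub_mem (hN : N ≠ 0) (s : (A ⧸ 𝔍) →ₐ[R] (A ⧸ 𝔍 ^ N))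
    (hs : ∀ b, piN R x N hN (s b) = b) (a : A) :
    s (Ideal.Quotient.mk 𝔍 a) - Ideal.Quotient.mk (𝔍 ^ N) a ∈ F x N 1 := by
  apply mem_F_one_of_piN R x N hN
  rw [map_sub, hs, piN_mk, sub_self]

theorem Phi_sum_sub_mem (hN : N ≠ 0) (s : (A ⧸ 𝔍) →ₐ[R] (A ⧸ 𝔍 ^ N))
    (hs : ∀ b, piN R x N hN (s b) = b) (n : ℕ) (c : (Fin d →₀ ℕ) → A) :
    Phi R x N s (∑ α ∈ S5778.Dn d n, monomial α (Ideal.Quotient.mk 𝔍 (c α))) -
      Ideal.Quotient.mk (𝔍 ^ N) (∑ α ∈ S5778.Dn d n, c α * S5778.mon x α) ∈ F x N (n + 1) := by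
  rw [map_sum, map_sum, ← Finset.sum_sub_distrib]
  refine Ideal.sum_mem _ (fun α hα => ?_)
  rw [Phi_monomial, map_mul, ← sub_mul]
  exact mul_mem_F x N (sec_sub_mem R x N hN s hs (c α))
    ((mem_F x N).mpr ⟨_, S5778.mon_mem_pow x hα, rfl⟩)

theorem range_of_mem_F (hN : N ≠ 0) (s : (A ⧸ 𝔍) →ₐ[R] (A ⧸ 𝔍 ^ N))
    (hs : ∀ b, piN R x N hN (s b) = b) :
    ∀ (k n : ℕ), n + k = N → ∀ y ∈ F x N n, ∃ p, Phi R x N s p = y := by
  intro k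
  induction k with
  | zero =>
    intro n hn y hy
    rw [add_zero] at hn
    rw [hn, F_top] at hy
    exact ⟨0, by rw [map_zero]; exact ((Ideal.mem_bot).mp hy).symm⟩
  | succ k ih =>
    intro n hn y hy
    obtain ⟨a, ha, rfl⟩ := (mem_F x N).mp hy
    obtain ⟨c, hc⟩ := S5778.exists_repr x ha
    have h1 := Phi_sum_sub_mem R x N hN s hs n c
    rw [hc] at h1
    obtain ⟨p', hp'⟩ := ih (n + 1) (by omega) _ h1
    refine ⟨∑ α ∈ S5778.Dn d n, monomial α (Ideal.Quotient.mk 𝔍 (c α)) - p', ?_⟩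
    rw [map_sub, hp', sub_sub_cancel]

theorem mem_pow_of_Phi_mem (hq : CAlgX.IsQuasiRegular x) (hN : N ≠ 0)
    (s : (A ⧸ 𝔍) →ₐ[R] (A ⧸ 𝔍 ^ N)) (hs : ∀ b, piN R x N hN (s b) = b) :
    ∀ n, n ≤ N → ∀ p : MvPolynomial (Fin d) (A ⧸ 𝔍), Phi R x N s p ∈ F x N n → p ∈ 𝔪 ^ n := by
  intro n
  induction n with
  | zero => intro _ p _; rw [pow_zero, Ideal.one_eq_top]; trivial
  | succ n ih =>
    intro hn p hp
    have hpn : p ∈ 𝔪 ^ n := ih (by omega) p (F_anti x N (Nat.le_succ n) hp)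
    classical
    obtain ⟨cf, hcf⟩ : ∃ cf : (Fin d →₀ ℕ) → A, ∀ α, Ideal.Quotient.mk 𝔍 (cf α) = coeff α p :=
      ⟨fun α => Function.surjInv Ideal.Quotient.mk_surjective (coeff α p),
        fun α => Function.surjInv_eq _ _⟩
    obtain ⟨h, hh⟩ : ∃ h : MvPolynomial (Fin d) (A ⧸ 𝔍),
        h = ∑ α ∈ S5778.Dn d n, monomial α (coeff α p) := ⟨_, rfl⟩
    have hph : p - h ∈ 𝔪 ^ (n + 1) := by
      rw [mem_pow_idealOfVars_iff']
      intro β hβ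
      rw [coeff_sub, hh, coeff_sum]
      simp only [coeff_monomial]
      rw [Finset.sum_ite_eq']
      by_cases hβn : β ∈ S5778.Dn d n
      · rw [if_pos hβn, sub_self]
      · rw [if_neg hβn, sub_zero]
        have hlt : Finsupp.degree β < n := by
          rw [S5778.mem_Dn] at hβn; omega
        exact (mem_pow_idealOfVars_iff' n p).mp hpn β hlt
    have hΦh : Phi R x N s h ∈ F x N (n + 1) := by
      have h1 := Phi_mem R x N s hph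
      have h2 : Phi R x N s h = Phi R x N s p - Phi R x N s (p - h) := by
        rw [map_sub, sub_sub_cancel]
      rw [h2]; exact Ideal.sub_mem _ hp h1
    have hh' : h = ∑ α ∈ S5778.Dn d n, monomial α (Ideal.Quotient.mk 𝔍 (cf α)) := by
      rw [hh]; exact Finset.sum_congr rfl (fun α _ => by rw [hcf])
    have h2 := Phi_sum_sub_mem R x N hN s hs n cf
    rw [← hh'] at h2
    have h3 : Ideal.Quotient.mk (𝔍 ^ N) (∑ α ∈ S5778.Dn d n, cf α * S5778.mon x α) ∈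
        F x N (n + 1) := by
      have := Ideal.sub_mem _ hΦh h2
      rwa [sub_sub_cancel] at this
    obtain ⟨a', ha', hEq⟩ := (mem_F x N).mp h3
    have h4 : ∑ α ∈ S5778.Dn d n, cf α * S5778.mon x α ∈ 𝔍 ^ (n + 1) := by
      have h5 : a' - ∑ α ∈ S5778.Dn d n, cf α * S5778.mon x α ∈ 𝔍 ^ N := Ideal.Quotient.eq.mp hEq
      have h6 := Ideal.pow_le_pow_right hn h5
      have h7 : ∑ α ∈ S5778.Dn d n, cf α * S5778.mon x α =
          a' - (a' - ∑ α ∈ S5778.Dn d n, cf α * S5778.mon x α) := by ring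
      rw [h7]; exact Ideal.sub_mem _ ha' h6
    have h7 := S5778.crit_of_quasiRegular x hq n cf h4
    have h8 : h = 0 := by
      rw [hh]
      refine Finset.sum_eq_zero (fun α hα => ?_)
      rw [← hcf α, Ideal.Quotient.eq_zero_iff_mem.mpr (h7 α hα), map_zero]
    rw [h8, sub_zero] at hph
    exact hph

theorem Phibar_bijective (hq : CAlgX.IsQuasiRegular x) (hN : N ≠ 0)
    (s : (A ⧸ 𝔍) →ₐ[R] (A ⧸ 𝔍 ^ N)) (hs : ∀ b, piN R x N hN (s b) = b) :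
    Function.Bijective (Phibar R x N s) := by
  constructor
  · rw [injective_iff_map_eq_zero]
    intro t ht
    obtain ⟨p, rfl⟩ := Ideal.Quotient.mk_surjective t
    rw [Phibar_mk] at ht
    have hmem : Phi R x N s p ∈ F x N N := by rw [ht]; exact Ideal.zero_mem _
    exact Ideal.Quotient.eq_zero_iff_mem.mpr
      (mem_pow_of_Phi_mem R x N hq hN s hs N le_rfl p hmem)
  · intro y
    have hy : y ∈ F x N 0 := by
      unfold F
      rw [pow_zero, Ideal.one_eq_top, Ideal.map_top]; trivial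
    obtain ⟨p, hp⟩ := range_of_mem_F R x N hN s hs N 0 (by omega) y hy
    exact ⟨Ideal.Quotient.mk _ p, by rw [Phibar_mk, hp]⟩

theorem piN_Phi (hN : N ≠ 0) (s : (A ⧸ 𝔍) →ₐ[R] (A ⧸ 𝔍 ^ N))
    (hs : ∀ b, piN R x N hN (s b) = b) (p : MvPolynomial (Fin d) (A ⧸ 𝔍)) :
    piN R x N hN (Phi R x N s p) = MvPolynomial.constantCoeff p := by
  induction p using MvPolynomial.induction_on with
  | C b => rw [Phi_C, hs, constantCoeff_C]
  | add p q hp hq => rw [map_add, map_add, map_add, hp, hq]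
  | mul_X p i hp =>
    have hx0 : Ideal.Quotient.mk 𝔍 (x i) = 0 :=
      Ideal.Quotient.eq_zero_iff_mem.mpr (Ideal.subset_span ⟨i, rfl⟩)
    rw [map_mul, map_mul, map_mul, hp, Phi_X, piN_mk, constantCoeff_X, mul_zero, hx0, mul_zero]

theorem main18417 [Algebra.FormallySmooth R (A ⧸ 𝔍)] (hq : CAlgX.IsQuasiRegular x)
    (hN1 : 1 ≤ N) :
    ∃ e : (A ⧸ 𝔍 ^ N) ≃ₐ[R] (MvPolynomial (Fin d) (A ⧸ 𝔍) ⧸ 𝔪 ^ N),
      (∀ i : Fin d, e (Ideal.Quotient.mk _ (x i)) = Ideal.Quotient.mk _ (MvPolynomial.X i)) ∧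
      ∀ a : A, e (Ideal.Quotient.mk _ a) -
          Ideal.Quotient.mk _ (MvPolynomial.C (Ideal.Quotient.mk _ a)) ∈
        (𝔪).map (Ideal.Quotient.mk _) := by
  have hN : N ≠ 0 := by omega
  obtain ⟨s, hs⟩ : ∃ s : (A ⧸ 𝔍) →ₐ[R] (A ⧸ 𝔍 ^ N), ∀ b, piN R x N hN (s b) = b :=
    ⟨Algebra.FormallySmooth.liftOfSurjective (AlgHom.id R (A ⧸ 𝔍)) (piN R x N hN)
      (piN_surjective R x N hN) (piN_nil R x N hN),
      fun b => Algebra.FormallySmooth.liftOfSurjective_apply _ _ _ _ b⟩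
  obtain ⟨E, hE⟩ : ∃ E : (MvPolynomial (Fin d) (A ⧸ 𝔍) ⧸ 𝔪 ^ N) ≃ₐ[R] (A ⧸ 𝔍 ^ N),
      ∀ t, E t = Phibar R x N s t :=
    ⟨AlgEquiv.ofBijective (Phibar R x N s) (Phibar_bijective R x N hq hN s hs), fun _ => rfl⟩
  refine ⟨E.symm, fun i => ?_, fun a => ?_⟩
  · rw [AlgEquiv.symm_apply_eq, hE, Phibar_mk, Phi_X]
  · obtain ⟨p, hp⟩ := Ideal.Quotient.mk_surjective (E.symm (Ideal.Quotient.mk _ a))
    rw [← hp, ← map_sub]
    apply Ideal.mem_map_of_mem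
    have hΦ : Phi R x N s p = Ideal.Quotient.mk _ a := by
      rw [← Phibar_mk, ← hE, hp, AlgEquiv.apply_symm_apply]
    have hcc : MvPolynomial.constantCoeff p = Ideal.Quotient.mk 𝔍 a := by
      rw [← piN_Phi R x N hN s hs, hΦ, piN_mk]
    have hmem : p - C (Ideal.Quotient.mk 𝔍 a) ∈ 𝔪 ^ 1 := by
      rw [mem_pow_idealOfVars_iff']
      intro β hβ
      have hβ0 : β = 0 := by
        rw [← Finsupp.degree_eq_zero_iff]; omega
      rw [hβ0, coeff_sub, coeff_zero_C, ← hcc, MvPolynomial.constantCoeff_eq, sub_self]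
    rwa [pow_one] at hmem

end

end Groth.Agent.Helper7.FSmoothJet
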