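import Mathlib

/-!
# `N → N^` is universally injective when associated primes meet `V(IS)` (for S1199)
-/

open TensorProduct

namespace Groth.Agent.Helper7.UnivInjCompl

universe u

variable {R S : Type u} [CommRing R] [CommRing S] [Algebra R S]
variable {N : Type u} [AddCommGroup N] [Module S N] [Module R N] [IsScalarTower R S N]

theorem finite_tensor (Q : Type u) [AddCommGroup Q] [Module R Q] [Module.Finite S N]
    [Module.Finite R Q] : Module.Finite S (N ⊗[R] Q) := by
  obtain ⟨k, f, hf⟩ := Module.Finite.exists_fin' R Q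
  have e := TensorProduct.piScalarRight R S N (Fin k)
  haveI : Module.Finite S (N ⊗[R] (Fin k → R)) := Module.Finite.equiv e.symm
  refine Module.Finite.of_surjective (TensorProduct.AlgebraTensorModule.lTensor S N f) ?_
  change Function.Surjective (LinearMap.lTensor N f)
  exact LinearMap.lTensor_surjective N hf

theorem tmul_mem (I : Ideal R) (n : ℕ) (Q : Type u) [AddCommGroup Q] [Module R Q] (y : N)
    (hy : y ∈ (I ^ n • ⊤ : Submodule R N)) (q : Q) :
    y ⊗ₜ[R] q ∈ ((I.map (algebraMap R S)) ^ n • ⊤ : Submodule S (N ⊗[R] Q)) := by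
  refine Submodule.smul_induction_on
    (p := fun y => y ⊗ₜ[R] q ∈ ((I.map (algebraMap R S)) ^ n • ⊤ : Submodule S (N ⊗[R] Q)))
    hy ?_ ?_
  · intro a ha n' _
    have : (a • n') ⊗ₜ[R] q = (algebraMap R S a) • (n' ⊗ₜ[R] q) := by
      rw [algebraMap_smul, TensorProduct.smul_tmul']
    rw [this]
    refine Submodule.smul_mem_smul ?_ Submodule.mem_top
    rw [← Ideal.map_pow]
    exact Ideal.mem_map_of_mem _ ha
  · intro x y hx hy
    rw [TensorProduct.add_tmul]
    exact add_mem hx hy

theorem range_mem (I : Ideal R) (n : ℕ) (Q : Type u) [AddCommGroup Q] [Module R Q]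
    (ζ : Q ⊗[R] (I ^ n • ⊤ : Submodule R N)) :
    (TensorProduct.comm R Q N) ((I ^ n • ⊤ : Submodule R N).subtype.lTensor Q ζ) ∈
      ((I.map (algebraMap R S)) ^ n • ⊤ : Submodule S (N ⊗[R] Q)) := by
  induction ζ using TensorProduct.induction_on with
  | zero => simp
  | tmul q y =>
    rw [LinearMap.lTensor_tmul, TensorProduct.comm_tmul]
    exact tmul_mem I n Q y.1 y.2 q
  | add a b ha hb =>
    rw [map_add, map_add]
    exact add_mem ha hb

theorem finite_case [IsNoetherianRing S] [Module.Finite S N] (I : Ideal R)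
    (Q : Type u) [AddCommGroup Q] [Module R Q] [Module.Finite R Q]
    (h : ∀ q ∈ associatedPrimes S (N ⊗[R] Q), I.map (algebraMap R S) ⊔ q ≠ ⊤)
    (ξ : Q ⊗[R] N) (hξ : (AdicCompletion.of I N).lTensor Q ξ = 0) : ξ = 0 := by
  haveI : Module.Finite S (N ⊗[R] Q) := finite_tensor Q
  have hmem : ∀ n : ℕ, (TensorProduct.comm R Q N) ξ ∈
      ((I.map (algebraMap R S)) ^ n • ⊤ : Submodule S (N ⊗[R] Q)) := by
    intro n
    have h1 : ((I ^ n • ⊤ : Submodule R N).mkQ).lTensor Q ξ = 0 := by
      rw [← AdicCompletion.eval_comp_of I N n, LinearMap.lTensor_comp_apply, hξ, map_zero]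
    have hex := lTensor_exact Q (LinearMap.exact_subtype_mkQ (I ^ n • ⊤ : Submodule R N))
      (Submodule.mkQ_surjective _)
    obtain ⟨ζ, hζ⟩ := (hex ξ).mp h1
    rw [← hζ]
    exact range_mem I n Q ζ
  have hx : (TensorProduct.comm R Q N) ξ ∈
      (⨅ i : ℕ, (I.map (algebraMap R S)) ^ i • ⊤ : Submodule S (N ⊗[R] Q)) :=
    (Submodule.mem_iInf _).mpr hmem
  rw [Ideal.mem_iInf_smul_pow_eq_bot_iff] at hx
  obtain ⟨r, hr⟩ := hx
  by_contra hne
  have hx0 : (TensorProduct.comm R Q N) ξ ≠ 0 := by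
    intro h0
    apply hne
    exact (TensorProduct.comm R Q N).injective (by rw [h0, map_zero])
  obtain ⟨P, hP, hle⟩ := exists_le_isAssociatedPrime_of_isNoetherianRing S _ hx0
  have h1r : (1 - (r : S)) ∈ P := by
    apply hle
    rw [Submodule.mem_colon_singleton, Submodule.mem_bot, sub_smul, one_smul, hr, sub_self]
  apply h P hP
  rw [Ideal.eq_top_iff_one]
  have h2 : (1 : S) = (r : S) + (1 - (r : S)) := by ring
  rw [h2]
  exact Submodule.add_mem_sup r.2 h1r

theorem main [IsNoetherianRing S] (I : Ideal R) [Module.Finite S N]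
    (h : ∀ (Q : Type u) [AddCommGroup Q] [Module R Q], Module.Finite R Q →
      ∀ q ∈ associatedPrimes S (N ⊗[R] Q), I.map (algebraMap R S) ⊔ q ≠ ⊤)
    (Q : Type u) [AddCommGroup Q] [Module R Q] :
    Function.Injective ((AdicCompletion.of I N).lTensor Q) := by
  rw [injective_iff_map_eq_zero]
  intro ξ hξ
  obtain ⟨P, hP, ξ₀, rfl⟩ := TensorProduct.exists_of_fg ξ
  have comm1 : ∀ {A B : Type u} [AddCommGroup A] [Module R A] [AddCommGroup B] [Module R B]
      (j : A →ₗ[R] B) (x : A ⊗[R] N),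
      (AdicCompletion.of I N).lTensor B (j.rTensor N x) =
        j.rTensor (AdicCompletion I N) ((AdicCompletion.of I N).lTensor A x) := by
    intro A B _ _ _ _ j x
    rw [← LinearMap.comp_apply, ← LinearMap.comp_apply, LinearMap.lTensor_comp_rTensor,
      LinearMap.rTensor_comp_lTensor]
  rw [comm1] at hξ
  obtain ⟨P', hPP', hP', h0⟩ := TensorProduct.eq_zero_of_fg_of_subtype_eq_zero hP hξ
  rw [← comm1] at h0
  haveI : Module.Finite R P' := Module.Finite.iff_fg.mpr hP'
  have h1 := finite_case I P' (h P' inferInstance) _ h0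
  rw [← Submodule.subtype_comp_inclusion P P' hPP', LinearMap.rTensor_comp_apply, h1, map_zero]

end Groth.Agent.Helper7.UnivInjCompl
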