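import Mathlib
import Groth.Prelude.Def_FlatCA
import Groth.Agent.Lib.Helper7.AssFlat
import Groth.Agent.Lib.Helper7.UnivInjCompl

/-!
# Associated primes of fibre modules (for S1200)
-/

open TensorProduct

namespace Groth.Agent.Helper7.FibAss

universe u

attribute [local instance] Algebra.TensorProduct.rightAlgebra

section

variable {R S : Type u} [CommRing R] [CommRing S] [Algebra R S]
variable {N : Type u} [AddCommGroup N] [Module S N] [Module R N] [IsScalarTower R S N]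
variable (p : Ideal R) [p.IsPrime]

theorem isUnit_algebraMap_fiber {r : R} (hr : r ∉ p) : IsUnit (algebraMap R (p.Fiber S) r) := by
  rw [IsScalarTower.algebraMap_apply R p.ResidueField (p.Fiber S)]
  apply IsUnit.map
  rw [isUnit_iff_ne_zero, Ne, Ideal.algebraMap_residueField_eq_zero]
  exact hr

theorem fiberIdeal_eq (q : Ideal S) [hq : q.IsPrime] [hlo : q.LiesOver p] :
    ∃ Q' : Ideal (p.Fiber S), Q'.IsPrime ∧ FlatCA.fiberIdeal p q = Q' ∧
      ∀ s : S, ((1 : p.ResidueField) ⊗ₜ[R] s : p.Fiber S) ∈ Q' ↔ s ∈ q := by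
  obtain ⟨Q₀, hQ₀⟩ : ∃ Q₀ : PrimeSpectrum (p.Fiber S),
      Q₀ = PrimeSpectrum.primesOverOrderIsoFiber R S p ⟨q, hq, hlo⟩ := ⟨_, rfl⟩
  have hcomap : q = Ideal.comap Algebra.TensorProduct.includeRight Q₀.asIdeal := by
    have h1 := PrimeSpectrum.coe_primesOverOrderIsoFiber_symm_apply p Q₀
    rw [hQ₀, OrderIso.symm_apply_apply] at h1
    rw [hQ₀]
    exact h1
  have hmem : ∀ s : S, ((1 : p.ResidueField) ⊗ₜ[R] s : p.Fiber S) ∈ Q₀.asIdeal ↔ s ∈ q := by
    intro s
    conv_rhs => rw [hcomap]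
    rw [Ideal.mem_comap, Algebra.TensorProduct.includeRight_apply]
  refine ⟨Q₀.asIdeal, Q₀.isPrime, ?_, hmem⟩
  apply le_antisymm
  · unfold FlatCA.fiberIdeal
    rw [Ideal.map_le_iff_le_comap]
    intro s hs
    rw [Ideal.mem_comap]
    exact (hmem s).mpr hs
  · intro x hx
    obtain ⟨r, hr, s, e⟩ := Ideal.Fiber.exists_smul_eq_one_tmul p x
    have h1 : ((1 : p.ResidueField) ⊗ₜ[R] s : p.Fiber S) ∈ Q₀.asIdeal := by
      rw [← e, Algebra.smul_def]
      exact Ideal.mul_mem_left _ _ hx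
    have hs : s ∈ q := (hmem s).mp h1
    obtain ⟨u, hu⟩ := (isUnit_algebraMap_fiber (S := S) p hr).exists_left_inv
    have hx' : x = u * ((1 : p.ResidueField) ⊗ₜ[R] s) := by
      rw [← e, Algebra.smul_def, ← mul_assoc, hu, one_mul]
    rw [hx']
    apply Ideal.mul_mem_left
    unfold FlatCA.fiberIdeal
    exact Ideal.mem_map_of_mem _ hs

theorem fiberIdeal_eq_colon (q : Ideal S) [q.IsPrime] [q.LiesOver p]
    (y : (p.Fiber S) ⊗[S] N) (hy : ∀ s : S, s • y = 0 ↔ s ∈ q) :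
    FlatCA.fiberIdeal p q = (⊥ : Submodule (p.Fiber S) ((p.Fiber S) ⊗[S] N)).colon {y} := by
  obtain ⟨Q', hQ'p, hQ'e, hQ'm⟩ := fiberIdeal_eq (S := S) p q
  rw [hQ'e]
  ext φ
  rw [Submodule.mem_colon_singleton, Submodule.mem_bot]
  obtain ⟨r, hr, s, e⟩ := Ideal.Fiber.exists_smul_eq_one_tmul p φ
  obtain ⟨u, hu⟩ := (isUnit_algebraMap_fiber (S := S) p hr).exists_left_inv
  have hφ : φ = u * ((1 : p.ResidueField) ⊗ₜ[R] s) := by
    rw [← e, Algebra.smul_def, ← mul_assoc, hu, one_mul]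
  have h1s : ((1 : p.ResidueField) ⊗ₜ[R] s : p.Fiber S) = algebraMap R (p.Fiber S) r * φ := by
    rw [← e, Algebra.smul_def]
  have hsy : ((1 : p.ResidueField) ⊗ₜ[R] s : p.Fiber S) • y = s • y :=
    algebraMap_smul (p.Fiber S) s y
  constructor
  · intro hφQ
    have hsq : s ∈ q := (hQ'm s).mp (by rw [h1s]; exact Ideal.mul_mem_left _ _ hφQ)
    rw [hφ, mul_smul, hsy, (hy s).mpr hsq, smul_zero]
  · intro hφy
    have hsq : s ∈ q := by
      rw [← hy s, ← hsy, h1s, mul_smul, hφy, smul_zero]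
    rw [hφ]
    exact Ideal.mul_mem_left _ _ ((hQ'm s).mpr hsq)

/-- The detecting map `κ(p) ⊗ S ⊗_S N → N ⊗_R κ(p)`. -/
noncomputable def Phi : (p.Fiber S) ⊗[S] N →ₗ[S] N ⊗[R] p.ResidueField :=
  (TensorProduct.AlgebraTensorModule.cancelBaseChange R S S N p.ResidueField).toLinearMap ∘ₗ
    (LinearMap.lTensor N
      (Algebra.TensorProduct.commRight R S p.ResidueField).symm.toLinearEquiv.toLinearMap) ∘ₗ
      (TensorProduct.comm S (p.Fiber S) N).toLinearMap

theorem Phi_one_tmul (n : N) :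
    Phi (S := S) (N := N) p ((1 : p.Fiber S) ⊗ₜ[S] n) = n ⊗ₜ[R] (1 : p.ResidueField) := by
  simp [Phi, Algebra.TensorProduct.one_def]

theorem one_tmul_eq_zero (z : N) (hz : z ∈ (p.map (algebraMap R S) • (⊤ : Submodule S N))) :
    (1 : p.Fiber S) ⊗ₜ[S] z = 0 := by
  have hker : p.map (algebraMap R S) ≤ RingHom.ker (algebraMap S (p.Fiber S)) := by
    rw [Ideal.map_le_iff_le_comap]
    intro r hr
    rw [Ideal.mem_comap, RingHom.mem_ker, ← IsScalarTower.algebraMap_apply R S (p.Fiber S),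
      IsScalarTower.algebraMap_apply R p.ResidueField (p.Fiber S),
      Ideal.algebraMap_residueField_eq_zero.mpr hr, map_zero]
  refine Submodule.smul_induction_on (p := fun z => (1 : p.Fiber S) ⊗ₜ[S] z = 0) hz ?_ ?_
  · intro a ha n _
    rw [← TensorProduct.smul_tmul, Algebra.smul_def, mul_one, RingHom.mem_ker.mp (hker ha),
      TensorProduct.zero_tmul]
  · intro x y hx hy
    rw [TensorProduct.tmul_add, hx, hy, add_zero]

theorem fiberIdeal_mem_ass [IsNoetherianRing S] [Module.Flat R N] (q : Ideal S) [hq : q.IsPrime]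
    [q.LiesOver p]
    (hqa : q ∈ associatedPrimes S (N ⧸ (p.map (algebraMap R S) • (⊤ : Submodule S N)))) :
    FlatCA.fiberIdeal p q ∈ associatedPrimes (p.Fiber S) (FlatCA.fiberMod p S N) := by
  obtain ⟨-, xbar, hx⟩ := (isAssociatedPrime_iff).mp hqa
  obtain ⟨x, rfl⟩ := Submodule.Quotient.mk_surjective _ xbar
  let f : R ⧸ p →ₗ[R] p.ResidueField :=
    (IsScalarTower.toAlgHom R (R ⧸ p) p.ResidueField).toLinearMap
  have hf : Function.Injective f :=
    fun a b hab => IsFractionRing.injective (R ⧸ p) p.ResidueField hab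
  obtain ⟨ψ, hψi, -, hψf⟩ := AssFlat.exists_quot_inj' (S := S) (N := N) p f hf
  have hf1 : f 1 = 1 := map_one (IsScalarTower.toAlgHom R (R ⧸ p) p.ResidueField)
  have hy : ∀ s : S, s • ((1 : p.Fiber S) ⊗ₜ[S] x) = 0 ↔ s ∈ q := by
    intro s
    have hsy : s • ((1 : p.Fiber S) ⊗ₜ[S] x) = (1 : p.Fiber S) ⊗ₜ[S] (s • x) := by
      rw [TensorProduct.tmul_smul]
    rw [hsy]
    constructor
    · intro h0
      have h1 := congrArg (Phi (S := S) (N := N) p) h0
      rw [Phi_one_tmul, map_zero, ← hf1, ← hψf] at h1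
      have h2 : (Submodule.Quotient.mk (s • x) :
          N ⧸ (p.map (algebraMap R S) • (⊤ : Submodule S N))) = 0 :=
        hψi (by rw [h1, map_zero])
      rw [hx, Submodule.mem_colon_singleton, Submodule.mem_bot, ← Submodule.Quotient.mk_smul]
      exact h2
    · intro hs
      rw [hx, Submodule.mem_colon_singleton, Submodule.mem_bot, ← Submodule.Quotient.mk_smul,
        Submodule.Quotient.mk_eq_zero] at hs
      exact one_tmul_eq_zero p _ hs
  have hcolon := fiberIdeal_eq_colon (N := N) p q _ hy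
  obtain ⟨Q', hQ'p, hQ'e, -⟩ := fiberIdeal_eq (S := S) p q
  have hprime : (FlatCA.fiberIdeal p q).IsPrime := hQ'e ▸ hQ'p
  refine ⟨hprime, ((1 : p.Fiber S) ⊗ₜ[S] x : (p.Fiber S) ⊗[S] N), ?_⟩
  show FlatCA.fiberIdeal p q =
    ((⊥ : Submodule (p.Fiber S) ((p.Fiber S) ⊗[S] N)).colon {(1 : p.Fiber S) ⊗ₜ[S] x}).radical
  rw [← hcolon, hprime.radical]

end

section

variable {R S : Type u} [CommRing R] [CommRing S] [Algebra R S]
variable {N : Type u} [AddCommGroup N] [Module S N] [Module R N] [IsScalarTower R S N]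

theorem main1200 [IsNoetherianRing R] [IsNoetherianRing S] (I : Ideal R) [Module.Finite S N]
    [Module.Flat R N]
    (h : ∀ (p : Ideal R) (q : Ideal S) [p.IsPrime] [q.IsPrime] [q.LiesOver p],
      FlatCA.fiberIdeal p q ∈ associatedPrimes (p.Fiber S) (FlatCA.fiberMod p S N) →
        I.map (algebraMap R S) ⊔ q ≠ ⊤) :
    FlatCA.UnivInj R (AdicCompletion.of I N) := by
  intro Q _ _
  refine UnivInjCompl.main (S := S) I ?_ Q
  intro Q' _ _ hfin q hq
  haveI := hfin
  obtain ⟨p, hp, hqp⟩ := AssFlat.fg_case Q' hq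
  haveI hpp : p.IsPrime := hp.1
  haveI hqq : q.IsPrime := hq.1
  have hco := AssFlat.comap_of_quot hpp hqp
  haveI : q.LiesOver p := ⟨hco.symm⟩
  exact h p q (fiberIdeal_mem_ass p q hqp)

end

end Groth.Agent.Helper7.FibAss
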