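import Mathlib
import Groth.Prelude.Def_FlatCA

set_option autoImplicit false
set_option linter.style.haveILetI false
open TensorProduct

namespace Groth.Agent.Helper7.FlatACP
universe u

section Char
variable {R : Type u} [CommRing R] {D : Type u} [CommRing D] [Algebra R D]

theorem lTensor_smul_left {Y : Type u} [AddCommGroup Y] [Module D Y] [Module R Y] [IsScalarTower R D Y]
    {P Q : Type u} [AddCommGroup P] [Module R P] [AddCommGroup Q] [Module R Q] (f : P →ₗ[R] Q)
    (t : D) (z : Y ⊗[R] P) :
    LinearMap.lTensor Y f (t • z) = t • LinearMap.lTensor Y f z := by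
  induction z using TensorProduct.induction_on with
  | zero => simp
  | tmul y p => simp [TensorProduct.smul_tmul']
  | add a b ha hb => simp only [smul_add, map_add, ha, hb]

theorem flat_localized_iff (T : Submonoid D) (X : Type u) [AddCommGroup X] [Module D X] [Module R X]
    [IsScalarTower R D X] :
    Module.Flat R (LocalizedModule T X) ↔
      ∀ (I : Ideal R) (k : X ⊗[R] I), LinearMap.lTensor X I.subtype k = 0 → ∃ t ∈ T, t • k = 0 := by
  obtain ⟨g, hg⟩ : ∃ g, g = LocalizedModule.mkLinearMap T X := ⟨_, rfl⟩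
  haveI : IsLocalizedModule T g := hg ▸ inferInstance
  have hsq : ∀ (I : Ideal R) (k : X ⊗[R] I),
      LinearMap.lTensor (LocalizedModule T X) I.subtype (AlgebraTensorModule.rTensor R I g k) =
        AlgebraTensorModule.rTensor R R g (LinearMap.lTensor X I.subtype k) := by
    intro I k
    induction k using TensorProduct.induction_on with
    | zero => simp
    | tmul x i => simp
    | add a b ha hb => simp only [map_add, ha, hb]
  rw [Module.Flat.iff_lTensor_injective']
  refine forall_congr' fun I => ?_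
  constructor
  · intro hinj k hk
    have h0 : AlgebraTensorModule.rTensor R I g k = 0 := by
      apply hinj
      rw [hsq, hk, map_zero, map_zero]
    obtain ⟨s, hs⟩ := (IsLocalizedModule.eq_zero_iff T (AlgebraTensorModule.rTensor R I g)).mp h0
    exact ⟨s.1, s.2, hs⟩
  · intro H
    rw [injective_iff_map_eq_zero]
    intro z hz
    obtain ⟨⟨k, t⟩, hkt⟩ := IsLocalizedModule.surj T (AlgebraTensorModule.rTensor R I g) z
    have hkt' : (t : D) • z = AlgebraTensorModule.rTensor R I g k := hkt
    have h1 : AlgebraTensorModule.rTensor R R g (LinearMap.lTensor X I.subtype k) = 0 := by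
      rw [← hsq, ← hkt', lTensor_smul_left, hz, smul_zero]
    obtain ⟨s, hs⟩ := (IsLocalizedModule.eq_zero_iff T (AlgebraTensorModule.rTensor R R g)).mp h1
    have h2 : LinearMap.lTensor X I.subtype ((s : D) • k) = 0 := by
      rw [lTensor_smul_left]; exact hs
    obtain ⟨t', ht', ht'k⟩ := H _ h2
    have h3 : AlgebraTensorModule.rTensor R I g k = 0 := by
      refine (IsLocalizedModule.eq_zero_iff T (AlgebraTensorModule.rTensor R I g)).mpr
        ⟨⟨t', ht'⟩ * s, ?_⟩
      show (t' * (s : D)) • k = 0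
      rw [mul_smul]; exact ht'k
    rw [h3] at hkt'
    have hu := IsLocalizedModule.map_units (AlgebraTensorModule.rTensor R I g) t
    have hinj := ((Module.End.isUnit_iff _).mp hu).injective
    apply hinj
    rw [Module.algebraMap_end_apply, Module.algebraMap_end_apply, smul_zero]
    exact hkt'

theorem flat_localized_ker (T : Submonoid D) (X : Type u) [AddCommGroup X] [Module D X] [Module R X]
    [IsScalarTower R D X] [Module.Flat R (LocalizedModule T X)]
    {P Q : Type u} [AddCommGroup P] [Module R P] [AddCommGroup Q] [Module R Q] (j : P →ₗ[R] Q)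
    (hj : Function.Injective j) (k : X ⊗[R] P) (hk : LinearMap.lTensor X j k = 0) :
    ∃ t ∈ T, t • k = 0 := by
  obtain ⟨g, hg⟩ : ∃ g, g = LocalizedModule.mkLinearMap T X := ⟨_, rfl⟩
  haveI : IsLocalizedModule T g := hg ▸ inferInstance
  have hsq : ∀ (k : X ⊗[R] P),
      LinearMap.lTensor (LocalizedModule T X) j (AlgebraTensorModule.rTensor R P g k) =
        AlgebraTensorModule.rTensor R Q g (LinearMap.lTensor X j k) := by
    intro k
    induction k using TensorProduct.induction_on with
    | zero => simp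
    | tmul x i => simp
    | add a b ha hb => simp only [map_add, ha, hb]
  have hinj := Module.Flat.lTensor_preserves_injective_linearMap (M := LocalizedModule T X) j hj
  have h0 : AlgebraTensorModule.rTensor R P g k = 0 := by
    apply hinj
    rw [hsq, hk, map_zero, map_zero]
  obtain ⟨s, hs⟩ := (IsLocalizedModule.eq_zero_iff T (AlgebraTensorModule.rTensor R P g)).mp h0
  exact ⟨s.1, s.2, hs⟩

end Char

section Transfer
variable {A' B' C' : Type u} [CommRing A'] [CommRing B'] [CommRing C'] [Algebra A' B'] [Algebra A' C']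
  [Algebra B' C']
  {M' N' : Type u} [AddCommGroup M'] [Module B' M'] [Module A' M'] [IsScalarTower A' B' M']
  [AddCommGroup N'] [Module C' N'] [Module A' N'] [IsScalarTower A' C' N']
  (e : M' ≃ₗ[A'] N') (he : ∀ (b : B') (x : M'), e (b • x) = algebraMap B' C' b • e x)

include he in
theorem congr_smul (I : Ideal A') (b : B') (k : M' ⊗[A'] I) :
    TensorProduct.congr e (LinearEquiv.refl A' I) (b • k) =
      algebraMap B' C' b • TensorProduct.congr e (LinearEquiv.refl A' I) k := by
  induction k using TensorProduct.induction_on with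
  | zero => simp
  | tmul x i => simp [TensorProduct.smul_tmul', he]
  | add y z hy hz => simp only [smul_add, map_add, hy, hz]

theorem congr_lTensor (I : Ideal A') (k : M' ⊗[A'] I) :
    LinearMap.lTensor N' I.subtype (TensorProduct.congr e (LinearEquiv.refl A' I) k) =
      TensorProduct.congr e (LinearEquiv.refl A' A') (LinearMap.lTensor M' I.subtype k) := by
  induction k using TensorProduct.induction_on with
  | zero => simp
  | tmul x i => simp
  | add y z hy hz => simp only [map_add, hy, hz]

include he in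
theorem flat_down (q : Ideal B') [q.IsPrime] (r : Ideal C') [r.IsPrime]
    (hrq : r.comap (algebraMap B' C') ≤ q)
    (h : Module.Flat A' (LocalizedModule q.primeCompl M')) :
    Module.Flat A' (LocalizedModule r.primeCompl N') := by
  rw [flat_localized_iff] at h ⊢
  intro I k' hk'
  obtain ⟨k, rfl⟩ := (TensorProduct.congr e (LinearEquiv.refl A' I)).surjective k'
  have hk : LinearMap.lTensor M' I.subtype k = 0 := by
    apply (TensorProduct.congr e (LinearEquiv.refl A' A')).injective
    rw [← congr_lTensor, hk', map_zero]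
  obtain ⟨s, hs, hsk⟩ := h I k hk
  refine ⟨algebraMap B' C' s, fun hmem => hs (hrq hmem), ?_⟩
  rw [← congr_smul e he, hsk, map_zero]

include he in
theorem flat_up [Algebra.IsIntegral B' C'] (q : Ideal B') [q.IsPrime]
    (h : ∀ (r : Ideal C') [r.IsPrime], r.comap (algebraMap B' C') = q →
      Module.Flat A' (LocalizedModule r.primeCompl N')) :
    Module.Flat A' (LocalizedModule q.primeCompl M') := by
  rw [flat_localized_iff]
  intro I k hk
  by_contra hcon
  push_neg at hcon
  obtain ⟨k', hk'def⟩ : ∃ k', k' = TensorProduct.congr e (LinearEquiv.refl A' I) k := ⟨_, rfl⟩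
  have hk' : LinearMap.lTensor N' I.subtype k' = 0 := by
    rw [hk'def, congr_lTensor, hk, map_zero]
  obtain ⟨𝔞, h𝔞def⟩ : ∃ 𝔞 : Ideal C', 𝔞 = LinearMap.ker (LinearMap.toSpanSingleton C' (N' ⊗[A'] I) k') :=
    ⟨_, rfl⟩
  have h𝔞 : ∀ c, c ∈ 𝔞 ↔ c • k' = 0 := fun c => by
    rw [h𝔞def, LinearMap.mem_ker, LinearMap.toSpanSingleton_apply]
  have hle : 𝔞.comap (algebraMap B' C') ≤ q := by
    intro s hs
    by_contra hsq
    refine hcon s hsq ?_
    have h1 : algebraMap B' C' s • k' = 0 := (h𝔞 _).mp hs
    rw [hk'def, ← congr_smul e he] at h1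
    exact (TensorProduct.congr e (LinearEquiv.refl A' I)).injective (by rw [h1, map_zero])
  obtain ⟨Q, hQ𝔞, hQp, hQq⟩ := Ideal.exists_ideal_over_prime_of_isIntegral q 𝔞 hle
  haveI := hQp
  have hflat := h Q hQq
  rw [flat_localized_iff] at hflat
  obtain ⟨t, ht, htk⟩ := hflat I k' hk'
  exact ht (hQ𝔞 ((h𝔞 t).mpr htk))

end Transfer

section Main1278

theorem main1278 {A B C : Type u} [CommRing A] [IsLocalRing A] [CommRing B] [IsLocalRing B] [CommRing C] [IsLocalRing C]
    [Algebra A B] [IsLocalHom (algebraMap A B)] [Algebra B C] [IsLocalHom (algebraMap B C)] [Algebra A C] [IsScalarTower A B C] [Module.Finite B C]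
    (N : Type u) [AddCommGroup N] [Module C N] [Module B N] [IsScalarTower B C N]
    (A' : Type u) [CommRing A'] [IsLocalRing A'] [Algebra A A'] [IsLocalHom (algebraMap A A')]
    (B' M' : Type u) [CommRing B'] [Algebra B B'] [Algebra A' B'] [Algebra A B'] [IsScalarTower A B B'] [IsScalarTower A A' B']
        [Algebra.IsPushout A B A' B']
        [AddCommGroup M'] [Module B' M'] [Module B M'] [IsScalarTower B B' M'] [Module A' M'] [IsScalarTower A' B' M']
        (fB : N →ₗ[B] M') (hfB : IsBaseChange B' fB)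
    (C' N' : Type u) [CommRing C'] [Algebra C C'] [Algebra A' C'] [Algebra A C'] [IsScalarTower A C C'] [IsScalarTower A A' C']
        [Algebra.IsPushout A C A' C']
        [AddCommGroup N'] [Module C' N'] [Module C N'] [IsScalarTower C C' N'] [Module A' N'] [IsScalarTower A' C' N']
        (fC : N →ₗ[C] N') (hfC : IsBaseChange C' fC) :
    FlatCA.FlatAboveClosedPoints B A' B' M' ↔ FlatCA.FlatAboveClosedPoints C A' C' N' := by
  classical
  letI : Module A N := Module.compHom N (algebraMap A B)
  haveI : IsScalarTower A B N := ⟨fun a b n => by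
    show (a • b) • n = (algebraMap A B a) • (b • n)
    rw [Algebra.smul_def, mul_smul]⟩
  haveI : IsScalarTower A C N := ⟨fun a c n => by
    show (a • c) • n = (algebraMap A B a) • (c • n)
    rw [Algebra.smul_def, mul_smul, IsScalarTower.algebraMap_apply A B C, algebraMap_smul]⟩
  haveI hPB : Algebra.IsPushout A A' B B' := Algebra.IsPushout.symm inferInstance
  haveI hPC : Algebra.IsPushout A A' C C' := Algebra.IsPushout.symm inferInstance
  let φ : B' →ₐ[A] C' := Algebra.pushoutDesc B'
    ((IsScalarTower.toAlgHom A C C').comp (IsScalarTower.toAlgHom A B C))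
    (IsScalarTower.toAlgHom A A' C') (fun x y => mul_comm _ _)
  have hφB : ∀ b, φ (algebraMap B B' b) = algebraMap C C' (algebraMap B C b) := fun b => by
    simp [φ, Algebra.pushoutDesc_left]
  have hφA : ∀ a', φ (algebraMap A' B' a') = algebraMap A' C' a' := fun a' => by
    simp [φ, Algebra.pushoutDesc_right]
  letI algB'C' : Algebra B' C' := φ.toRingHom.toAlgebra
  have hφ : ∀ b', algebraMap B' C' b' = φ b' := fun _ => rfl
  -- the comparison isomorphism
  let e1 : M' ≃ₗ[A'] B' ⊗[B] N := (hfB.equiv.symm).restrictScalars A'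
  let e2 : B' ⊗[B] N ≃ₗ[A'] A' ⊗[A] N := Algebra.IsPushout.cancelBaseChange A A' B B' N
  let e3 : C' ⊗[C] N ≃ₗ[A'] A' ⊗[A] N := Algebra.IsPushout.cancelBaseChange A A' C C' N
  let e4 : C' ⊗[C] N ≃ₗ[A'] N' := hfC.equiv.restrictScalars A'
  let e : M' ≃ₗ[A'] N' := e1 ≪≫ₗ e2 ≪≫ₗ e3.symm ≪≫ₗ e4
  have he_fB : ∀ n, e (fB n) = fC n := by
    intro n
    show e4 (e3.symm (e2 (e1 (fB n)))) = fC n
    have h1 : e1 (fB n) = (1 : B') ⊗ₜ[B] n := hfB.equiv_symm_apply n
    have h2 : e2 ((1 : B') ⊗ₜ[B] n) = (1 : A') ⊗ₜ[A] n :=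
      Algebra.IsPushout.cancelBaseChange_tmul A A' B B' N n
    have h3 : e3.symm ((1 : A') ⊗ₜ[A] n) = (1 : C') ⊗ₜ[C] n := by
      have := Algebra.IsPushout.cancelBaseChange_symm_tmul A A' C C' N 1 n
      rw [map_one] at this
      exact this
    have h4 : e4 ((1 : C') ⊗ₜ[C] n) = fC n := by
      have := hfC.equiv_tmul 1 n
      rw [one_smul] at this
      exact this
    rw [h1, h2, h3, h4]
  have he_tower : ∀ (b' : B') (n : N), e (b' • fB n) = φ b' • fC n := by
    intro b'
    refine (Algebra.IsPushout.out (R := A) (S := B) (R' := A') (S' := B')).inductionOn b'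
      (fun b' => ∀ n, e (b' • fB n) = φ b' • fC n) ?_ ?_ ?_ ?_
    · intro n; simp
    · intro a' n
      show e (algebraMap A' B' a' • fB n) = φ (algebraMap A' B' a') • fC n
      rw [hφA, algebraMap_smul, algebraMap_smul, map_smul, he_fB]
    · intro b b'' ih n
      have h1 : (b • b'') • fB n = b'' • fB (b • n) := by
        rw [map_smul, smul_assoc, smul_comm]
      have h2 : fC (b • n) = algebraMap C C' (algebraMap B C b) • fC n := by
        rw [algebraMap_smul, ← algebraMap_smul C b n, map_smul]
      rw [h1, ih, h2, Algebra.smul_def, map_mul, hφB, mul_smul, smul_comm]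
    · intro x y hx hy n; rw [add_smul, map_add, hx, hy, map_add, add_smul]
  have he_semi : ∀ (b' : B') (x : M'), e (b' • x) = algebraMap B' C' b' • e x := by
    intro b' x
    refine hfB.inductionOn x (fun x => ∀ b' : B', e (b' • x) = φ b' • e x) ?_ ?_ ?_ ?_ b'
    · intro b'; simp
    · intro n b'; rw [he_tower, he_fB]
    · intro s x ih b'; rw [← mul_smul, ih, ih, map_mul, mul_smul]
    · intro x y hx hy b'; rw [smul_add, map_add, hx, hy, map_add, smul_add]
  haveI hint : Algebra.IsIntegral B' C' := by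
    constructor
    intro c'
    refine (Algebra.IsPushout.out (R := A) (S := C) (R' := A') (S' := C')).inductionOn c'
      (fun c' => IsIntegral B' c') ?_ ?_ ?_ ?_
    · exact isIntegral_zero
    · intro a'
      show IsIntegral B' (algebraMap A' C' a')
      rw [← hφA, ← hφ]; exact isIntegral_algebraMap
    · intro c c'' ih
      rw [Algebra.smul_def]
      refine IsIntegral.mul ?_ ih
      exact IsIntegral.map_of_comp_eq (algebraMap B B') (algebraMap C C')
        (RingHom.ext fun b => hφB b) (Algebra.IsIntegral.isIntegral c)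
    · intro x y hx hy; exact hx.add hy
  have hI_le : ∀ (r : Ideal C') [r.IsPrime],
      (IsLocalRing.maximalIdeal A').map (algebraMap A' C') ⊔
        (IsLocalRing.maximalIdeal C).map (algebraMap C C') ≤ r →
      (IsLocalRing.maximalIdeal A').map (algebraMap A' B') ⊔
        (IsLocalRing.maximalIdeal B).map (algebraMap B B') ≤ r.comap (algebraMap B' C') := by
    intro r _ hr
    refine sup_le ?_ ?_
    · rw [Ideal.map_le_iff_le_comap]
      intro a' ha'
      show algebraMap B' C' (algebraMap A' B' a') ∈ r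
      rw [hφ, hφA]
      exact hr (Ideal.mem_sup_left (Ideal.mem_map_of_mem _ ha'))
    · rw [Ideal.map_le_iff_le_comap]
      intro b hb
      show algebraMap B' C' (algebraMap B B' b) ∈ r
      rw [hφ, hφB]
      refine hr (Ideal.mem_sup_right (Ideal.mem_map_of_mem _ ?_))
      rw [IsLocalRing.mem_maximalIdeal] at hb ⊢
      exact (map_mem_nonunits_iff (algebraMap B C) b).mpr hb
  have hI_ge : ∀ (r : Ideal C') [r.IsPrime],
      (IsLocalRing.maximalIdeal A').map (algebraMap A' B') ⊔
        (IsLocalRing.maximalIdeal B).map (algebraMap B B') ≤ r.comap (algebraMap B' C') →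
      (IsLocalRing.maximalIdeal A').map (algebraMap A' C') ⊔
        (IsLocalRing.maximalIdeal C).map (algebraMap C C') ≤ r := by
    intro r _ hr
    refine sup_le ?_ ?_
    · rw [Ideal.map_le_iff_le_comap]
      intro a' ha'
      show algebraMap A' C' a' ∈ r
      rw [← hφA]
      exact hr (Ideal.mem_sup_left (Ideal.mem_map_of_mem _ ha'))
    · rw [Ideal.map_le_iff_le_comap]
      obtain ⟨P, hP⟩ : ∃ P, P = r.comap (algebraMap C C') := ⟨_, rfl⟩
      haveI : P.IsPrime := hP ▸ Ideal.comap_isPrime _ _
      have hmB : IsLocalRing.maximalIdeal B ≤ P.comap (algebraMap B C) := by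
        intro b hb
        rw [hP]
        show algebraMap C C' (algebraMap B C b) ∈ r
        rw [← hφB]
        exact hr (Ideal.mem_sup_right (Ideal.mem_map_of_mem _ hb))
      have hmax : (P.comap (algebraMap B C)).IsMaximal := by
        have hne : P.comap (algebraMap B C) ≠ ⊤ := (Ideal.comap_isPrime (algebraMap B C) P).ne_top
        rw [← (IsLocalRing.maximalIdeal.isMaximal B).eq_of_le hne hmB]
        exact IsLocalRing.maximalIdeal.isMaximal B
      have hPeq : P = IsLocalRing.maximalIdeal C :=
        IsLocalRing.eq_maximalIdeal (Ideal.isMaximal_of_isIntegral_of_isMaximal_comap (R := B) P hmax)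
      rw [← hPeq, hP]
  unfold FlatCA.FlatAboveClosedPoints FlatCA.FlatAt
  constructor
  · intro h r hr hIr
    haveI := hr
    exact flat_down e he_semi (r.comap (algebraMap B' C')) r le_rfl (h _ (hI_le r hIr))
  · intro h q hq hIq
    haveI := hq
    refine flat_up e he_semi q ?_
    intro r hr hrq
    exact h r (hI_ge r (hrq ▸ hIq))

end Main1278

section FlatBC
variable {A' B' C' : Type u} [CommRing A'] [CommRing B'] [CommRing C'] [Algebra A' B'] [Algebra A' C']
  [Algebra B' C'] [IsScalarTower A' B' C']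
  {M' N' : Type u} [AddCommGroup M'] [Module B' M'] [Module A' M'] [IsScalarTower A' B' M']
  [AddCommGroup N'] [Module C' N'] [Module B' N'] [Module A' N'] [IsScalarTower B' C' N']
  [IsScalarTower A' C' N']

/-- The comparison isomorphism `C' ⊗ (M' ⊗ Q) ≃ N' ⊗ Q`. -/
noncomputable def Θ {ψ : M' →ₗ[B'] N'} (hψ : IsBaseChange C' ψ) (Q : Type u) [AddCommGroup Q] [Module A' Q] :
    C' ⊗[B'] (M' ⊗[A'] Q) ≃ₗ[C'] N' ⊗[A'] Q :=
  (AlgebraTensorModule.assoc A' B' C' C' M' Q).symm ≪≫ₗ
    AlgebraTensorModule.congr hψ.equiv (LinearEquiv.refl A' Q)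

theorem Θ_tmul {ψ : M' →ₗ[B'] N'} (hψ : IsBaseChange C' ψ) (Q : Type u) [AddCommGroup Q] [Module A' Q]
    (c : C') (x : M') (i : Q) :
    Θ hψ Q (c ⊗ₜ[B'] (x ⊗ₜ[A'] i)) = (c • ψ x) ⊗ₜ[A'] i := by
  show AlgebraTensorModule.congr hψ.equiv (LinearEquiv.refl A' Q)
    ((AlgebraTensorModule.assoc A' B' C' C' M' Q).symm (c ⊗ₜ[B'] (x ⊗ₜ[A'] i))) = _
  rw [AlgebraTensorModule.assoc_symm_tmul, AlgebraTensorModule.congr_tmul, IsBaseChange.equiv_tmul]
  rfl

theorem Θ_nat {ψ : M' →ₗ[B'] N'} (hψ : IsBaseChange C' ψ) {Q Q' : Type u} [AddCommGroup Q] [Module A' Q]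
    [AddCommGroup Q'] [Module A' Q'] (f : Q →ₗ[A'] Q') (z : C' ⊗[B'] (M' ⊗[A'] Q)) :
    LinearMap.lTensor N' f (Θ hψ Q z) =
      Θ hψ Q' (LinearMap.lTensor C' (AlgebraTensorModule.lTensor B' M' f) z) := by
  induction z using TensorProduct.induction_on with
  | zero => simp
  | tmul c w =>
    induction w using TensorProduct.induction_on with
    | zero => simp
    | tmul x i =>
      rw [Θ_tmul, LinearMap.lTensor_tmul, LinearMap.lTensor_tmul, AlgebraTensorModule.lTensor_tmul, Θ_tmul]
    | add w1 w2 h1 h2 => simp only [TensorProduct.tmul_add, map_add, h1, h2]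
  | add z1 z2 h1 h2 => simp only [map_add, h1, h2]

theorem flatBC_down [Module.Flat B' C'] {ψ : M' →ₗ[B'] N'} (hψ : IsBaseChange C' ψ)
    (q : Ideal B') [q.IsPrime] (r : Ideal C') [r.IsPrime]
    (hrq : r.comap (algebraMap B' C') ≤ q)
    (h : Module.Flat A' (LocalizedModule q.primeCompl M')) :
    Module.Flat A' (LocalizedModule r.primeCompl N') := by
  rw [flat_localized_iff] at h ⊢
  intro I k' hk'
  obtain ⟨z, rfl⟩ := (Θ hψ I).surjective k'
  obtain ⟨u, hu⟩ : ∃ u : M' ⊗[A'] I →ₗ[B'] M' ⊗[A'] A',
      u = AlgebraTensorModule.lTensor B' M' I.subtype := ⟨_, rfl⟩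
  have hz : LinearMap.lTensor C' u z = 0 := by
    apply (Θ hψ A').injective
    rw [hu, ← Θ_nat, hk', map_zero]
  have hex := Module.Flat.lTensor_exact C' (LinearMap.exact_subtype_ker_map u)
  obtain ⟨w, rfl⟩ := (hex z).mp hz
  have claim : ∀ w : C' ⊗[B'] (LinearMap.ker u), ∃ s ∈ q.primeCompl,
      algebraMap B' C' s • (LinearMap.lTensor C' (LinearMap.ker u).subtype w) = 0 := by
    intro w
    induction w using TensorProduct.induction_on with
    | zero => exact ⟨1, Submonoid.one_mem _, by simp⟩
    | tmul c k =>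
      have hk0 : LinearMap.lTensor M' I.subtype (k : M' ⊗[A'] I) = 0 := by
        have h1 : u (k : M' ⊗[A'] I) = 0 := LinearMap.mem_ker.mp k.2
        rw [← AlgebraTensorModule.coe_lTensor (A := B'), ← hu]; exact h1
      obtain ⟨s, hs, hsk⟩ := h I k hk0
      refine ⟨s, hs, ?_⟩
      rw [LinearMap.lTensor_tmul, TensorProduct.smul_tmul', Submodule.subtype_apply, smul_eq_mul,
        ← Algebra.smul_def, TensorProduct.smul_tmul, hsk, TensorProduct.tmul_zero]
    | add w1 w2 h1 h2 =>
      obtain ⟨s1, hs1, e1⟩ := h1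
      obtain ⟨s2, hs2, e2⟩ := h2
      refine ⟨s1 * s2, Submonoid.mul_mem _ hs1 hs2, ?_⟩
      have h1' : algebraMap B' C' (s1 * s2) • (LinearMap.lTensor C' (LinearMap.ker u).subtype w1) = 0 := by
        rw [map_mul, mul_comm, mul_smul, e1, smul_zero]
      have h2' : algebraMap B' C' (s1 * s2) • (LinearMap.lTensor C' (LinearMap.ker u).subtype w2) = 0 := by
        rw [map_mul, mul_smul, e2, smul_zero]
      rw [map_add, smul_add, h1', h2', add_zero]
  obtain ⟨s, hs, hsz⟩ := claim w
  refine ⟨algebraMap B' C' s, fun hmem => hs (hrq hmem), ?_⟩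
  rw [← map_smul, hsz, map_zero]

theorem flatBC_up [Module.Flat B' C'] {ψ : M' →ₗ[B'] N'} (hψ : IsBaseChange C' ψ)
    (q : Ideal B') [q.IsPrime] (r : Ideal C') [r.IsPrime]
    (hqr : q ≤ r.comap (algebraMap B' C'))
    (h : Module.Flat A' (LocalizedModule r.primeCompl N')) :
    Module.Flat A' (LocalizedModule q.primeCompl M') := by
  rw [flat_localized_iff] at h ⊢
  intro I k hk
  obtain ⟨z, hzdef⟩ : ∃ z : C' ⊗[B'] (M' ⊗[A'] I), z = (1 : C') ⊗ₜ[B'] k := ⟨_, rfl⟩
  have hk' : LinearMap.lTensor N' I.subtype (Θ hψ I z) = 0 := by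
    have h0 : (AlgebraTensorModule.lTensor B' M' I.subtype) k = 0 := by
      rw [AlgebraTensorModule.coe_lTensor]; exact hk
    rw [Θ_nat, hzdef, LinearMap.lTensor_tmul, h0, TensorProduct.tmul_zero, map_zero]
  obtain ⟨t, ht, htz⟩ := h I _ hk'
  have htz' : t • z = 0 := by
    apply (Θ hψ I).injective
    rw [map_smul, htz, map_zero]
  have hkt : (k ⊗ₜ[B'] t : (M' ⊗[A'] I) ⊗[B'] C') = 0 := by
    have h1 := congrArg (TensorProduct.comm B' C' (M' ⊗[A'] I)) htz'
    rw [hzdef, TensorProduct.smul_tmul', smul_eq_mul, mul_one, map_zero, TensorProduct.comm_tmul] at h1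
    exact h1
  have hinj : Function.Injective (LinearMap.rTensor C'
      (Submodule.span B' (Set.range (fun _ : Unit => k))).subtype) :=
    Module.Flat.rTensor_preserves_injective_linearMap _ (Submodule.subtype_injective _)
  have hsum : ∑ i : Unit, (fun _ : Unit => k) i ⊗ₜ[B'] (fun _ : Unit => t) i = 0 := by
    rw [Fintype.sum_unique]; exact hkt
  obtain ⟨n, a, y, hy, ha⟩ :=
    TensorProduct.vanishesTrivially_of_sum_tmul_eq_zero_of_rTensor_injective B' hinj hsum
  by_contra hcon
  push_neg at hcon
  have haq : ∀ j, a () j ∈ q := by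
    intro j
    by_contra hj
    refine hcon (a () j) hj ?_
    have := ha j
    rw [Fintype.sum_unique] at this
    exact this
  apply ht
  have ht_eq : t = ∑ j, a () j • y j := hy ()
  rw [ht_eq]
  refine Ideal.sum_mem _ fun j _ => ?_
  rw [Algebra.smul_def]
  exact Ideal.mul_mem_right _ _ (hqr (haq j))

end FlatBC

section Exist
variable {B C B' C' : Type u} [CommRing B] [IsLocalRing B] [CommRing C] [IsLocalRing C]
  [Algebra B C] [IsLocalHom (algebraMap B C)] [CommRing B'] [CommRing C'] [Algebra B B'] [Algebra C C']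
  [Algebra B' C']

theorem exists_prime_over
    (hpush : ∀ (L : Type u) [Field L] (α : C →+* L) (β : B' →+* L),
      α.comp (algebraMap B C) = β.comp (algebraMap B B') →
      ∃ Φ : C' →+* L, Φ.comp (algebraMap C C') = α ∧ Φ.comp (algebraMap B' C') = β)
    (q : Ideal B') [q.IsPrime] (hq : (IsLocalRing.maximalIdeal B).map (algebraMap B B') ≤ q) :
    ∃ r : Ideal C', r.IsPrime ∧ r.comap (algebraMap B' C') = q ∧
      (IsLocalRing.maximalIdeal C).map (algebraMap C C') ≤ r := by
  classical
  let f2 : B →+* q.ResidueField := (algebraMap B' q.ResidueField).comp (algebraMap B B')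
  have hf2 : ∀ b ∈ IsLocalRing.maximalIdeal B, f2 b = 0 := by
    intro b hb
    show algebraMap B' q.ResidueField (algebraMap B B' b) = 0
    rw [Ideal.algebraMap_residueField_eq_zero]
    exact hq (Ideal.mem_map_of_mem _ hb)
  haveI : IsLocalHom f2 := ⟨fun b hb => by
    by_contra hnu
    have hbm : b ∈ IsLocalRing.maximalIdeal B := (IsLocalRing.mem_maximalIdeal b).mpr hnu
    rw [hf2 b hbm] at hb
    exact not_isUnit_zero hb⟩
  let i2 : (IsLocalRing.ResidueField B) →+* q.ResidueField := IsLocalRing.ResidueField.lift f2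
  letI : Algebra (IsLocalRing.ResidueField B) q.ResidueField := i2.toAlgebra
  obtain ⟨𝔐, h𝔐⟩ := Ideal.exists_maximal ((IsLocalRing.ResidueField C) ⊗[(IsLocalRing.ResidueField B)] q.ResidueField)
  haveI := h𝔐
  letI : Field (((IsLocalRing.ResidueField C) ⊗[(IsLocalRing.ResidueField B)] q.ResidueField) ⧸ 𝔐) := Ideal.Quotient.field 𝔐
  let jC : (IsLocalRing.ResidueField C) →+* ((IsLocalRing.ResidueField C) ⊗[(IsLocalRing.ResidueField B)] q.ResidueField) ⧸ 𝔐 :=
    (Ideal.Quotient.mk 𝔐).comp (Algebra.TensorProduct.includeLeftRingHom)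
  let jq : q.ResidueField →+* ((IsLocalRing.ResidueField C) ⊗[(IsLocalRing.ResidueField B)] q.ResidueField) ⧸ 𝔐 :=
    (Ideal.Quotient.mk 𝔐).comp (Algebra.TensorProduct.includeRight (R := (IsLocalRing.ResidueField B)) (A := (IsLocalRing.ResidueField C)) (B := q.ResidueField)).toRingHom
  let α : C →+* ((IsLocalRing.ResidueField C) ⊗[(IsLocalRing.ResidueField B)] q.ResidueField) ⧸ 𝔐 := jC.comp (IsLocalRing.residue C)
  let β : B' →+* ((IsLocalRing.ResidueField C) ⊗[(IsLocalRing.ResidueField B)] q.ResidueField) ⧸ 𝔐 := jq.comp (algebraMap B' q.ResidueField)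
  have hαβ : α.comp (algebraMap B C) = β.comp (algebraMap B B') := by
    ext b
    show Ideal.Quotient.mk 𝔐 ((IsLocalRing.residue C (algebraMap B C b)) ⊗ₜ[(IsLocalRing.ResidueField B)] (1 : q.ResidueField)) =
      Ideal.Quotient.mk 𝔐 ((1 : (IsLocalRing.ResidueField C)) ⊗ₜ[(IsLocalRing.ResidueField B)] (algebraMap B' q.ResidueField (algebraMap B B' b)))
    refine congrArg _ ?_
    have h1 : IsLocalRing.residue C (algebraMap B C b) = algebraMap (IsLocalRing.ResidueField B) (IsLocalRing.ResidueField C) (IsLocalRing.residue B b) := rfl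
    have h2 : algebraMap B' q.ResidueField (algebraMap B B' b) = algebraMap (IsLocalRing.ResidueField B) q.ResidueField (IsLocalRing.residue B b) := rfl
    rw [h1, h2, Algebra.algebraMap_eq_smul_one, TensorProduct.smul_tmul, ← Algebra.algebraMap_eq_smul_one]
  obtain ⟨Φ, hΦC, hΦB⟩ := hpush _ α β hαβ
  refine ⟨RingHom.ker Φ, RingHom.ker_isPrime Φ, ?_, ?_⟩
  · ext b'
    rw [Ideal.mem_comap, RingHom.mem_ker]
    have h1 : Φ (algebraMap B' C' b') = β b' := RingHom.congr_fun hΦB b'
    rw [h1]
    show jq (algebraMap B' q.ResidueField b') = 0 ↔ b' ∈ q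
    rw [map_eq_zero_iff jq jq.injective, Ideal.algebraMap_residueField_eq_zero]
  · rw [Ideal.map_le_iff_le_comap]
    intro c hc
    rw [Ideal.mem_comap, RingHom.mem_ker]
    have h1 : Φ (algebraMap C C' c) = α c := RingHom.congr_fun hΦC c
    rw [h1]
    show jC (IsLocalRing.residue C c) = 0
    rw [(IsLocalRing.residue_eq_zero_iff c).mpr hc, map_zero]

end Exist

section Main1277

theorem main1277 {A B C : Type u} [CommRing A] [IsLocalRing A] [CommRing B] [IsLocalRing B] [CommRing C] [IsLocalRing C]
    [Algebra A B] [IsLocalHom (algebraMap A B)] [Algebra B C] [IsLocalHom (algebraMap B C)] [Algebra A C] [IsScalarTower A B C] [Module.Flat B C]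
    (M : Type u) [AddCommGroup M] [Module B M] (N : Type u) [AddCommGroup N] [Module C N] [Module B N] [IsScalarTower B C N]
    (g : M →ₗ[B] N) (hg : IsBaseChange C g)
    (A' : Type u) [CommRing A'] [IsLocalRing A'] [Algebra A A'] [IsLocalHom (algebraMap A A')]
    (B' M' : Type u) [CommRing B'] [Algebra B B'] [Algebra A' B'] [Algebra A B'] [IsScalarTower A B B'] [IsScalarTower A A' B']
        [Algebra.IsPushout A B A' B']
        [AddCommGroup M'] [Module B' M'] [Module B M'] [IsScalarTower B B' M'] [Module A' M'] [IsScalarTower A' B' M']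
        (fB : M →ₗ[B] M') (hfB : IsBaseChange B' fB)
    (C' N' : Type u) [CommRing C'] [Algebra C C'] [Algebra A' C'] [Algebra A C'] [IsScalarTower A C C'] [IsScalarTower A A' C']
        [Algebra.IsPushout A C A' C']
        [AddCommGroup N'] [Module C' N'] [Module C N'] [IsScalarTower C C' N'] [Module A' N'] [IsScalarTower A' C' N']
        (fC : N →ₗ[C] N') (hfC : IsBaseChange C' fC) :
    FlatCA.FlatAboveClosedPoints B A' B' M' ↔ FlatCA.FlatAboveClosedPoints C A' C' N' := by
  classical
  let φ : B' →ₐ[A] C' := Algebra.pushoutDesc B'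
    ((IsScalarTower.toAlgHom A C C').comp (IsScalarTower.toAlgHom A B C))
    (IsScalarTower.toAlgHom A A' C') (fun x y => mul_comm _ _)
  have hφB : ∀ b, φ (algebraMap B B' b) = algebraMap C C' (algebraMap B C b) := fun b => by
    simp [φ, Algebra.pushoutDesc_left]
  have hφA : ∀ a', φ (algebraMap A' B' a') = algebraMap A' C' a' := fun a' => by
    simp [φ, Algebra.pushoutDesc_right]
  letI algB'C' : Algebra B' C' := φ.toRingHom.toAlgebra
  have hφ : ∀ b', algebraMap B' C' b' = φ b' := fun _ => rfl
  haveI : IsScalarTower A' B' C' := IsScalarTower.of_algebraMap_eq fun a' => (hφA a').symm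
  letI algBC' : Algebra B C' := ((algebraMap C C').comp (algebraMap B C)).toAlgebra
  haveI : IsScalarTower B C C' := IsScalarTower.of_algebraMap_eq fun b => rfl
  haveI : IsScalarTower B B' C' := IsScalarTower.of_algebraMap_eq fun b => (hφB b).symm
  haveI : IsScalarTower A B' C' := IsScalarTower.of_algebraMap_eq fun a => (φ.commutes a).symm
  have hPBC : Algebra.IsPushout B C B' C' := (Algebra.IsPushout.comp_iff A B A' B').mp inferInstance
  haveI : Module.Flat B' C' := Module.Flat.isBaseChange B B' C C' (hPBC.symm.out)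
  letI modBN' : Module B N' := Module.compHom N' (algebraMap B C)
  haveI : IsScalarTower B C N' := ⟨fun b c x => by
    show (b • c) • x = (algebraMap B C b) • (c • x)
    rw [Algebra.smul_def, mul_smul]⟩
  letI modB'N' : Module B' N' := Module.compHom N' (algebraMap B' C')
  haveI : IsScalarTower B' C' N' := ⟨fun b c x => by
    show (b • c) • x = (algebraMap B' C' b) • (c • x)
    rw [Algebra.smul_def, mul_smul]⟩
  haveI : IsScalarTower B B' N' := ⟨fun b b' x => by
    show (algebraMap B' C' (b • b')) • x = (algebraMap B C b) • ((algebraMap B' C' b') • x)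
    rw [Algebra.smul_def, map_mul, mul_smul, hφ, hφB, algebraMap_smul]⟩
  haveI : IsScalarTower B C' N' := ⟨fun b c x => by
    show (b • c) • x = (algebraMap B C b) • (c • x)
    rw [Algebra.smul_def, mul_smul]
    exact algebraMap_smul C' (algebraMap B C b) (c • x)⟩
  let ψ : M' →ₗ[B'] N' := hfB.lift ((fC.restrictScalars B) ∘ₗ g)
  have hψfB : ∀ m, ψ (fB m) = fC (g m) := fun m => hfB.lift_eq _ m
  have hcomp : IsBaseChange C' ((fC.restrictScalars B) ∘ₗ g) := hg.comp hfC
  have hψ : IsBaseChange C' ψ := by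
    refine IsBaseChange.of_comp hfB (h := ψ) ?_
    convert hcomp using 1
    ext m; exact hψfB m
  have hpush : ∀ (L : Type u) [Field L] (α : C →+* L) (β : B' →+* L),
      α.comp (algebraMap B C) = β.comp (algebraMap B B') →
      ∃ Φ : C' →+* L, Φ.comp (algebraMap C C') = α ∧ Φ.comp (algebraMap B' C') = β := by
    intro L _ α β hαβ
    letI : Algebra A L := (α.comp (algebraMap A C)).toAlgebra
    let α' : C →ₐ[A] L := { α with commutes' := fun a => rfl }
    have hβc : ∀ a : A, β (algebraMap A' B' (algebraMap A A' a)) = α (algebraMap A C a) := by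
      intro a
      rw [← IsScalarTower.algebraMap_apply A A' B', IsScalarTower.algebraMap_apply A B B',
        IsScalarTower.algebraMap_apply A B C]
      exact (RingHom.congr_fun hαβ (algebraMap A B a)).symm
    let β' : A' →ₐ[A] L := { β.comp (algebraMap A' B') with commutes' := hβc }
    let Φ : C' →ₐ[A] L := Algebra.pushoutDesc C' α' β' (fun x y => mul_comm _ _)
    have hΦC : ∀ c, Φ (algebraMap C C' c) = α c := fun c => Algebra.pushoutDesc_left C' α' β' _ c
    have hΦA : ∀ a', Φ (algebraMap A' C' a') = β (algebraMap A' B' a') :=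
      fun a' => Algebra.pushoutDesc_right C' α' β' _ a'
    refine ⟨Φ.toRingHom, RingHom.ext hΦC, RingHom.ext fun b' => ?_⟩
    show Φ (φ b') = β b'
    refine (Algebra.IsPushout.out (R := A) (S := B) (R' := A') (S' := B')).inductionOn b'
      (fun b' => Φ (φ b') = β b') ?_ ?_ ?_ ?_
    · simp
    · intro a'
      show Φ (φ (algebraMap A' B' a')) = β (algebraMap A' B' a')
      rw [hφA, hΦA]
    · intro b b'' ih
      rw [Algebra.smul_def, map_mul, map_mul, map_mul, ih, hφB, hΦC]
      congr 1
      exact RingHom.congr_fun hαβ b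
    · intro x y hx hy; rw [map_add, map_add, map_add, hx, hy]
  have hI_le : ∀ (r : Ideal C') [r.IsPrime],
      (IsLocalRing.maximalIdeal A').map (algebraMap A' C') ⊔
        (IsLocalRing.maximalIdeal C).map (algebraMap C C') ≤ r →
      (IsLocalRing.maximalIdeal A').map (algebraMap A' B') ⊔
        (IsLocalRing.maximalIdeal B).map (algebraMap B B') ≤ r.comap (algebraMap B' C') := by
    intro r _ hr
    refine sup_le ?_ ?_
    · rw [Ideal.map_le_iff_le_comap]
      intro a' ha'
      show algebraMap B' C' (algebraMap A' B' a') ∈ r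
      rw [hφ, hφA]
      exact hr (Ideal.mem_sup_left (Ideal.mem_map_of_mem _ ha'))
    · rw [Ideal.map_le_iff_le_comap]
      intro b hb
      show algebraMap B' C' (algebraMap B B' b) ∈ r
      rw [hφ, hφB]
      refine hr (Ideal.mem_sup_right (Ideal.mem_map_of_mem _ ?_))
      rw [IsLocalRing.mem_maximalIdeal] at hb ⊢
      exact (map_mem_nonunits_iff (algebraMap B C) b).mpr hb
  unfold FlatCA.FlatAboveClosedPoints FlatCA.FlatAt
  constructor
  · intro h r hr hIr
    haveI := hr
    exact flatBC_down hψ (r.comap (algebraMap B' C')) r le_rfl (h _ (hI_le r hIr))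
  · intro h q hq hIq
    haveI := hq
    obtain ⟨r, hrp, hrq, hrC⟩ := exists_prime_over (B := B) (C := C) hpush q (le_trans le_sup_right hIq)
    haveI := hrp
    refine flatBC_up hψ q r hrq.ge (h r (sup_le ?_ hrC))
    rw [Ideal.map_le_iff_le_comap]
    intro a' ha'
    show algebraMap A' C' a' ∈ r
    rw [IsScalarTower.algebraMap_apply A' B' C']
    have hmem : algebraMap A' B' a' ∈ q := hIq (Ideal.mem_sup_left (Ideal.mem_map_of_mem _ ha'))
    rw [← hrq] at hmem
    exact hmem

end Main1277

section BC6918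
variable {R S R' S' : Type u} [CommRing R] [CommRing S] [CommRing R'] [CommRing S']
    [Algebra R S] [Algebra R R'] [Algebra S S'] [Algebra R' S'] [Algebra R S'] [IsScalarTower R S S']
    [IsScalarTower R R' S'] [Algebra.IsPushout R S R' S']
    {M M' : Type u} [AddCommGroup M] [Module S M] [Module R M] [IsScalarTower R S M]
    [AddCommGroup M'] [Module S' M'] [Module R' M'] [IsScalarTower R' S' M'] [Module S M'] [IsScalarTower S S' M']
    {f : M →ₗ[S] M'} (hf : IsBaseChange S' f)

noncomputable def eM : R' ⊗[R] M ≃ₗ[R'] M' :=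
  haveI : Algebra.IsPushout R R' S S' := Algebra.IsPushout.symm inferInstance
  (Algebra.IsPushout.cancelBaseChange R R' S S' M).symm ≪≫ₗ (hf.equiv.restrictScalars R')

theorem eM_tmul (m : M) : eM (R := R) (R' := R') hf ((1 : R') ⊗ₜ[R] m) = f m := by
  haveI : Algebra.IsPushout R R' S S' := Algebra.IsPushout.symm inferInstance
  show hf.equiv ((Algebra.IsPushout.cancelBaseChange R R' S S' M).symm ((1 : R') ⊗ₜ[R] m)) = f m
  rw [Algebra.IsPushout.cancelBaseChange_symm_tmul, map_one, IsBaseChange.equiv_tmul, one_smul]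

noncomputable def Ψ (P : Type u) [AddCommGroup P] [Module R P] [Module R' P] [IsScalarTower R R' P] :
    M ⊗[R] P ≃+ M' ⊗[R'] P :=
  ((TensorProduct.comm R M P).toAddEquiv.trans
    ((AlgebraTensorModule.cancelBaseChange R R' R' P M).symm.toAddEquiv)).trans
    (((TensorProduct.congr (LinearEquiv.refl R' P) (eM (R := R) (R' := R') hf)).toAddEquiv).trans
      (TensorProduct.comm R' P M').toAddEquiv)

theorem Ψ_tmul (P : Type u) [AddCommGroup P] [Module R P] [Module R' P] [IsScalarTower R R' P]
    (m : M) (p : P) : Ψ (R := R) (R' := R') hf P (m ⊗ₜ[R] p) = f m ⊗ₜ[R'] p := by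
  show TensorProduct.comm R' P M' (TensorProduct.congr (LinearEquiv.refl R' P) (eM (R := R) (R' := R') hf)
    ((AlgebraTensorModule.cancelBaseChange R R' R' P M).symm (TensorProduct.comm R M P (m ⊗ₜ[R] p)))) = _
  rw [TensorProduct.comm_tmul, AlgebraTensorModule.cancelBaseChange_symm_tmul, TensorProduct.congr_tmul,
    eM_tmul, TensorProduct.comm_tmul]
  rfl

theorem Ψ_smul (P : Type u) [AddCommGroup P] [Module R P] [Module R' P] [IsScalarTower R R' P]
    (s : S) (z : M ⊗[R] P) : Ψ (R := R) (R' := R') hf P (s • z) = algebraMap S S' s • Ψ (R := R) (R' := R') hf P z := by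
  induction z using TensorProduct.induction_on with
  | zero => simp
  | tmul m p =>
    rw [TensorProduct.smul_tmul', Ψ_tmul, Ψ_tmul, map_smul, TensorProduct.smul_tmul', algebraMap_smul]
  | add a b ha hb => rw [smul_add, map_add, ha, hb, map_add, smul_add]

theorem Ψ_nat {P Q : Type u} [AddCommGroup P] [Module R P] [Module R' P] [IsScalarTower R R' P]
    [AddCommGroup Q] [Module R Q] [Module R' Q] [IsScalarTower R R' Q] (j : P →ₗ[R'] Q) (z : M ⊗[R] P) :
    LinearMap.lTensor M' j (Ψ (R := R) (R' := R') hf P z) = Ψ (R := R) (R' := R') hf Q (LinearMap.lTensor M (j.restrictScalars R) z) := by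
  induction z using TensorProduct.induction_on with
  | zero => simp
  | tmul m p => rw [Ψ_tmul, LinearMap.lTensor_tmul, LinearMap.lTensor_tmul, Ψ_tmul]; rfl
  | add a b ha hb => rw [map_add, map_add, ha, hb, map_add, map_add]

include hf in
theorem main6918 (I : Ideal R) (I' : Ideal R') (hII' : I.map (algebraMap R R') ≤ I') (J : Ideal S)
    (h : ∀ (q : Ideal S) [q.IsPrime], I.map (algebraMap R S) ⊔ J ≤ q → FlatCA.FlatAt R q M) :
    ∀ (q : Ideal S') [q.IsPrime], I'.map (algebraMap R' S') ⊔ J.map (algebraMap S S') ≤ q →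
      FlatCA.FlatAt R' q M' := by
  intro q' hq' hle
  haveI := hq'
  unfold FlatCA.FlatAt at h ⊢
  have hq : Module.Flat R (LocalizedModule (q'.comap (algebraMap S S')).primeCompl M) := by
    apply h
    refine sup_le ?_ ?_
    · rw [Ideal.map_le_iff_le_comap]
      intro r hr
      show algebraMap S S' (algebraMap R S r) ∈ q'
      rw [← IsScalarTower.algebraMap_apply R S S', IsScalarTower.algebraMap_apply R R' S']
      exact hle (Ideal.mem_sup_left (Ideal.mem_map_of_mem _ (hII' (Ideal.mem_map_of_mem _ hr))))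
    · intro j hj
      exact hle (Ideal.mem_sup_right (Ideal.mem_map_of_mem _ hj))
  haveI := hq
  rw [flat_localized_iff]
  intro I0 k hk
  obtain ⟨k0, rfl⟩ := (Ψ (R := R) (R' := R') hf I0).surjective k
  have hk0 : LinearMap.lTensor M ((I0.subtype).restrictScalars R) k0 = 0 := by
    apply (Ψ (R := R) (R' := R') hf R').injective
    rw [← Ψ_nat, hk, map_zero]
  obtain ⟨s, hs, hsk⟩ := flat_localized_ker (q'.comap (algebraMap S S')).primeCompl M
    ((I0.subtype).restrictScalars R) (Submodule.subtype_injective I0) k0 hk0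
  refine ⟨algebraMap S S' s, hs, ?_⟩
  rw [← Ψ_smul, hsk, map_zero]

end BC6918

end Groth.Agent.Helper7.FlatACP
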