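import Mathlib
import Groth.Agent.Lib.Helper7.GrFlat
import Groth.Agent.Lib.Helper7.FlatACP

/-!
# Descent of flatness at primes along `R → R'` with `R'_{p'}` flat over `R`
-/

set_option autoImplicit false
set_option linter.style.haveILetI false
universe u
open TensorProduct

namespace Groth.Agent.Helper7.FlatDesc

section Trans

/-- transitivity of flatness at a prime. -/
theorem flat_trans_at {R R' S' : Type u} [CommRing R] [CommRing R'] [CommRing S'] [Algebra R R']
    [Algebra R' S'] [Algebra R S'] [IsScalarTower R R' S']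
    {M' : Type u} [AddCommGroup M'] [Module S' M'] [Module R' M'] [Module R M']
    [IsScalarTower R' S' M'] [IsScalarTower R S' M']
    (q' : Ideal S') [q'.IsPrime] (p' : Ideal R') [p'.IsPrime]
    (hp' : p' = q'.comap (algebraMap R' S'))
    [Module.Flat R (Localization.AtPrime p')]
    (h : Module.Flat R' (LocalizedModule q'.primeCompl M')) :
    Module.Flat R (LocalizedModule q'.primeCompl M') := by
  obtain ⟨φ, hφ⟩ : ∃ φ : Localization.AtPrime p' →+* Localization.AtPrime q',
      ∀ r', φ (algebraMap R' (Localization.AtPrime p') r') =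
        algebraMap S' (Localization.AtPrime q') (algebraMap R' S' r') :=
    ⟨Localization.localRingHom p' q' (algebraMap R' S') hp',
      fun r' => Localization.localRingHom_to_map p' q' (algebraMap R' S') hp' r'⟩
  letI : Module (Localization.AtPrime p') (LocalizedModule q'.primeCompl M') :=
    Module.compHom _ φ
  have hsm : ∀ (z : Localization.AtPrime p') (x : LocalizedModule q'.primeCompl M'),
      z • x = φ z • x := fun _ _ => rfl
  haveI : IsScalarTower R' (Localization.AtPrime p') (LocalizedModule q'.primeCompl M') :=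
    IsScalarTower.of_algebraMap_smul fun r' x => by
      rw [hsm, hφ, algebraMap_smul, algebraMap_smul]
  haveI : IsScalarTower R (Localization.AtPrime p') (LocalizedModule q'.primeCompl M') :=
    IsScalarTower.of_algebraMap_smul fun r x => by
      rw [hsm, IsScalarTower.algebraMap_apply R R' (Localization.AtPrime p'), hφ, algebraMap_smul,
        ← IsScalarTower.algebraMap_apply R R' S', algebraMap_smul]
  haveI : Module.Flat (Localization.AtPrime p') (LocalizedModule q'.primeCompl M') :=
    (Module.flat_iff_of_isLocalization (Localization.AtPrime p') p'.primeCompl _).mpr h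
  exact Module.Flat.trans R (Localization.AtPrime p') _

end Trans

section Pushout
variable {R S R' S' : Type u} [CommRing R] [CommRing S] [CommRing R'] [CommRing S']
  [Algebra R S] [Algebra R R'] [Algebra S S'] [Algebra R' S'] [Algebra R S']
  [IsScalarTower R S S'] [IsScalarTower R R' S'] [Algebra.IsPushout R S R' S']

/-- a prime of the pushout over two primes with the same contraction. -/
theorem exists_prime_pushout (p : Ideal R) [p.IsPrime] (q : Ideal S) [q.IsPrime] (p' : Ideal R')
    [p'.IsPrime] (hq : p = q.comap (algebraMap R S)) (hp' : p = p'.comap (algebraMap R R')) :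
    ∃ q' : Ideal S', q'.IsPrime ∧ q'.comap (algebraMap S S') = q ∧
      q'.comap (algebraMap R' S') = p' := by
  classical
  let i1 : p.ResidueField →+* q.ResidueField := Ideal.ResidueField.map p q (algebraMap R S) hq
  let i2 : p.ResidueField →+* p'.ResidueField := Ideal.ResidueField.map p p' (algebraMap R R') hp'
  letI : Algebra p.ResidueField q.ResidueField := i1.toAlgebra
  letI : Algebra p.ResidueField p'.ResidueField := i2.toAlgebra
  obtain ⟨𝔐, h𝔐⟩ := Ideal.exists_maximal (q.ResidueField ⊗[p.ResidueField] p'.ResidueField)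
  haveI := h𝔐
  letI : Field ((q.ResidueField ⊗[p.ResidueField] p'.ResidueField) ⧸ 𝔐) := Ideal.Quotient.field 𝔐
  let jq : q.ResidueField →+* (q.ResidueField ⊗[p.ResidueField] p'.ResidueField) ⧸ 𝔐 :=
    (Ideal.Quotient.mk 𝔐).comp (Algebra.TensorProduct.includeLeftRingHom)
  let jp : p'.ResidueField →+* (q.ResidueField ⊗[p.ResidueField] p'.ResidueField) ⧸ 𝔐 :=
    (Ideal.Quotient.mk 𝔐).comp (Algebra.TensorProduct.includeRight (R := p.ResidueField)
      (A := q.ResidueField) (B := p'.ResidueField)).toRingHom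
  let α : S →+* (q.ResidueField ⊗[p.ResidueField] p'.ResidueField) ⧸ 𝔐 :=
    jq.comp (algebraMap S q.ResidueField)
  let β : R' →+* (q.ResidueField ⊗[p.ResidueField] p'.ResidueField) ⧸ 𝔐 :=
    jp.comp (algebraMap R' p'.ResidueField)
  have hαβ : ∀ r : R, α (algebraMap R S r) = β (algebraMap R R' r) := by
    intro r
    show Ideal.Quotient.mk 𝔐 ((algebraMap S q.ResidueField (algebraMap R S r))
        ⊗ₜ[p.ResidueField] (1 : p'.ResidueField)) =
      Ideal.Quotient.mk 𝔐 ((1 : q.ResidueField) ⊗ₜ[p.ResidueField]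
        (algebraMap R' p'.ResidueField (algebraMap R R' r)))
    refine congrArg _ ?_
    have h1 : algebraMap S q.ResidueField (algebraMap R S r) =
        algebraMap p.ResidueField q.ResidueField (algebraMap R p.ResidueField r) :=
      (Ideal.ResidueField.map_algebraMap p q (algebraMap R S) hq r).symm
    have h2 : algebraMap R' p'.ResidueField (algebraMap R R' r) =
        algebraMap p.ResidueField p'.ResidueField (algebraMap R p.ResidueField r) :=
      (Ideal.ResidueField.map_algebraMap p p' (algebraMap R R') hp' r).symm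
    rw [h1, h2, Algebra.algebraMap_eq_smul_one, TensorProduct.smul_tmul,
      ← Algebra.algebraMap_eq_smul_one]
  letI : Algebra R ((q.ResidueField ⊗[p.ResidueField] p'.ResidueField) ⧸ 𝔐) :=
    (α.comp (algebraMap R S)).toAlgebra
  let α' : S →ₐ[R] (q.ResidueField ⊗[p.ResidueField] p'.ResidueField) ⧸ 𝔐 :=
    { α with commutes' := fun _ => rfl }
  let β' : R' →ₐ[R] (q.ResidueField ⊗[p.ResidueField] p'.ResidueField) ⧸ 𝔐 :=
    { β with commutes' := fun r => (hαβ r).symm }
  let Φ : S' →ₐ[R] (q.ResidueField ⊗[p.ResidueField] p'.ResidueField) ⧸ 𝔐 :=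
    Algebra.pushoutDesc S' α' β' (fun _ _ => mul_comm _ _)
  have hΦS : ∀ s, Φ (algebraMap S S' s) = α s := fun s => Algebra.pushoutDesc_left S' α' β' _ s
  have hΦR : ∀ r', Φ (algebraMap R' S' r') = β r' :=
    fun r' => Algebra.pushoutDesc_right S' α' β' _ r'
  refine ⟨RingHom.ker Φ, RingHom.ker_isPrime Φ, ?_, ?_⟩
  · ext s
    rw [Ideal.mem_comap, RingHom.mem_ker, hΦS]
    show jq (algebraMap S q.ResidueField s) = 0 ↔ s ∈ q
    rw [map_eq_zero_iff jq jq.injective, Ideal.algebraMap_residueField_eq_zero]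
  · ext r'
    rw [Ideal.mem_comap, RingHom.mem_ker, hΦR]
    show jp (algebraMap R' p'.ResidueField r') = 0 ↔ r' ∈ p'
    rw [map_eq_zero_iff jp jp.injective, Ideal.algebraMap_residueField_eq_zero]

/-- elements of `S' ⊗ P` killed by `S' ⊗ j` (`j` injective) are killed by an element outside `p'`. -/
theorem kill_of_flat (p' : Ideal R') [p'.IsPrime] [Module.Flat R (Localization.AtPrime p')]
    {P Q : Type u} [AddCommGroup P] [Module S P] [Module R P] [IsScalarTower R S P]
    [AddCommGroup Q] [Module S Q] [Module R Q] [IsScalarTower R S Q]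
    (j : P →ₗ[S] Q) (hj : Function.Injective j) (w : S' ⊗[S] P)
    (hw : LinearMap.lTensor S' j w = 0) :
    ∃ u ∈ p'.primeCompl, (algebraMap R' S' u) • w = 0 := by
  haveI : Algebra.IsPushout R R' S S' := Algebra.IsPushout.symm inferInstance
  haveI : Module.Flat R (LocalizedModule p'.primeCompl R') :=
    ‹Module.Flat R (Localization.AtPrime p')›
  obtain ⟨eP, heP⟩ : ∃ e : S' ⊗[S] P ≃ₗ[R'] R' ⊗[R] P,
      e = Algebra.IsPushout.cancelBaseChange R R' S S' P := ⟨_, rfl⟩
  obtain ⟨eQ, heQ⟩ : ∃ e : S' ⊗[S] Q ≃ₗ[R'] R' ⊗[R] Q,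
      e = Algebra.IsPushout.cancelBaseChange R R' S S' Q := ⟨_, rfl⟩
  have hnat : ∀ z : R' ⊗[R] P, eQ.symm (LinearMap.lTensor R' (j.restrictScalars R) z) =
      LinearMap.lTensor S' j (eP.symm z) := by
    intro z
    induction z using TensorProduct.induction_on with
    | zero => simp
    | tmul r' x =>
      rw [LinearMap.lTensor_tmul, heQ, heP, Algebra.IsPushout.cancelBaseChange_symm_tmul,
        Algebra.IsPushout.cancelBaseChange_symm_tmul, LinearMap.lTensor_tmul]
      rfl
    | add a b ha hb => simp only [map_add, ha, hb]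
  have h0 : LinearMap.lTensor R' (j.restrictScalars R) (eP w) = 0 := by
    apply eQ.symm.injective
    rw [hnat, LinearEquiv.symm_apply_apply, hw, map_zero]
  obtain ⟨u, hu, hu0⟩ :=
    FlatACP.flat_localized_ker p'.primeCompl R' (j.restrictScalars R) hj (eP w) h0
  refine ⟨u, hu, ?_⟩
  apply eP.injective
  rw [map_zero, algebraMap_smul, map_smul]
  exact hu0

end Pushout

section Main
variable {R S R' S' : Type u} [CommRing R] [CommRing S] [CommRing R'] [CommRing S']
  [Algebra R S] [Algebra R R'] [Algebra S S'] [Algebra R' S'] [Algebra R S']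
  [IsScalarTower R S S'] [IsScalarTower R R' S'] [Algebra.IsPushout R S R' S']
  {M M' : Type u} [AddCommGroup M] [Module S M] [Module R M] [IsScalarTower R S M]
  [AddCommGroup M'] [Module S' M'] [Module R' M'] [IsScalarTower R' S' M'] [Module S M']
  [IsScalarTower S S' M'] [Module R M'] [IsScalarTower R S' M'] [IsScalarTower R S M']

theorem Θ_one_tmul {f : M →ₗ[S] M'} (hf : IsBaseChange S' f) (P : Type u) [AddCommGroup P]
    [Module R P] (k : M ⊗[R] P) :
    FlatACP.Θ hf P ((1 : S') ⊗ₜ[S] k) = LinearMap.rTensor P (f.restrictScalars R) k := by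
  induction k using TensorProduct.induction_on with
  | zero => simp
  | tmul m a => rw [FlatACP.Θ_tmul, one_smul, LinearMap.rTensor_tmul]; rfl
  | add x y hx hy => rw [TensorProduct.tmul_add, map_add, hx, hy, map_add]

theorem main6919 {f : M →ₗ[S] M'} (hf : IsBaseChange S' f)
    (q : Ideal S) [q.IsPrime] (q' : Ideal S') [q'.IsPrime] (p' : Ideal R') [p'.IsPrime]
    (hq : q'.comap (algebraMap S S') = q) (hp' : p' = q'.comap (algebraMap R' S'))
    [Module.Flat R (Localization.AtPrime p')]
    (h : Module.Flat R' (LocalizedModule q'.primeCompl M')) :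
    Module.Flat R (LocalizedModule q.primeCompl M) := by
  have hR : Module.Flat R (LocalizedModule q'.primeCompl M') := flat_trans_at q' p' hp' h
  rw [FlatACP.flat_localized_iff] at hR ⊢
  intro 𝔞 k hk
  have hk' : LinearMap.lTensor M' 𝔞.subtype
      (LinearMap.rTensor 𝔞 (f.restrictScalars R) k) = 0 := by
    rw [GrFlat.sq_rTensor_lTensor, hk, map_zero]
  obtain ⟨t', ht', ht'0⟩ := hR 𝔞 _ hk'
  have h1 : t' ⊗ₜ[S] k = (0 : S' ⊗[S] (M ⊗[R] 𝔞)) := by
    apply (FlatACP.Θ hf 𝔞).injective
    have h2 : t' ⊗ₜ[S] k = t' • ((1 : S') ⊗ₜ[S] k) := by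
      rw [TensorProduct.smul_tmul', smul_eq_mul, mul_one]
    rw [map_zero, h2, map_smul, Θ_one_tmul, ht'0]
  by_contra hcon
  obtain ⟨μ, hμ⟩ : ∃ μ : S →ₗ[S] (M ⊗[R] 𝔞), ∀ s, μ s = s • k :=
    ⟨LinearMap.toSpanSingleton S _ k, fun s => LinearMap.toSpanSingleton_apply S _ k s⟩
  obtain ⟨𝔟, h𝔟⟩ : ∃ 𝔟 : Ideal S, 𝔟 = LinearMap.ker μ := ⟨_, rfl⟩
  have h𝔟q : 𝔟 ≤ q := by
    intro t ht
    by_contra htq
    refine hcon ⟨t, htq, ?_⟩
    rw [h𝔟, LinearMap.mem_ker, hμ] at ht
    exact ht
  obtain ⟨ī, hī1, hīinj⟩ : ∃ ī : (S ⧸ 𝔟) →ₗ[S] (M ⊗[R] 𝔞), ī 1 = k ∧ Function.Injective ī := by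
    refine ⟨Submodule.liftQ 𝔟 μ h𝔟.le, ?_, ?_⟩
    · show μ 1 = k
      rw [hμ, one_smul]
    · rw [← LinearMap.ker_eq_bot]
      exact Submodule.ker_liftQ_eq_bot _ _ _ h𝔟.ge
  have hw : LinearMap.lTensor S' ī (t' ⊗ₜ[S] (1 : S ⧸ 𝔟)) = 0 := by
    rw [LinearMap.lTensor_tmul, hī1, h1]
  obtain ⟨u, hu, hu0⟩ := kill_of_flat (R := R) p' ī hīinj _ hw
  have h2 : (algebraMap R' S' u * t') ⊗ₜ[S] (1 : S ⧸ 𝔟) = 0 := by
    rw [← hu0, TensorProduct.smul_tmul', smul_eq_mul]
  have h3 : algebraMap R' S' u * t' ∈ 𝔟.map (algebraMap S S') := by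
    rw [← Ideal.Quotient.eq_zero_iff_mem]
    apply (Algebra.TensorProduct.quotIdealMapEquivTensorQuot S' 𝔟).injective
    rw [Algebra.TensorProduct.quotIdealMapEquivTensorQuot_mk, map_zero]
    exact h2
  have h4 : 𝔟.map (algebraMap S S') ≤ q' := by
    rw [Ideal.map_le_iff_le_comap, hq]; exact h𝔟q
  rcases (Ideal.IsPrime.mem_or_mem ‹q'.IsPrime› (h4 h3)) with h5 | h5
  · have h6 : u ∈ p' := by rw [hp']; exact h5
    exact (Ideal.mem_primeCompl_iff.mp hu) h6
  · exact (Ideal.mem_primeCompl_iff.mp ht') h5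

end Main

end Groth.Agent.Helper7.FlatDesc
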