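import Mathlib

set_option autoImplicit false
universe u v w

namespace Groth.Agent.Helper7

open TensorProduct

/-- If `C` is faithfully flat over `B` and flat over `A`, then `B` is flat over `A`. -/
theorem flat_of_faithfullyFlat_of_flat_comp (A : Type u) (B : Type v) (C : Type w)
    [CommRing A] [CommRing B] [CommRing C] [Algebra A B] [Algebra B C] [Algebra A C]
    [IsScalarTower A B C] [Module.FaithfullyFlat B C] [Module.Flat A C] : Module.Flat A B := by
  rw [Module.Flat.iff_lTensor_preserves_injective_linearMap]
  intro N P _ _ _ _ f hf
  have h1 : Function.Injective (f.lTensor C) :=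
    Module.Flat.lTensor_preserves_injective_linearMap f hf
  have h2 : Function.Injective ((f.baseChange B).lTensor C) := by
    have key : ∀ z, (TensorProduct.AlgebraTensorModule.cancelBaseChange A B C C P)
        (((f.baseChange B).lTensor C) z) =
        (f.lTensor C) ((TensorProduct.AlgebraTensorModule.cancelBaseChange A B C C N) z) := by
      intro z
      induction z using TensorProduct.induction_on with
      | zero => simp
      | add x y hx hy => simp only [map_add, hx, hy]
      | tmul c w =>
        induction w using TensorProduct.induction_on with
        | zero => simp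
        | add x y hx hy => simp only [tmul_add, map_add, hx, hy]
        | tmul b n =>
          simp [TensorProduct.AlgebraTensorModule.cancelBaseChange_tmul]
    intro z z' hzz'
    apply (TensorProduct.AlgebraTensorModule.cancelBaseChange A B C C N).injective
    apply h1
    rw [← key, ← key, hzz']
  have h3 := (Module.FaithfullyFlat.lTensor_injective_iff_injective B C (f.baseChange B)).mp h2
  exact h3

/-- Ring hom version. -/
theorem ringHom_flat_of_comp {A : Type u} {B : Type v} {C : Type w}
    [CommRing A] [CommRing B] [CommRing C] (φ : A →+* B) (ψ : B →+* C)
    (hψ : ψ.FaithfullyFlat) (h : (ψ.comp φ).Flat) : φ.Flat := by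
  letI : Algebra A B := φ.toAlgebra
  letI : Algebra B C := ψ.toAlgebra
  letI : Algebra A C := (ψ.comp φ).toAlgebra
  haveI : IsScalarTower A B C := IsScalarTower.of_algebraMap_eq (fun _ => rfl)
  haveI : Module.FaithfullyFlat B C := hψ
  haveI : Module.Flat A C := h
  exact flat_of_faithfullyFlat_of_flat_comp A B C

end Groth.Agent.Helper7
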