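import Mathlib
import Groth.Prelude.Def_GSzH1

/-! Locally constant 1-cocycles of `Gal(k̄/k)`, `k` finite, are determined by their value at
Frobenius, and every value occurs (helper7). -/

set_option autoImplicit false
universe u v

namespace Groth.Agent.Helper7.FrobH1

open scoped Topology

section Gen

variable {G : Type*} [Group G] {A : Type*} [Group A] [MulDistribMulAction G A]

lemma cocycle_one (z : GpH1.OneCocycle G A) : z 1 = 1 := by
  have h := z.2 1 1
  rw [mul_one, one_smul] at h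
  have h' : z 1 * z 1 = z 1 * 1 := by rw [mul_one]; exact h.symm
  exact mul_left_cancel h'

/-- twisted powers `a · π(a) ⋯ π^{m-1}(a)` -/
def bseq (π : G) (a : A) : ℕ → A
  | 0 => 1
  | (m + 1) => a * π • bseq π a m

@[simp] lemma bseq_zero (π : G) (a : A) : bseq π a 0 = 1 := rfl

lemma bseq_succ (π : G) (a : A) (m : ℕ) : bseq π a (m + 1) = a * π • bseq π a m := rfl

lemma bseq_one (π : G) (a : A) : bseq π a 1 = a := by
  rw [bseq_succ, bseq_zero, smul_one, mul_one]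

lemma bseq_add (π : G) (a : A) (m l : ℕ) :
    bseq π a (m + l) = bseq π a m * (π ^ m) • bseq π a l := by
  induction m with
  | zero => simp
  | succ m ih =>
    rw [Nat.succ_add, bseq_succ, bseq_succ, ih, smul_mul', pow_succ', mul_smul, mul_assoc]

lemma cocycle_pow (z : GpH1.OneCocycle G A) (π : G) (m : ℕ) : z (π ^ m) = bseq π (z π) m := by
  induction m with
  | zero => simp [cocycle_one]
  | succ m ih => rw [pow_succ', z.2, ih, bseq_succ]

lemma twisted_pow (z z' : GpH1.OneCocycle G A) (π : G) (g : A)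
    (h : z' π = g * z π * (π • g)⁻¹) (m : ℕ) :
    z' (π ^ m) = g * z (π ^ m) * ((π ^ m) • g)⁻¹ := by
  induction m with
  | zero => simp [cocycle_one]
  | succ m ih =>
    rw [pow_succ', z'.2, z.2, ih, h]
    simp only [smul_mul', smul_inv', mul_smul]
    group

lemma smul_locConst [TopologicalSpace G] [IsTopologicalGroup G]
    (hcont : ∀ a : A, IsOpen {σ : G | σ • a = a}) (g : A) :
    IsLocallyConstant (fun σ : G => σ • g) := by
  rw [IsLocallyConstant.iff_exists_open]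
  intro σ
  refine ⟨(fun τ => σ⁻¹ * τ) ⁻¹' {τ | τ • g = g}, (hcont g).preimage (continuous_mul_left σ⁻¹),
    by simp, fun σ' hσ' => ?_⟩
  have h : (σ⁻¹ * σ') • g = g := hσ'
  calc σ' • g = (σ * (σ⁻¹ * σ')) • g := by rw [mul_inv_cancel_left]
    _ = σ • g := by rw [mul_smul, h]

end Gen

section Field

variable {k : Type u} [Field k] [Finite k]


lemma pow_apply (π : (AlgebraicClosure k ≃ₐ[k] AlgebraicClosure k)) (hπ : ∀ x : AlgebraicClosure k, π x = x ^ Nat.card k) (m : ℕ)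
    (x : AlgebraicClosure k) : (π ^ m) x = x ^ (Nat.card k ^ m) := by
  induction m generalizing x with
  | zero => simp
  | succ m ih => rw [pow_succ', AlgEquiv.mul_apply, ih, hπ, ← pow_mul, ← pow_succ]

lemma exists_pow_on (π : (AlgebraicClosure k ≃ₐ[k] AlgebraicClosure k)) (hπ : ∀ x : AlgebraicClosure k, π x = x ^ Nat.card k)
    (E : IntermediateField k (AlgebraicClosure k)) [FiniteDimensional k E] (σ : (AlgebraicClosure k ≃ₐ[k] AlgebraicClosure k)) :
    ∃ m : ℕ, ∀ x ∈ E, σ x = (π ^ m) x := by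
  classical
  haveI : Fintype k := Fintype.ofFinite k
  haveI : Finite E := Module.finite_of_finite k
  obtain ⟨⟨m, hmlt⟩, hm⟩ :=
    (FiniteField.bijective_frobeniusAlgEquivOfAlgebraic_pow k E).2 (σ.restrictNormal E)
  have hm' : FiniteField.frobeniusAlgEquivOfAlgebraic k E ^ m = σ.restrictNormal E := hm
  refine ⟨m, fun x hx => ?_⟩
  have h1 : ((σ.restrictNormal E) ⟨x, hx⟩ : AlgebraicClosure k) = σ x :=
    AlgEquiv.restrictNormal_commutes σ E ⟨x, hx⟩
  have h2 : (FiniteField.frobeniusAlgEquivOfAlgebraic k E ^ m) ⟨x, hx⟩ =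
      (⟨x, hx⟩ : E) ^ (Fintype.card k ^ m) := by
    rw [AlgEquiv.coe_pow, FiniteField.coe_frobeniusAlgEquivOfAlgebraic_iterate]
  rw [← h1, ← hm', h2, pow_apply π hπ, Nat.card_eq_fintype_card]
  simp

lemma exists_field_mod (π : (AlgebraicClosure k ≃ₐ[k] AlgebraicClosure k)) (hπ : ∀ x : AlgebraicClosure k, π x = x ^ Nat.card k)
    (N : ℕ) (hN : 0 < N) :
    ∃ E : IntermediateField k (AlgebraicClosure k), FiniteDimensional k E ∧
      ∀ m m' : ℕ, (∀ x ∈ E, (π ^ m) x = (π ^ m') x) → m ≡ m' [MOD N] := by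
  classical
  obtain ⟨p, hp⟩ := CharP.exists k
  haveI := hp
  haveI : Fact p.Prime := ⟨CharP.char_is_prime k p⟩
  haveI : NeZero N := ⟨hN.ne'⟩
  haveI : Fintype k := Fintype.ofFinite k
  let ι : FiniteField.Extension k p N →ₐ[k] AlgebraicClosure k := IsAlgClosed.lift
  refine ⟨ι.fieldRange, ?_, ?_⟩
  · have hfin : Finite ι.fieldRange := by
      have := Set.finite_range ι
      rw [← AlgHom.coe_fieldRange] at this
      exact this.to_subtype
    infer_instance
  · intro m m' h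
    have hF : FiniteField.frobeniusAlgEquivOfAlgebraic k (FiniteField.Extension k p N) ^ m =
        FiniteField.frobeniusAlgEquivOfAlgebraic k (FiniteField.Extension k p N) ^ m' := by
      ext y
      apply (ι : FiniteField.Extension k p N →+* AlgebraicClosure k).injective
      have h1 := h (ι y) (AlgHom.mem_fieldRange.2 ⟨y, rfl⟩)
      rw [pow_apply π hπ, pow_apply π hπ, ← map_pow, ← map_pow] at h1
      simp only [AlgEquiv.coe_pow, FiniteField.coe_frobeniusAlgEquivOfAlgebraic_iterate]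
      rw [← Nat.card_eq_fintype_card]
      exact h1
    have h2 := pow_eq_pow_iff_modEq.1 hF
    rwa [FiniteField.orderOf_frobeniusAlgEquivOfAlgebraic, FiniteField.finrank_extension] at h2

variable {A : Type v} [Group A] [MulDistribMulAction (AlgebraicClosure k ≃ₐ[k] AlgebraicClosure k) A]

/-- density of the powers of Frobenius -/
lemma eq_of_eq_on_pow (π : (AlgebraicClosure k ≃ₐ[k] AlgebraicClosure k)) (hπ : ∀ x : AlgebraicClosure k, π x = x ^ Nat.card k)
    {f₁ f₂ : (AlgebraicClosure k ≃ₐ[k] AlgebraicClosure k) → A} (h₁ : IsLocallyConstant f₁) (h₂ : IsLocallyConstant f₂)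
    (h : ∀ m : ℕ, f₁ (π ^ m) = f₂ (π ^ m)) : f₁ = f₂ := by
  funext σ
  obtain ⟨V₁, hV₁, hσ₁, hc₁⟩ := (IsLocallyConstant.iff_exists_open f₁).1 h₁ σ
  obtain ⟨V₂, hV₂, hσ₂, hc₂⟩ := (IsLocallyConstant.iff_exists_open f₂).1 h₂ σ
  have hmem : (fun τ : (AlgebraicClosure k ≃ₐ[k] AlgebraicClosure k) => σ * τ) ⁻¹' (V₁ ∩ V₂) ∈ 𝓝 (1 : (AlgebraicClosure k ≃ₐ[k] AlgebraicClosure k)) := by
    apply IsOpen.mem_nhds
    · exact (hV₁.inter hV₂).preimage (continuous_mul_left σ)
    · simpa using ⟨hσ₁, hσ₂⟩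
  obtain ⟨E, hE, hsub⟩ := (krullTopology_mem_nhds_one_iff k (AlgebraicClosure k) _).1 hmem
  haveI := hE
  obtain ⟨m, hm⟩ := exists_pow_on π hπ E σ
  have hfix : σ⁻¹ * π ^ m ∈ E.fixingSubgroup := by
    rw [IntermediateField.mem_fixingSubgroup_iff]
    intro x hx
    rw [AlgEquiv.mul_apply, ← hm x hx, ← AlgEquiv.mul_apply, inv_mul_cancel, AlgEquiv.one_apply]
  have h3 := hsub hfix
  simp only [Set.mem_preimage, mul_inv_cancel_left] at h3
  rw [← hc₁ _ h3.1, ← hc₂ _ h3.2]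
  exact h m

theorem exists_cocycle (π : (AlgebraicClosure k ≃ₐ[k] AlgebraicClosure k)) (hπ : ∀ x : AlgebraicClosure k, π x = x ^ Nat.card k)
    (hcont : ∀ a : A, IsOpen {σ : (AlgebraicClosure k ≃ₐ[k] AlgebraicClosure k) | σ • a = a})
    (hfin : ∀ a : A, ∃ H : Subgroup A, (H : Set A).Finite ∧ a ∈ H ∧
      ∀ (σ : (AlgebraicClosure k ≃ₐ[k] AlgebraicClosure k)) (x : A), x ∈ H → σ • x ∈ H) (a : A) :
    ∃ z : GpH1.OneCocycleLC (AlgebraicClosure k ≃ₐ[k] AlgebraicClosure k) A, z.1 π = a := by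
  classical
  obtain ⟨H, hHfin, haH, hHst⟩ := hfin a
  have hU : {σ : (AlgebraicClosure k ≃ₐ[k] AlgebraicClosure k) | ∀ h ∈ H, σ • h = h} ∈ 𝓝 (1 : (AlgebraicClosure k ≃ₐ[k] AlgebraicClosure k)) := by
    have hset : {σ : (AlgebraicClosure k ≃ₐ[k] AlgebraicClosure k) | ∀ h ∈ H, σ • h = h} = ⋂ h ∈ (H : Set A), {σ : (AlgebraicClosure k ≃ₐ[k] AlgebraicClosure k) | σ • h = h} := by
      ext σ; simp
    rw [hset]
    apply IsOpen.mem_nhds
    · exact hHfin.isOpen_biInter (fun h _ => hcont h)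
    · simp
  obtain ⟨E₀, hE₀, hE₀sub⟩ := (krullTopology_mem_nhds_one_iff k (AlgebraicClosure k) _).1 hU
  haveI := hE₀
  have htriv : ∀ σ : (AlgebraicClosure k ≃ₐ[k] AlgebraicClosure k), σ ∈ E₀.fixingSubgroup → ∀ h ∈ H, σ • h = h := fun σ hσ => hE₀sub hσ
  -- a positive power of π fixing E₀
  obtain ⟨m₀, hm₀⟩ := exists_pow_on π hπ E₀ π⁻¹
  have hn₀ : π ^ (m₀ + 1) ∈ E₀.fixingSubgroup := by
    rw [IntermediateField.mem_fixingSubgroup_iff]
    intro x hx
    rw [pow_succ', AlgEquiv.mul_apply, ← hm₀ x hx, ← AlgEquiv.mul_apply, mul_inv_cancel,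
      AlgEquiv.one_apply]
  set n₀ := m₀ + 1 with hn₀def
  have hbH : ∀ m, bseq π a m ∈ H := by
    intro m
    induction m with
    | zero => exact H.one_mem
    | succ m ih => exact H.mul_mem haH (hHst π _ ih)
  have hpowtriv : ∀ j : ℕ, ∀ h ∈ H, (π ^ (n₀ * j)) • h = h := by
    intro j h hh
    have : π ^ (n₀ * j) ∈ E₀.fixingSubgroup := by
      rw [pow_mul]; exact Subgroup.pow_mem _ hn₀ j
    exact htriv _ this h hh
  have hbj : ∀ j, bseq π a (n₀ * j) = (bseq π a n₀) ^ j := by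
    intro j
    induction j with
    | zero => simp
    | succ j ih => rw [Nat.mul_succ, bseq_add, ih, hpowtriv j _ (hbH n₀), pow_succ]
  haveI : Finite H := hHfin.to_subtype
  have hcard : 0 < Nat.card H := Nat.card_pos
  set N := n₀ * Nat.card H with hNdef
  have hNpos : 0 < N := Nat.mul_pos (Nat.succ_pos _) hcard
  have hbN : bseq π a N = 1 := by
    rw [hNdef, hbj]
    have := pow_card_eq_one' (G := H) (x := ⟨bseq π a n₀, hbH n₀⟩)
    have h := congrArg Subtype.val this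
    simp only [Subgroup.coe_pow, Subgroup.coe_one] at h
    exact h
  have hper : ∀ m j, bseq π a (m + N * j) = bseq π a m := by
    intro m j
    induction j with
    | zero => simp
    | succ j ih => rw [Nat.mul_succ, ← add_assoc, bseq_add, ih, hbN, smul_one, mul_one]
  have hmod : ∀ m m', m ≡ m' [MOD N] → bseq π a m = bseq π a m' := by
    have aux : ∀ m m', m ≤ m' → m ≡ m' [MOD N] → bseq π a m = bseq π a m' := by
      intro m m' hle h
      obtain ⟨j, hj⟩ := (Nat.modEq_iff_dvd' hle).1 h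
      have : m' = m + N * j := by omega
      rw [this, hper]
    intro m m' h
    rcases le_total m m' with hle | hle
    · exact aux m m' hle h
    · exact (aux m' m hle h.symm).symm
  obtain ⟨E₁, hE₁fin, hE₁⟩ := exists_field_mod π hπ N hNpos
  haveI := hE₁fin
  haveI : FiniteDimensional k ↥(E₀ ⊔ E₁) := IntermediateField.finiteDimensional_sup E₀ E₁
  have hE₀le : E₀ ≤ E₀ ⊔ E₁ := le_sup_left
  have hE₁le : E₁ ≤ E₀ ⊔ E₁ := le_sup_right
  choose mσ hmσ using (fun σ : (AlgebraicClosure k ≃ₐ[k] AlgebraicClosure k) => exists_pow_on π hπ (E₀ ⊔ E₁) σ)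
  have hkey : ∀ (σ : (AlgebraicClosure k ≃ₐ[k] AlgebraicClosure k)) (m : ℕ), (∀ x ∈ E₀ ⊔ E₁, σ x = (π ^ m) x) →
      bseq π a (mσ σ) = bseq π a m := by
    intro σ m h
    refine hmod _ _ (hE₁ _ _ (fun x hx => ?_))
    rw [← hmσ σ x (hE₁le hx), h x (hE₁le hx)]
  have hact : ∀ (σ : (AlgebraicClosure k ≃ₐ[k] AlgebraicClosure k)) (m : ℕ), (∀ x ∈ E₀ ⊔ E₁, σ x = (π ^ m) x) → ∀ h ∈ H,
      σ • h = (π ^ m) • h := by
    intro σ m h x hx
    have hfix : (π ^ m)⁻¹ * σ ∈ E₀.fixingSubgroup := by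
      rw [IntermediateField.mem_fixingSubgroup_iff]
      intro y hy
      rw [AlgEquiv.mul_apply, h y (hE₀le hy), ← AlgEquiv.mul_apply, inv_mul_cancel,
        AlgEquiv.one_apply]
    have h1 := htriv _ hfix x hx
    calc σ • x = (π ^ m * ((π ^ m)⁻¹ * σ)) • x := by rw [mul_inv_cancel_left]
      _ = (π ^ m) • x := by rw [mul_smul, h1]
  have hco : GpH1.IsOneCocycle (fun σ : (AlgebraicClosure k ≃ₐ[k] AlgebraicClosure k) => bseq π a (mσ σ)) := by
    intro σ τ
    have hστ : ∀ x ∈ E₀ ⊔ E₁, (σ * τ) x = (π ^ (mσ σ + mσ τ)) x := by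
      intro x hx
      have hx' : (π ^ mσ τ) x ∈ E₀ ⊔ E₁ := by
        rw [pow_apply π hπ]; exact pow_mem hx _
      rw [AlgEquiv.mul_apply, hmσ τ x hx, hmσ σ _ hx', pow_add, AlgEquiv.mul_apply]
    show bseq π a (mσ (σ * τ)) = bseq π a (mσ σ) * σ • bseq π a (mσ τ)
    rw [hkey (σ * τ) _ hστ, bseq_add, hact σ (mσ σ) (hmσ σ) _ (hbH _)]
  have hlc : IsLocallyConstant (fun σ : (AlgebraicClosure k ≃ₐ[k] AlgebraicClosure k) => bseq π a (mσ σ)) := by
    rw [IsLocallyConstant.iff_exists_open]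
    intro σ
    refine ⟨(fun τ => σ⁻¹ * τ) ⁻¹' ((E₀ ⊔ E₁).fixingSubgroup : Set (AlgebraicClosure k ≃ₐ[k] AlgebraicClosure k)),
      ((E₀ ⊔ E₁).fixingSubgroup_isOpen).preimage (continuous_mul_left σ⁻¹), by simp,
      fun σ' hσ' => ?_⟩
    have hσ'' : σ⁻¹ * σ' ∈ (E₀ ⊔ E₁).fixingSubgroup := hσ'
    refine hkey σ' (mσ σ) (fun x hx => ?_)
    have h1 := (IntermediateField.mem_fixingSubgroup_iff _ _).1 hσ'' x hx
    calc σ' x = (σ * (σ⁻¹ * σ')) x := by rw [mul_inv_cancel_left]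
      _ = σ x := by rw [AlgEquiv.mul_apply, h1]
      _ = _ := hmσ σ x hx
  refine ⟨⟨⟨fun σ : (AlgebraicClosure k ≃ₐ[k] AlgebraicClosure k) => bseq π a (mσ σ), hco⟩, hlc⟩, ?_⟩
  show bseq π a (mσ π) = a
  rw [hkey π 1 (fun x _ => by rw [pow_one]), bseq_one]

end Field

end Groth.Agent.Helper7.FrobH1
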