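import Mathlib

/-!
# Characters of the additive group in characteristic `p` (helper7)

Polynomial (and power-series) characters `f(X+Y) = f(X) f(Y)`: coefficientwise criterion,
binomial coefficients in characteristic `p`, and the structure theorem
`f = ∏ exp_p(a_i X^{p^i})`.
-/

set_option autoImplicit false

namespace Groth.Agent.Helper7.GaChar

noncomputable section

variable {A : Type*} [CommRing A]

local notation "X0" => (MvPolynomial.X 0 : MvPolynomial (Fin 2) A)
local notation "X1" => (MvPolynomial.X 1 : MvPolynomial (Fin 2) A)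

/-- the exponent vector `(i,j)` -/
def mono (i j : ℕ) : Fin 2 →₀ ℕ := Finsupp.single 0 i + Finsupp.single 1 j

@[simp] lemma mono_zero (i j : ℕ) : mono i j 0 = i := by simp [mono]
@[simp] lemma mono_one (i j : ℕ) : mono i j 1 = j := by simp [mono]

lemma eq_mono (m : Fin 2 →₀ ℕ) : m = mono (m 0) (m 1) := by
  ext k; fin_cases k <;> simp

lemma mono_inj {i j a b : ℕ} : mono i j = mono a b ↔ i = a ∧ j = b := by
  constructor
  · intro h
    exact ⟨by simpa using DFunLike.congr_fun h 0, by simpa using DFunLike.congr_fun h 1⟩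
  · rintro ⟨rfl, rfl⟩; rfl

lemma X_pow_mul_X_pow (a b : ℕ) : X0 ^ a * X1 ^ b = MvPolynomial.monomial (mono a b) (1 : A) := by
  rw [MvPolynomial.X_pow_eq_monomial, MvPolynomial.X_pow_eq_monomial, MvPolynomial.monomial_mul,
    one_mul]
  rfl

lemma coeff_XX (i j a b : ℕ) :
    MvPolynomial.coeff (mono i j) (X0 ^ a * X1 ^ b) = if a = i ∧ b = j then (1 : A) else 0 := by
  rw [X_pow_mul_X_pow, MvPolynomial.coeff_monomial]
  simp only [mono_inj]

lemma coeff_add_pow (i j k : ℕ) :
    MvPolynomial.coeff (mono i j) ((X0 + X1) ^ k) = if k = i + j then (k.choose i : A) else 0 := by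
  rw [MvPolynomial.coeff_add_pow, mono_zero, mono_one]
  simp only [Finset.HasAntidiagonal.mem_antidiagonal]
  by_cases h : k = i + j
  · rw [if_pos h, if_pos h.symm]
  · rw [if_neg h, if_neg (fun h' => h h'.symm), Nat.cast_zero]

lemma coeff_aeval_add (g : Polynomial A) (i j : ℕ) :
    MvPolynomial.coeff (mono i j) (Polynomial.aeval (X0 + X1) g) =
      g.coeff (i + j) * ((i + j).choose i : A) := by
  rw [Polynomial.aeval_eq_sum_range' (p := g) (n := g.natDegree + 1 + i + j) (by omega),
    MvPolynomial.coeff_sum]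
  rw [Finset.sum_eq_single (i + j)]
  · rw [MvPolynomial.coeff_smul, coeff_add_pow, if_pos rfl, smul_eq_mul]
  · intro k _ hk
    rw [MvPolynomial.coeff_smul, coeff_add_pow, if_neg hk, smul_zero]
  · intro h; exact absurd (Finset.mem_range.mpr (by omega)) h

lemma coeff_aeval_mul (g h : Polynomial A) (i j : ℕ) :
    MvPolynomial.coeff (mono i j) (Polynomial.aeval X0 g * Polynomial.aeval X1 h) =
      g.coeff i * h.coeff j := by
  rw [Polynomial.aeval_eq_sum_range' (p := g) (n := g.natDegree + 1 + i) (by omega),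
    Polynomial.aeval_eq_sum_range' (p := h) (n := h.natDegree + 1 + j) (by omega),
    Finset.sum_mul_sum, MvPolynomial.coeff_sum]
  rw [Finset.sum_eq_single i]
  · rw [MvPolynomial.coeff_sum, Finset.sum_eq_single j]
    · rw [smul_mul_smul_comm, MvPolynomial.coeff_smul, coeff_XX, if_pos ⟨rfl, rfl⟩, smul_eq_mul,
        mul_one]
    · intro b _ hb
      rw [smul_mul_smul_comm, MvPolynomial.coeff_smul, coeff_XX, if_neg (fun h => hb h.2),
        smul_zero]
    · intro h'; exact absurd (Finset.mem_range.mpr (by omega)) h'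
  · intro a _ ha
    rw [MvPolynomial.coeff_sum]
    apply Finset.sum_eq_zero
    intro b _
    rw [smul_mul_smul_comm, MvPolynomial.coeff_smul, coeff_XX, if_neg (fun h => ha h.1),
      smul_zero]
  · intro h'; exact absurd (Finset.mem_range.mpr (by omega)) h'

/-- coefficientwise criterion for a polynomial character -/
lemma char_iff (f : Polynomial A) :
    Polynomial.aeval (X0 + X1) f = Polynomial.aeval X0 f * Polynomial.aeval X1 f ↔
    ∀ i j, f.coeff (i + j) * ((i + j).choose i : A) = f.coeff i * f.coeff j := by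
  constructor
  · intro h i j
    rw [← coeff_aeval_add, ← coeff_aeval_mul, h]
  · intro h
    ext m
    rw [eq_mono m, coeff_aeval_add, coeff_aeval_mul, h]

lemma coeff_of_mem_span {q : ℕ} {P : MvPolynomial (Fin 2) A}
    (hP : P ∈ Ideal.span {X0 ^ q, X1 ^ q}) {i j : ℕ} (hi : i < q) (hj : j < q) :
    MvPolynomial.coeff (mono i j) P = 0 := by
  obtain ⟨u, v, rfl⟩ := Ideal.mem_span_pair.mp hP
  rw [MvPolynomial.coeff_add, MvPolynomial.X_pow_eq_monomial, MvPolynomial.X_pow_eq_monomial,
    MvPolynomial.coeff_mul_monomial', MvPolynomial.coeff_mul_monomial', if_neg, if_neg, add_zero]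
  all_goals
    intro h
    first
      | (have h0 := h 0; rw [Finsupp.single_eq_same, mono_zero] at h0; omega)
      | (have h1 := h 1; rw [Finsupp.single_eq_same, mono_one] at h1; omega)

lemma char_trunc {q : ℕ} (f : Polynomial A)
    (h : Ideal.Quotient.mk (Ideal.span {X0 ^ q, X1 ^ q}) (Polynomial.aeval (X0 + X1) f) =
      Ideal.Quotient.mk (Ideal.span {X0 ^ q, X1 ^ q})
        (Polynomial.aeval X0 f * Polynomial.aeval X1 f))
    {i j : ℕ} (hi : i < q) (hj : j < q) :
    f.coeff (i + j) * ((i + j).choose i : A) = f.coeff i * f.coeff j := by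
  have := coeff_of_mem_span (Ideal.Quotient.eq.mp h) hi hj
  rw [MvPolynomial.coeff_sub, coeff_aeval_add, coeff_aeval_mul, sub_eq_zero] at this
  exact this

/-- coefficientwise criterion for a formal character -/
lemma char_iff_ps (χ : PowerSeries A) :
    PowerSeries.subst (MvPowerSeries.X 0 + MvPowerSeries.X 1 : MvPowerSeries (Fin 2) A) χ =
        PowerSeries.subst (MvPowerSeries.X 0 : MvPowerSeries (Fin 2) A) χ *
          PowerSeries.subst (MvPowerSeries.X 1 : MvPowerSeries (Fin 2) A) χ ↔
    ∀ i j, PowerSeries.coeff (i + j) χ * ((i + j).choose i : A) =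
      PowerSeries.coeff i χ * PowerSeries.coeff j χ := by
  constructor
  · intro h i j
    have := congrArg (MvPowerSeries.coeff (mono i j)) h
    rw [PowerSeries.coeff_subst_X_zero_add_X_one, PowerSeries.coeff_subst_X_zero_subst_mul_X_one,
      mono_zero, mono_one] at this
    rw [mul_comm]; exact this
  · intro h
    ext m
    rw [PowerSeries.coeff_subst_X_zero_add_X_one, PowerSeries.coeff_subst_X_zero_subst_mul_X_one,
      mul_comm]
    exact h _ _

/-- the truncated exponential `exp_p(b X^{p^l})` -/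
def Ep (p : ℕ) (b : A) (l : ℕ) : Polynomial A :=
  ∑ j ∈ Finset.range p,
    Polynomial.C (Ring.inverse (j.factorial : A) * b ^ j) * Polynomial.X ^ (j * p ^ l)

lemma Ep_natDegree_le (p : ℕ) (b : A) (l : ℕ) : (Ep p b l).natDegree ≤ (p - 1) * p ^ l := by
  unfold Ep
  apply Polynomial.natDegree_sum_le_of_forall_le
  intro j hj
  have : j ≤ p - 1 := by have := Finset.mem_range.mp hj; omega
  exact (Polynomial.natDegree_C_mul_X_pow_le _ _).trans (Nat.mul_le_mul_right _ this)

lemma coeff_Ep0 (p : ℕ) (b : A) (k : ℕ) :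
    (Ep p b 0).coeff k = if k < p then Ring.inverse (k.factorial : A) * b ^ k else 0 := by
  unfold Ep
  rw [Polynomial.finsetSum_coeff]
  simp only [pow_zero, mul_one, Polynomial.coeff_C_mul_X_pow]
  rw [Finset.sum_ite_eq]
  simp only [Finset.mem_range]

lemma Ep_eq_expand (p : ℕ) (b : A) (l : ℕ) :
    Ep p b l = Polynomial.expand A (p ^ l) (Ep p b 0) := by
  unfold Ep
  rw [map_sum]
  apply Finset.sum_congr rfl
  intro j _
  rw [map_mul (Polynomial.expand A (p ^ l)), Polynomial.expand_C, map_pow, Polynomial.expand_X,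
    pow_zero, mul_one, ← pow_mul, mul_comm j]

/-- `f` is a character `𝔾_a → 𝔾_m` -/
def IsChar (f : Polynomial A) : Prop :=
  f.eval 0 = 1 ∧ Polynomial.aeval (X0 + X1) f = Polynomial.aeval X0 f * Polynomial.aeval X1 f

lemma IsChar.one : IsChar (1 : Polynomial A) := ⟨by simp, by simp⟩

lemma IsChar.mul {f g : Polynomial A} (hf : IsChar f) (hg : IsChar g) : IsChar (f * g) :=
  ⟨by rw [Polynomial.eval_mul, hf.1, hg.1, one_mul],
    by rw [map_mul, map_mul, map_mul, hf.2, hg.2]; ring⟩

lemma IsChar.prod {ι : Type*} (s : Finset ι) (f : ι → Polynomial A) (h : ∀ i ∈ s, IsChar (f i)) :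
    IsChar (∏ i ∈ s, f i) :=
  Finset.prod_induction f IsChar (fun _ _ => IsChar.mul) IsChar.one h

lemma alg_aux (u v w C x y z bi bj : A) (hx : x * u = 1) (hy : y * v = 1) (hz : z * w = 1)
    (key : C * v * w = u) : x * (bi * bj) * C = y * bi * (z * bj) := by
  have hC : C = u * y * z := by
    calc C = C * (y * v) * (z * w) := by rw [hy, hz, mul_one, mul_one]
      _ = (C * v * w) * y * z := by ring
      _ = u * y * z := by rw [key]
  rw [hC]
  linear_combination (bi * bj * y * z) * hx

variable (p : ℕ) [hpF : Fact p.Prime] [CharP A p]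

lemma choose_L2 (l s : ℕ) : ((s * p ^ l).choose (p ^ l) : A) = (s : A) := by
  have hp : p.Prime := Fact.out
  have hq : 0 < p ^ l := pow_pos hp.pos l
  have key : ((1 + Polynomial.X : Polynomial A)) ^ (s * p ^ l) =
      Polynomial.expand A (p ^ l) ((1 + Polynomial.X) ^ s) := by
    rw [mul_comm s, pow_mul, add_pow_char_pow, one_pow, map_pow, map_add, map_one,
      Polynomial.expand_X]
  have h := congrArg (fun P => Polynomial.coeff P (p ^ l)) key
  simp only [Polynomial.coeff_one_add_X_pow, Polynomial.coeff_expand hq, dvd_refl, if_true,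
    Nat.div_self hq, Nat.choose_one_right] at h
  exact h

lemma choose_L1 (l r s : ℕ) (hr : r < p ^ l) : ((r + s * p ^ l).choose r : A) = 1 := by
  have hp : p.Prime := Fact.out
  have hq : 0 < p ^ l := pow_pos hp.pos l
  have key : ((1 + Polynomial.X : Polynomial A)) ^ (r + s * p ^ l) =
      (1 + Polynomial.X) ^ r * Polynomial.expand A (p ^ l) ((1 + Polynomial.X) ^ s) := by
    rw [pow_add, mul_comm s, pow_mul, add_pow_char_pow, one_pow, map_pow, map_add, map_one,
      Polynomial.expand_X]
  have h := congrArg (fun P => Polynomial.coeff P r) key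
  simp only [Polynomial.coeff_one_add_X_pow] at h
  rw [h, Polynomial.coeff_mul, Finset.sum_eq_single (r, 0)]
  · simp only [Polynomial.coeff_one_add_X_pow, Polynomial.coeff_expand hq, dvd_zero, if_true,
      Nat.zero_div, Nat.choose_self, Nat.choose_zero_right, Nat.cast_one, mul_one]
  · rintro ⟨a, b⟩ hab hne
    have hab' : a + b = r := Finset.HasAntidiagonal.mem_antidiagonal.mp hab
    rw [Polynomial.coeff_expand hq, if_neg, mul_zero]
    intro hdvd
    have hdvd' : p ^ l ∣ b := hdvd
    have hb : b = 0 := Nat.eq_zero_of_dvd_of_lt hdvd' (by omega)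
    apply hne
    subst hb
    have : a = r := by omega
    rw [this]
  · intro h'; exact absurd (Finset.HasAntidiagonal.mem_antidiagonal.mpr (Nat.add_zero r)) h'

lemma isUnit_natCast {m : ℕ} (hm : ¬ p ∣ m) : IsUnit (m : A) := by
  have h1 : IsUnit (m : ZMod p) := by
    rw [isUnit_iff_ne_zero, Ne, ZMod.natCast_eq_zero_iff]
    exact hm
  have h2 := h1.map (ZMod.castHom (dvd_refl p) A)
  rwa [map_natCast] at h2

lemma isUnit_factorial {s : ℕ} (hs : s < p) : IsUnit (s.factorial : A) := by
  apply isUnit_natCast p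
  rw [(Fact.out : p.Prime).dvd_factorial]
  omega

omit [CharP A p] in
lemma coeff_mul_Ep (P : Polynomial A) (b : A) (l : ℕ) (hP : P.natDegree < p ^ l) (k : ℕ)
    (hk : k < p ^ (l + 1)) :
    (P * Ep p b l).coeff k =
      P.coeff (k % p ^ l) * (Ring.inverse ((k / p ^ l).factorial : A) * b ^ (k / p ^ l)) := by
  have hp : p.Prime := Fact.out
  have hq0 : 0 < p ^ l := pow_pos hp.pos l
  unfold Ep
  set q := p ^ l with hq
  have hk' : k < q * p := by rw [hq, ← pow_succ]; exact hk
  have ht : k / q < p := Nat.div_lt_of_lt_mul hk'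
  rw [Finset.mul_sum, Polynomial.finsetSum_coeff, Finset.sum_eq_single (k / q)]
  · rw [← mul_assoc, Polynomial.coeff_mul_X_pow', if_pos (Nat.div_mul_le_self k q),
      Polynomial.coeff_mul_C]
    have e : k - k / q * q = k % q := by have := Nat.mod_add_div' k q; omega
    rw [e]
  · intro j _ hj
    rw [← mul_assoc, Polynomial.coeff_mul_X_pow']
    split_ifs with hjk
    · rw [Polynomial.coeff_mul_C, Polynomial.coeff_eq_zero_of_natDegree_lt, zero_mul]
      have h1 : j ≤ k / q := (Nat.le_div_iff_mul_le hq0).mpr hjk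
      have h2 : j + 1 ≤ k / q := by omega
      have h3 : (j + 1) * q ≤ k := (Nat.le_div_iff_mul_le hq0).mp h2
      rw [add_mul, one_mul] at h3
      omega
    · rfl
  · intro h; exact absurd (Finset.mem_range.mpr ht) h

theorem main_seq (c : ℕ → A) (n : ℕ) (h0 : c 0 = 1)
    (hstar : ∀ i j, i < p ^ n → j < p ^ n → c (i + j) * ((i + j).choose i : A) = c i * c j) :
    (∀ l, l < n → c (p ^ l) ^ p = 0) ∧
    ∀ m, m ≤ n → (∏ l ∈ Finset.range m, Ep p (c (p ^ l)) l).natDegree < p ^ m ∧
      ∀ k, k < p ^ m → (∏ l ∈ Finset.range m, Ep p (c (p ^ l)) l).coeff k = c k := by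
  have hp : p.Prime := Fact.out
  have hp1 : 1 < p := hp.one_lt
  have step1 : ∀ l, l < n → ∀ s, s < p →
      c (s * p ^ l) * (s.factorial : A) = c (p ^ l) ^ s := by
    intro l hl s
    have hq : p ^ (l + 1) ≤ p ^ n := Nat.pow_le_pow_right hp.pos hl
    have hq0 : 0 < p ^ l := pow_pos hp.pos l
    have hql : p ^ l < p ^ n := Nat.pow_lt_pow_right hp1 hl
    induction s with
    | zero => intro _; simp [h0]
    | succ s ih =>
      intro hs
      have ih' := ih (by omega)
      have hsq : s * p ^ l < p ^ n := by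
        calc s * p ^ l < p * p ^ l := mul_lt_mul_of_pos_right (by omega) hq0
          _ = p ^ (l + 1) := by rw [pow_succ, mul_comm]
          _ ≤ p ^ n := hq
      have h := hstar (p ^ l) (s * p ^ l) hql hsq
      have e : p ^ l + s * p ^ l = (s + 1) * p ^ l := by ring
      rw [e, choose_L2 (A := A) p] at h
      rw [Nat.factorial_succ, Nat.cast_mul, ← mul_assoc, h, mul_assoc, ih', pow_succ, mul_comm]
  have step2 : ∀ l, l < n → c (p ^ l) ^ p = 0 := by
    intro l hl
    have hq : p ^ (l + 1) ≤ p ^ n := Nat.pow_le_pow_right hp.pos hl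
    have hq0 : 0 < p ^ l := pow_pos hp.pos l
    have hql : p ^ l < p ^ n := Nat.pow_lt_pow_right hp1 hl
    have hsq : (p - 1) * p ^ l < p ^ n := by
      calc (p - 1) * p ^ l < p * p ^ l := mul_lt_mul_of_pos_right (by omega) hq0
        _ = p ^ (l + 1) := by rw [pow_succ, mul_comm]
        _ ≤ p ^ n := hq
    have h := hstar (p ^ l) ((p - 1) * p ^ l) hql hsq
    have e : p ^ l + (p - 1) * p ^ l = p * p ^ l := by
      have h1 : (p - 1) * p ^ l = p * p ^ l - p ^ l := by rw [Nat.sub_mul, one_mul]
      have h2 : p ^ l ≤ p * p ^ l := Nat.le_mul_of_pos_left _ hp.pos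
      omega
    rw [e, choose_L2 (A := A) p, CharP.cast_eq_zero, mul_zero] at h
    have s1 := step1 l hl (p - 1) (by omega)
    have e2 : c (p ^ l) ^ p = c (p ^ l) * c (p ^ l) ^ (p - 1) := by
      rw [← pow_succ', Nat.sub_add_cancel hp.pos]
    rw [e2, ← s1, ← mul_assoc, ← h, zero_mul]
  refine ⟨step2, ?_⟩
  intro m
  induction m with
  | zero =>
    intro _
    refine ⟨by simp, ?_⟩
    intro k hk
    have hk0 : k = 0 := by simpa using hk
    subst hk0
    simp [h0]
  | succ m ih =>
    intro hm
    obtain ⟨ihd, ihc⟩ := ih (by omega)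
    have hq0 : 0 < p ^ m := pow_pos hp.pos m
    have hmn : m < n := hm
    rw [Finset.prod_range_succ]
    constructor
    · calc ((∏ l ∈ Finset.range m, Ep p (c (p ^ l)) l) * Ep p (c (p ^ m)) m).natDegree
          ≤ (∏ l ∈ Finset.range m, Ep p (c (p ^ l)) l).natDegree
              + (Ep p (c (p ^ m)) m).natDegree := Polynomial.natDegree_mul_le
        _ ≤ (p ^ m - 1) + (p - 1) * p ^ m := Nat.add_le_add (by omega) (Ep_natDegree_le p _ m)
        _ < p ^ (m + 1) := by
          have h1 : (p - 1) * p ^ m = p * p ^ m - p ^ m := by rw [Nat.sub_mul, one_mul]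
          have h2 : p ^ m ≤ p * p ^ m := Nat.le_mul_of_pos_left _ hp.pos
          have h3 : p ^ (m + 1) = p * p ^ m := by rw [pow_succ, mul_comm]
          omega
    · intro k hk
      rw [coeff_mul_Ep p _ _ m ihd k hk]
      have hr : k % p ^ m < p ^ m := Nat.mod_lt _ hq0
      have hk' : k < p ^ m * p := by rw [← pow_succ]; exact hk
      have ht : k / p ^ m < p := Nat.div_lt_of_lt_mul hk'
      rw [ihc _ hr, ← step1 m hmn (k / p ^ m) ht]
      have hu : IsUnit ((k / p ^ m).factorial : A) := isUnit_factorial p ht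
      have hinv : Ring.inverse ((k / p ^ m).factorial : A) *
          (c (k / p ^ m * p ^ m) * ((k / p ^ m).factorial : A)) = c (k / p ^ m * p ^ m) := by
        rw [mul_comm (c _), ← mul_assoc, Ring.inverse_mul_cancel _ hu, one_mul]
      rw [hinv]
      have hrn : k % p ^ m < p ^ n := lt_of_lt_of_le hr (Nat.pow_le_pow_right hp.pos hmn.le)
      have hkn : k < p ^ n := lt_of_lt_of_le hk (Nat.pow_le_pow_right hp.pos hm)
      have htn : k / p ^ m * p ^ m < p ^ n := lt_of_le_of_lt (Nat.div_mul_le_self k _) hkn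
      have h := hstar (k % p ^ m) (k / p ^ m * p ^ m) hrn htn
      rw [choose_L1 (A := A) p m (k % p ^ m) (k / p ^ m) hr, mul_one,
        Nat.mod_add_div' k (p ^ m)] at h
      exact h.symm

theorem alphaPn (n : ℕ) (f : Polynomial A) (hdeg : f.natDegree < p ^ n) (h0 : f.coeff 0 = 1)
    (hstar : ∀ i j, i < p ^ n → j < p ^ n →
      f.coeff (i + j) * ((i + j).choose i : A) = f.coeff i * f.coeff j) :
    ∃ a : ℕ → A, (∀ i, a i ^ p = 0) ∧ f = ∏ i ∈ Finset.range n, Ep p (a i) i := by
  obtain ⟨h2, h3⟩ := main_seq p (fun k => f.coeff k) n h0 hstar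
  refine ⟨fun l => if l < n then f.coeff (p ^ l) else 0, ?_, ?_⟩
  · intro i
    by_cases hi : i < n
    · simp only [if_pos hi]; exact h2 i hi
    · simp only [if_neg hi]; exact zero_pow (Fact.out : p.Prime).pos.ne'
  · have hprod : ∏ i ∈ Finset.range n, Ep p (if i < n then f.coeff (p ^ i) else 0) i =
        ∏ l ∈ Finset.range n, Ep p (f.coeff (p ^ l)) l := by
      apply Finset.prod_congr rfl
      intro i hi
      rw [if_pos (Finset.mem_range.mp hi)]
    rw [hprod]
    obtain ⟨hd, hc⟩ := h3 n le_rfl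
    ext k
    by_cases hk : k < p ^ n
    · exact (hc k hk).symm
    · rw [Polynomial.coeff_eq_zero_of_natDegree_lt (by omega),
        Polynomial.coeff_eq_zero_of_natDegree_lt (by omega)]

lemma isChar_Ep0 (b : A) (hb : b ^ p = 0) : IsChar (Ep p b 0) := by
  have hp : p.Prime := Fact.out
  constructor
  · rw [← Polynomial.coeff_zero_eq_eval_zero, coeff_Ep0, if_pos hp.pos]
    simp
  · rw [char_iff]
    intro i j
    rw [coeff_Ep0, coeff_Ep0, coeff_Ep0]
    by_cases hij : i + j < p
    · have hi : i < p := by omega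
      have hj : j < p := by omega
      rw [if_pos hij, if_pos hi, if_pos hj, pow_add]
      apply alg_aux ((i + j).factorial : A) (i.factorial : A) (j.factorial : A)
      · exact Ring.inverse_mul_cancel _ (isUnit_factorial p hij)
      · exact Ring.inverse_mul_cancel _ (isUnit_factorial p hi)
      · exact Ring.inverse_mul_cancel _ (isUnit_factorial p hj)
      · have h := Nat.add_choose_mul_factorial_mul_factorial i j
        rw [← Nat.choose_symm_add] at h
        rw [← h]
        simp only [Nat.cast_mul]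
    · rw [if_neg hij, zero_mul]
      by_cases hi : i < p
      · by_cases hj : j < p
        · rw [if_pos hi, if_pos hj]
          have : b ^ i * b ^ j = 0 := by
            rw [← pow_add]; exact pow_eq_zero_of_le (by omega) hb
          calc (0 : A) = Ring.inverse (i.factorial : A) * Ring.inverse (j.factorial : A) *
                (b ^ i * b ^ j) := by rw [this, mul_zero]
            _ = _ := by ring
        · rw [if_neg hj, mul_zero]
      · rw [if_neg hi, zero_mul]

lemma IsChar.expand {g : Polynomial A} (hg : IsChar g) (l : ℕ) :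
    IsChar (Polynomial.expand A (p ^ l) g) := by
  have hp : p.Prime := Fact.out
  constructor
  · rw [Polynomial.expand_eval, zero_pow (pow_pos hp.pos l).ne', hg.1]
  · rw [Polynomial.expand_aeval, Polynomial.expand_aeval, Polynomial.expand_aeval,
      add_pow_char_pow]
    let ψ : MvPolynomial (Fin 2) A →ₐ[A] MvPolynomial (Fin 2) A :=
      MvPolynomial.aeval ![X0 ^ p ^ l, X1 ^ p ^ l]
    have h0 : ψ X0 = X0 ^ p ^ l := by simp [ψ]
    have h1 : ψ X1 = X1 ^ p ^ l := by simp [ψ]
    rw [← h0, ← h1, ← map_add, Polynomial.aeval_algHom_apply, Polynomial.aeval_algHom_apply,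
      Polynomial.aeval_algHom_apply, hg.2, map_mul]

lemma isChar_Ep (b : A) (hb : b ^ p = 0) (l : ℕ) : IsChar (Ep p b l) := by
  rw [Ep_eq_expand]; exact (isChar_Ep0 p b hb).expand p l

end

end Groth.Agent.Helper7.GaChar
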