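import Groth.Agent.Lib.Helper7.GaChar

/-!
# Characters of the additive group over a `ℚ`-algebra (helper7)
-/

set_option autoImplicit false

namespace Groth.Agent.Helper7.GaChar

variable {A : Type*} [CommRing A] [Algebra ℚ A]

lemma fact_mul_inv (k : ℕ) :
    (k.factorial : A) * algebraMap ℚ A (1 / (k.factorial : ℚ)) = 1 := by
  rw [← map_natCast (algebraMap ℚ A), ← map_mul,
    mul_one_div_cancel (Nat.cast_ne_zero.mpr (Nat.factorial_ne_zero k)), map_one]

omit [Algebra ℚ A] in
lemma rat_seq_forward (c : ℕ → A) (h0 : c 0 = 1)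
    (hstar : ∀ i j, c (i + j) * ((i + j).choose i : A) = c i * c j) (k : ℕ) :
    c k * (k.factorial : A) = c 1 ^ k := by
  induction k with
  | zero => simp [h0]
  | succ k ih =>
    have h := hstar k 1
    rw [Nat.choose_succ_self_right] at h
    rw [Nat.factorial_succ, Nat.cast_mul, ← mul_assoc, h, mul_right_comm, ih, pow_succ]

lemma rat_seq_formula (c : ℕ → A) (h0 : c 0 = 1)
    (hstar : ∀ i j, c (i + j) * ((i + j).choose i : A) = c i * c j) (k : ℕ) :
    c k = c 1 ^ k * algebraMap ℚ A (1 / (k.factorial : ℚ)) := by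
  rw [← rat_seq_forward c h0 hstar k, mul_assoc, fact_mul_inv, mul_one]

lemma rat_aux (i j : ℕ) :
    (1 / ((i + j).factorial : ℚ)) * ((i + j).choose i : ℚ) =
      1 / (i.factorial : ℚ) * (1 / (j.factorial : ℚ)) := by
  have h := Nat.add_choose_mul_factorial_mul_factorial i j
  rw [← Nat.choose_symm_add] at h
  have h' : ((i + j).choose i : ℚ) * i.factorial * j.factorial = (i + j).factorial := by
    exact_mod_cast h
  have hi : (i.factorial : ℚ) ≠ 0 := Nat.cast_ne_zero.mpr (Nat.factorial_ne_zero i)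
  have hj : (j.factorial : ℚ) ≠ 0 := Nat.cast_ne_zero.mpr (Nat.factorial_ne_zero j)
  have hij : ((i + j).factorial : ℚ) ≠ 0 := Nat.cast_ne_zero.mpr (Nat.factorial_ne_zero _)
  field_simp
  linear_combination h'

lemma rat_seq_backward (c : ℕ → A) (a : A)
    (hc : ∀ k, c k = a ^ k * algebraMap ℚ A (1 / (k.factorial : ℚ))) (i j : ℕ) :
    c (i + j) * ((i + j).choose i : A) = c i * c j := by
  rw [hc, hc, hc, ← map_natCast (algebraMap ℚ A) ((i + j).choose i), mul_assoc, ← map_mul,
    rat_aux, map_mul, pow_add]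
  ring

end Groth.Agent.Helper7.GaChar
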