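import Mathlib

/-!
# Galois descent for stable subspaces of `L ⊗[K] A`, and transitivity of the Galois action on
minimal two-sided ideals.
-/

open TensorProduct

namespace Groth.Agent.Helper7.GalDescent

universe u v w
variable {K : Type u} {L : Type v} [Field K] [Field L] [Algebra K L]
variable {A : Type w} [Ring A] [Algebra K A]

/-- the action of `γ` on `L ⊗ A` -/
noncomputable abbrev φ (γ : L ≃ₐ[K] L) : L ⊗[K] A →ₐ[K] L ⊗[K] A :=
  Algebra.TensorProduct.map (γ : L →ₐ[K] L) (AlgHom.id K A)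

theorem φ_mul (γ δ : L ≃ₐ[K] L) (x : L ⊗[K] A) : φ γ (φ δ x) = φ (γ * δ) x := by
  induction x using TensorProduct.induction_on with
  | zero => simp
  | tmul l a => simp [φ, AlgEquiv.mul_apply]
  | add x y hx hy => simp only [map_add, hx, hy]

theorem φ_one (x : L ⊗[K] A) : φ (1 : L ≃ₐ[K] L) x = x := by
  induction x using TensorProduct.induction_on with
  | zero => simp
  | tmul l a => simp [φ]
  | add x y hx hy => simp only [map_add, hx, hy]

theorem φ_inv_φ (γ : L ≃ₐ[K] L) (x : L ⊗[K] A) : φ γ⁻¹ (φ γ x) = x := by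
  rw [φ_mul, inv_mul_cancel, φ_one]

theorem φ_φ_inv (γ : L ≃ₐ[K] L) (x : L ⊗[K] A) : φ γ (φ γ⁻¹ x) = x := by
  rw [φ_mul, mul_inv_cancel, φ_one]

theorem repr_φ {ι : Type*} (b : Module.Basis ι K A) (γ : L ≃ₐ[K] L) (w : L ⊗[K] A) (i : ι) :
    (Algebra.TensorProduct.basis L b).repr (φ γ w) i =
      γ ((Algebra.TensorProduct.basis L b).repr w i) := by
  induction w using TensorProduct.induction_on with
  | zero => simp
  | tmul l a => simp [φ, Algebra.TensorProduct.basis_repr_tmul]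
  | add x y hx hy => simp only [map_add, Finsupp.add_apply, hx, hy]

theorem exists_one_tmul_mem_aux [IsGalois K L] {ι : Type*} (b : Module.Basis ι K A)
    (W : Submodule L (L ⊗[K] A))
    (hW : ∀ (γ : L ≃ₐ[K] L) w, w ∈ W → φ γ w ∈ W) :
    ∀ n : ℕ, ∀ w ∈ W, w ≠ 0 → ((Algebra.TensorProduct.basis L b).repr w).support.card = n →
      ∃ a : A, a ≠ 0 ∧ (1 : L) ⊗ₜ[K] a ∈ W := by
  classical
  intro n
  induction n using Nat.strong_induction_on with
  | _ n ih =>
    intro w hw hw0 hn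
    have hsup : ((Algebra.TensorProduct.basis L b).repr w).support.Nonempty := by
      rw [Finsupp.support_nonempty_iff]
      intro h
      exact hw0 ((Algebra.TensorProduct.basis L b).repr.map_eq_zero_iff.1 h)
    obtain ⟨i0, hi0⟩ := hsup
    have hc : (Algebra.TensorProduct.basis L b).repr w i0 ≠ 0 := Finsupp.mem_support_iff.1 hi0
    obtain ⟨c, hcdef⟩ : ∃ c, c = (Algebra.TensorProduct.basis L b).repr w i0 := ⟨_, rfl⟩
    rw [← hcdef] at hc
    obtain ⟨w', hw'def⟩ : ∃ w', w' = c⁻¹ • w := ⟨_, rfl⟩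
    have hw' : w' ∈ W := by rw [hw'def]; exact W.smul_mem _ hw
    have hw'0 : w' ≠ 0 := by rw [hw'def]; exact smul_ne_zero (inv_ne_zero hc) hw0
    have hrepr : ∀ i, (Algebra.TensorProduct.basis L b).repr w' i =
        c⁻¹ * (Algebra.TensorProduct.basis L b).repr w i := by
      intro i; rw [hw'def]; simp
    have hsupp : ((Algebra.TensorProduct.basis L b).repr w').support =
        ((Algebra.TensorProduct.basis L b).repr w).support := by
      ext i; simp [Finsupp.mem_support_iff, hrepr, hc]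
    have h1 : (Algebra.TensorProduct.basis L b).repr w' i0 = 1 := by
      rw [hrepr, ← hcdef]; exact inv_mul_cancel₀ hc
    by_cases hfix : ∀ γ : L ≃ₐ[K] L, φ γ w' = w'
    · have hk : ∀ i, ∃ k : K, algebraMap K L k = (Algebra.TensorProduct.basis L b).repr w' i := by
        intro i
        have : (Algebra.TensorProduct.basis L b).repr w' i ∈ Set.range (algebraMap K L) := by
          rw [InfiniteGalois.mem_range_algebraMap_iff_fixed]
          intro γ
          have h2 := repr_φ b γ w' i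
          rw [hfix γ] at h2
          exact h2.symm
        exact this
      choose k hk using hk
      have e : (1 : L) ⊗ₜ[K]
          (∑ i ∈ ((Algebra.TensorProduct.basis L b).repr w').support, k i • b i) = w' := by
        rw [TensorProduct.tmul_sum]
        conv_rhs => rw [← (Algebra.TensorProduct.basis L b).linearCombination_repr w',
          Finsupp.linearCombination_apply, Finsupp.sum]
        refine Finset.sum_congr rfl fun i _ => ?_
        rw [TensorProduct.tmul_smul, ← hk i, Algebra.TensorProduct.basis_apply, algebraMap_smul]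
      refine ⟨∑ i ∈ ((Algebra.TensorProduct.basis L b).repr w').support, k i • b i, ?_, ?_⟩
      · intro h0; rw [h0, tmul_zero] at e; exact hw'0 e.symm
      · rw [e]; exact hw'
    · push Not at hfix
      obtain ⟨γ, hγ⟩ := hfix
      have huW : φ γ w' - w' ∈ W := W.sub_mem (hW γ w' hw') hw'
      have hu0 : φ γ w' - w' ≠ 0 := sub_ne_zero.2 hγ
      have hru : ∀ i, (Algebra.TensorProduct.basis L b).repr (φ γ w' - w') i =
          γ ((Algebra.TensorProduct.basis L b).repr w' i) -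
            (Algebra.TensorProduct.basis L b).repr w' i := by
        intro i; rw [map_sub, Finsupp.sub_apply, repr_φ]
      have hsub : ((Algebra.TensorProduct.basis L b).repr (φ γ w' - w')).support ⊆
          ((Algebra.TensorProduct.basis L b).repr w').support.erase i0 := by
        intro i hi
        rw [Finsupp.mem_support_iff, hru] at hi
        rw [Finset.mem_erase, Finsupp.mem_support_iff]
        refine ⟨?_, ?_⟩
        · rintro rfl; apply hi; rw [h1, map_one, sub_self]
        · intro h; apply hi; rw [h, map_zero, sub_self]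
      have hlt : ((Algebra.TensorProduct.basis L b).repr (φ γ w' - w')).support.card < n := by
        calc _ ≤ (((Algebra.TensorProduct.basis L b).repr w').support.erase i0).card :=
              Finset.card_le_card hsub
          _ < ((Algebra.TensorProduct.basis L b).repr w').support.card :=
              Finset.card_erase_lt_of_mem (by rw [hsupp]; exact hi0)
          _ = n := by rw [hsupp, hn]
      exact ih _ hlt (φ γ w' - w') huW hu0 rfl

theorem exists_one_tmul_mem [IsGalois K L] (W : Submodule L (L ⊗[K] A))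
    (hW : ∀ (γ : L ≃ₐ[K] L) w, w ∈ W → φ γ w ∈ W) (hne : W ≠ ⊥) :
    ∃ a : A, a ≠ 0 ∧ (1 : L) ⊗ₜ[K] a ∈ W := by
  obtain ⟨w, hw, hw0⟩ := Submodule.exists_mem_ne_zero_of_ne_bot hne
  exact exists_one_tmul_mem_aux (Module.Free.chooseBasis K A) W hW _ w hw hw0 rfl

/-- `φ γ` as a ring equivalence -/
noncomputable def eqv (γ : L ≃ₐ[K] L) : (L ⊗[K] A) ≃+* (L ⊗[K] A) where
  toFun := φ γ
  invFun := φ γ⁻¹
  left_inv := φ_inv_φ γ
  right_inv := φ_φ_inv γ
  map_mul' := map_mul _
  map_add' := map_add _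

theorem mem_map_eqv (γ : L ≃ₐ[K] L) (I : TwoSidedIdeal (L ⊗[K] A)) (x : L ⊗[K] A) :
    x ∈ (eqv γ).mapTwoSidedIdeal I ↔ φ γ⁻¹ x ∈ I := by
  rw [RingEquiv.mapTwoSidedIdeal_apply, TwoSidedIdeal.mem_comap]
  rfl

theorem transitive [IsGalois K L] [IsSimpleRing A]
    (I J : TwoSidedIdeal (L ⊗[K] A)) (hI : IsAtom I) (hJ : IsAtom J) :
    ∃ γ : L ≃ₐ[K] L, (J : Set (L ⊗[K] A)) =
      Algebra.TensorProduct.map (γ : L →ₐ[K] L) (AlgHom.id K A) '' (I : Set (L ⊗[K] A)) := by
  by_contra hcon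
  push Not at hcon
  -- step 2
  have step2 : ∀ (γ : L ≃ₐ[K] L), ∀ j ∈ J, ∀ x ∈ I, j * φ γ x = 0 := by
    intro γ j hj x hx
    have hatom : IsAtom ((eqv γ).mapTwoSidedIdeal I) := (OrderIso.isAtom_iff _ _).2 hI
    have hne : J ≠ (eqv γ).mapTwoSidedIdeal I := by
      intro h
      apply hcon γ
      rw [h]
      ext y
      simp only [SetLike.mem_coe, Set.mem_image, mem_map_eqv]
      constructor
      · intro hy; exact ⟨_, hy, φ_φ_inv γ y⟩
      · rintro ⟨z, hz, rfl⟩; rw [φ_inv_φ]; exact hz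
    have hinf : J ⊓ (eqv γ).mapTwoSidedIdeal I = ⊥ := by
      rcases hJ.le_iff.1 (inf_le_left : J ⊓ (eqv γ).mapTwoSidedIdeal I ≤ J) with h | h
      · exact h
      · exfalso
        have hle : J ≤ (eqv γ).mapTwoSidedIdeal I := by rw [← h]; exact inf_le_right
        rcases hatom.le_iff.1 hle with h' | h'
        · exact hJ.1 h'
        · exact hne h'
    have hmem : j * φ γ x ∈ J ⊓ (eqv γ).mapTwoSidedIdeal I := by
      rw [TwoSidedIdeal.mem_inf]
      refine ⟨J.mul_mem_right _ _ hj, TwoSidedIdeal.mul_mem_left _ _ _ ?_⟩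
      rw [mem_map_eqv, φ_inv_φ]; exact hx
    rw [hinf, TwoSidedIdeal.mem_bot] at hmem
    exact hmem
  -- the stable subspace
  let N : Submodule L (L ⊗[K] A) :=
    { carrier := {x | ∀ (δ : L ≃ₐ[K] L), ∀ j ∈ J, φ δ j * x = 0}
      add_mem' := fun {x y} hx hy δ j hj => by rw [mul_add, hx δ j hj, hy δ j hj, add_zero]
      zero_mem' := fun δ j _ => mul_zero _
      smul_mem' := fun l x hx δ j hj => by rw [mul_smul_comm, hx δ j hj, smul_zero] }
  have hNmem : ∀ x, x ∈ N ↔ ∀ (δ : L ≃ₐ[K] L), ∀ j ∈ J, φ δ j * x = 0 := fun x => Iff.rfl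
  have hNstab : ∀ (γ : L ≃ₐ[K] L) w, w ∈ N → φ γ w ∈ N := by
    intro γ w hw δ j hj
    have h1 : φ δ j = φ γ (φ (γ⁻¹ * δ) j) := by rw [φ_mul, mul_inv_cancel_left]
    rw [h1, ← map_mul, hw _ j hj, map_zero]
  have hIN : ∀ x ∈ I, x ∈ N := by
    intro x hx δ j hj
    have h1 : φ δ j * x = φ δ (j * φ δ⁻¹ x) := by rw [map_mul, φ_φ_inv]
    rw [h1, step2 δ⁻¹ j hj x hx, map_zero]
  have hNne : N ≠ ⊥ := by
    obtain ⟨x, hxI, hx0⟩ := SetLike.exists_of_lt (bot_lt_iff_ne_bot.2 hI.1)
    intro h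
    apply hx0
    have := hIN x hxI
    rw [h, Submodule.mem_bot] at this
    rw [this]; exact TwoSidedIdeal.zero_mem _
  have hNleft : ∀ z x, x ∈ N → z * x ∈ N := by
    intro z x hx δ j hj
    have h1 : φ δ j * z = φ δ (j * φ δ⁻¹ z) := by rw [map_mul, φ_φ_inv]
    rw [← mul_assoc, h1]
    exact hx δ _ (J.mul_mem_right _ _ hj)
  have hNright : ∀ z x, x ∈ N → x * z ∈ N := by
    intro z x hx δ j hj
    rw [← mul_assoc, hx δ j hj, zero_mul]
  obtain ⟨a, ha0, ha⟩ := exists_one_tmul_mem N hNstab hNne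
  let 𝔞 : TwoSidedIdeal A := TwoSidedIdeal.mk' {a | (1 : L) ⊗ₜ[K] a ∈ N}
    (by simp only [Set.mem_ofPred_eq, tmul_zero]; exact N.zero_mem)
    (fun {x y} hx hy => by
      simp only [Set.mem_ofPred_eq, tmul_add] at *; exact N.add_mem hx hy)
    (fun {x} hx => by
      simp only [Set.mem_ofPred_eq, tmul_neg] at *; exact N.neg_mem hx)
    (fun {x y} hy => by
      simp only [Set.mem_ofPred_eq] at *
      have : (1 : L) ⊗ₜ[K] (x * y) = ((1 : L) ⊗ₜ[K] x) * ((1 : L) ⊗ₜ[K] y) := by
        rw [Algebra.TensorProduct.tmul_mul_tmul, one_mul]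
      rw [this]; exact hNleft _ _ hy)
    (fun {x y} hx => by
      simp only [Set.mem_ofPred_eq] at *
      have : (1 : L) ⊗ₜ[K] (x * y) = ((1 : L) ⊗ₜ[K] x) * ((1 : L) ⊗ₜ[K] y) := by
        rw [Algebra.TensorProduct.tmul_mul_tmul, one_mul]
      rw [this]; exact hNright _ _ hx)
  have h𝔞mem : ∀ x, x ∈ 𝔞 ↔ (1 : L) ⊗ₜ[K] x ∈ N := fun x => TwoSidedIdeal.mem_mk' _ _ _ _ _ _ _
  have h𝔞 : 𝔞 = ⊤ := by
    rcases eq_bot_or_eq_top 𝔞 with h | h
    · exfalso
      have : a ∈ 𝔞 := (h𝔞mem a).2 ha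
      rw [h, TwoSidedIdeal.mem_bot] at this
      exact ha0 this
    · exact h
  have h1 : (1 : L) ⊗ₜ[K] (1 : A) ∈ N := (h𝔞mem 1).1 (by rw [h𝔞]; exact TwoSidedIdeal.mem_top _)
  apply hJ.1
  rw [eq_bot_iff]
  intro j hj
  rw [TwoSidedIdeal.mem_bot]
  have := h1 1 j hj
  rwa [φ_one, ← Algebra.TensorProduct.one_def, mul_one] at this

end Groth.Agent.Helper7.GalDescent
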