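import Mathlib

set_option autoImplicit false
open TensorProduct

namespace Groth.Agent.Helper7.GalOrbit
universe u

section Generic

variable (K F L : Type u) [Field K] [Field F] [Algebra K F] [Field L] [Algebra K L]

/-- the action map `id ⊗ γ`. -/
noncomputable abbrev act (γ : L ≃ₐ[K] L) : F ⊗[K] L →ₐ[K] F ⊗[K] L :=
  Algebra.TensorProduct.map (AlgHom.id K F) (γ : L →ₐ[K] L)

theorem act_tmul (γ : L ≃ₐ[K] L) (f : F) (l : L) : act K F L γ (f ⊗ₜ[K] l) = f ⊗ₜ[K] γ l := by
  simp [act]

theorem act_mul (γ γ' : L ≃ₐ[K] L) (x : F ⊗[K] L) :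
    act K F L γ (act K F L γ' x) = act K F L (γ * γ') x := by
  induction x using TensorProduct.induction_on with
  | zero => simp
  | tmul f l => simp only [act_tmul, AlgEquiv.mul_apply]
  | add x y hx hy => simp only [map_add, hx, hy]

theorem act_one (x : F ⊗[K] L) : act K F L 1 x = x := by
  induction x using TensorProduct.induction_on with
  | zero => simp
  | tmul f l => simp only [act_tmul, AlgEquiv.one_apply]
  | add x y hx hy => simp only [map_add, hx, hy]

theorem orbit_finite [Algebra.IsAlgebraic K L] (x : F ⊗[K] L) :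
    (Set.range (fun γ : L ≃ₐ[K] L => act K F L γ x)).Finite := by
  induction x using TensorProduct.induction_on with
  | zero =>
    refine (Set.finite_singleton (0 : F ⊗[K] L)).subset ?_
    rintro _ ⟨γ, rfl⟩
    simp
  | tmul f l =>
    have hfin : ((minpoly K l).rootSet L).Finite := Polynomial.rootSet_finite _ _
    refine (hfin.image (fun l' => f ⊗ₜ[K] l')).subset ?_
    rintro _ ⟨γ, rfl⟩
    refine ⟨γ l, ?_, (act_tmul K F L γ f l).symm⟩
    rw [Polynomial.mem_rootSet_of_ne (minpoly.ne_zero (Algebra.IsIntegral.isIntegral l))]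
    have h := Polynomial.aeval_algHom_apply (γ : L →ₐ[K] L) l (minpoly K l)
    simpa [minpoly.aeval] using h
  | add x y hx hy =>
    refine (hx.add hy).subset ?_
    rintro _ ⟨γ, rfl⟩
    rw [Set.mem_add]
    exact ⟨_, ⟨γ, rfl⟩, _, ⟨γ, rfl⟩, (map_add _ _ _).symm⟩

theorem invariant_mem [IsGalois K L] (x : F ⊗[K] L)
    (hx : ∀ γ : L ≃ₐ[K] L, act K F L γ x = x) :
    ∃ f : F, x = f ⊗ₜ[K] (1 : L) := by
  classical
  let ℬ := Module.Free.chooseBasis K F
  have hcoef : ∀ (γ : L ≃ₐ[K] L) (y : F ⊗[K] L) i,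
      TensorProduct.equivFinsuppOfBasisLeft (N := L) ℬ (act K F L γ y) i =
        γ (TensorProduct.equivFinsuppOfBasisLeft (N := L) ℬ y i) := by
    intro γ y i
    induction y using TensorProduct.induction_on with
    | zero => simp
    | tmul f l =>
      rw [act_tmul, TensorProduct.equivFinsuppOfBasisLeft_apply_tmul_apply,
        TensorProduct.equivFinsuppOfBasisLeft_apply_tmul_apply, map_smul]
    | add y z hy hz => simp only [map_add, Finsupp.add_apply, hy, hz]
  have hfix : ∀ i, ∃ c : K, algebraMap K L c =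
      TensorProduct.equivFinsuppOfBasisLeft (N := L) ℬ x i := by
    intro i
    have h : TensorProduct.equivFinsuppOfBasisLeft (N := L) ℬ x i ∈
        Set.range (algebraMap K L) :=
      (InfiniteGalois.mem_range_algebraMap_iff_fixed _).mpr (fun γ => by
        rw [← hcoef, hx])
    exact h
  choose c hc using hfix
  refine ⟨∑ i ∈ (TensorProduct.equivFinsuppOfBasisLeft (N := L) ℬ x).support, c i • ℬ i, ?_⟩
  have hx' : x = (TensorProduct.equivFinsuppOfBasisLeft (N := L) ℬ).symm
      (TensorProduct.equivFinsuppOfBasisLeft (N := L) ℬ x) :=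
    ((TensorProduct.equivFinsuppOfBasisLeft (N := L) ℬ).symm_apply_apply x).symm
  rw [TensorProduct.equivFinsuppOfBasisLeft_symm_apply] at hx'
  rw [TensorProduct.sum_tmul]
  conv_lhs => rw [hx']
  rw [Finsupp.sum]
  refine Finset.sum_congr rfl (fun i _ => ?_)
  rw [← hc i, Algebra.algebraMap_eq_smul_one, TensorProduct.tmul_smul, TensorProduct.smul_tmul']

theorem trans [IsGalois K L] [Finite (PrimeSpectrum (F ⊗[K] L))]
    (P Q : Ideal (F ⊗[K] L)) [hP : P.IsPrime] [hQ : Q.IsPrime] :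
    ∃ γ : L ≃ₐ[K] L, Q = P.comap (act K F L γ) := by
  classical
  have hmaxl : ∀ I : Ideal (F ⊗[K] L), I.IsPrime → I.IsMaximal := fun I hI => by
    haveI := hI
    apply Ideal.isMaximal_of_isIntegral_of_isMaximal_comap (R := F) I
    have h0 : (I.comap (algebraMap F (F ⊗[K] L))) = ⊥ :=
      Ideal.eq_bot_of_prime _
    rw [h0]
    exact Ideal.bot_isMaximal
  by_contra hcon
  push_neg at hcon
  have hnle : ∀ γ : L ≃ₐ[K] L, ¬ Q ≤ P.comap (act K F L γ) := fun γ hle =>
    hcon γ ((hmaxl Q hQ).eq_of_le (Ideal.IsPrime.ne_top (Ideal.comap_isPrime _ P)) hle)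
  let g : (L ≃ₐ[K] L) → PrimeSpectrum (F ⊗[K] L) :=
    fun γ => ⟨P.comap (act K F L γ), Ideal.comap_isPrime _ P⟩
  let s : Finset (PrimeSpectrum (F ⊗[K] L)) := (Set.toFinite (Set.range g)).toFinset
  have hs : ¬ ∃ i ∈ s, Q ≤ i.asIdeal := by
    rintro ⟨i, hi, hle⟩
    rw [Set.Finite.mem_toFinset] at hi
    obtain ⟨γ, rfl⟩ := hi
    exact hnle γ hle
  rw [← Ideal.subset_union_prime (f := fun i : PrimeSpectrum (F ⊗[K] L) => i.asIdeal)
    (⟨P, hP⟩ : PrimeSpectrum (F ⊗[K] L)) ⟨P, hP⟩ (fun i _ _ _ => i.isPrime)] at hs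
  obtain ⟨x, hxQ, hxn⟩ := Set.not_subset.mp hs
  have hx : ∀ γ : L ≃ₐ[K] L, act K F L γ x ∉ P := by
    intro γ hγ
    apply hxn
    simp only [Set.mem_iUnion]
    refine ⟨g γ, ?_, hγ⟩
    rw [Finset.mem_coe, Set.Finite.mem_toFinset]
    exact ⟨γ, rfl⟩
  have hO := orbit_finite K F L x
  have hxO : x ∈ hO.toFinset := by
    rw [Set.Finite.mem_toFinset]
    exact ⟨1, act_one K F L x⟩
  have hOinv : ∀ γ : L ≃ₐ[K] L, ∀ z ∈ hO.toFinset, act K F L γ z ∈ hO.toFinset := by
    intro γ z hz
    rw [Set.Finite.mem_toFinset] at hz ⊢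
    obtain ⟨γ', rfl⟩ := hz
    exact ⟨γ * γ', (act_mul K F L γ γ' x).symm⟩
  have hinj : ∀ γ : L ≃ₐ[K] L, Function.Injective (act K F L γ) := fun γ a b hab => by
    have h := congrArg (act K F L γ⁻¹) hab
    rwa [act_mul, act_mul, inv_mul_cancel, act_one, act_one] at h
  have hyinv : ∀ γ : L ≃ₐ[K] L, act K F L γ (∏ z ∈ hO.toFinset, z) = ∏ z ∈ hO.toFinset, z := by
    intro γ
    rw [map_prod]
    have himg : hO.toFinset.image (act K F L γ) = hO.toFinset := by
      apply Finset.eq_of_subset_of_card_le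
      · intro w hw
        rw [Finset.mem_image] at hw
        obtain ⟨z, hz, rfl⟩ := hw
        exact hOinv γ z hz
      · rw [Finset.card_image_of_injective _ (hinj γ)]
    conv_rhs => rw [← himg]
    rw [Finset.prod_image (fun a _ b _ h => hinj γ h)]
  obtain ⟨f, hf⟩ := invariant_mem K F L _ hyinv
  have hyQ : (∏ z ∈ hO.toFinset, z) ∈ Q := by
    obtain ⟨w, hw⟩ := Finset.dvd_prod_of_mem (fun z => z) hxO
    rw [hw]
    exact Q.mul_mem_right w hxQ
  have hf0 : f = 0 := by
    by_contra hne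
    apply hQ.ne_top
    apply Ideal.eq_top_of_isUnit_mem Q hyQ
    rw [hf]
    have : IsUnit (algebraMap F (F ⊗[K] L) f) := (IsUnit.mk0 f hne).map _
    rwa [Algebra.TensorProduct.algebraMap_apply, Algebra.algebraMap_self_apply] at this
  have hy0 : (∏ z ∈ hO.toFinset, z) = 0 := by rw [hf, hf0, TensorProduct.zero_tmul]
  have hyP : (∏ z ∈ hO.toFinset, z) ∈ P := by rw [hy0]; exact P.zero_mem
  obtain ⟨z, hz, hzP⟩ := (Ideal.IsPrime.prod_mem_iff (p := P)).mp hyP
  rw [Set.Finite.mem_toFinset] at hz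
  obtain ⟨γ, rfl⟩ := hz
  exact hx γ hzP

end Generic

theorem finite_spec (K B L : Type u) [Field K] [CommRing B] [IsDomain B] [Algebra K B]
    [Algebra.FiniteType K B] [Field L] [Algebra K L] [Algebra.IsAlgebraic K L] :
    Finite (PrimeSpectrum (FractionRing B ⊗[K] L)) := by
  haveI h1 : IsNoetherianRing (L ⊗[K] B) := Algebra.FiniteType.isNoetherianRing L (L ⊗[K] B)
  haveI h2 : IsNoetherianRing (B ⊗[K] L) :=
    isNoetherianRing_of_ringEquiv (L ⊗[K] B) (Algebra.TensorProduct.comm K L B).toRingEquiv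
  letI : Algebra (B ⊗[K] L) (FractionRing B ⊗[K] L) :=
    (Algebra.TensorProduct.map (IsScalarTower.toAlgHom K B (FractionRing B))
      (AlgHom.id K L)).toRingHom.toAlgebra
  haveI : IsScalarTower B (B ⊗[K] L) (FractionRing B ⊗[K] L) :=
    IsScalarTower.of_algebraMap_eq' (by
      ext b
      simp [RingHom.algebraMap_toAlgebra, Algebra.TensorProduct.algebraMap_apply])
  haveI hloc : IsLocalization (Algebra.algebraMapSubmonoid (B ⊗[K] L) (nonZeroDivisors B))
      (FractionRing B ⊗[K] L) :=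
    IsLocalization.tensorProduct_tensorProduct K L (nonZeroDivisors B) (FractionRing B) (by
      ext l
      simp [RingHom.algebraMap_toAlgebra])
  haveI h3 : IsNoetherianRing (FractionRing B ⊗[K] L) :=
    IsLocalization.isNoetherianRing (Algebra.algebraMapSubmonoid (B ⊗[K] L) (nonZeroDivisors B))
      _ h2
  haveI : Ring.KrullDimLE 0 (FractionRing B ⊗[K] L) := Ring.KrullDimLE.mk₀ (fun I hI => by
    haveI := hI
    apply Ideal.isMaximal_of_isIntegral_of_isMaximal_comap (R := FractionRing B) I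
    have h0 : (I.comap (algebraMap (FractionRing B) (FractionRing B ⊗[K] L))) = ⊥ :=
      Ideal.eq_bot_of_prime _
    rw [h0]
    exact Ideal.bot_isMaximal)
  haveI : IsArtinianRing (FractionRing B ⊗[K] L) := isArtinianRing_iff_krullDimLE_zero.mpr
    inferInstance
  infer_instance

theorem main (K B L : Type u) [Field K] [CommRing B] [IsDomain B] [Algebra K B]
    [Algebra.FiniteType K B] [Field L] [Algebra K L] [IsGalois K L] :
    Finite (PrimeSpectrum (TensorProduct K (FractionRing B) L)) ∧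
      ∀ P Q : PrimeSpectrum (TensorProduct K (FractionRing B) L), ∃ γ : L ≃ₐ[K] L,
        Q.asIdeal = P.asIdeal.comap
          (Algebra.TensorProduct.map (AlgHom.id K (FractionRing B)) (γ : L →ₐ[K] L)) := by
  haveI hfin := finite_spec K B L
  refine ⟨hfin, fun P Q => ?_⟩
  haveI := P.isPrime
  haveI := Q.isPrime
  exact trans K (FractionRing B) L P.asIdeal Q.asIdeal

end Groth.Agent.Helper7.GalOrbit
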