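import Mathlib

/-!
# Descent of `geometrically P` along a surjective base change

If an object property `P` of schemes descends along surjective morphisms, then `geometrically P`
descends along base change by a surjective morphism.
-/

set_option autoImplicit false
open CategoryTheory CategoryTheory.Limits AlgebraicGeometry
universe u

namespace Groth.Agent.Helper7

theorem surjective_of_field_of_nonempty {K : Type u} [Field K] {T : Scheme.{u}} [Nonempty T]
    (q : T ⟶ Spec (.of K)) : Surjective q := by
  refine ⟨fun x => ?_⟩
  obtain ⟨t⟩ := (inferInstance : Nonempty T)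
  exact ⟨t, Subsingleton.elim _ _⟩

theorem geometrically_of_pullback_snd_of_surjective {P : ObjectProperty Scheme.{u}}
    (hP : ∀ {Z' Z : Scheme.{u}} (p : Z' ⟶ Z), Surjective p → P Z' → P Z)
    {X Y Y' : Scheme.{u}} (f : X ⟶ Y) (g : Y' ⟶ Y) [Surjective g]
    (h : geometrically P (pullback.snd f g)) : geometrically P f := by
  intro K _ y Z fst snd hpb
  have hs : Surjective (pullback.fst y g) := inferInstance
  have hne : Nonempty ↥(pullback y g) := by
    obtain ⟨x⟩ := (inferInstance : Nonempty ↥(Spec (.of K)))
    obtain ⟨w, -⟩ := hs.surj x
    exact ⟨w⟩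
  obtain ⟨w⟩ := hne
  let ι := (pullback y g).fromSpecResidueField w
  let q : Spec ((pullback y g).residueField w) ⟶ Spec (.of K) := ι ≫ pullback.fst y g
  let y' : Spec ((pullback y g).residueField w) ⟶ Y' := ι ≫ pullback.snd y g
  have hqy : q ≫ y = y' ≫ g := by
    simp only [q, y', Category.assoc, pullback.condition]
  have big : IsPullback (pullback.fst snd q ≫ fst) (pullback.snd snd q) f (q ≫ y) :=
    (IsPullback.of_hasPullback snd q).paste_horiz hpb
  let l : pullback snd q ⟶ pullback f g :=
    pullback.lift (pullback.fst snd q ≫ fst) (pullback.snd snd q ≫ y') (by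
      rw [Category.assoc (pullback.snd snd q), ← hqy]; exact big.w)
  have hl : IsPullback l (pullback.snd snd q) (pullback.snd f g) y' := by
    refine IsPullback.of_right ?_ (pullback.lift_snd _ _ _) (IsPullback.of_hasPullback f g)
    rw [← hqy, show l ≫ pullback.fst f g = pullback.fst snd q ≫ fst from pullback.lift_fst _ _ _]
    exact big
  have hPZL : P (pullback snd q) := h y' l (pullback.snd snd q) hl
  have hq : Surjective q := surjective_of_field_of_nonempty q
  have hfst : Surjective (pullback.fst snd q) := inferInstance
  exact hP _ hfst hPZL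

end Groth.Agent.Helper7
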