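import Mathlib
import Groth.Prelude.Def_W4c2conddiscmodels

/-! Continuants of Hirzebruch–Jung continued fractions. -/

namespace Groth.Agent.Lib.Helper7.HJ7

open HJFrac

/-- numerator/denominator continuants of `[f 0, …, f (m-1)]`. -/
def PQ : (ℕ → ℤ) → ℕ → ℤ × ℤ
  | _, 0 => (1, 0)
  | f, (m+1) => ((f 0) * (PQ (fun i => f (i+1)) m).1 - (PQ (fun i => f (i+1)) m).2,
      (PQ (fun i => f (i+1)) m).1)

theorem PQ_succ (f : ℕ → ℤ) (m : ℕ) : PQ f (m+1) =
    (f 0 * (PQ (fun i => f (i+1)) m).1 - (PQ (fun i => f (i+1)) m).2,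
      (PQ (fun i => f (i+1)) m).1) := rfl

theorem PQ_spec : ∀ (m : ℕ) (f : ℕ → ℤ), (∀ i < m, 2 ≤ f i) →
    0 ≤ (PQ f m).2 ∧ (PQ f m).2 < (PQ f m).1 ∧ IsCoprime (PQ f m).1 (PQ f m).2 ∧
      hjVal ((List.range m).map f) = ((PQ f m).1 : ℚ) / ((PQ f m).2 : ℚ) := by
  intro m
  induction m with
  | zero => intro f _; simp [PQ, hjVal, isCoprime_one_left]
  | succ m ih =>
    intro f hf
    obtain ⟨h1, h2, h3, h4⟩ := ih (fun i => f (i+1)) (fun i hi => hf (i+1) (by omega))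
    have hf0 : 2 ≤ f 0 := hf 0 (by omega)
    rw [PQ_succ]
    dsimp only
    have hpos : 0 < (PQ (fun i => f (i+1)) m).1 := lt_of_le_of_lt h1 h2
    have h2P : 2 * (PQ (fun i => f (i+1)) m).1 ≤ f 0 * (PQ (fun i => f (i+1)) m).1 :=
      mul_le_mul_of_nonneg_right hf0 hpos.le
    refine ⟨hpos.le, by linarith, ?_, ?_⟩
    · have := (h3.symm.neg_left).add_mul_left_left (f 0)
      have e : f 0 * (PQ (fun i => f (i+1)) m).1 - (PQ (fun i => f (i+1)) m).2 =
          -(PQ (fun i => f (i+1)) m).2 + (PQ (fun i => f (i+1)) m).1 * f 0 := by ring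
      rw [e]; exact this
    · rw [List.range_succ_eq_map, List.map_cons, List.map_map]
      show hjVal (f 0 :: List.map (fun i => f (i+1)) (List.range m)) = _
      rw [hjVal, h4, inv_div]
      have hP0 : ((PQ (fun i => f (i+1)) m).1 : ℚ) ≠ 0 := by exact_mod_cast hpos.ne'
      push_cast
      field_simp

theorem PQ_rec : ∀ (m : ℕ) (f : ℕ → ℤ) (x : ℕ → ℤ) (k : ℕ),
    (∀ i < m, f i * x (k+i+1) = x (k+i) + x (k+i+2)) →
    x (k+m+1) = (PQ f m).1 * x (k+1) - (PQ f m).2 * x k := by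
  intro m
  induction m with
  | zero => intro f x k _; simp [PQ]
  | succ m ih =>
    intro f x k h
    have h' : ∀ i < m, f (i+1) * x (k+1+i+1) = x (k+1+i) + x (k+1+i+2) := by
      intro i hi
      have := h (i+1) (by omega)
      rw [show k + (i+1) + 1 = k+1+i+1 by omega, show k + (i+1) + 2 = k+1+i+2 by omega,
        show k + (i+1) = k+1+i by omega] at this
      exact this
    have h0 := h 0 (by omega)
    simp only [add_zero] at h0
    have ih' := ih (fun i => f (i+1)) x (k+1) h'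
    rw [PQ_succ]
    dsimp only
    rw [show k + (m+1) + 1 = k+1+m+1 by omega, ih']
    have : x (k+1+1) = f 0 * x (k+1) - x k := by
      rw [show k+1+1 = k+2 by omega]; linarith
    rw [this]; ring

theorem PQ_eq (l : ℕ) (f : ℕ → ℤ) (hf : ∀ i < l, 2 ≤ f i) (n r : ℕ) (hr : 0 < r) (hrn : r < n)
    (hcop : Nat.Coprime r n) (hhj : (n : ℚ) / r = hjVal ((List.range l).map f)) :
    (PQ f l).1 = n ∧ (PQ f l).2 = r := by
  obtain ⟨h1, h2, h3, h4⟩ := PQ_spec l f hf
  rw [h4] at hhj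
  have hQpos : 0 < (PQ f l).2 := by
    rcases h1.lt_or_eq with h | h
    · exact h
    · exfalso
      rw [← h] at hhj
      simp at hhj
      omega
  have e1 := Rat.num_div_eq_of_coprime (a := (n:ℤ)) (b := (r:ℤ)) (by exact_mod_cast hr)
    (by simpa using hcop.symm)
  have e2 := Rat.den_div_eq_of_coprime (a := (n:ℤ)) (b := (r:ℤ)) (by exact_mod_cast hr)
    (by simpa using hcop.symm)
  have e3 := Rat.num_div_eq_of_coprime hQpos (Int.isCoprime_iff_nat_coprime.mp h3)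
  have e4 := Rat.den_div_eq_of_coprime hQpos (Int.isCoprime_iff_nat_coprime.mp h3)
  have hhj' : ((n:ℤ) : ℚ) / ((r:ℤ) : ℚ) = ((PQ f l).1 : ℚ) / ((PQ f l).2 : ℚ) := by
    push_cast; exact hhj
  rw [hhj'] at e1 e2
  exact ⟨e3.symm.trans e1, e4.symm.trans e2⟩

/-- the solution of the recurrence with initial values `0, 1`. -/
def nu (b : ℕ → ℤ) : ℕ → ℤ
  | 0 => 0
  | 1 => 1
  | (i+2) => b (i+1) * nu b (i+1) - nu b i

theorem nu_succ_succ (b : ℕ → ℤ) (i : ℕ) : nu b (i+2) = b (i+1) * nu b (i+1) - nu b i := by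
  rw [nu]

/-- the key relation: `μ (l+1) = n μ 1 - r μ 0` for any solution of the tridiagonal system. -/
theorem key (l : ℕ) (b : ℕ → ℤ) (hb : ∀ i, 1 ≤ i → i ≤ l → 2 ≤ b i)
    (n r : ℕ) (hr : 0 < r) (hrn : r < n) (hcop : Nat.Coprime r n)
    (hhj : (n : ℚ) / r = HJFrac.hjVal ((List.range l).map fun i => b (i + 1)))
    (μ : ℕ → ℤ) (hsys : ∀ i, 1 ≤ i → i ≤ l → b i * μ i = μ (i - 1) + μ (i + 1)) :
    μ (l+1) = n * μ 1 - r * μ 0 := by
  have hf : ∀ i < l, 2 ≤ b (i+1) := fun i hi => hb (i+1) (by omega) (by omega)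
  obtain ⟨hP, hQ⟩ := PQ_eq l (fun i => b (i+1)) hf n r hr hrn hcop hhj
  have hrec := PQ_rec l (fun i => b (i+1)) μ 0 (by
    intro i hi
    have := hsys (i+1) (by omega) (by omega)
    rw [Nat.add_sub_cancel] at this
    show b (i+1) * μ (0+i+1) = μ (0+i) + μ (0+i+2)
    rw [show 0+i+1 = i+1 by omega, show 0+i+2 = i+1+1 by omega, show 0+i = i by omega]
    exact this)
  rw [hP, hQ] at hrec
  simpa only [zero_add] using hrec

end Groth.Agent.Lib.Helper7.HJ7
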