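import Mathlib
import Groth.Prelude.Def_W4c2invhilbsl2HJ
import Groth.Agent.Lib.Helper7.HJ7

/-! Hirzebruch–Jung continuants `hjP`, `hjQ` and the numbers `nᵢ` (helper7). -/

set_option autoImplicit false

namespace Groth.Agent.Helper7.HJ8

open W4c2invhilbsl2 HJFrac Groth.Agent.Lib.Helper7.HJ7

/-- the digits as a function -/
def fc (c : List ℤ) : ℕ → ℤ := fun i => c.getD i 0

lemma map_fc (c : List ℤ) : (List.range c.length).map (fc c) = c := by
  apply List.ext_getElem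
  · simp
  · intro i h1 h2
    simp [fc, List.getD_eq_getElem, h2]

lemma fc_ge (c : List ℤ) (hc : ∀ x ∈ c, (2:ℤ) ≤ x) (i : ℕ) (hi : i < c.length) : 2 ≤ fc c i := by
  unfold fc
  rw [List.getD_eq_getElem _ _ hi]
  exact hc _ (List.getElem_mem hi)

lemma hjP_add_two (c : List ℤ) (i : ℕ) :
    hjP c (i + 2) = fc c i * hjP c (i + 1) - hjP c i := by
  rw [hjP]; rfl

lemma hjQ_add_two (c : List ℤ) (i : ℕ) :
    hjQ c (i + 2) = fc c i * hjQ c (i + 1) - hjQ c i := by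
  rw [hjQ]; rfl

lemma hjP_zero (c : List ℤ) : hjP c 0 = 0 := by rw [hjP]
lemma hjP_one (c : List ℤ) : hjP c 1 = 1 := by rw [hjP]
lemma hjQ_zero (c : List ℤ) : hjQ c 0 = -1 := by rw [hjQ]
lemma hjQ_one (c : List ℤ) : hjQ c 1 = 0 := by rw [hjQ]

lemma hjP_succ (c : List ℤ) (m : ℕ) : hjP c (m + 1) = (PQ (fc c) m).1 := by
  have := PQ_rec m (fc c) (hjP c) 0 (fun i _ => by
    simp only [zero_add]
    rw [hjP_add_two]; ring)
  simp only [zero_add, hjP_zero, hjP_one] at this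
  rw [this]; ring

lemma hjQ_succ (c : List ℤ) (m : ℕ) : hjQ c (m + 1) = (PQ (fc c) m).2 := by
  have := PQ_rec m (fc c) (hjQ c) 0 (fun i _ => by
    simp only [zero_add]
    rw [hjQ_add_two]; ring)
  simp only [zero_add, hjQ_zero, hjQ_one] at this
  rw [this]; ring

lemma det_PQ (c : List ℤ) : ∀ i : ℕ, hjP c i * hjQ c (i + 1) - hjP c (i + 1) * hjQ c i = 1
  | 0 => by rw [hjP_zero, hjP_one, hjQ_zero, hjQ_one]; norm_num
  | i + 1 => by
    have := det_PQ c i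
    rw [hjP_add_two, hjQ_add_two]
    linear_combination this

/-- arithmetic facts about `g`, `b`, `t` -/
lemma bt_facts (p q m : ℕ) (hp : 0 < p) (hpq : p < q) (hcop : Nat.Coprime p q) (hm : 0 < m)
    (hnt : ¬ (q - p ∣ m)) :
    0 < gcdK p q m ∧ gcdK p q m * bB p q m = q - p ∧
      gcdK p q m * tT p q m = (q - p) - (m * p) % (q - p) ∧
      0 < tT p q m ∧ tT p q m < bB p q m ∧ Nat.Coprime (tT p q m) (bB p q m) := by
  unfold gcdK bB tT
  unfold gcdK
  have hN : 0 < q - p := Nat.sub_pos_of_lt hpq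
  have hg : 0 < Nat.gcd m (q - p) := Nat.gcd_pos_of_pos_right _ hN
  have hgN : Nat.gcd m (q - p) ∣ q - p := Nat.gcd_dvd_right _ _
  have hgm : Nat.gcd m (q - p) ∣ m := Nat.gcd_dvd_left _ _
  have hβlt : (m * p) % (q - p) < q - p := Nat.mod_lt _ hN
  have hgβ : Nat.gcd m (q - p) ∣ (m * p) % (q - p) :=
    (Nat.dvd_mod_iff hgN).2 (dvd_mul_of_dvd_left hgm p)
  have hgd : Nat.gcd m (q - p) ∣ (q - p) - (m * p) % (q - p) := Nat.dvd_sub hgN hgβ
  have e1 : Nat.gcd m (q - p) * ((q - p) / Nat.gcd m (q - p)) = q - p := Nat.mul_div_cancel' hgN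
  have e2 : Nat.gcd m (q - p) * (((q - p) - (m * p) % (q - p)) / Nat.gcd m (q - p)) =
      (q - p) - (m * p) % (q - p) := Nat.mul_div_cancel' hgd
  have hcopN : Nat.Coprime (q - p) p := (Nat.coprime_sub_self_left hpq.le).2 hcop.symm
  have hβ0 : (m * p) % (q - p) ≠ 0 := by
    intro h
    have h1 : q - p ∣ m * p := Nat.dvd_of_mod_eq_zero h
    exact hnt (hcopN.dvd_of_dvd_mul_right h1)
  have hβg : Nat.gcd m (q - p) ≤ (m * p) % (q - p) :=
    Nat.le_of_dvd (Nat.pos_of_ne_zero hβ0) hgβ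
  have hgcd : Nat.gcd ((m * p) % (q - p)) (q - p) = Nat.gcd m (q - p) := by
    rw [← Nat.gcd_rec, Nat.gcd_comm]
    exact Nat.Coprime.gcd_mul_right_cancel m hcopN.symm
  refine ⟨hg, e1, e2, ?_, ?_, ?_⟩
  · exact Nat.div_pos (Nat.le_of_dvd (by omega) hgd) hg
  · apply Nat.lt_of_mul_lt_mul_left (a := Nat.gcd m (q - p))
    rw [e1, e2]; omega
  · set t := ((q - p) - (m * p) % (q - p)) / Nat.gcd m (q - p) with ht
    set b := (q - p) / Nat.gcd m (q - p) with hb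
    have hd1 : Nat.gcd m (q - p) * Nat.gcd t b ∣ (q - p) - (m * p) % (q - p) := by
      have := Nat.mul_dvd_mul_left (Nat.gcd m (q - p)) (Nat.gcd_dvd_left t b)
      rw [e2] at this; exact this
    have hd2 : Nat.gcd m (q - p) * Nat.gcd t b ∣ q - p := by
      have := Nat.mul_dvd_mul_left (Nat.gcd m (q - p)) (Nat.gcd_dvd_right t b)
      rw [e1] at this; exact this
    have hd3 : Nat.gcd m (q - p) * Nat.gcd t b ∣ (m * p) % (q - p) :=
      (Nat.dvd_sub_iff_right hβlt.le hd2).1 hd1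
    have hd4 : Nat.gcd m (q - p) * Nat.gcd t b ∣ Nat.gcd m (q - p) * 1 := by
      have := Nat.dvd_gcd hd3 hd2
      rw [hgcd] at this
      rw [mul_one]; exact this
    exact Nat.eq_one_of_dvd_one (Nat.dvd_of_mul_dvd_mul_left hg hd4)

lemma top_PQ (p q m : ℕ) (hp : 0 < p) (hpq : p < q) (hcop : Nat.Coprime p q) (hm : 0 < m)
    (hnt : ¬ (q - p ∣ m)) (c : List ℤ) (hc : IsHJDigits p q m c) :
    hjP c (c.length + 1) = (bB p q m : ℤ) ∧ hjQ c (c.length + 1) = (tT p q m : ℤ) := by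
  obtain ⟨hg, e1, e2, ht0, htb, hcp⟩ := bt_facts p q m hp hpq hcop hm hnt
  have h := PQ_eq c.length (fc c) (fun i hi => fc_ge c hc.1 i hi) (bB p q m) (tT p q m) ht0 htb
    hcp (by rw [map_fc]; exact hc.2.symm)
  rw [hjP_succ, hjQ_succ]; exact h

/-- `Dᵢ = t Pᵢ - b Qᵢ` -/
def DD (p q m : ℕ) (c : List ℤ) (i : ℕ) : ℤ :=
  (tT p q m : ℤ) * hjP c i - (bB p q m : ℤ) * hjQ c i

lemma DD_add_two (p q m : ℕ) (c : List ℤ) (i : ℕ) :
    DD p q m c (i + 2) = fc c i * DD p q m c (i + 1) - DD p q m c i := by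
  unfold DD; rw [hjP_add_two, hjQ_add_two]; ring

lemma DD_zero (p q m : ℕ) (c : List ℤ) : DD p q m c 0 = (bB p q m : ℤ) := by
  unfold DD; rw [hjP_zero, hjQ_zero]; ring

lemma DD_one (p q m : ℕ) (c : List ℤ) : DD p q m c 1 = (tT p q m : ℤ) := by
  unfold DD; rw [hjP_one, hjQ_one]; ring

section
variable (p q m : ℕ) (hp : 0 < p) (hpq : p < q) (hcop : Nat.Coprime p q) (hm : 0 < m)
  (hnt : ¬ (q - p ∣ m)) (c : List ℤ) (hc : IsHJDigits p q m c)
include hp hpq hcop hm hnt hc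

lemma DD_top : DD p q m c (c.length + 1) = 0 := by
  obtain ⟨h1, h2⟩ := top_PQ p q m hp hpq hcop hm hnt c hc
  unfold DD; rw [h1, h2]; ring

lemma DD_len : DD p q m c c.length = 1 := by
  obtain ⟨h1, h2⟩ := top_PQ p q m hp hpq hcop hm hnt c hc
  have := det_PQ c c.length
  rw [h1, h2] at this
  unfold DD; linarith

lemma DD_dec : ∀ j i : ℕ, i + j = c.length →
    (0 ≤ DD p q m c (i + 1) ∧ 1 ≤ DD p q m c i - DD p q m c (i + 1)) := by
  intro j
  induction j with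
  | zero =>
    intro i hi
    simp only [add_zero] at hi
    subst hi
    rw [DD_top p q m hp hpq hcop hm hnt c hc, DD_len p q m hp hpq hcop hm hnt c hc]
    norm_num
  | succ j ih =>
    intro i hi
    obtain ⟨ih1, ih2⟩ := ih (i + 1) (by omega)
    have hc2 := fc_ge c hc.1 i (by omega)
    have e : DD p q m c (i + 1 + 1) = fc c i * DD p q m c (i + 1) - DD p q m c i :=
      DD_add_two p q m c i
    rw [e] at ih1 ih2
    have h3 : 0 ≤ DD p q m c (i + 1) := by nlinarith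
    refine ⟨h3, ?_⟩
    nlinarith [mul_nonneg (sub_nonneg.2 hc2) h3]

lemma DD_lt (i : ℕ) (hi : i ≤ c.length) : DD p q m c (i + 1) < DD p q m c i := by
  have := (DD_dec p q m hp hpq hcop hm hnt c hc (c.length - i) i (by omega)).2
  linarith

lemma DD_nonneg (i : ℕ) (hi : i ≤ c.length + 1) : 0 ≤ DD p q m c i := by
  rcases Nat.eq_zero_or_pos i with rfl | hpos
  · rw [DD_zero]; exact Int.natCast_nonneg _
  · obtain ⟨k, rfl⟩ : ∃ k, i = k + 1 := ⟨i - 1, by omega⟩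
    exact (DD_dec p q m hp hpq hcop hm hnt c hc (c.length - k) k (by omega)).1

lemma hgb : (gcdK p q m : ℤ) * (bB p q m : ℤ) = (q : ℤ) - p := by
  obtain ⟨hg, e1, e2, ht0, htb, hcp⟩ := bt_facts p q m hp hpq hcop hm hnt
  have := congrArg (Nat.cast : ℕ → ℤ) e1
  rw [Nat.cast_mul, Nat.cast_sub hpq.le] at this
  exact this

lemma hgt : (gcdK p q m : ℤ) * (tT p q m : ℤ) =
    ((q : ℤ) - p) * ((alpha p q m : ℤ) + 1) - (m : ℤ) * p := by
  obtain ⟨hg, e1, e2, ht0, htb, hcp⟩ := bt_facts p q m hp hpq hcop hm hnt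
  have hN : 0 < q - p := Nat.sub_pos_of_lt hpq
  have hβle : (m * p) % (q - p) ≤ q - p := (Nat.mod_lt _ hN).le
  have e2z := congrArg (Nat.cast : ℕ → ℤ) e2
  rw [Nat.cast_mul, Nat.cast_sub hβle, Nat.cast_sub hpq.le] at e2z
  have dm := congrArg (Nat.cast : ℕ → ℤ) (Nat.div_add_mod (m * p) (q - p))
  rw [Nat.cast_add, Nat.cast_mul, Nat.cast_sub hpq.le, Nat.cast_mul] at dm
  unfold alpha
  linarith

lemma nN_eq (i : ℕ) : nN p q m c i = (gcdK p q m : ℤ) * DD p q m c i := by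
  have h1 := hgb p q m hp hpq hcop hm hnt c hc
  have h2 := hgt p q m hp hpq hcop hm hnt c hc
  unfold nN eE lL DD
  push_cast
  linear_combination (-(hjP c i)) * h2 + (hjQ c i) * h1

end

end Groth.Agent.Helper7.HJ8
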