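import Mathlib
import Groth.Agent.Lib.Helper7.HJ8

/-! Hirzebruch–Jung continuants: the lattice argument bounding `t x mod b` (helper7). -/

set_option autoImplicit false

namespace Groth.Agent.Helper7.HJ8

open W4c2invhilbsl2 HJFrac Groth.Agent.Lib.Helper7.HJ7

lemma P_inc (c : List ℤ) (hc2 : ∀ x ∈ c, (2:ℤ) ≤ x) :
    ∀ i, i ≤ c.length → (0 ≤ hjP c i ∧ 1 ≤ hjP c (i + 1) - hjP c i) := by
  intro i
  induction i with
  | zero => intro _; rw [hjP_zero, hjP_one]; norm_num
  | succ i ih =>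
    intro hi
    obtain ⟨h1, h2⟩ := ih (by omega)
    have hc := fc_ge c hc2 i (by omega)
    have e : hjP c (i + 1 + 1) = fc c i * hjP c (i + 1) - hjP c i := hjP_add_two c i
    rw [e]
    have h3 : 0 ≤ hjP c (i + 1) := by linarith
    refine ⟨h3, ?_⟩
    nlinarith [mul_nonneg (sub_nonneg.2 hc) h3]

/-- the lattice argument -/
lemma lat (Pk Pk1 Dk Dk1 α β x ρ : ℤ) (hP0 : 0 < Pk) (hP : Pk < Pk1) (hD0 : 0 < Dk1)
    (hD : Dk1 < Dk) (hx : α * Pk + β * Pk1 = x) (hρ : α * Dk + β * Dk1 = ρ) (hx0 : 0 < x)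
    (hx1 : x < Pk1) (hρ0 : 0 ≤ ρ) : Dk ≤ ρ := by
  subst hx hρ
  rcases le_or_gt 0 β with hβ | hβ
  · rcases le_or_gt 1 α with hα | hα
    · nlinarith [mul_nonneg (sub_nonneg.2 hα) (le_of_lt (lt_trans hD0 hD)),
        mul_nonneg hβ hD0.le]
    · exfalso
      have hα' : α ≤ 0 := by omega
      have hβ1 : 1 ≤ β := by
        by_contra h
        have h0 : β = 0 := by omega
        subst h0
        nlinarith [mul_nonpos_of_nonpos_of_nonneg hα' hP0.le]
      have hβa : -α + 1 ≤ β := by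
        by_contra h
        push Not at h
        have h1 : β + α ≤ 0 := by omega
        have h2 : α * Dk ≤ α * (Dk1 + 1) := mul_le_mul_of_nonpos_left (by omega) hα'
        have h3 : (β + α) * Dk1 ≤ 0 := mul_nonpos_of_nonpos_of_nonneg h1 hD0.le
        nlinarith
      have h4 : (-α) * Pk ≤ (-α) * Pk1 := mul_le_mul_of_nonneg_left hP.le (by omega)
      have h5 : (-α) * Pk1 ≤ (β - 1) * Pk1 :=
        mul_le_mul_of_nonneg_right (by omega) (by omega : (0:ℤ) ≤ Pk1)
      nlinarith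
  · have hβ' : β ≤ -1 := by omega
    have hαb : -β + 1 ≤ α := by
      by_contra h
      push Not at h
      have h1 : α + β ≤ 0 := by omega
      have h2 : β * Pk1 ≤ β * (Pk + 1) := mul_le_mul_of_nonpos_left (by omega) (by omega)
      have h3 : (α + β) * Pk ≤ 0 := mul_nonpos_of_nonpos_of_nonneg h1 hP0.le
      nlinarith
    have h4 : 0 ≤ (α + β - 1) * Dk := mul_nonneg (by omega) (by omega)
    have h5 : 0 ≤ (-β) * (Dk - Dk1) := mul_nonneg (by omega) (by omega)
    nlinarith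

section
variable (p q m : ℕ) (hp : 0 < p) (hpq : p < q) (hcop : Nat.Coprime p q) (hm : 0 < m)
  (hnt : ¬ (q - p ∣ m)) (c : List ℤ) (hc : IsHJDigits p q m c)
include hp hpq hcop hm hnt hc

lemma DD_anti : ∀ k i : ℕ, i + k + 1 ≤ c.length + 1 →
    DD p q m c (i + k + 1) < DD p q m c i := by
  intro k
  induction k with
  | zero => intro i hi; exact DD_lt p q m hp hpq hcop hm hnt c hc i (by omega)
  | succ k ih =>
    intro i hi
    have h1 := ih i (by omega)
    have h2 := DD_lt p q m hp hpq hcop hm hnt c hc (i + k + 1) (by omega)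
    have e : i + (k + 1) + 1 = i + k + 1 + 1 := by omega
    rw [e]
    exact lt_trans h2 h1

lemma DD_lt_b (i : ℕ) (hi1 : 1 ≤ i) (hi : i ≤ c.length + 1) :
    DD p q m c i < (bB p q m : ℤ) := by
  have := DD_anti p q m hp hpq hcop hm hnt c hc (i - 1) 0 (by omega)
  have e : 0 + (i - 1) + 1 = i := by omega
  rw [e, DD_zero] at this
  exact this

lemma lower (k : ℕ) (hk1 : 1 ≤ k) (hk : k + 1 ≤ c.length) (x y ρ : ℤ) (hx0 : 0 < x)
    (hx1 : x < hjP c (k + 1)) (hdiv : (bB p q m : ℤ) * y + ρ = (tT p q m : ℤ) * x)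
    (hρ0 : 0 ≤ ρ) : DD p q m c k ≤ ρ := by
  have hPk := P_inc c hc.1 k (by omega)
  have hPk' := P_inc c hc.1 (k - 1) (by omega)
  have ek : k - 1 + 1 = k := by omega
  rw [ek] at hPk'
  have hP0 : 0 < hjP c k := by linarith [hPk'.1, hPk'.2]
  have hD1 := DD_lt p q m hp hpq hcop hm hnt c hc (k + 1) hk
  have hD2 := DD_nonneg p q m hp hpq hcop hm hnt c hc (k + 1 + 1) (by omega)
  have hD3 := DD_lt p q m hp hpq hcop hm hnt c hc k (by omega)
  have hdet := det_PQ c k
  refine lat (hjP c k) (hjP c (k + 1)) (DD p q m c k) (DD p q m c (k + 1))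
    (x * hjQ c (k + 1) - y * hjP c (k + 1)) (y * hjP c k - x * hjQ c k) x ρ hP0
    (by linarith [hPk.2]) (by linarith) hD3 ?_ ?_ hx0 hx1 hρ0
  · linear_combination x * hdet
  · unfold DD
    linear_combination ((tT p q m : ℤ) * x - (bB p q m : ℤ) * y) * hdet - hdiv

end

end Groth.Agent.Helper7.HJ8
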