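import Mathlib
import Groth.Agent.Lib.Helper7.HJ9

/-! Divisibility of weight-(nᵢ,0) monomials (helper7). -/

set_option autoImplicit false

namespace Groth.Agent.Helper7.HJ8

open W4c2invhilbsl2 HJFrac Groth.Agent.Lib.Helper7.HJ7

lemma eE_eq (p q m : ℕ) (c : List ℤ) (i : ℕ) :
    eE p q m c i = lL p q m c i + m * hjP c i := by
  unfold eE lL; push_cast; ring

section
variable (p q m : ℕ) (hp : 0 < p) (hpq : p < q) (hcop : Nat.Coprime p q) (hm : 0 < m)
  (hnt : ¬ (q - p ∣ m)) (c : List ℤ) (hc : IsHJDigits p q m c)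
include hp hpq hcop hm hnt hc

lemma P_pos (i : ℕ) (hi1 : 1 ≤ i) (hi : i ≤ c.length + 1) : 1 ≤ hjP c i := by
  obtain ⟨k, rfl⟩ : ∃ k, i = k + 1 := ⟨i - 1, by omega⟩
  have := P_inc c hc.1 k (by omega)
  linarith [this.1, this.2]

lemma Q_lt_P (i : ℕ) (hi1 : 1 ≤ i) (hi : i ≤ c.length + 1) : hjQ c i < hjP c i := by
  have hD := DD_nonneg p q m hp hpq hcop hm hnt c hc i hi
  obtain ⟨hg, e1, e2, ht0, htb, hcp⟩ := bt_facts p q m hp hpq hcop hm hnt
  have hP := P_pos p q m hp hpq hcop hm hnt c hc i hi1 hi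
  unfold DD at hD
  have htb' : (tT p q m : ℤ) < bB p q m := by exact_mod_cast htb
  have hb0 : (0:ℤ) < bB p q m := by
    have : 0 < bB p q m := by omega
    exact_mod_cast this
  by_contra hcon; push_neg at hcon
  have h1 : (bB p q m : ℤ) * hjP c i ≤ bB p q m * hjQ c i :=
    mul_le_mul_of_nonneg_left hcon hb0.le
  have h2 : (tT p q m : ℤ) * hjP c i < bB p q m * hjP c i :=
    mul_lt_mul_of_pos_right htb' (by linarith)
  linarith

lemma lL_nonneg (i : ℕ) (hi1 : 1 ≤ i) (hi : i ≤ c.length + 1) : 0 ≤ lL p q m c i := by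
  have h1 := Q_lt_P p q m hp hpq hcop hm hnt c hc i hi1 hi
  have h2 := P_pos p q m hp hpq hcop hm hnt c hc i hi1 hi
  unfold lL
  push_cast
  have : (0:ℤ) ≤ (alpha p q m : ℤ) * hjP c i :=
    mul_nonneg (Int.natCast_nonneg _) (by linarith)
  linarith

lemma eE_nonneg (i : ℕ) (hi1 : 1 ≤ i) (hi : i ≤ c.length + 1) : 0 ≤ eE p q m c i := by
  have h1 := lL_nonneg p q m hp hpq hcop hm hnt c hc i hi1 hi
  have h2 := P_pos p q m hp hpq hcop hm hnt c hc i hi1 hi
  rw [eE_eq]
  have : (0:ℤ) ≤ (m : ℤ) * hjP c i := mul_nonneg (Int.natCast_nonneg _) (by linarith)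
  linarith

lemma nN_nonneg (i : ℕ) (hi : i ≤ c.length + 1) : 0 ≤ nN p q m c i := by
  rw [nN_eq p q m hp hpq hcop hm hnt c hc i]
  exact mul_nonneg (Int.natCast_nonneg _) (DD_nonneg p q m hp hpq hcop hm hnt c hc i hi)

lemma mono_div (i : ℕ) (hi1 : 1 ≤ i) (hi : i ≤ c.length) (a u v : ℕ)
    (hw : (a:ℤ) - p * u + q * v = nN p q m c i) (hmod : (m:ℤ) ∣ (v:ℤ) - u) :
    nN p q m c i ≤ a ∨ (eE p q m c i ≤ u ∧ lL p q m c i ≤ v) := by
  by_contra hcon
  rw [not_or] at hcon
  obtain ⟨hlt, hnot⟩ := hcon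
  push_neg at hlt
  obtain ⟨x', hx'⟩ := hmod
  obtain ⟨x, hu⟩ : ∃ x : ℤ, (u:ℤ) = v + m * x := ⟨-x', by linarith⟩
  obtain ⟨hg, e1, e2, ht0, htb, hcp⟩ := bt_facts p q m hp hpq hcop hm hnt
  have hgb' := hgb p q m hp hpq hcop hm hnt c hc
  have hgt' := hgt p q m hp hpq hcop hm hnt c hc
  have hn := nN_eq p q m hp hpq hcop hm hnt c hc i
  have hDlt := DD_lt_b p q m hp hpq hcop hm hnt c hc i hi1 (by omega)
  have hgz : (0:ℤ) < gcdK p q m := by exact_mod_cast hg
  have hnlt : nN p q m c i < (q:ℤ) - p := by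
    rw [hn, ← hgb']; exact mul_lt_mul_of_pos_left hDlt hgz
  have hρ' : nN p q m c i - a = ((q:ℤ) - p) * v - p * m * x := by rw [← hw, hu]; ring
  have hpz : (0:ℤ) < p := by exact_mod_cast hp
  have hmz : (0:ℤ) < m := by exact_mod_cast hm
  have hqp : (0:ℤ) < (q:ℤ) - p := by
    have : (p:ℤ) < q := by exact_mod_cast hpq
    linarith
  have ha0 : (0:ℤ) ≤ a := Int.natCast_nonneg _
  have hv0 : (0:ℤ) ≤ v := Int.natCast_nonneg _
  have hu0 : (0:ℤ) ≤ u := Int.natCast_nonneg _
  rcases le_or_gt x 0 with hx0 | hx0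
  · have hpmx : (p:ℤ) * m * x ≤ 0 := mul_nonpos_of_nonneg_of_nonpos (by positivity) hx0
    have hv1 : (1:ℤ) ≤ v := by
      by_contra hv; push_neg at hv
      have hv00 : (v:ℤ) = 0 := by linarith
      have hmx : (0:ℤ) ≤ m * x := by rw [hv00] at hu; linarith
      have hx00 : x = 0 := by
        have : 0 ≤ x := by
          by_contra h; push_neg at h
          have := mul_neg_of_pos_of_neg hmz h
          linarith
        linarith
      rw [hv00, hx00] at hρ'
      linarith
    have : ((q:ℤ) - p) * 1 ≤ ((q:ℤ) - p) * v := mul_le_mul_of_nonneg_left hv1 hqp.le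
    linarith
  · rcases lt_or_ge x (hjP c i) with hxP | hxP
    · have hi2 : 2 ≤ i := by
        by_contra h; push_neg at h
        have : i = 1 := by omega
        subst this
        rw [hjP_one] at hxP; linarith
      have hgρ : (gcdK p q m : ℤ) * ((tT p q m : ℤ) * x -
          (bB p q m : ℤ) * (((alpha p q m : ℤ) + 1) * x - v)) = nN p q m c i - a := by
        rw [hρ']
        linear_combination x * hgt' + (v - ((alpha p q m : ℤ) + 1) * x) * hgb'
      have hρ0 : 0 < (tT p q m : ℤ) * x -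
          (bB p q m : ℤ) * (((alpha p q m : ℤ) + 1) * x - v) := by
        by_contra h; push_neg at h
        have := mul_nonpos_of_nonneg_of_nonpos hgz.le h
        linarith
      have ei : i - 1 + 1 = i := by omega
      have hlow := lower p q m hp hpq hcop hm hnt c hc (i - 1) (by omega) (by omega) x
        (((alpha p q m : ℤ) + 1) * x - v) _ hx0 (by rw [ei]; exact hxP) (by ring) hρ0.le
      have hDD := DD_lt p q m hp hpq hcop hm hnt c hc (i - 1) (by omega)
      rw [ei] at hDD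
      have h5 : (gcdK p q m : ℤ) * ((tT p q m : ℤ) * x -
          (bB p q m : ℤ) * (((alpha p q m : ℤ) + 1) * x - v)) ≤ gcdK p q m * DD p q m c i := by
        rw [hgρ, ← hn]; linarith
      have h6 := le_of_mul_le_mul_left h5 hgz
      linarith
    · apply hnot
      have hl : lL p q m c i ≤ v := by
        have hn2 : nN p q m c i = ((q:ℤ) - p) * lL p q m c i - p * m * hjP c i := by
          unfold nN; rw [eE_eq]; ring
        have h1 : (p:ℤ) * m * hjP c i ≤ p * m * x :=
          mul_le_mul_of_nonneg_left hxP (by positivity)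
        have h2 : ((q:ℤ) - p) * (lL p q m c i - 1) < ((q:ℤ) - p) * v := by linarith
        have := lt_of_mul_lt_mul_left h2 hqp.le
        linarith
      refine ⟨?_, hl⟩
      rw [eE_eq, hu]
      have : (m:ℤ) * hjP c i ≤ m * x := mul_le_mul_of_nonneg_left hxP hmz.le
      linarith

end

end Groth.Agent.Helper7.HJ8
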