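import Mathlib
import Groth.Agent.Lib.Helper7.HJ10

/-! Uniqueness of standard monomials (helper7). -/

set_option autoImplicit false

namespace Groth.Agent.Helper7.HJ8

open W4c2invhilbsl2 HJFrac Groth.Agent.Lib.Helper7.HJ7

section
variable (p q m : ℕ) (hp : 0 < p) (hpq : p < q) (hcop : Nat.Coprime p q) (hm : 0 < m)
  (hnt : ¬ (q - p ∣ m)) (c : List ℤ) (hc : IsHJDigits p q m c)
include hp hpq hcop hm hnt hc

lemma nN_pred_le (i : ℕ) (hi1 : 1 ≤ i) (hi : i ≤ c.length) :
    nN p q m c (i - 1) ≤ (q:ℤ) - p := by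
  have hgb' := hgb p q m hp hpq hcop hm hnt c hc
  obtain ⟨hg, _⟩ := bt_facts p q m hp hpq hcop hm hnt
  have hgz : (0:ℤ) < gcdK p q m := by exact_mod_cast hg
  rw [nN_eq p q m hp hpq hcop hm hnt c hc, ← hgb']
  apply mul_le_mul_of_nonneg_left _ hgz.le
  rcases Nat.eq_zero_or_pos (i - 1) with h | h
  · rw [h, DD_zero]
  · exact (DD_lt_b p q m hp hpq hcop hm hnt c hc (i - 1) h (by omega)).le

lemma uniq_aux (i : ℕ) (hi1 : 1 ≤ i) (hi : i ≤ c.length) (a u v a' u' v' : ℕ)
    (hw : (a:ℤ) - p * u + q * v = a' - p * u' + q * v')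
    (x : ℤ) (hx : (u:ℤ) - u' - ((v:ℤ) - v') = m * x) (hx0 : 0 ≤ x)
    (ha : (a:ℤ) < nN p q m c (i - 1)) (ha' : (a':ℤ) < nN p q m c (i - 1))
    (hEL : ¬ (eE p q m c i ≤ u ∧ lL p q m c i ≤ v))
    (hK : ∀ sa su sv : ℕ, ¬ (sa = 0 ∧ su = 0 ∧ sv = 0) → (sa:ℤ) - p * su + q * sv = 0 →
      (m:ℤ) ∣ (sv:ℤ) - su → sa ≤ a → su ≤ u → sv ≤ v → False) :
    a = a' ∧ u = u' ∧ v = v' := by
  obtain ⟨δa, hδa⟩ : ∃ δa : ℤ, δa = (a:ℤ) - a' := ⟨_, rfl⟩
  obtain ⟨δv, hδv⟩ : ∃ δv : ℤ, δv = (v:ℤ) - v' := ⟨_, rfl⟩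
  have hδu : (u:ℤ) - u' = δv + m * x := by rw [hδv]; linarith
  have hrel : ((q:ℤ) - p) * δv = p * m * x - δa := by
    have h1 : δa = p * ((u:ℤ) - u') - q * δv := by rw [hδa, hδv]; linarith
    rw [h1, hδu]; ring
  have hn1 := nN_pred_le p q m hp hpq hcop hm hnt c hc i hi1 hi
  have hqp : (0:ℤ) < (q:ℤ) - p := by
    have : (p:ℤ) < q := by exact_mod_cast hpq
    linarith
  have hpz : (0:ℤ) < p := by exact_mod_cast hp
  have hmz : (0:ℤ) < m := by exact_mod_cast hm
  have ha0 : (0:ℤ) ≤ a := Int.natCast_nonneg _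
  have ha0' : (0:ℤ) ≤ a' := Int.natCast_nonneg _
  have hu0' : (0:ℤ) ≤ u' := Int.natCast_nonneg _
  have hv0' : (0:ℤ) ≤ v' := Int.natCast_nonneg _
  rcases eq_or_lt_of_le hx0 with hx00 | hxpos
  · rw [← hx00] at hrel hδu
    rcases lt_trichotomy δv 0 with h | h | h
    · exfalso
      have h3 : ((q:ℤ) - p) * δv ≤ ((q:ℤ) - p) * (-1) :=
        mul_le_mul_of_nonneg_left (by linarith) hqp.le
      linarith
    · have hda : δa = 0 := by rw [h] at hrel; linarith
      rw [h] at hδu
      refine ⟨?_, ?_, ?_⟩ <;> omega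
    · exfalso
      have h3 : ((q:ℤ) - p) * 1 ≤ ((q:ℤ) - p) * δv :=
        mul_le_mul_of_nonneg_left (by linarith) hqp.le
      linarith
  · have hx1 : 1 ≤ x := hxpos
    have hpm : (0:ℤ) < p * m := mul_pos hpz hmz
    have hpmx : (p:ℤ) * m * 1 ≤ p * m * x := mul_le_mul_of_nonneg_left hx1 hpm.le
    rcases lt_or_ge δv 0 with hv | hv
    · exfalso
      have h3 : ((q:ℤ) - p) * δv ≤ ((q:ℤ) - p) * (-1) :=
        mul_le_mul_of_nonneg_left (by linarith) hqp.le
      linarith
    · rcases lt_or_ge δa 0 with hda | hda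
      · exfalso
        have hgb' := hgb p q m hp hpq hcop hm hnt c hc
        have hgt' := hgt p q m hp hpq hcop hm hnt c hc
        obtain ⟨hg, _⟩ := bt_facts p q m hp hpq hcop hm hnt
        have hgz : (0:ℤ) < gcdK p q m := by exact_mod_cast hg
        rcases lt_or_ge x (hjP c i) with hxP | hxP
        · have hi2 : 2 ≤ i := by
            by_contra h; push_neg at h
            have : i = 1 := by omega
            subst this
            rw [hjP_one] at hxP; linarith
          have hgρ : (gcdK p q m : ℤ) * ((tT p q m : ℤ) * x -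
              (bB p q m : ℤ) * (((alpha p q m : ℤ) + 1) * x - δv)) = -δa := by
            linear_combination x * hgt' + (δv - ((alpha p q m : ℤ) + 1) * x) * hgb' + hrel
          have hρ0 : 0 < (tT p q m : ℤ) * x -
              (bB p q m : ℤ) * (((alpha p q m : ℤ) + 1) * x - δv) := by
            by_contra h; push_neg at h
            have := mul_nonpos_of_nonneg_of_nonpos hgz.le h
            linarith
          have ei : i - 1 + 1 = i := by omega
          have hlow := lower p q m hp hpq hcop hm hnt c hc (i - 1) (by omega) (by omega) x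
            (((alpha p q m : ℤ) + 1) * x - δv) _ hxpos (by rw [ei]; exact hxP) (by ring) hρ0.le
          have hn := nN_eq p q m hp hpq hcop hm hnt c hc (i - 1)
          have h5 := mul_le_mul_of_nonneg_left hlow hgz.le
          rw [hgρ, ← hn] at h5
          linarith
        · apply hEL
          have hn := nN_eq p q m hp hpq hcop hm hnt c hc i
          have hDlt := DD_lt_b p q m hp hpq hcop hm hnt c hc i hi1 (by omega)
          have hnlt : nN p q m c i < (q:ℤ) - p := by
            rw [hn, ← hgb']; exact mul_lt_mul_of_pos_left hDlt hgz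
          have hn2 : nN p q m c i = ((q:ℤ) - p) * lL p q m c i - p * m * hjP c i := by
            unfold nN; rw [eE_eq]; ring
          have h1 : (p:ℤ) * m * hjP c i ≤ p * m * x := mul_le_mul_of_nonneg_left hxP hpm.le
          have h2 : ((q:ℤ) - p) * (lL p q m c i - 1) < ((q:ℤ) - p) * δv := by linarith
          have hl : lL p q m c i ≤ δv := by
            have := lt_of_mul_lt_mul_left h2 hqp.le
            linarith
          constructor
          · rw [eE_eq]
            have : (m:ℤ) * hjP c i ≤ m * x := mul_le_mul_of_nonneg_left hxP hmz.le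
            linarith
          · linarith
      · exfalso
        have hmx : (0:ℤ) ≤ m * x := mul_nonneg hmz.le hx0
        have c1 : ((δa.toNat : ℕ) : ℤ) = δa := Int.toNat_of_nonneg hda
        have c2 : (((δv + m * x).toNat : ℕ) : ℤ) = δv + m * x :=
          Int.toNat_of_nonneg (by linarith)
        have c3 : ((δv.toNat : ℕ) : ℤ) = δv := Int.toNat_of_nonneg hv
        refine hK δa.toNat (δv + m * x).toNat δv.toNat ?_ ?_ ?_ ?_ ?_ ?_
        · rintro ⟨-, h, -⟩
          have h6 : (((δv + m * x).toNat : ℕ) : ℤ) = 0 := by rw [h]; simp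
          rw [c2] at h6
          have : (m:ℤ) * 1 ≤ m * x := mul_le_mul_of_nonneg_left hx1 hmz.le
          linarith
        · rw [c1, c2, c3]; linear_combination hrel
        · rw [c2, c3]; exact ⟨-x, by ring⟩
        · have : ((δa.toNat : ℕ) : ℤ) ≤ a := by rw [c1, hδa]; linarith
          exact_mod_cast this
        · have : (((δv + m * x).toNat : ℕ) : ℤ) ≤ u := by rw [c2]; linarith
          exact_mod_cast this
        · have : ((δv.toNat : ℕ) : ℤ) ≤ v := by rw [c3, hδv]; linarith
          exact_mod_cast this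

end

end Groth.Agent.Helper7.HJ8
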