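import Mathlib
import Groth.Prelude.Def_ComodDual
import Groth.Prelude.Def_ComodTens
import Groth.Prelude.Def_Hoch

/-!
# The comodule `W ⊗ V^*` of linear maps over a commutative ring (helper7 library)

Generalisation of `HomComod` to a commutative base ring: for `V` finitely presented and `W`, `A`
flat, the invariants of `W ⊗ V^*` are the comodule maps `V → W`.
-/

set_option autoImplicit false
universe u v w w'

open TensorProduct

namespace Groth.Agent.Helper7.HomComodR

section DTH

variable {k : Type u} [CommRing k]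

lemma dTH_natural {M M' : Type*} [AddCommGroup M] [Module k M] [AddCommGroup M'] [Module k M']
    (N : Type*) [AddCommGroup N] [Module k N] (π : M' →ₗ[k] M) (x : Module.Dual k M ⊗[k] N) :
    dualTensorHom k M' N ((LinearMap.lcomp k k π).rTensor N x) = dualTensorHom k M N x ∘ₗ π := by
  induction x using TensorProduct.induction_on with
  | zero => simp
  | tmul f b =>
    apply LinearMap.ext
    intro v
    simp [dualTensorHom_apply]
  | add x y hx hy => simp only [map_add, hx, hy, LinearMap.add_comp]

/-- `M^* ⊗ N → Hom(M, N)` is bijective for `M` finitely presented and `N` flat. -/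
theorem dTH_bijective (M : Type*) [AddCommGroup M] [Module k M]
    [Module.FinitePresentation k M] (N : Type*) [AddCommGroup N] [Module k N] [Module.Flat k N] :
    Function.Bijective (dualTensorHom k M N) := by
  obtain ⟨n, m, π, g, hπ, hex⟩ := Module.FinitePresentation.exists_fin' k M
  have bF : Function.Bijective (dualTensorHom k (Fin n → k) N) := dualTensorHom_bijective
  have bG : Function.Bijective (dualTensorHom k (Fin m → k) N) := dualTensorHom_bijective
  have hinj : Function.Injective ((LinearMap.lcomp k k π).rTensor N) :=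
    Module.Flat.rTensor_preserves_injective_linearMap _
      (LinearMap.lcomp_injective_of_surjective π hπ)
  have hexact : Function.Exact ((LinearMap.lcomp k k π).rTensor N)
      ((LinearMap.lcomp k k g).rTensor N) :=
    Module.Flat.rTensor_exact N (LinearMap.exact_lcomp_of_exact_of_surjective k hex hπ)
  constructor
  · intro x y hxy
    apply hinj
    apply bF.1
    rw [dTH_natural, dTH_natural, hxy]
  · intro h
    obtain ⟨y, hy⟩ := bF.2 (h ∘ₗ π)
    have hy0 : (LinearMap.lcomp k k g).rTensor N y = 0 := by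
      apply bG.1
      rw [dTH_natural, hy, map_zero, LinearMap.comp_assoc, hex.linearMap_comp_eq_zero,
        LinearMap.comp_zero]
    obtain ⟨x, hx⟩ := (hexact y).mp hy0
    refine ⟨x, ?_⟩
    have h2 : dualTensorHom k M N x ∘ₗ π = h ∘ₗ π := by rw [← dTH_natural, hx, hy]
    apply LinearMap.ext
    intro v
    obtain ⟨u, rfl⟩ := hπ v
    exact LinearMap.congr_fun h2 u

end DTH

variable {k : Type u} [CommRing k] {A : Type v} [CommRing A] [HopfAlgebra k A]
variable {V : Type w} [AddCommGroup V] [Module k V]
variable {W : Type w'} [AddCommGroup W] [Module k W]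

/-- `v ⊗ b ↦ f v • S b`. -/
noncomputable def F0 (f : Module.Dual k V) : V ⊗[k] A →ₗ[k] A :=
  (TensorProduct.lid k A).toLinearMap ∘ₗ
    TensorProduct.map f (HopfAlgebraStruct.antipode (R := k) (A := A))

@[simp] lemma F0_tmul (f : Module.Dual k V) (v : V) (b : A) :
    F0 f (v ⊗ₜ[k] b) = f v • HopfAlgebraStruct.antipode (R := k) (A := A) b := by
  simp [F0]

lemma dualCoactFun_eq (c : HopfRep.Comod k A V) (f : Module.Dual k V) (v : V) :
    ComodTens.dualCoactFun c f v = F0 f (c.coact v) := rfl

/-- `w ⊗ f ↦ (v ↦ f v • w)`. -/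
noncomputable def hom : W ⊗[k] Module.Dual k V →ₗ[k] V →ₗ[k] W :=
  dualTensorHom k V W ∘ₗ (TensorProduct.comm k W (Module.Dual k V)).toLinearMap

@[simp] lemma hom_tmul (w : W) (f : Module.Dual k V) (v : V) :
    hom (w ⊗ₜ[k] f) v = f v • w := by
  simp [hom]

lemma hom_bijective [Module.FinitePresentation k V] [Module.Flat k W] :
    Function.Bijective (hom (k := k) (V := V) (W := W)) := by
  have h1 := dTH_bijective (k := k) V W
  exact h1.comp (TensorProduct.comm k W (Module.Dual k V)).bijective

/-- `(w ⊗ b) ⊗ a ↦ w ⊗ (b * a)`. -/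
noncomputable def rmul : (W ⊗[k] A) ⊗[k] A →ₗ[k] W ⊗[k] A :=
  (LinearMap.mul' k A).lTensor W ∘ₗ (TensorProduct.assoc k W A A).toLinearMap

@[simp] lemma rmul_tmul (w : W) (b a : A) :
    rmul ((w ⊗ₜ[k] b) ⊗ₜ[k] a) = w ⊗ₜ[k] (b * a) := by
  simp [rmul]

lemma rmul_rmul (z : W ⊗[k] A) (a b : A) :
    rmul (rmul (z ⊗ₜ[k] a) ⊗ₜ[k] b) = rmul (z ⊗ₜ[k] (a * b)) := by
  induction z using TensorProduct.induction_on with
  | zero => simp
  | tmul w b0 => simp [mul_assoc]
  | add x y hx hy => simp only [TensorProduct.add_tmul, map_add, hx, hy]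

lemma rmul_one (z : W ⊗[k] A) : rmul (z ⊗ₜ[k] (1 : A)) = z := by
  induction z using TensorProduct.induction_on with
  | zero => simp
  | tmul w b0 => simp
  | add x y hx hy => simp only [TensorProduct.add_tmul, map_add, hx, hy]

lemma rmul_smul (z : W ⊗[k] A) (r : k) (a : A) :
    rmul (z ⊗ₜ[k] (r • a)) = r • rmul (z ⊗ₜ[k] a) := by
  rw [TensorProduct.tmul_smul, map_smul]

/-- The identification `(W ⊗ V^*) ⊗ A ≃ V^* ⊗ (W ⊗ A)`. -/
noncomputable def eqv : (W ⊗[k] Module.Dual k V) ⊗[k] A ≃ₗ[k] Module.Dual k V ⊗[k] (W ⊗[k] A) :=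
  (LinearEquiv.rTensor A (TensorProduct.comm k W (Module.Dual k V))).trans
    (TensorProduct.assoc k (Module.Dual k V) W A)

/-- `(w ⊗ f) ⊗ a ↦ (v ↦ f v • (w ⊗ a))`. -/
noncomputable def EE : (W ⊗[k] Module.Dual k V) ⊗[k] A →ₗ[k] V →ₗ[k] W ⊗[k] A :=
  dualTensorHom k V (W ⊗[k] A) ∘ₗ (eqv (k := k) (A := A) (V := V) (W := W)).toLinearMap

@[simp] lemma EE_tmul (w : W) (f : Module.Dual k V) (a : A) (v : V) :
    EE ((w ⊗ₜ[k] f) ⊗ₜ[k] a) v = f v • (w ⊗ₜ[k] a) := by
  simp [EE, eqv]

lemma EE_injective [Module.FinitePresentation k V] [Module.Flat k W] [Module.Flat k A] :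
    Function.Injective (EE (k := k) (A := A) (V := V) (W := W)) := by
  intro x y hxy
  have h1 := (dTH_bijective (k := k) V (W ⊗[k] A)).1 hxy
  exact (eqv (k := k) (A := A) (V := V) (W := W)).injective h1

lemma EE_one (x : W ⊗[k] Module.Dual k V) (v : V) :
    EE (x ⊗ₜ[k] (1 : A)) v = hom x v ⊗ₜ[k] (1 : A) := by
  induction x using TensorProduct.induction_on with
  | zero => simp
  | tmul w f => rw [EE_tmul, hom_tmul, TensorProduct.smul_tmul']
  | add x y hx hy => simp only [TensorProduct.add_tmul, map_add, LinearMap.add_apply, hx, hy]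

lemma K1 (y : W ⊗[k] A) (Y : Module.Dual k V ⊗[k] A) (v : V) :
    EE (TensorProduct.map LinearMap.id (LinearMap.mul' k A)
      (TensorProduct.AlgebraTensorModule.tensorTensorTensorComm k k k k W A (Module.Dual k V) A
        (y ⊗ₜ[k] Y))) v =
      rmul (y ⊗ₜ[k] dualTensorHom k V A Y v) := by
  induction y using TensorProduct.induction_on with
  | zero => simp
  | tmul w0 w1 =>
    induction Y using TensorProduct.induction_on with
    | zero => simp
    | tmul f0 f1 =>
      simp only [TensorProduct.AlgebraTensorModule.tensorTensorTensorComm_tmul,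
        TensorProduct.map_tmul, LinearMap.id_apply, LinearMap.mul'_apply, EE_tmul,
        dualTensorHom_apply, TensorProduct.tmul_smul, map_smul, rmul_tmul]
    | add Y Z hY hZ => simp only [TensorProduct.tmul_add, map_add, LinearMap.add_apply, hY, hZ]
  | add y z hy hz => simp only [TensorProduct.add_tmul, map_add, LinearMap.add_apply, hy, hz]

variable (cW : HopfRep.Comod k A W)

/-- `v ⊗ b ↦ ρ_W (h v) · (1 ⊗ S b)`. -/
noncomputable def conj (h : V →ₗ[k] W) : V ⊗[k] A →ₗ[k] W ⊗[k] A :=
  rmul ∘ₗ TensorProduct.map (cW.coact ∘ₗ h) (HopfAlgebraStruct.antipode (R := k) (A := A))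

@[simp] lemma conj_tmul (h : V →ₗ[k] W) (v' : V) (b : A) :
    conj cW h (v' ⊗ₜ[k] b) =
      rmul (cW.coact (h v') ⊗ₜ[k] HopfAlgebraStruct.antipode (R := k) (A := A) b) := by
  simp [conj]

lemma conj_add (h h' : V →ₗ[k] W) : conj cW (h + h') = conj cW h + conj cW h' := by
  apply TensorProduct.ext'
  intro v b
  simp [TensorProduct.add_tmul]

lemma conj_zero : conj cW (0 : V →ₗ[k] W) = 0 := by
  apply TensorProduct.ext'
  intro v b
  simp

variable (c : HopfRep.Comod k A V) (d : HopfRep.Comod k A (Module.Dual k V))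

lemma K (hd : ComodTens.Comod.IsDual c d) (x : W ⊗[k] Module.Dual k V) (v : V) :
    EE ((ComodTens.Comod.tensor cW d).coact x) v =
      conj cW (hom x) (c.coact v) := by
  induction x using TensorProduct.induction_on with
  | zero => simp [conj_zero]
  | tmul w f =>
    rw [ComodTens.tensor_coact_tmul, K1, hd f, dualCoactFun_eq]
    generalize c.coact v = t
    induction t using TensorProduct.induction_on with
    | zero => simp
    | tmul v' b =>
      simp only [F0_tmul, conj_tmul, hom_tmul, map_smul, TensorProduct.tmul_smul,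
        ← TensorProduct.smul_tmul']
    | add s t hs ht => simp only [map_add, TensorProduct.tmul_add, hs, ht]
  | add x y hx hy => simp only [map_add, LinearMap.add_apply, hx, hy, conj_add]

/-- An element of `W ⊗ V^*` is invariant iff the corresponding linear map satisfies `Q`. -/
lemma fixed_iff [Module.FinitePresentation k V] [Module.Flat k W] [Module.Flat k A]
    (hd : ComodTens.Comod.IsDual c d) (x : W ⊗[k] Module.Dual k V) :
    (ComodTens.Comod.tensor cW d).coact x = x ⊗ₜ[k] (1 : A) ↔
      ∀ v, conj cW (hom x) (c.coact v) = hom x v ⊗ₜ[k] (1 : A) := by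
  constructor
  · intro hx v
    rw [← K cW c d hd, hx, EE_one]
  · intro hq
    apply EE_injective
    apply LinearMap.ext
    intro v
    rw [K cW c d hd, EE_one, hq]

lemma comodHom_of_Q (h : V →ₗ[k] W)
    (hq : ∀ v, conj cW h (c.coact v) = h v ⊗ₜ[k] (1 : A)) :
    cW.coact ∘ₗ h = h.rTensor A ∘ₗ c.coact := by
  apply LinearMap.ext
  intro v
  simp only [LinearMap.comp_apply]
  let Φ : (V ⊗[k] A) ⊗[k] A →ₗ[k] W ⊗[k] A := rmul ∘ₗ (conj cW h).rTensor A
  have hΦ1 : ∀ t : V ⊗[k] A, Φ (c.coact.rTensor A t) = h.rTensor A t := by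
    intro t
    induction t using TensorProduct.induction_on with
    | zero => simp
    | tmul v' b =>
      rw [LinearMap.rTensor_tmul]
      show rmul ((conj cW h).rTensor A (c.coact v' ⊗ₜ[k] b)) = _
      rw [LinearMap.rTensor_tmul, hq, rmul_tmul, one_mul, LinearMap.rTensor_tmul]
    | add s t hs ht => simp only [map_add, hs, ht]
  have hΦ2 : ∀ t : V ⊗[k] A, Φ ((TensorProduct.assoc k V A A).symm
      ((CoalgebraStruct.comul (R := k) (A := A)).lTensor V t)) =
      cW.coact (h (TensorProduct.rid k V
        ((CoalgebraStruct.counit (R := k) (A := A)).lTensor V t))) := by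
    intro t
    induction t using TensorProduct.induction_on with
    | zero => simp
    | tmul v' b =>
      simp only [LinearMap.lTensor_tmul]
      have key : ∀ y : A ⊗[k] A, Φ ((TensorProduct.assoc k V A A).symm (v' ⊗ₜ[k] y)) =
          rmul (cW.coact (h v') ⊗ₜ[k] LinearMap.mul' k A
            ((HopfAlgebraStruct.antipode (R := k) (A := A)).rTensor A y)) := by
        intro y
        induction y using TensorProduct.induction_on with
        | zero => simp
        | tmul b1 b2 =>
          rw [TensorProduct.assoc_symm_tmul]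
          show rmul ((conj cW h).rTensor A ((v' ⊗ₜ[k] b1) ⊗ₜ[k] b2)) = _
          rw [LinearMap.rTensor_tmul, conj_tmul, rmul_rmul, LinearMap.rTensor_tmul,
            LinearMap.mul'_apply]
        | add y z hy hz => simp only [TensorProduct.tmul_add, map_add, hy, hz]
      rw [key, HopfAlgebra.mul_antipode_rTensor_comul_apply, Algebra.algebraMap_eq_smul_one,
        rmul_smul, rmul_one, TensorProduct.rid_tmul, map_smul, map_smul]
    | add s t hs ht => simp only [map_add, hs, ht]
  have hco := LinearMap.congr_fun c.coassoc v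
  simp only [LinearMap.comp_apply, LinearEquiv.coe_coe] at hco
  have hcu := LinearMap.congr_fun c.counit_comp v
  simp only [LinearMap.comp_apply, LinearMap.flip_apply, TensorProduct.mk_apply] at hcu
  have h2 := hΦ2 (c.coact v)
  rw [hcu, TensorProduct.rid_tmul, one_smul, ← hco, LinearEquiv.symm_apply_apply, hΦ1] at h2
  exact h2.symm

lemma Q_of_comodHom (h : V →ₗ[k] W) (hh : cW.coact ∘ₗ h = h.rTensor A ∘ₗ c.coact) (v : V) :
    conj cW h (c.coact v) = h v ⊗ₜ[k] (1 : A) := by
  let Ψ : (V ⊗[k] A) ⊗[k] A →ₗ[k] W ⊗[k] A :=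
    rmul ∘ₗ TensorProduct.map (h.rTensor A) (HopfAlgebraStruct.antipode (R := k) (A := A))
  have hΨ1 : ∀ t : V ⊗[k] A, conj cW h t = Ψ (c.coact.rTensor A t) := by
    intro t
    induction t using TensorProduct.induction_on with
    | zero => simp
    | tmul v' b =>
      rw [conj_tmul, LinearMap.rTensor_tmul]
      show _ = rmul (TensorProduct.map (h.rTensor A)
        (HopfAlgebraStruct.antipode (R := k) (A := A)) (c.coact v' ⊗ₜ[k] b))
      rw [TensorProduct.map_tmul]
      have := LinearMap.congr_fun hh v'
      simp only [LinearMap.comp_apply] at this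
      rw [this]
    | add s t hs ht => simp only [map_add, hs, ht]
  have hΨ2 : ∀ t : V ⊗[k] A, Ψ ((TensorProduct.assoc k V A A).symm
      ((CoalgebraStruct.comul (R := k) (A := A)).lTensor V t)) =
      h (TensorProduct.rid k V ((CoalgebraStruct.counit (R := k) (A := A)).lTensor V t)) ⊗ₜ[k]
        (1 : A) := by
    intro t
    induction t using TensorProduct.induction_on with
    | zero => simp
    | tmul v' b =>
      simp only [LinearMap.lTensor_tmul]
      have key : ∀ y : A ⊗[k] A, Ψ ((TensorProduct.assoc k V A A).symm (v' ⊗ₜ[k] y)) =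
          h v' ⊗ₜ[k] LinearMap.mul' k A
            ((HopfAlgebraStruct.antipode (R := k) (A := A)).lTensor A y) := by
        intro y
        induction y using TensorProduct.induction_on with
        | zero => simp
        | tmul b1 b2 =>
          rw [TensorProduct.assoc_symm_tmul]
          show rmul (TensorProduct.map (h.rTensor A)
            (HopfAlgebraStruct.antipode (R := k) (A := A)) ((v' ⊗ₜ[k] b1) ⊗ₜ[k] b2)) = _
          rw [TensorProduct.map_tmul, LinearMap.rTensor_tmul, rmul_tmul, LinearMap.lTensor_tmul,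
            LinearMap.mul'_apply]
        | add y z hy hz => simp only [TensorProduct.tmul_add, map_add, hy, hz]
      rw [key, HopfAlgebra.mul_antipode_lTensor_comul_apply, Algebra.algebraMap_eq_smul_one,
        TensorProduct.tmul_smul, TensorProduct.rid_tmul, map_smul, TensorProduct.smul_tmul']
    | add s t hs ht => simp only [map_add, TensorProduct.add_tmul, hs, ht]
  have hco := LinearMap.congr_fun c.coassoc v
  simp only [LinearMap.comp_apply, LinearEquiv.coe_coe] at hco
  have hcu := LinearMap.congr_fun c.counit_comp v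
  simp only [LinearMap.comp_apply, LinearMap.flip_apply, TensorProduct.mk_apply] at hcu
  have h2 := hΨ2 (c.coact v)
  rw [hcu, TensorProduct.rid_tmul, one_smul, ← hco, LinearEquiv.symm_apply_apply, ← hΨ1] at h2
  exact h2

end Groth.Agent.Helper7.HomComodR
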