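import Mathlib

/-!
# Krull dimension along order fibrations (copied from helper14's H14Lib for independence)
-/

set_option autoImplicit false

namespace Groth.Agent.Helper7

theorem coheight_le_of_fibration {α β : Type*} [Preorder α] [Preorder β] (f : α → β)
    (hmono : Monotone f) (hfib : ∀ a b, f a ≤ b → ∃ a', a ≤ a' ∧ f a' = b) (a : α) :
    Order.coheight (f a) ≤ Order.coheight a := by
  suffices h : ∀ n : ℕ, ∀ a, (n : ℕ∞) ≤ Order.coheight (f a) → (n : ℕ∞) ≤ Order.coheight a by
    exact ENat.forall_natCast_le_iff_le.mp (fun n => h n a)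
  intro n
  induction n with
  | zero => intro a _; simp
  | succ n ih =>
    intro a ha
    have h1 : ¬ Order.coheight (f a) ≤ (n : ℕ∞) := by
      intro h
      have := ha.trans h
      norm_cast at this
      omega
    rw [Order.coheight_le_coe_iff] at h1
    push Not at h1
    obtain ⟨y, hy, hny⟩ := h1
    obtain ⟨a', haa', rfl⟩ := hfib a y hy.le
    have hlt : a < a' := lt_of_le_not_ge haa' (fun h => (hmono h).not_gt hy)
    have := ih a' hny
    calc ((n + 1 : ℕ) : ℕ∞) = (n : ℕ∞) + 1 := by norm_cast
      _ ≤ Order.coheight a' + 1 := by gcongr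
      _ ≤ Order.coheight a := Order.coheight_add_one_le hlt

theorem krullDim_le_of_fibration {α β : Type*} [Preorder α] [Preorder β] (f : α → β)
    (hmono : Monotone f) (hfib : ∀ a b, f a ≤ b → ∃ a', a ≤ a' ∧ f a' = b)
    (hsurj : Function.Surjective f) : Order.krullDim β ≤ Order.krullDim α := by
  rw [Order.krullDim_eq_iSup_coheight]
  apply iSup_le
  intro b
  obtain ⟨a, rfl⟩ := hsurj b
  exact (WithBot.coe_le_coe.mpr (coheight_le_of_fibration f hmono hfib a)).trans
    (Order.coheight_le_krullDim a)

end Groth.Agent.Helper7
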