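import Mathlib

/-!
# Locally compact totally disconnected abelian groups: van Dantzig, and residual finiteness of
finitely generated abelian groups.
-/

set_option autoImplicit false
open Topology Pointwise
universe u

namespace Groth.Agent.Helper7

/-- van Dantzig: in a Hausdorff locally compact totally disconnected additive group, every
neighbourhood of `0` contains a compact open subgroup. -/
theorem exists_compact_open_addSubgroup_subset {B : Type u} [AddCommGroup B] [TopologicalSpace B]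
    [IsTopologicalAddGroup B] [T2Space B] [LocallyCompactSpace B] [TotallyDisconnectedSpace B]
    {U : Set B} (hU : U ∈ 𝓝 (0 : B)) :
    ∃ V : AddSubgroup B, IsOpen (V : Set B) ∧ IsCompact (V : Set B) ∧ (V : Set B) ⊆ U := by
  obtain ⟨K, hK, hKU, hKc⟩ := local_compact_nhds hU
  have hbasis := loc_compact_Haus_tot_disc_of_zero_dim (H := B)
  obtain ⟨W, hWclopen, h0W, hWK⟩ := hbasis.mem_nhds_iff.1 (interior_mem_nhds.2 hK)
  have hWc : IsCompact W := hKc.of_isClosed_subset hWclopen.1 (hWK.trans interior_subset)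
  obtain ⟨T₀, hT₀, hWT₀⟩ := compact_open_separated_add_right hWc hWclopen.2 subset_rfl
  obtain ⟨T₁, hT₁sub, hT₁o, h0T₁⟩ := mem_nhds_iff.1 hT₀
  set T : Set B := T₁ ∩ -T₁ with hT
  have hTo : IsOpen T := hT₁o.inter hT₁o.neg
  have h0T : (0 : B) ∈ T := ⟨h0T₁, by simpa using h0T₁⟩
  have hTneg : -T = T := by
    rw [hT, Set.inter_neg, neg_neg, Set.inter_comm]
  have hWT : ∀ w ∈ W, ∀ t ∈ T, w + t ∈ W := fun w hw t ht =>
    hWT₀ (Set.add_mem_add hw (hT₁sub ht.1))
  have key : ∀ x ∈ AddSubmonoid.closure T, ∀ w ∈ W, w + x ∈ W := by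
    intro x hx
    induction hx using AddSubmonoid.closure_induction with
    | mem t ht => exact fun w hw => hWT w hw t ht
    | zero => intro w hw; simpa using hw
    | add x y _ _ ihx ihy =>
      intro w hw
      rw [← add_assoc]
      exact ihy _ (ihx w hw)
  have hsub : ((AddSubgroup.closure T : AddSubgroup B) : Set B) ⊆ W := by
    intro x hx
    have hx' : x ∈ (AddSubgroup.closure T).toAddSubmonoid := hx
    rw [AddSubgroup.closure_toAddSubmonoid, hTneg, Set.union_self] at hx'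
    simpa using key x hx' 0 h0W
  have hop : IsOpen ((AddSubgroup.closure T : AddSubgroup B) : Set B) :=
    AddSubgroup.isOpen_of_mem_nhds _ (g := 0)
      (Filter.mem_of_superset (hTo.mem_nhds h0T) AddSubgroup.subset_closure)
  exact ⟨AddSubgroup.closure T, hop,
    hWc.of_isClosed_subset (AddSubgroup.isClosed_of_isOpen _ hop) hsub,
    fun x hx => hKU (interior_subset (hWK (hsub hx)))⟩

/-- A finitely generated abelian group is residually finite. -/
theorem exists_finiteIndex_not_mem_of_fg {Q : Type u} [AddCommGroup Q] [AddGroup.FG Q]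
    (q : Q) (hq : q ≠ 0) : ∃ H : AddSubgroup Q, H.FiniteIndex ∧ q ∉ H := by
  have : Module.Finite ℤ Q := Module.Finite.iff_addGroup_fg.2 inferInstance
  -- annihilator ideal of q
  let ann : Ideal ℤ := LinearMap.ker (LinearMap.toSpanSingleton ℤ Q q)
  have hann : ann ≠ ⊤ := by
    intro h
    have : (1 : ℤ) ∈ ann := h ▸ Submodule.mem_top
    have h1 : (1 : ℤ) • q = 0 := by simpa [ann] using this
    exact hq (by simpa using h1)
  obtain ⟨𝔪, h𝔪, hle⟩ := Ideal.exists_le_maximal ann hann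
  have hkrull : q ∉ (⨅ i : ℕ, 𝔪 ^ i • ⊤ : Submodule ℤ Q) := by
    intro hmem
    obtain ⟨r, hr⟩ := (Ideal.mem_iInf_smul_pow_eq_bot_iff 𝔪 q).1 hmem
    have h1 : (1 - (r : ℤ)) ∈ ann := by
      show (LinearMap.toSpanSingleton ℤ Q q) (1 - (r : ℤ)) = 0
      simp [sub_smul, hr]
    have h2 : (1 - (r : ℤ)) ∈ 𝔪 := hle h1
    have h3 : (1 : ℤ) ∈ 𝔪 := by
      have := 𝔪.add_mem h2 r.2
      simpa using this
    exact h𝔪.ne_top ((Ideal.eq_top_iff_one _).2 h3)
  rw [Submodule.mem_iInf, not_forall] at hkrull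
  obtain ⟨k, hk⟩ := hkrull
  refine ⟨(𝔪 ^ k • ⊤ : Submodule ℤ Q).toAddSubgroup, ?_, hk⟩
  -- finite index
  have h𝔪bot : 𝔪 ≠ ⊥ := Ring.ne_bot_of_isMaximal_of_not_isField h𝔪 Int.not_isField
  obtain ⟨m, hm𝔪, hm0⟩ := Submodule.exists_mem_ne_zero_of_ne_bot h𝔪bot
  have hkill : ∀ x : Q, m ^ k • x ∈ (𝔪 ^ k • ⊤ : Submodule ℤ Q) := fun x =>
    Submodule.smul_mem_smul (Ideal.pow_mem_pow hm𝔪 k) Submodule.mem_top
  have htors : Module.IsTorsion ℤ (Q ⧸ (𝔪 ^ k • ⊤ : Submodule ℤ Q)) := by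
    intro x
    induction x using Submodule.Quotient.induction_on with
    | H x =>
      refine ⟨⟨m ^ k, mem_nonZeroDivisors_of_ne_zero (pow_ne_zero k hm0)⟩, ?_⟩
      show (m ^ k) • (Submodule.Quotient.mk x : Q ⧸ (𝔪 ^ k • ⊤ : Submodule ℤ Q)) = 0
      rw [← Submodule.Quotient.mk_smul, Submodule.Quotient.mk_eq_zero]
      exact hkill x
  have hfin : Finite (Q ⧸ (𝔪 ^ k • ⊤ : Submodule ℤ Q)) := Module.finite_of_fg_torsion _ htors
  have hfin' : Finite (Q ⧸ (𝔪 ^ k • ⊤ : Submodule ℤ Q).toAddSubgroup) := hfin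
  exact AddSubgroup.finiteIndex_of_finite_quotient

end Groth.Agent.Helper7
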