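import Groth.Agent.Lib.Helper7.LCTDGroup

/-!
# More on compactly generated locally compact totally disconnected abelian groups
-/

set_option autoImplicit false
open Topology Pointwise
universe u v

namespace Groth.Agent.Helper7

/-- The quotient of a compactly generated topological abelian group by an open subgroup is
finitely generated. -/
theorem fg_quotient_of_isOpen {B : Type u} [AddCommGroup B] [TopologicalSpace B]
    [IsTopologicalAddGroup B]
    (hcg : ∃ K : Set B, IsCompact K ∧ AddSubgroup.closure K = ⊤)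
    (V : AddSubgroup B) (hVo : IsOpen (V : Set B)) : AddGroup.FG (B ⧸ V) := by
  classical
  obtain ⟨K, hK, hgen⟩ := hcg
  have hopen : ∀ q : B ⧸ V, IsOpen ((QuotientAddGroup.mk' V) ⁻¹' {q}) := by
    intro q
    induction q using QuotientAddGroup.induction_on with
    | H b' =>
      have : (QuotientAddGroup.mk' V) ⁻¹' {(b' : B ⧸ V)} = (fun x => x - b') ⁻¹' (V : Set B) := by
        ext x
        simp only [Set.mem_preimage, Set.mem_singleton_iff, QuotientAddGroup.mk'_apply,
          SetLike.mem_coe]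
        rw [QuotientAddGroup.eq, ← neg_mem_iff (H := V)]
        simp [sub_eq_add_neg, add_comm]
      rw [this]
      exact hVo.preimage (continuous_id.sub continuous_const)
  have hfinK : ((QuotientAddGroup.mk' V) '' K).Finite := by
    obtain ⟨t, ht⟩ := hK.elim_finite_subcover (fun q : B ⧸ V => (QuotientAddGroup.mk' V) ⁻¹' {q})
      hopen (fun k _ => Set.mem_iUnion.2 ⟨QuotientAddGroup.mk' V k, rfl⟩)
    refine (t.finite_toSet).subset ?_
    rintro _ ⟨k, hk, rfl⟩
    have := ht hk
    simp only [Set.mem_iUnion, Set.mem_preimage, Set.mem_singleton_iff] at this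
    obtain ⟨q, hq, hkq⟩ := this
    rw [hkq]
    exact hq
  rw [AddGroup.fg_iff]
  refine ⟨(QuotientAddGroup.mk' V) '' K, ?_, hfinK⟩
  rw [← AddMonoidHom.map_closure, hgen, ← AddMonoidHom.range_eq_map,
    AddMonoidHom.range_eq_top.2 (QuotientAddGroup.mk'_surjective V)]

/-- In a f.g. abelian group, a finite subgroup meets some finite index subgroup trivially. -/
theorem exists_finiteIndex_disjoint_of_finite {Q : Type u} [AddCommGroup Q] [AddGroup.FG Q]
    (F : AddSubgroup Q) [Finite F] : ∃ H : AddSubgroup Q, H.FiniteIndex ∧ ∀ x ∈ F, x ∈ H → x = 0 := by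
  classical
  have hex : ∀ f : {f : F // (f : Q) ≠ 0}, ∃ H : AddSubgroup Q, H.FiniteIndex ∧ (f.1 : Q) ∉ H :=
    fun f => exists_finiteIndex_not_mem_of_fg _ f.2
  choose H hHfi hH using hex
  refine ⟨⨅ f, H f, AddSubgroup.finiteIndex_iInf hHfi, ?_⟩
  intro x hxF hxH
  by_contra hx0
  have := (AddSubgroup.mem_iInf.1 hxH) ⟨⟨x, hxF⟩, hx0⟩
  exact hH ⟨⟨x, hxF⟩, hx0⟩ this

/-- Key lemma: for a strict map `i : A → B` into a compactly generated Hausdorff locally compact
totally disconnected abelian group, every open finite index subgroup of `A` contains the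
preimage of an open finite index subgroup of `B`. -/
theorem exists_openFI_comap_le {A : Type u} {B : Type v} [AddCommGroup A] [TopologicalSpace A]
    [AddCommGroup B] [TopologicalSpace B] [IsTopologicalAddGroup B]
    [T2Space B] [LocallyCompactSpace B] [TotallyDisconnectedSpace B]
    (hcg : ∃ K : Set B, IsCompact K ∧ AddSubgroup.closure K = ⊤)
    (i : A →+ B) (hind : IsInducing i)
    (U : AddSubgroup A) (hUo : IsOpen (U : Set A)) [hUfi : U.FiniteIndex] :
    ∃ V : AddSubgroup B, IsOpen (V : Set B) ∧ V.FiniteIndex ∧ V.comap i ≤ U := by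
  classical
  obtain ⟨N, hN, hNeq⟩ := hind.isOpen_iff.1 hUo
  have h0N : (0 : B) ∈ N := by
    have : (0 : A) ∈ i ⁻¹' N := by rw [hNeq]; exact U.zero_mem
    simpa using this
  obtain ⟨V₀, hV₀o, -, hV₀N⟩ := exists_compact_open_addSubgroup_subset (hN.mem_nhds h0N)
  have hV₀U : ∀ a : A, i a ∈ V₀ → a ∈ U := by
    intro a ha
    have : a ∈ i ⁻¹' N := hV₀N ha
    rw [hNeq] at this
    exact this
  set U' : AddSubgroup B := U.map i ⊔ V₀ with hU'
  have hU'o : IsOpen (U' : Set B) :=
    AddSubgroup.isOpen_of_mem_nhds _ (g := 0)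
      (Filter.mem_of_superset (hV₀o.mem_nhds V₀.zero_mem) (fun v hv => (le_sup_right : V₀ ≤ U') hv))
  haveI : AddGroup.FG (B ⧸ U') := fg_quotient_of_isOpen hcg U' hU'o
  -- the image of A in B ⧸ U' is finite
  let g : A →+ B ⧸ U' := (QuotientAddGroup.mk' U').comp i
  have hUker : U ≤ g.ker := by
    intro a ha
    show (QuotientAddGroup.mk' U') (i a) = 0
    rw [QuotientAddGroup.mk'_apply, QuotientAddGroup.eq_zero_iff]
    exact (le_sup_left : U.map i ≤ U') ⟨a, ha, rfl⟩
  haveI : Finite (A ⧸ U) := AddSubgroup.finite_quotient_of_finiteIndex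
  haveI : Finite g.range := by
    let g' : A ⧸ U →+ B ⧸ U' := QuotientAddGroup.lift U g hUker
    have hsurj : Function.Surjective (fun x : A ⧸ U => (⟨g' x, by
        induction x using QuotientAddGroup.induction_on with
        | H a => exact ⟨a, rfl⟩⟩ : g.range)) := by
      rintro ⟨_, a, rfl⟩
      exact ⟨(a : A ⧸ U), rfl⟩
    exact Finite.of_surjective _ hsurj
  obtain ⟨H, hHfi, hHF⟩ := exists_finiteIndex_disjoint_of_finite g.range
  refine ⟨H.comap (QuotientAddGroup.mk' U'), ?_, ?_, ?_⟩
  · apply AddSubgroup.isOpen_of_mem_nhds (g := 0)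
    refine Filter.mem_of_superset (hU'o.mem_nhds U'.zero_mem) ?_
    intro v hv
    show (QuotientAddGroup.mk' U') v ∈ H
    have : (QuotientAddGroup.mk' U') v = 0 := (QuotientAddGroup.eq_zero_iff v).2 hv
    rw [this]
    exact H.zero_mem
  · refine ⟨?_⟩
    rw [AddSubgroup.index_comap_of_surjective _ (QuotientAddGroup.mk'_surjective U')]
    exact hHfi.index_ne_zero
  · intro a ha
    have ha' : g a ∈ H := ha
    have h0 : g a = 0 := hHF _ ⟨a, rfl⟩ ha'
    have h1 : i a ∈ U' := (QuotientAddGroup.eq_zero_iff (i a)).1 h0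
    rw [hU', AddSubgroup.mem_sup] at h1
    obtain ⟨y, ⟨u, hu, rfl⟩, v, hv, hyv⟩ := h1
    have h2 : i (a - u) ∈ V₀ := by
      rw [map_sub, ← hyv]
      simpa using hv
    have h3 : a - u ∈ U := hV₀U _ h2
    have : a = (a - u) + u := by abel
    rw [this]
    exact U.add_mem h3 hu

end Groth.Agent.Helper7
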