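import Mathlib

/-!
# Index computations for sublattices of `ℤⁿ` (helper7)
-/

set_option autoImplicit false

namespace Groth.Agent.Helper7.LatIdx

theorem idx_abstract {G : Type*} [AddCommGroup G] (K₀ : AddSubgroup G) (D : G →+ G)
    (hD : Function.Injective D) (IA : AddSubgroup G) (hIA : IA ≤ K₀.comap D) :
    IA.relIndex (K₀.comap D) * D.range.index =
      (K₀ ⊔ D.range).index * (IA.map D).relIndex K₀ := by
  have h1 : IA.relIndex (K₀.comap D) = (IA.map D).relIndex (K₀ ⊓ D.range) := by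
    rw [← AddSubgroup.relIndex_map_map_of_injective IA (K₀.comap D) hD,
      AddSubgroup.map_comap_eq, inf_comm]
  have hH : IA.map D ≤ K₀ ⊓ D.range := by
    rw [inf_comm, ← AddSubgroup.map_comap_eq]; exact AddSubgroup.map_mono hIA
  have h2 : (IA.map D).relIndex K₀ =
      (IA.map D).relIndex (K₀ ⊓ D.range) * (K₀ ⊓ D.range).relIndex K₀ :=
    (AddSubgroup.relIndex_mul_relIndex _ _ _ hH inf_le_left).symm
  have h3 : (K₀ ⊓ D.range).relIndex K₀ = D.range.relIndex (K₀ ⊔ D.range) := by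
    rw [inf_comm, AddSubgroup.inf_relIndex_right, AddSubgroup.relIndex_sup_right]
  have h4 : D.range.index = D.range.relIndex (K₀ ⊔ D.range) * (K₀ ⊔ D.range).index :=
    (AddSubgroup.relIndex_mul_index le_sup_right).symm
  rw [h1, h2, h3, h4]; ring

lemma card_quot_eq_relIndex {n : ℕ} (P Q : Submodule ℤ (Fin n → ℤ)) :
    Nat.card (↥Q ⧸ P.comap Q.subtype) = P.toAddSubgroup.relIndex Q.toAddSubgroup := rfl

section concrete

variable {n : ℕ} (δ : Fin n → ℤ)

/-- the sum of coordinates -/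
abbrev Ssum (n : ℕ) : (Fin n → ℤ) →ₗ[ℤ] ℤ := ∑ i : Fin n, (LinearMap.proj i : (Fin n → ℤ) →ₗ[ℤ] ℤ)

lemma Ssum_apply (v : Fin n → ℤ) : Ssum n v = ∑ i, v i := by
  simp [Ssum, LinearMap.sum_apply]

lemma D_apply (v : Fin n → ℤ) (i : Fin n) :
    Matrix.mulVecLin (Matrix.diagonal δ) v i = δ i * v i := by
  simp [Matrix.mulVec_diagonal]

lemma D_injective (hδ : ∀ i, δ i ≠ 0) :
    Function.Injective (Matrix.mulVecLin (Matrix.diagonal δ)).toAddMonoidHom := by
  intro v w h
  ext i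
  have := congrFun h i
  simp only [LinearMap.toAddMonoidHom_coe, D_apply] at this
  exact mul_left_cancel₀ (hδ i) this

lemma range_D :
    (Matrix.mulVecLin (Matrix.diagonal δ)).toAddMonoidHom.range =
      AddSubgroup.pi Set.univ (fun i => AddSubgroup.zmultiples (δ i)) := by
  ext x
  simp only [AddMonoidHom.mem_range, AddSubgroup.mem_pi, Set.mem_univ, forall_true_left,
    AddSubgroup.mem_zmultiples_iff, LinearMap.toAddMonoidHom_coe]
  constructor
  · rintro ⟨v, rfl⟩ i
    exact ⟨v i, by rw [D_apply, smul_eq_mul, mul_comm]⟩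
  · intro h
    choose v hv using h
    refine ⟨v, ?_⟩
    ext i
    rw [D_apply, ← hv i, smul_eq_mul, mul_comm]

lemma index_range_D :
    (Matrix.mulVecLin (Matrix.diagonal δ)).toAddMonoidHom.range.index = (∏ i, δ i).natAbs := by
  rw [range_D, AddSubgroup.index_pi]
  simp only [Int.index_zmultiples]
  exact (map_prod Int.natAbsHom δ Finset.univ).symm

lemma index_ker_sup_range (hn : 0 < n) :
    ((LinearMap.ker (Ssum n)).toAddSubgroup ⊔
      (Matrix.mulVecLin (Matrix.diagonal δ)).toAddMonoidHom.range).index =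
      (Finset.univ.gcd δ).natAbs := by
  have hsurj : Function.Surjective (Ssum n).toAddMonoidHom := by
    intro m
    refine ⟨Pi.single ⟨0, hn⟩ m, ?_⟩
    simp [Ssum_apply]
  have hker : (Ssum n).toAddMonoidHom.ker ≤ (LinearMap.ker (Ssum n)).toAddSubgroup ⊔
      (Matrix.mulVecLin (Matrix.diagonal δ)).toAddMonoidHom.range := by
    intro x hx
    exact AddSubgroup.mem_sup_left hx
  rw [← AddSubgroup.index_map_eq _ hsurj hker, ← Int.index_zmultiples]
  congr 1
  apply le_antisymm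
  · rw [AddSubgroup.map_sup, sup_le_iff]
    constructor
    · rintro _ ⟨x, hx, rfl⟩
      have : Ssum n x = 0 := hx
      simp [this]
    · rintro _ ⟨_, ⟨v, rfl⟩, rfl⟩
      rw [AddSubgroup.mem_zmultiples_iff]
      have hdvd : Finset.univ.gcd δ ∣ ∑ i, δ i * v i :=
        Finset.dvd_sum fun i _ => Dvd.dvd.mul_right (Finset.gcd_dvd (Finset.mem_univ i)) _
      obtain ⟨k, hk⟩ := hdvd
      refine ⟨k, ?_⟩
      simp only [LinearMap.toAddMonoidHom_coe, Ssum_apply, D_apply, smul_eq_mul]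
      rw [hk, mul_comm]
  · rw [AddSubgroup.zmultiples_le]
    obtain ⟨g, hg⟩ := Finset.gcd_eq_sum_mul Finset.univ δ
    refine ⟨Matrix.mulVecLin (Matrix.diagonal δ) g, AddSubgroup.mem_sup_right ⟨g, rfl⟩, ?_⟩
    simp only [LinearMap.toAddMonoidHom_coe, Ssum_apply, D_apply]
    exact hg.symm

theorem main (hn : 0 < n) (hδ : ∀ i, δ i ≠ 0) (A : Matrix (Fin n) (Fin n) ℤ)
    (hSDA : (Ssum n) ∘ₗ (Matrix.mulVecLin (Matrix.diagonal δ)) ∘ₗ (Matrix.mulVecLin A) = 0) :
    (Nat.card (LinearMap.ker ((Ssum n) ∘ₗ (Matrix.mulVecLin (Matrix.diagonal δ))) ⧸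
        (LinearMap.range (Matrix.mulVecLin A)).comap
          (LinearMap.ker ((Ssum n) ∘ₗ (Matrix.mulVecLin (Matrix.diagonal δ)))).subtype) : ℤ) *
        |∏ i, δ i| =
      (Finset.univ.gcd δ) * Nat.card (LinearMap.ker (Ssum n) ⧸
        (LinearMap.range ((Matrix.mulVecLin (Matrix.diagonal δ)) ∘ₗ (Matrix.mulVecLin A))).comap
          (LinearMap.ker (Ssum n)).subtype) := by
  rw [card_quot_eq_relIndex, card_quot_eq_relIndex]
  have hK1 : (LinearMap.ker ((Ssum n) ∘ₗ (Matrix.mulVecLin (Matrix.diagonal δ)))).toAddSubgroup =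
      (LinearMap.ker (Ssum n)).toAddSubgroup.comap
        (Matrix.mulVecLin (Matrix.diagonal δ)).toAddMonoidHom := by
    ext x; rfl
  have hIDA : (LinearMap.range ((Matrix.mulVecLin (Matrix.diagonal δ)) ∘ₗ
      (Matrix.mulVecLin A))).toAddSubgroup =
      (LinearMap.range (Matrix.mulVecLin A)).toAddSubgroup.map
        (Matrix.mulVecLin (Matrix.diagonal δ)).toAddMonoidHom := by
    ext x
    constructor
    · rintro ⟨v, rfl⟩
      exact ⟨_, ⟨v, rfl⟩, rfl⟩
    · rintro ⟨_, ⟨v, rfl⟩, rfl⟩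
      exact ⟨v, rfl⟩
  have hIA : (LinearMap.range (Matrix.mulVecLin A)).toAddSubgroup ≤
      (LinearMap.ker (Ssum n)).toAddSubgroup.comap
        (Matrix.mulVecLin (Matrix.diagonal δ)).toAddMonoidHom := by
    rintro _ ⟨v, rfl⟩
    exact LinearMap.congr_fun hSDA v
  have key := idx_abstract (LinearMap.ker (Ssum n)).toAddSubgroup
    (Matrix.mulVecLin (Matrix.diagonal δ)).toAddMonoidHom (D_injective δ hδ)
    (LinearMap.range (Matrix.mulVecLin A)).toAddSubgroup hIA
  rw [index_range_D, index_ker_sup_range δ hn, ← hK1, ← hIDA] at key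
  have hgcd : ((Finset.univ.gcd δ).natAbs : ℤ) = Finset.univ.gcd δ := by
    rw [Int.natCast_natAbs, Int.abs_eq_normalize, Finset.normalize_gcd]
  rw [← hgcd, ← Int.natCast_natAbs (∏ i, δ i)]
  exact_mod_cast key

end concrete

end Groth.Agent.Helper7.LatIdx
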