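import Groth.Agent.Lib.Helper7.LatIdx

/-!
# Index computations for sublattices of `ℤⁿ`, part 2 (helper7)
-/

set_option autoImplicit false

namespace Groth.Agent.Helper7.LatIdx

variable {n : ℕ}

theorem main_nat (δ : Fin n → ℤ) (hn : 0 < n) (hδ : ∀ i, δ i ≠ 0) (A : Matrix (Fin n) (Fin n) ℤ)
    (hSDA : (Ssum n) ∘ₗ (Matrix.mulVecLin (Matrix.diagonal δ)) ∘ₗ (Matrix.mulVecLin A) = 0) :
    (LinearMap.range (Matrix.mulVecLin A)).toAddSubgroup.relIndex
        (LinearMap.ker ((Ssum n) ∘ₗ (Matrix.mulVecLin (Matrix.diagonal δ)))).toAddSubgroup *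
        (∏ i, δ i).natAbs =
      (Finset.univ.gcd δ).natAbs *
        (LinearMap.range ((Matrix.mulVecLin (Matrix.diagonal δ)) ∘ₗ
          (Matrix.mulVecLin A))).toAddSubgroup.relIndex (LinearMap.ker (Ssum n)).toAddSubgroup := by
  have hK1 : (LinearMap.ker ((Ssum n) ∘ₗ (Matrix.mulVecLin (Matrix.diagonal δ)))).toAddSubgroup =
      (LinearMap.ker (Ssum n)).toAddSubgroup.comap
        (Matrix.mulVecLin (Matrix.diagonal δ)).toAddMonoidHom := by
    ext x; rfl
  have hIDA : (LinearMap.range ((Matrix.mulVecLin (Matrix.diagonal δ)) ∘ₗ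
      (Matrix.mulVecLin A))).toAddSubgroup =
      (LinearMap.range (Matrix.mulVecLin A)).toAddSubgroup.map
        (Matrix.mulVecLin (Matrix.diagonal δ)).toAddMonoidHom := by
    ext x
    constructor
    · rintro ⟨v, rfl⟩
      exact ⟨_, ⟨v, rfl⟩, rfl⟩
    · rintro ⟨_, ⟨v, rfl⟩, rfl⟩
      exact ⟨v, rfl⟩
  have hIA : (LinearMap.range (Matrix.mulVecLin A)).toAddSubgroup ≤
      (LinearMap.ker (Ssum n)).toAddSubgroup.comap
        (Matrix.mulVecLin (Matrix.diagonal δ)).toAddMonoidHom := by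
    rintro _ ⟨v, rfl⟩
    exact LinearMap.congr_fun hSDA v
  have key := idx_abstract (LinearMap.ker (Ssum n)).toAddSubgroup
    (Matrix.mulVecLin (Matrix.diagonal δ)).toAddMonoidHom (D_injective δ hδ)
    (LinearMap.range (Matrix.mulVecLin A)).toAddSubgroup hIA
  rw [index_range_D, index_ker_sup_range δ hn, ← hK1, ← hIDA] at key
  exact key

lemma exists_primitive (δ' : Fin n → ℤ) (hn : 0 < n) (hδ' : ∀ i, δ' i ≠ 0) :
    ∃ (u g : Fin n → ℤ), (∀ i, δ' i = Finset.univ.gcd δ' * u i) ∧ ∑ i, u i * g i = 1 ∧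
      Finset.univ.gcd δ' ≠ 0 := by
  have hd : Finset.univ.gcd δ' ≠ 0 := by
    intro h
    rw [Finset.gcd_eq_zero_iff] at h
    exact hδ' ⟨0, hn⟩ (h _ (Finset.mem_univ _))
  have hdvd : ∀ i, Finset.univ.gcd δ' ∣ δ' i := fun i => Finset.gcd_dvd (Finset.mem_univ i)
  choose u hu using hdvd
  obtain ⟨g, hg⟩ := Finset.gcd_eq_sum_mul Finset.univ δ'
  refine ⟨u, g, hu, ?_, hd⟩
  apply mul_left_cancel₀ hd
  rw [mul_one, Finset.mul_sum]
  conv_rhs => rw [hg]
  apply Finset.sum_congr rfl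
  intro i _
  conv_rhs => rw [hu i]
  ring

lemma ker_A_eq (A : Matrix (Fin n) (Fin n) ℤ) (hn : 0 < n) (hA : A.rank = n - 1)
    (u g : Fin n → ℤ) (hug : ∑ i, u i * g i = 1) (hAu : Matrix.mulVecLin A u = 0) :
    (Matrix.mulVecLin A).toAddMonoidHom.ker = AddSubgroup.zmultiples u := by
  have h1 : Module.finrank ℤ (LinearMap.ker (Matrix.mulVecLin A)) = 1 := by
    have h2 := (LinearMap.ker (Matrix.mulVecLin A)).finrank_quotient_add_finrank
    have h3 : Module.finrank ℤ ((Fin n → ℤ) ⧸ LinearMap.ker (Matrix.mulVecLin A)) = A.rank :=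
      (Matrix.mulVecLin A).quotKerEquivRange.finrank_eq
    rw [h3, hA, Module.finrank_fin_fun] at h2
    omega
  have hprin : (LinearMap.ker (Matrix.mulVecLin A)).IsPrincipal :=
    (Submodule.finrank_le_one_iff_isPrincipal _).mp h1.le
  obtain ⟨w, hw⟩ := hprin.principal
  have hu_mem : u ∈ LinearMap.ker (Matrix.mulVecLin A) := hAu
  rw [hw, Submodule.mem_span_singleton] at hu_mem
  obtain ⟨k, hk⟩ := hu_mem
  have hkc : k * ∑ i, w i * g i = 1 := by
    rw [← hug, Finset.mul_sum]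
    apply Finset.sum_congr rfl
    intro i _
    rw [← hk]
    simp [mul_assoc]
  have hwu : w = (∑ i, w i * g i) • u := by
    rw [← hk, smul_smul, mul_comm, hkc, one_smul]
  ext v
  rw [AddMonoidHom.mem_ker, AddSubgroup.mem_zmultiples_iff]
  constructor
  · intro hv
    have hv' : v ∈ LinearMap.ker (Matrix.mulVecLin A) := hv
    rw [hw, Submodule.mem_span_singleton] at hv'
    obtain ⟨a, ha⟩ := hv'
    refine ⟨a * ∑ i, w i * g i, ?_⟩
    rw [mul_smul, ← hwu, ha]
  · rintro ⟨m, rfl⟩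
    show Matrix.mulVecLin A (m • u) = 0
    rw [map_smul, hAu, smul_zero]

lemma relIndex_range_D_zmultiples (δ' u g : Fin n → ℤ)
    (hu : ∀ i, δ' i = Finset.univ.gcd δ' * u i) (hug : ∑ i, u i * g i = 1) :
    ((Matrix.mulVecLin (Matrix.diagonal δ')).toAddMonoidHom.range).relIndex
      (AddSubgroup.zmultiples u) = (Finset.univ.gcd δ').natAbs := by
  have hcomap : ((Matrix.mulVecLin (Matrix.diagonal δ')).toAddMonoidHom.range).comap
      (zmultiplesHom (Fin n → ℤ) u) = AddSubgroup.zmultiples (Finset.univ.gcd δ') := by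
    ext m
    rw [AddSubgroup.mem_comap, range_D, AddSubgroup.mem_pi, AddSubgroup.mem_zmultiples_iff]
    simp only [Set.mem_univ, forall_true_left, AddSubgroup.mem_zmultiples_iff,
      zmultiplesHom_apply, Pi.smul_apply, smul_eq_mul]
    constructor
    · intro h
      choose k hk using h
      refine ⟨∑ i, k i * u i * g i, ?_⟩
      calc (∑ i, k i * u i * g i) * Finset.univ.gcd δ' = ∑ i, (k i * δ' i) * g i := by
            rw [Finset.sum_mul]
            apply Finset.sum_congr rfl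
            intro i _
            conv_rhs => rw [hu i]
            ring
        _ = ∑ i, (m * u i) * g i := by simp only [hk]
        _ = m * ∑ i, u i * g i := by
            rw [Finset.mul_sum]
            apply Finset.sum_congr rfl
            intro i _
            ring
        _ = m := by rw [hug, mul_one]
    · rintro ⟨k, rfl⟩ i
      refine ⟨k, ?_⟩
      conv_lhs => rw [hu i]
      ring
  rw [← AddSubgroup.range_zmultiplesHom, AddMonoidHom.range_eq_map (zmultiplesHom _ u),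
    ← AddSubgroup.relIndex_comap, hcomap, AddSubgroup.relIndex_top_right, Int.index_zmultiples]

lemma relIndex_AD'_A (A : Matrix (Fin n) (Fin n) ℤ) (hn : 0 < n) (hA : A.rank = n - 1)
    (δ' : Fin n → ℤ) (hδ' : ∀ i, δ' i ≠ 0)
    (hADΔ : (Matrix.mulVecLin A) ∘ₗ (Matrix.mulVecLin (Matrix.diagonal δ')) ∘ₗ
        (LinearMap.pi fun _ : Fin n => (LinearMap.id : ℤ →ₗ[ℤ] ℤ)) = 0) :
    (Finset.univ.gcd δ').natAbs *
      (((Matrix.mulVecLin (Matrix.diagonal δ')).toAddMonoidHom.range).map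
        (Matrix.mulVecLin A).toAddMonoidHom).relIndex
        ((Matrix.mulVecLin A).toAddMonoidHom.range) = (∏ i, δ' i).natAbs := by
  obtain ⟨u, g, hu, hug, hd⟩ := exists_primitive δ' hn hδ'
  have hAδ' : Matrix.mulVecLin A δ' = 0 := by
    have := LinearMap.congr_fun hADΔ 1
    simp only [LinearMap.comp_apply, LinearMap.zero_apply] at this
    convert this using 2
    ext i
    simp [D_apply]
  have hδu : δ' = Finset.univ.gcd δ' • u := by
    ext i; rw [Pi.smul_apply, smul_eq_mul]; exact hu i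
  have hAu : Matrix.mulVecLin A u = 0 := by
    rw [hδu, map_smul, smul_eq_zero] at hAδ'
    exact hAδ'.resolve_left hd
  have hker := ker_A_eq A hn hA u g hug hAu
  rw [AddMonoidHom.range_eq_map (Matrix.mulVecLin A).toAddMonoidHom,
    AddSubgroup.relIndex_map_map, top_sup_eq, AddSubgroup.relIndex_top_right,
    ← index_range_D δ', ← relIndex_range_D_zmultiples δ' u g hu hug, ← hker,
    ← AddSubgroup.relIndex_sup_left
      ((Matrix.mulVecLin A).toAddMonoidHom.ker)
      ((Matrix.mulVecLin (Matrix.diagonal δ')).toAddMonoidHom.range)]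
  exact AddSubgroup.relIndex_mul_index le_sup_left

theorem main2 (hn : 0 < n) (δ δ' : Fin n → ℤ) (hδ : ∀ i, δ i ≠ 0) (hδ' : ∀ i, δ' i ≠ 0)
    (A : Matrix (Fin n) (Fin n) ℤ) (hA : A.rank = n - 1)
    (hSDA : (Ssum n) ∘ₗ (Matrix.mulVecLin (Matrix.diagonal δ)) ∘ₗ (Matrix.mulVecLin A) = 0)
    (hADΔ : (Matrix.mulVecLin A) ∘ₗ (Matrix.mulVecLin (Matrix.diagonal δ')) ∘ₗ
        (LinearMap.pi fun _ : Fin n => (LinearMap.id : ℤ →ₗ[ℤ] ℤ)) = 0) :
    (Nat.card (LinearMap.ker ((Ssum n) ∘ₗ (Matrix.mulVecLin (Matrix.diagonal δ))) ⧸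
        (LinearMap.range (Matrix.mulVecLin A)).comap
          (LinearMap.ker ((Ssum n) ∘ₗ (Matrix.mulVecLin (Matrix.diagonal δ)))).subtype) : ℤ) *
        |∏ i, δ i| * |∏ i, δ' i| =
      (Finset.univ.gcd δ) * (Finset.univ.gcd δ') * Nat.card (LinearMap.ker (Ssum n) ⧸
        (LinearMap.range ((Matrix.mulVecLin (Matrix.diagonal δ)) ∘ₗ (Matrix.mulVecLin A) ∘ₗ
          (Matrix.mulVecLin (Matrix.diagonal δ')))).comap (LinearMap.ker (Ssum n)).subtype) := by
  rw [card_quot_eq_relIndex, card_quot_eq_relIndex]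
  have h1 := main_nat δ hn hδ A hSDA
  have h2 := relIndex_AD'_A A hn hA δ' hδ' hADΔ
  -- the big range
  have hbig : (LinearMap.range ((Matrix.mulVecLin (Matrix.diagonal δ)) ∘ₗ (Matrix.mulVecLin A) ∘ₗ
      (Matrix.mulVecLin (Matrix.diagonal δ')))).toAddSubgroup =
      ((((Matrix.mulVecLin (Matrix.diagonal δ')).toAddMonoidHom.range).map
        (Matrix.mulVecLin A).toAddMonoidHom)).map
        (Matrix.mulVecLin (Matrix.diagonal δ)).toAddMonoidHom := by
    ext x
    constructor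
    · rintro ⟨v, rfl⟩
      exact ⟨_, ⟨_, ⟨v, rfl⟩, rfl⟩, rfl⟩
    · rintro ⟨_, ⟨_, ⟨v, rfl⟩, rfl⟩, rfl⟩
      exact ⟨v, rfl⟩
  have hIDA : (LinearMap.range ((Matrix.mulVecLin (Matrix.diagonal δ)) ∘ₗ
      (Matrix.mulVecLin A))).toAddSubgroup =
      ((Matrix.mulVecLin A).toAddMonoidHom.range).map
        (Matrix.mulVecLin (Matrix.diagonal δ)).toAddMonoidHom := by
    ext x
    constructor
    · rintro ⟨v, rfl⟩
      exact ⟨_, ⟨v, rfl⟩, rfl⟩
    · rintro ⟨_, ⟨v, rfl⟩, rfl⟩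
      exact ⟨v, rfl⟩
  have hle1 : (((Matrix.mulVecLin (Matrix.diagonal δ')).toAddMonoidHom.range).map
      (Matrix.mulVecLin A).toAddMonoidHom) ≤ (Matrix.mulVecLin A).toAddMonoidHom.range := by
    rintro _ ⟨y, _, rfl⟩
    exact ⟨y, rfl⟩
  have hle2 : ((Matrix.mulVecLin A).toAddMonoidHom.range).map
      (Matrix.mulVecLin (Matrix.diagonal δ)).toAddMonoidHom ≤
      (LinearMap.ker (Ssum n)).toAddSubgroup := by
    rintro _ ⟨_, ⟨v, rfl⟩, rfl⟩
    exact LinearMap.congr_fun hSDA v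
  have h3 := AddSubgroup.relIndex_mul_relIndex _ _ _ (AddSubgroup.map_mono
    (f := (Matrix.mulVecLin (Matrix.diagonal δ)).toAddMonoidHom) hle1) hle2
  rw [AddSubgroup.relIndex_map_map_of_injective _ _ (D_injective δ hδ), ← hbig, ← hIDA] at h3
  have hgcd : ∀ ε : Fin n → ℤ, ((Finset.univ.gcd ε).natAbs : ℤ) = Finset.univ.gcd ε := by
    intro ε
    rw [Int.natCast_natAbs, Int.abs_eq_normalize, Finset.normalize_gcd]
  have hnat : (LinearMap.range (Matrix.mulVecLin A)).toAddSubgroup.relIndex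
        (LinearMap.ker ((Ssum n) ∘ₗ (Matrix.mulVecLin (Matrix.diagonal δ)))).toAddSubgroup *
        (∏ i, δ i).natAbs * (∏ i, δ' i).natAbs =
      (Finset.univ.gcd δ).natAbs * (Finset.univ.gcd δ').natAbs *
        (LinearMap.range ((Matrix.mulVecLin (Matrix.diagonal δ)) ∘ₗ (Matrix.mulVecLin A) ∘ₗ
          (Matrix.mulVecLin (Matrix.diagonal δ')))).toAddSubgroup.relIndex
          (LinearMap.ker (Ssum n)).toAddSubgroup := by
    rw [← h3, ← h2, h1]; ring
  rw [← hgcd δ, ← hgcd δ', ← Int.natCast_natAbs (∏ i, δ i), ← Int.natCast_natAbs (∏ i, δ' i)]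
  exact_mod_cast hnat

end Groth.Agent.Helper7.LatIdx
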