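import Mathlib

/-!
# Marked points of a trivial first-order deformation of a smooth algebra (helper7)
-/

set_option autoImplicit false
universe u v

namespace Groth.Agent.Helper7.MarkedDef

open DualNumber TrivSqZeroExt

variable {k : Type u} [Field k] {A : Type u} [CommRing A] [Algebra k A]

/-- Chinese remainder theorem for finitely many distinct `k`-points. -/
theorem exists_forall_eq {ι : Type v} [Finite ι] (q : ι → (A →ₐ[k] k)) (hq : Function.Injective q)
    (c : ι → k) : ∃ b : A, ∀ i, q i b = c i := by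
  have hsurj : ∀ i, Function.Surjective (q i) := fun i c =>
    ⟨algebraMap k A c, by rw [AlgHom.commutes]; rfl⟩
  haveI : ∀ i, (RingHom.ker (q i)).IsMaximal := fun i =>
    RingHom.ker_isMaximal_of_surjective (q i) (hsurj i)
  have hcop : Pairwise (Function.onFun IsCoprime (fun i => RingHom.ker (q i))) := by
    intro i j hij
    show IsCoprime (RingHom.ker (q i)) (RingHom.ker (q j))
    apply Ideal.isCoprime_of_isMaximal
    intro hker
    apply hij
    apply hq
    apply AlgHom.ext
    intro a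
    have h1 : a - algebraMap k A (q i a) ∈ RingHom.ker (q i) := by
      rw [RingHom.mem_ker, map_sub, AlgHom.commutes]
      exact sub_self _
    rw [hker, RingHom.mem_ker, map_sub, AlgHom.commutes, sub_eq_zero] at h1
    exact h1.symm
  obtain ⟨b, hb⟩ := Ideal.exists_forall_sub_mem_ideal hcop (fun i => algebraMap k A (c i))
  refine ⟨b, fun i => ?_⟩
  have := hb i
  rw [RingHom.mem_ker, map_sub, AlgHom.commutes, sub_eq_zero] at this
  exact this

theorem main {ι : Type v} [Finite ι] [Algebra.FormallySmooth k A] (q : ι → (A →ₐ[k] k))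
    (hq : Function.Injective q) (q' : ι → (DualNumber A →ₐ[k] DualNumber k))
    (hε : ∀ i, q' i ε = ε) (hq' : ∀ i x, (q' i x).fst = q i x.fst) :
    ∃ φ : DualNumber A ≃ₐ[k] DualNumber A,
      φ ε = ε ∧ (∀ x, (φ x).fst = x.fst) ∧
        ∀ i x, (q' i (φ x)).fst = q i x.fst ∧ (q' i (φ x)).snd = q i x.snd := by
  obtain ⟨C, hC⟩ : ∃ C : Subalgebra k (DualNumber A), ∀ x, x ∈ C ↔ ∀ i, (q' i x).snd = 0 := by
    refine ⟨{ carrier := {x | ∀ i, (q' i x).snd = 0}
              mul_mem' := fun {x y} hx hy i => ?_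
              add_mem' := fun {x y} hx hy i => ?_
              algebraMap_mem' := fun c i => ?_ }, fun x => Iff.rfl⟩
    · rw [map_mul, DualNumber.snd_mul, hx i, hy i, mul_zero, zero_mul, add_zero]
    · rw [map_add, snd_add, hx i, hy i, add_zero]
    · rw [AlgHom.commutes, TrivSqZeroExt.algebraMap_eq_inl, snd_inl]
  obtain ⟨g, hg_apply⟩ : ∃ g : C →ₐ[k] A, ∀ x : C, g x = fst (x : DualNumber A) :=
    ⟨(fstHom k A A).comp C.val, fun x => rfl⟩
  have hinr : ∀ i (b : A), q' i (inr b) = inr (q i b) := by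
    intro i b
    have e : (inr b : DualNumber A) = inl b * ε := by
      apply TrivSqZeroExt.ext
      · simp
      · simp
    rw [e, map_mul, hε]
    apply TrivSqZeroExt.ext
    · simp
    · rw [DualNumber.snd_mul, fst_eps, snd_eps, mul_one, mul_zero, add_zero, hq', fst_inl, snd_inr]
  have hg : Function.Surjective g := by
    intro a
    obtain ⟨b, hb⟩ := exists_forall_eq q hq (fun i => -(q' i (inl a)).snd)
    have hmem : (inl a + inr b : DualNumber A) ∈ C := by
      rw [hC]
      intro i
      rw [map_add, snd_add, hinr, snd_inr, hb, add_neg_cancel]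
    refine ⟨⟨inl a + inr b, hmem⟩, ?_⟩
    rw [hg_apply]
    simp
  have hnil : IsNilpotent (RingHom.ker (g : C →+* A)) := by
    have h3 := pow_two (RingHom.ker (g : C →+* A))
    refine ⟨2, h3.trans ?_⟩
    rw [Ideal.zero_eq_bot, eq_bot_iff, Ideal.mul_le]
    intro x hx y hy
    rw [RingHom.mem_ker] at hx hy
    rw [Ideal.mem_bot]
    have hx' : fst (x : DualNumber A) = 0 := by rw [← hg_apply]; exact hx
    have hy' : fst (y : DualNumber A) = 0 := by rw [← hg_apply]; exact hy
    apply Subtype.ext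
    apply TrivSqZeroExt.ext
    · show fst ((x : DualNumber A) * (y : DualNumber A)) = 0
      rw [TrivSqZeroExt.fst_mul, hx', zero_mul]
    · show snd ((x : DualNumber A) * (y : DualNumber A)) = 0
      rw [DualNumber.snd_mul, hx', hy', zero_mul, mul_zero, add_zero]
  obtain ⟨ψ₀, hψ, hψC⟩ : ∃ ψ₀ : A →ₐ[k] DualNumber A, (∀ a, fst (ψ₀ a) = a) ∧
      ∀ a i, (q' i (ψ₀ a)).snd = 0 := by
    refine ⟨C.val.comp (Algebra.FormallySmooth.liftOfSurjective (AlgHom.id k A) g hg hnil), ?_, ?_⟩
    · intro a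
      have := Algebra.FormallySmooth.liftOfSurjective_apply (AlgHom.id k A) g hg hnil a
      rw [hg_apply] at this
      exact this
    · intro a i
      exact (hC _).mp (Algebra.FormallySmooth.liftOfSurjective (AlgHom.id k A) g hg hnil a).2 i
  obtain ⟨Φ, hΦ, hΦε⟩ : ∃ Φ : DualNumber A →ₐ[k] DualNumber A,
      (∀ x, Φ x = ψ₀ (fst x) + ψ₀ (snd x) * ε) ∧ Φ ε = ε :=
    ⟨DualNumber.lift ⟨(ψ₀, ε), eps_mul_eps, fun _ => Commute.all _ _⟩,
      fun x => DualNumber.lift_apply_apply _ x, DualNumber.lift_apply_eps _⟩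
  have hΦfst : ∀ x, fst (Φ x) = fst x := by
    intro x
    rw [hΦ, fst_add, TrivSqZeroExt.fst_mul, fst_eps, mul_zero, add_zero, hψ]
  have hΦsnd : ∀ x, snd (Φ x) = snd (ψ₀ (fst x)) + snd x := by
    intro x
    rw [hΦ, snd_add, DualNumber.snd_mul, fst_eps, snd_eps, mul_one, mul_zero, add_zero, hψ]
  have hinj : Function.Injective Φ := by
    intro x y hxy
    have h1 : fst x = fst y := by rw [← hΦfst x, ← hΦfst y, hxy]
    have h2 : snd x = snd y := by
      have := congrArg snd hxy
      rw [hΦsnd, hΦsnd, h1] at this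
      exact add_left_cancel this
    exact TrivSqZeroExt.ext h1 h2
  have hsurjΦ : Function.Surjective Φ := by
    intro y
    refine ⟨inl (fst y) + inr (snd y - snd (ψ₀ (fst y))), ?_⟩
    apply TrivSqZeroExt.ext
    · rw [hΦfst]
      simp
    · rw [hΦsnd]
      simp
  refine ⟨AlgEquiv.ofBijective Φ ⟨hinj, hsurjΦ⟩, ?_, ?_, ?_⟩
  · show Φ ε = ε
    exact hΦε
  · intro x
    exact hΦfst x
  · intro i x
    show (q' i (Φ x)).fst = q i x.fst ∧ (q' i (Φ x)).snd = q i x.snd
    constructor
    · rw [hq', hΦfst]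
    · rw [hΦ, map_add, map_mul, hε, snd_add, DualNumber.snd_mul, fst_eps, snd_eps, mul_one,
        mul_zero, add_zero, hψC, zero_add, hq', hψ]

end Groth.Agent.Helper7.MarkedDef
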