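import Mathlib

/-! Cauchy–Binet in a symmetrised form, the index of the column lattice of an integer matrix,
and a counting lemma (helper7). -/

set_option autoImplicit false

namespace Groth.Agent.Helper7.MatTree

open Finset Matrix

section CB
variable {V K R : Type*} [Fintype V] [DecidableEq V] [Fintype K] [DecidableEq K] [CommRing R]

lemma gram_apply (X : Matrix V K R) (c : K → R) (i j : V) :
    (X * Matrix.diagonal c * Xᵀ) i j = ∑ k, X i k * c k * X j k := by
  rw [Matrix.mul_apply]
  refine Finset.sum_congr rfl fun k _ => ?_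
  rw [Matrix.mul_diagonal, Matrix.transpose_apply]

lemma det_gram_expand (X : Matrix V K R) (c : K → R) :
    (X * Matrix.diagonal c * Xᵀ).det =
      ∑ p : V → K, (∏ v, (c (p v) * X v (p v))) * (X.submatrix id p).det := by
  rw [Matrix.det_apply']
  simp only [gram_apply, Finset.prod_univ_sum, Fintype.piFinset_univ, Finset.mul_sum]
  rw [Finset.sum_comm]
  refine Finset.sum_congr rfl fun p _ => ?_
  rw [Matrix.det_apply', Finset.mul_sum]
  refine Finset.sum_congr rfl fun σ _ => ?_
  simp only [Matrix.submatrix_apply, id_eq, Finset.prod_mul_distrib]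
  ring

theorem cauchy_binet_sq (X : Matrix V K R) (c : K → R) :
    ((Fintype.card V).factorial : R) * (X * Matrix.diagonal c * Xᵀ).det =
      ∑ p : V → K, (∏ v, c (p v)) * (X.submatrix id p).det ^ 2 := by
  have h1 : ∀ τ : Equiv.Perm V, (X * Matrix.diagonal c * Xᵀ).det =
      ∑ p : V → K, ((∏ v, c (p v)) * (X.submatrix id p).det) *
        (((Equiv.Perm.sign τ : ℤ) : R) * ∏ v, X v (p (τ v))) := by
    intro τ
    rw [det_gram_expand]
    refine ((Equiv.sum_comp (Equiv.arrowCongr τ.symm (Equiv.refl K)) _).symm).trans ?_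
    refine Finset.sum_congr rfl fun p _ => ?_
    have e1 : ∀ v, (Equiv.arrowCongr τ.symm (Equiv.refl K)) p v = p (τ v) := fun v => by
      simp [Equiv.arrowCongr]
    have e2 : (X.submatrix id ((Equiv.arrowCongr τ.symm (Equiv.refl K)) p)) =
        (X.submatrix id p).submatrix id τ := by
      ext i j
      simp only [Matrix.submatrix_apply, id_eq, e1]
    have e3 : ∏ v, c (p (τ v)) = ∏ v, c (p v) := Equiv.prod_comp τ (fun v => c (p v))
    rw [e2, Matrix.det_permute']
    simp only [e1, Finset.prod_mul_distrib]
    rw [e3]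
    ring
  calc ((Fintype.card V).factorial : R) * (X * Matrix.diagonal c * Xᵀ).det
      = ∑ _τ : Equiv.Perm V, (X * Matrix.diagonal c * Xᵀ).det := by
        rw [Finset.sum_const, Finset.card_univ, Fintype.card_perm, nsmul_eq_mul]
    _ = ∑ τ : Equiv.Perm V, ∑ p : V → K, ((∏ v, c (p v)) * (X.submatrix id p).det) *
        (((Equiv.Perm.sign τ : ℤ) : R) * ∏ v, X v (p (τ v))) :=
        Finset.sum_congr rfl fun τ _ => h1 τ
    _ = ∑ p : V → K, (∏ v, c (p v)) * (X.submatrix id p).det ^ 2 := by
        rw [Finset.sum_comm]
        refine Finset.sum_congr rfl fun p _ => ?_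
        have h2 : (X.submatrix id p).det =
            ∑ τ : Equiv.Perm V, ((Equiv.Perm.sign τ : ℤ) : R) * ∏ v, X v (p (τ v)) := by
          rw [← Matrix.det_transpose, Matrix.det_apply']
          rfl
        rw [← Finset.mul_sum, ← h2]
        ring

end CB

section Count
variable {V K : Type*} [Fintype V] [DecidableEq V] [Fintype K] [DecidableEq K]

lemma card_image_eq (S : Finset K) (hS : S.card = Fintype.card V) :
    (univ.filter fun p : V → K => univ.image p = S).card = (Fintype.card V).factorial := by
  classical
  have hc : Fintype.card V = Fintype.card S := by rw [Fintype.card_coe, hS]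
  let e₀ : V ≃ S := Fintype.equivOfCardEq hc
  rw [← Fintype.card_perm (α := V), ← Finset.card_univ (α := Equiv.Perm V)]
  symm
  refine Finset.card_bij (fun σ _ => fun v => (e₀ (σ v)).1) ?_ ?_ ?_
  · intro σ _
    simp only [mem_filter, mem_univ, true_and]
    ext k
    simp only [mem_image, mem_univ, true_and]
    constructor
    · rintro ⟨v, rfl⟩
      exact (e₀ (σ v)).2
    · intro hk
      exact ⟨σ.symm (e₀.symm ⟨k, hk⟩), by simp⟩
  · intro σ _ τ _ h
    ext v
    have := congrFun h v
    exact e₀.injective (Subtype.ext this)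
  · intro p hp
    simp only [mem_filter, mem_univ, true_and] at hp
    have hpS : ∀ v, p v ∈ S := fun v => hp ▸ mem_image_of_mem p (mem_univ v)
    have hinj : Function.Injective p := by
      have h1 : (univ.image p).card = (univ : Finset V).card := by rw [hp, hS, card_univ]
      have h2 := Finset.card_image_iff.1 h1
      intro a b hab
      exact h2 (mem_coe.2 (mem_univ a)) (mem_coe.2 (mem_univ b)) hab
    let f : V → V := fun v => e₀.symm ⟨p v, hpS v⟩
    have hf : Function.Injective f := by
      intro a b h
      have h' := e₀.symm.injective h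
      exact hinj (congrArg Subtype.val h')
    refine ⟨Equiv.ofBijective f (Finite.injective_iff_bijective.1 hf), mem_univ _, ?_⟩
    funext v
    simp [f]

end Count

section Lattice
variable {V : Type*} [Fintype V] [DecidableEq V]

lemma card_quot_range (M : Matrix V V ℤ) (h : M.det ≠ 0) :
    Nat.card ((V → ℤ) ⧸ LinearMap.range M.mulVecLin) = M.det.natAbs := by
  have hinj : Function.Injective M.mulVecLin := by
    rw [Matrix.coe_mulVecLin]
    exact Matrix.mulVec_injective_of_det_ne_zero h
  let e : (V → ℤ) ≃ₗ[ℤ] LinearMap.range M.mulVecLin := LinearEquiv.ofInjective M.mulVecLin hinj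
  have key := Submodule.natAbs_det_equiv (LinearMap.range M.mulVecLin) e
  rw [← key]
  congr 1
  have : (LinearMap.range M.mulVecLin).subtype ∘ₗ
      AddMonoidHom.toIntLinearMap ((e : (V → ℤ) →+ LinearMap.range M.mulVecLin)) = Matrix.toLin' M := by
    apply LinearMap.ext
    intro x
    simp [e, Matrix.toLin'_apply]
  rw [this, LinearMap.det_toLin']

lemma det_sq_eq_one_of_surj (M : Matrix V V ℤ) (h : Function.Surjective M.mulVec) :
    M.det ^ 2 = 1 := by
  have h1 := Matrix.mulVec_surjective_iff_isUnit.1 h
  rw [Matrix.isUnit_iff_isUnit_det] at h1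
  rcases Int.isUnit_iff.1 h1 with h2 | h2 <;> rw [h2] <;> norm_num

end Lattice

end Groth.Agent.Helper7.MatTree
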