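import Mathlib
import Groth.Agent.Lib.Helper7.MatTree1
import Groth.Agent.Lib.Helper7.MatTree2

/-! Determinants of square submatrices of the extended incidence matrix, and the sum over
all column selections (helper7). -/

set_option autoImplicit false
universe u

namespace Groth.Agent.Helper7.MatTree

open LabGraph Groth.Agent.Helper7.LabG Finset Matrix

variable {V E : Type u} [Fintype V] [Fintype E] [DecidableEq V] [DecidableEq E]
variable (ends : E → V × V)

/-- extended incidence matrix: column `some e` is the incidence vector of `e`, column `none` is `u` -/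
def incMat (u : V → ℤ) : Matrix V (Option E) ℤ :=
  fun v k => k.elim (u v) (fun e => bvec ends ℤ e v)

@[simp] lemma incMat_none (u : V → ℤ) (v : V) : incMat ends u v none = u v := rfl
@[simp] lemma incMat_some (u : V → ℤ) (v : V) (e : E) :
    incMat ends u v (some e) = bvec ends ℤ e v := rfl

/-- the edges selected by `p` -/
def edgesOf (p : V → Option E) : Finset E := (univ.image p).eraseNone

lemma mem_edgesOf {p : V → Option E} {e : E} : e ∈ edgesOf p ↔ ∃ j, p j = some e := by
  simp [edgesOf]

lemma det_zero_of_not_inj (X : Matrix V (Option E) ℤ) {p : V → Option E}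
    (h : ¬ Function.Injective p) : (X.submatrix id p).det = 0 := by
  rw [Function.not_injective_iff] at h
  obtain ⟨a, b, hab, hne⟩ := h
  exact Matrix.det_zero_of_column_eq hne (fun k => by simp [Matrix.submatrix_apply, hab])

lemma det_zero_of_no_none (u : V → ℤ) {p : V → Option E} (h : ∀ j, p j ≠ none) (v₀ : V) :
    ((incMat ends u).submatrix id p).det = 0 := by
  rw [← Matrix.exists_vecMul_eq_zero_iff]
  refine ⟨fun _ => 1, fun h0 => one_ne_zero (congrFun h0 v₀), ?_⟩
  funext j
  obtain ⟨e, he⟩ := Option.ne_none_iff_exists'.1 (h j)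
  simp only [Matrix.vecMul, dotProduct, Matrix.submatrix_apply, id_eq, he, incMat_some, one_mul,
    Pi.zero_apply]
  exact sum_bvec ends ℤ e

lemma det_factor (u : V → ℤ) {p : V → Option E} {j₀ : V} (hj₀ : p j₀ = none)
    (hother : ∀ j, j ≠ j₀ → p j ≠ none) (v₀ : V) :
    ((incMat ends u).submatrix id p).det =
      (∑ x, u x) * (((incMat ends u).submatrix id p).updateRow v₀ (Pi.single j₀ 1)).det := by
  have hsum : ∑ x, (1:ℤ) • ((incMat ends u).submatrix id p) x =
      (∑ x, u x) • (Pi.single j₀ 1 : V → ℤ) := by
    funext j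
    rw [Finset.sum_apply]
    simp only [one_smul, Pi.smul_apply, smul_eq_mul, Pi.single_apply, Matrix.submatrix_apply, id_eq]
    by_cases hj : j = j₀
    · rw [hj, hj₀, if_pos rfl, mul_one]
      simp only [incMat_none, one_mul]
    · obtain ⟨e, he⟩ := Option.ne_none_iff_exists'.1 (hother j hj)
      rw [he, if_neg hj, mul_zero]
      simp only [incMat_some, one_mul]
      exact sum_bvec ends ℤ e
  have h1 := Matrix.det_updateRow_sum ((incMat ends u).submatrix id p) v₀ (fun _ => (1:ℤ))
  rw [hsum, Matrix.det_updateRow_smul, one_smul] at h1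
  exact h1.symm

lemma det_sq_of_sconn (u : V → ℤ) {p : V → Option E} (hinj : Function.Injective p) {j₀ : V}
    (hj₀ : p j₀ = none) (hconn : SConn ends (edgesOf p)) :
    ((incMat ends u).submatrix id p).det ^ 2 = (∑ x, u x) ^ 2 := by
  have hother : ∀ j, j ≠ j₀ → p j ≠ none := fun j hj h => hj (hinj (h.trans hj₀.symm))
  rw [det_factor ends u hj₀ hother j₀, mul_pow]
  have key : (((incMat ends u).submatrix id p).updateRow j₀ (Pi.single j₀ 1)).det ^ 2 = 1 := by
    apply det_sq_eq_one_of_surj
    intro z
    set S : ℤ := ∑ x', (z x' - z j₀ * u x') with hS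
    set t : V → ℤ := fun x => z x - z j₀ * u x - S * (if x = j₀ then 1 else 0) with ht
    have htsum : ∑ x, t x = 0 := by
      have h1 : ∑ x, t x = S - S * ∑ x, (if x = j₀ then (1:ℤ) else 0) := by
        rw [hS, Finset.mul_sum, ← Finset.sum_sub_distrib]
      rw [h1, Finset.sum_ite_eq' Finset.univ j₀ (fun _ => (1:ℤ)), if_pos (Finset.mem_univ _)]
      ring
    obtain ⟨cf, hcf0, hcf⟩ := coeff_of_sum_zero ends ℤ hconn t htsum
    refine ⟨fun j => (p j).elim (z j₀) cf, ?_⟩
    funext x
    by_cases hx : x = j₀
    · rw [hx]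
      simp [Matrix.mulVec, dotProduct, Matrix.updateRow_self, Pi.single_apply, hj₀]
    · have himg : univ.image p = insertNone (edgesOf p) := by
        rw [edgesOf, Finset.insertNone_eraseNone, Finset.insert_eq_of_mem]
        exact Finset.mem_image.2 ⟨j₀, Finset.mem_univ _, hj₀⟩
      have h1 : ∑ j, incMat ends u x (p j) * (p j).elim (z j₀) cf =
          ∑ k ∈ univ.image p, incMat ends u x k * k.elim (z j₀) cf :=
        (Finset.sum_image (s := univ) (g := p)
          (f := fun k => incMat ends u x k * k.elim (z j₀) cf) (fun a _ b _ h => hinj h)).symm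
      have h2 : t x = ∑ e ∈ edgesOf p, cf e * bvec ends ℤ e x := by
        rw [hcf, Finset.sum_apply]
        simp only [Pi.smul_apply, smul_eq_mul]
        symm
        apply Finset.sum_subset (Finset.subset_univ _)
        intro e _ he
        rw [hcf0 e he, zero_mul]
      have h3 : ∑ e ∈ edgesOf p, bvec ends ℤ e x * cf e = t x := by
        rw [h2]; exact Finset.sum_congr rfl fun e _ => mul_comm _ _
      simp only [Matrix.mulVec, dotProduct, Matrix.updateRow_apply, if_neg hx,
        Matrix.submatrix_apply, id_eq]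
      rw [h1, himg, Finset.sum_insertNone]
      simp only [incMat_none, incMat_some, Option.elim_none, Option.elim_some]
      rw [h3]
      simp only [ht, if_neg hx, mul_zero, sub_zero]
      ring
  rw [key, mul_one]

lemma det_zero_of_not_sconn (u : V → ℤ) {p : V → Option E} (hinj : Function.Injective p)
    {j₀ : V} (hj₀ : p j₀ = none) (hconn : ¬ SConn ends (edgesOf p)) :
    ((incMat ends u).submatrix id p).det = 0 := by
  classical
  have hother : ∀ j, j ≠ j₀ → p j ≠ none := fun j hj h => hj (hinj (h.trans hj₀.symm))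
  obtain ⟨W, ⟨x₀, hx₀⟩, ⟨y₀, hy₀⟩, hW⟩ := exists_sep_of_not_sconn ends hconn
  let χ : V → ℤ := fun x => if x ∈ W then 1 else 0
  set a : ℤ := ∑ x, (1 - χ x) * u x with ha
  set b : ℤ := ∑ x, χ x * u x with hb
  have hab : a + b = ∑ x, u x := by
    rw [ha, hb, ← Finset.sum_add_distrib]
    exact Finset.sum_congr rfl fun x _ => by ring
  let ℓ : V → ℤ := fun x => a * χ x - b * (1 - χ x)
  have hker : ℓ ᵥ* ((incMat ends u).submatrix id p) = 0 := by
    funext j
    simp only [Matrix.vecMul, dotProduct, Matrix.submatrix_apply, id_eq, Pi.zero_apply]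
    by_cases hj : j = j₀
    · rw [hj, hj₀]
      simp only [incMat_none]
      have h1 : ∀ x, ℓ x * u x = a * (χ x * u x) - b * ((1 - χ x) * u x) := fun x => by
        simp only [ℓ]; ring
      simp only [h1, Finset.sum_sub_distrib, ← Finset.mul_sum]
      rw [← ha, ← hb]; ring
    · obtain ⟨e, he⟩ := Option.ne_none_iff_exists'.1 (hother j hj)
      rw [he]
      simp only [incMat_some]
      rw [sum_mul_bvec ends ℓ e]
      have hmem : e ∈ edgesOf p := mem_edgesOf.2 ⟨j, he⟩
      have hiff := hW e hmem
      have h1 : χ (ends e).2 = χ (ends e).1 := by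
        simp only [χ]
        by_cases h : (ends e).1 ∈ W
        · rw [if_pos h, if_pos (hiff.1 h)]
        · rw [if_neg h, if_neg (fun h' => h (hiff.2 h'))]
      simp only [ℓ, h1, sub_self]
  by_cases hℓ : ℓ = 0
  · have h1 : a = 0 := by
      have := congrFun hℓ x₀
      simpa [ℓ, χ, hx₀] using this
    have h2 : b = 0 := by
      have := congrFun hℓ y₀
      simpa [ℓ, χ, hy₀] using this
    rw [det_factor ends u hj₀ hother j₀, ← hab, h1, h2]
    simp
  · exact Matrix.exists_vecMul_eq_zero_iff.1 ⟨ℓ, hℓ, hker⟩

/-- weights of the columns -/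
def cw (β : V → ℤ) : Option E → ℤ :=
  fun k => k.elim 1 (fun e => -(β (ends e).1 * β (ends e).2))

/-- the column selections with non-zero determinant -/
def Good (p : V → Option E) : Prop :=
  Function.Injective p ∧ (∃ j, p j = none) ∧ SConn ends (edgesOf p)

lemma image_eq_of_none {p : V → Option E} (h : ∃ j, p j = none) :
    univ.image p = insertNone (edgesOf p) := by
  obtain ⟨j₀, hj₀⟩ := h
  rw [edgesOf, Finset.insertNone_eraseNone, Finset.insert_eq_of_mem]
  exact Finset.mem_image.2 ⟨j₀, Finset.mem_univ _, hj₀⟩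

lemma card_edgesOf {p : V → Option E} (hinj : Function.Injective p) (h : ∃ j, p j = none) :
    (edgesOf p).card + 1 = Fintype.card V := by
  rw [← Finset.card_insertNone, ← image_eq_of_none h, Finset.card_image_of_injective _ hinj,
    Finset.card_univ]

open Classical in
lemma term_eq [Nonempty V] (u β : V → ℤ) (p : V → Option E) :
    (∏ v, cw ends β (p v)) * ((incMat ends u).submatrix id p).det ^ 2 =
      if Good ends p then (∑ x, u x) ^ 2 * ((-1) ^ (Fintype.card V - 1) *
        ∏ e ∈ edgesOf p, (β (ends e).1 * β (ends e).2)) else 0 := by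
  by_cases hg : Good ends p
  · rw [if_pos hg]
    obtain ⟨hinj, hnone, hconn⟩ := hg
    obtain ⟨j₀, hj₀⟩ := hnone
    rw [det_sq_of_sconn ends u hinj hj₀ hconn]
    have h1 : ∏ v, cw ends β (p v) = ∏ k ∈ univ.image p, cw ends β k :=
      (Finset.prod_image (s := univ) (g := p) (f := fun k => cw ends β k)
        (fun a _ b _ h => hinj h)).symm
    rw [h1, image_eq_of_none ⟨j₀, hj₀⟩, Finset.prod_insertNone]
    have h2 := card_edgesOf hinj ⟨j₀, hj₀⟩
    have h3 : ∏ e ∈ edgesOf p, cw ends β (some e) =
        (-1) ^ (edgesOf p).card * ∏ e ∈ edgesOf p, (β (ends e).1 * β (ends e).2) := by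
      simp only [cw, Option.elim_some]
      rw [Finset.prod_neg]
    rw [h3, show (edgesOf p).card = Fintype.card V - 1 by omega]
    simp only [cw, Option.elim_none]
    ring
  · rw [if_neg hg]
    have h0 : ((incMat ends u).submatrix id p).det = 0 := by
      by_cases hinj : Function.Injective p
      · by_cases hnone : ∃ j, p j = none
        · obtain ⟨j₀, hj₀⟩ := hnone
          exact det_zero_of_not_sconn ends u hinj hj₀ (fun hc => hg ⟨hinj, ⟨j₀, hj₀⟩, hc⟩)
        · push Not at hnone
          obtain ⟨v₀⟩ := ‹Nonempty V›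
          exact det_zero_of_no_none ends u hnone v₀
      · exact det_zero_of_not_inj _ hinj
    rw [h0]; ring

open Classical in
theorem sum_good [Nonempty V] (u β : V → ℤ) :
    ∑ p : V → Option E, (∏ v, cw ends β (p v)) * ((incMat ends u).submatrix id p).det ^ 2 =
      ((Fintype.card V).factorial : ℤ) * ((∑ x, u x) ^ 2 * ((-1) ^ (Fintype.card V - 1) *
        ∑ T ∈ univ.filter (fun T : Finset E => SConn ends T ∧ T.card + 1 = Fintype.card V),
          ∏ e ∈ T, (β (ends e).1 * β (ends e).2))) := by
  simp only [term_eq]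
  rw [← Finset.sum_filter]
  set F : Finset E → ℤ := fun T => (∑ x, u x) ^ 2 * ((-1) ^ (Fintype.card V - 1) *
    ∏ e ∈ T, (β (ends e).1 * β (ends e).2)) with hF
  set 𝒯 := univ.filter (fun T : Finset E => SConn ends T ∧ T.card + 1 = Fintype.card V) with h𝒯
  have hmaps : ∀ p ∈ univ.filter (Good ends), edgesOf p ∈ 𝒯 := by
    intro p hp
    obtain ⟨hinj, hnone, hconn⟩ := (Finset.mem_filter.1 hp).2
    exact Finset.mem_filter.2 ⟨Finset.mem_univ _, hconn, card_edgesOf hinj hnone⟩
  have hstep : ∑ p ∈ univ.filter (Good ends), F (edgesOf p) =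
      ∑ T ∈ 𝒯, ∑ p ∈ univ.filter (Good ends) with edgesOf p = T, F T :=
    (Finset.sum_fiberwise_of_maps_to' hmaps F).symm
  have hfib : ∀ T ∈ 𝒯, ∑ p ∈ univ.filter (Good ends) with edgesOf p = T, F T =
      ((Fintype.card V).factorial : ℤ) * F T := by
    intro T hT
    obtain ⟨hconn, hcard⟩ := (Finset.mem_filter.1 hT).2
    have hset : (univ.filter (Good ends)).filter (fun p => edgesOf p = T) =
        univ.filter (fun p : V → Option E => univ.image p = insertNone T) := by
      ext p
      simp only [Finset.mem_filter, Finset.mem_univ, true_and]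
      constructor
      · rintro ⟨⟨hinj, hnone, -⟩, rfl⟩
        exact image_eq_of_none hnone
      · intro himg
        have hnone : ∃ j, p j = none := by
          have : none ∈ univ.image p := by rw [himg]; exact Finset.none_mem_insertNone
          obtain ⟨j, -, hj⟩ := Finset.mem_image.1 this
          exact ⟨j, hj⟩
        have hT' : edgesOf p = T := by rw [edgesOf, himg, Finset.eraseNone_insertNone]
        have hinj : Function.Injective p := by
          have h1 : (univ.image p).card = (univ : Finset V).card := by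
            rw [himg, Finset.card_insertNone, hcard, Finset.card_univ]
          have h2 := Finset.card_image_iff.1 h1
          intro a b hab
          exact h2 (mem_coe.2 (mem_univ a)) (mem_coe.2 (mem_univ b)) hab
        exact ⟨⟨hinj, hnone, hT' ▸ hconn⟩, hT'⟩
    rw [Finset.sum_const, hset, card_image_eq _ (by rw [Finset.card_insertNone, hcard]),
      nsmul_eq_mul]
  rw [hstep, Finset.sum_congr rfl hfib, ← Finset.mul_sum]
  congr 1
  simp only [hF, ← Finset.mul_sum]

end Groth.Agent.Helper7.MatTree
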