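import Mathlib
import Groth.Agent.Lib.Helper7.MatTree1

/-! The quotient `ker β / im α` as the cokernel of a rank-one modification of `α` (helper7). -/

set_option autoImplicit false

namespace Groth.Agent.Helper7.MatTree

open Finset Matrix

variable {V : Type*} [Fintype V] [DecidableEq V]

theorem card_quot_ker (α M' : Matrix V V ℤ) (β r b : V → ℤ) (m : ℤ) (hm : m ≠ 0)
    (hβb : ∀ v, β v = m * b v) (hr : ∑ v, β v * r v = m)
    (hrow : ∀ v, ∑ w, α v w * β w = 0) (hcol : ∀ w, ∑ v, β v * α v w = 0)
    (hM' : ∀ v w, M' v w = α v w + r v * r w) (hdet : M'.det ≠ 0) :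
    Nat.card ((LinearMap.ker (Fintype.linearCombination ℤ β)) ⧸
      (LinearMap.range α.mulVecLin).comap
        (LinearMap.ker (Fintype.linearCombination ℤ β)).subtype) = M'.det.natAbs := by
  rw [← card_quot_range M' hdet]
  set N := LinearMap.ker (Fintype.linearCombination ℤ β) with hN
  have hmemN : ∀ x : V → ℤ, x ∈ N ↔ ∑ v, x v * β v = 0 := by
    intro x
    rw [hN, LinearMap.mem_ker, Fintype.linearCombination_apply]
    simp only [smul_eq_mul]
  have hΛmem : ∀ x, x ∈ LinearMap.range M'.mulVecLin ↔ ∃ y, M' *ᵥ y = x := fun x => by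
    rw [LinearMap.mem_range]; simp only [Matrix.mulVecLin_apply]
  have hAmem : ∀ x, x ∈ LinearMap.range α.mulVecLin ↔ ∃ y, α *ᵥ y = x := fun x => by
    rw [LinearMap.mem_range]; simp only [Matrix.mulVecLin_apply]
  have hαb : ∀ v, ∑ w, α v w * b w = 0 := by
    intro v
    have h := hrow v
    have h2 : m * ∑ w, α v w * b w = 0 := by
      rw [Finset.mul_sum, ← h]
      exact Finset.sum_congr rfl fun w _ => by rw [hβb w]; ring
    exact (mul_eq_zero.1 h2).resolve_left hm
  have hrb : ∑ v, r v * b v = 1 := by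
    have h2 : m * ∑ v, r v * b v = m * 1 := by
      rw [mul_one, Finset.mul_sum]
      conv_rhs => rw [← hr]
      exact Finset.sum_congr rfl fun v _ => by rw [hβb v]; ring
    exact mul_left_cancel₀ hm h2
  have hαbv : ∀ v, (α *ᵥ b) v = 0 := fun v => by
    simp only [Matrix.mulVec, dotProduct]; exact hαb v
  have hM'y : ∀ (y : V → ℤ) (v : V), (M' *ᵥ y) v = (α *ᵥ y) v + r v * ∑ w, r w * y w := by
    intro y v
    simp only [Matrix.mulVec, dotProduct, hM', add_mul, Finset.sum_add_distrib, Finset.mul_sum]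
    congr 1
    exact Finset.sum_congr rfl fun w _ => by ring
  have hβα : ∀ y : V → ℤ, ∑ v, (α *ᵥ y) v * β v = 0 := by
    intro y
    simp only [Matrix.mulVec, dotProduct, Finset.sum_mul]
    rw [Finset.sum_comm]
    refine Finset.sum_eq_zero fun w _ => ?_
    have h1 : ∑ v, α v w * y w * β v = y w * ∑ v, β v * α v w := by
      rw [Finset.mul_sum]; exact Finset.sum_congr rfl fun v _ => by ring
    rw [h1, hcol, mul_zero]
  have hrΛ : r ∈ LinearMap.range M'.mulVecLin := by
    rw [hΛmem]
    refine ⟨b, ?_⟩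
    funext v
    rw [hM'y, hαbv, hrb]; ring
  let g : N →ₗ[ℤ] (V → ℤ) ⧸ LinearMap.range M'.mulVecLin :=
    (LinearMap.range M'.mulVecLin).mkQ.comp N.subtype
  have hker : LinearMap.ker g = (LinearMap.range α.mulVecLin).comap N.subtype := by
    ext x
    rw [LinearMap.mem_ker, Submodule.mem_comap]
    change (LinearMap.range M'.mulVecLin).mkQ x.1 = 0 ↔ x.1 ∈ LinearMap.range α.mulVecLin
    rw [Submodule.mkQ_apply, Submodule.Quotient.mk_eq_zero, hΛmem, hAmem]
    constructor
    · rintro ⟨y, hy⟩
      have hx := (hmemN x.1).1 x.2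
      have hry : ∑ w, r w * y w = 0 := by
        have h1 : ∑ v, x.1 v * β v = (∑ w, r w * y w) * m := by
          rw [← hy]
          simp only [hM'y, add_mul, Finset.sum_add_distrib, hβα, zero_add]
          conv_rhs => rw [← hr]
          rw [Finset.mul_sum]
          exact Finset.sum_congr rfl fun v _ => by ring
        rw [hx] at h1
        exact (mul_eq_zero.1 h1.symm).resolve_right hm
      refine ⟨y, ?_⟩
      rw [← hy]
      funext v
      rw [hM'y, hry, mul_zero, add_zero]
    · rintro ⟨y, hy⟩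
      refine ⟨y - (∑ w, r w * y w) • b, ?_⟩
      rw [← hy]
      funext v
      rw [hM'y]
      have h1 : (α *ᵥ (y - (∑ w, r w * y w) • b)) v = (α *ᵥ y) v := by
        rw [Matrix.mulVec_sub, Matrix.mulVec_smul, Pi.sub_apply, Pi.smul_apply, hαbv, smul_zero,
          sub_zero]
      have h2 : ∑ w, r w * (y - (∑ w, r w * y w) • b) w = 0 := by
        simp only [Pi.sub_apply, Pi.smul_apply, smul_eq_mul, mul_sub, Finset.sum_sub_distrib]
        have h3 : ∑ w, r w * ((∑ w, r w * y w) * b w) =
            (∑ w, r w * y w) * ∑ w, r w * b w := by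
          rw [Finset.mul_sum]; exact Finset.sum_congr rfl fun w _ => by ring
        rw [h3, hrb, mul_one, sub_self]
      rw [h1, h2, mul_zero, add_zero]
  have hsurj : Function.Surjective g := by
    intro q
    obtain ⟨z, rfl⟩ := Submodule.mkQ_surjective _ q
    set s : ℤ := ∑ v, z v * b v with hs
    have hzβ : ∑ v, z v * β v = m * s := by
      rw [hs, Finset.mul_sum]; exact Finset.sum_congr rfl fun v _ => by rw [hβb v]; ring
    have hxN : z - s • r ∈ N := by
      rw [hmemN]
      simp only [Pi.sub_apply, Pi.smul_apply, smul_eq_mul, sub_mul, Finset.sum_sub_distrib]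
      have h1 : ∑ v, s * r v * β v = s * m := by
        conv_rhs => rw [← hr]
        rw [Finset.mul_sum]; exact Finset.sum_congr rfl fun v _ => by ring
      rw [hzβ, h1]; ring
    refine ⟨⟨z - s • r, hxN⟩, ?_⟩
    change (LinearMap.range M'.mulVecLin).mkQ (z - s • r) = (LinearMap.range M'.mulVecLin).mkQ z
    rw [map_sub, sub_eq_self, Submodule.mkQ_apply, Submodule.Quotient.mk_eq_zero]
    exact Submodule.smul_mem _ s hrΛ
  have e1 : (↥N ⧸ (LinearMap.range α.mulVecLin).comap N.subtype) ≃ₗ[ℤ]
      ((V → ℤ) ⧸ LinearMap.range M'.mulVecLin) :=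
    (Submodule.quotEquivOfEq _ _ hker.symm).trans (g.quotKerEquivOfSurjective hsurj)
  exact Nat.card_congr e1.toEquiv

end Groth.Agent.Helper7.MatTree
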