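import Mathlib
import Groth.Prelude.Def_Wider
import Groth.Agent.Lib.Helper7.Matlis4

set_option autoImplicit false
universe u v

namespace Groth.Agent.Helper7.Matlis

open InjHull IsLocalRing Groth.Agent.Helper7.IH

section

variable {R : Type u} [CommRing R] [IsLocalRing R]
variable {E : Type u} [AddCommGroup E] [Module R E]

theorem end_apply_mem_En (φ : Module.End R E) (n : ℕ) : ∀ x ∈ En R E n, φ x ∈ En R E n := by
  intro x hx
  rw [mem_En] at hx ⊢
  intro a ha
  rw [← map_smul, hx a ha, map_zero]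

/-- Restriction of endomorphisms to `E[m^n]`, as a ring hom. -/
noncomputable def res (n : ℕ) : Module.End R E →+* Module.End R (En R E n) where
  toFun φ := φ.restrict (end_apply_mem_En φ n)
  map_one' := by ext x; rfl
  map_mul' φ ψ := by ext x; rfl
  map_zero' := by ext x; rfl
  map_add' φ ψ := by ext x; rfl

theorem res_apply (n : ℕ) (φ : Module.End R E) (x : En R E n) : (res n φ x : E) = φ x := rfl

variable [IsNoetherianRing R]

theorem algebraMap_end_surjective (f : ResidueField R →ₗ[R] E) (hf : IsInjectiveHull f) (n : ℕ) :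
    Function.Surjective (algebraMap R (Module.End R (En R E n))) := by
  intro ψ
  obtain ⟨r, hr⟩ := exists_smul_eq f hf n ((En R E n).subtype ∘ₗ ψ)
  refine ⟨r, ?_⟩
  ext x
  have := hr x
  simp only [LinearMap.comp_apply, Submodule.subtype_apply] at this
  rw [this]
  rfl

theorem ker_algebraMap_end (f : ResidueField R →ₗ[R] E) (hf : IsInjectiveHull f) (n : ℕ) :
    RingHom.ker (algebraMap R (Module.End R (En R E n))) = (maximalIdeal R) ^ n := by
  ext r
  rw [RingHom.mem_ker]
  constructor
  · intro h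
    apply mem_pow_of_smul_eq_zero f hf n r
    intro x hx
    have := LinearMap.congr_fun h ⟨x, hx⟩
    exact congrArg Subtype.val this
  · intro hr
    ext x
    exact mem_En.1 x.2 r hr

/-- The ring isomorphism `R ⧸ m^n ≃ End(E[m^n])`. -/
noncomputable def kap (f : ResidueField R →ₗ[R] E) (hf : IsInjectiveHull f) (n : ℕ) :
    (R ⧸ (maximalIdeal R) ^ n) ≃+* Module.End R (En R E n) :=
  (Ideal.quotEquivOfEq (ker_algebraMap_end f hf n).symm).trans
    (RingHom.quotientKerEquivOfSurjective (algebraMap_end_surjective f hf n))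

theorem kap_mk (f : ResidueField R →ₗ[R] E) (hf : IsInjectiveHull f) (n : ℕ) (r : R) :
    kap f hf n (Ideal.Quotient.mk _ r) = algebraMap R (Module.End R (En R E n)) r := by
  unfold kap
  rw [RingEquiv.trans_apply, Ideal.quotEquivOfEq_mk]
  exact RingHom.quotientKerEquivOfSurjective_apply_mk _ r

/-- The ring hom `End(E) → R ⧸ m^n`. -/
noncomputable def rho (f : ResidueField R →ₗ[R] E) (hf : IsInjectiveHull f) (n : ℕ) :
    Module.End R E →+* R ⧸ (maximalIdeal R) ^ n :=
  (kap f hf n).symm.toRingHom.comp (res n)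

theorem rho_eq_mk_iff (f : ResidueField R →ₗ[R] E) (hf : IsInjectiveHull f) (n : ℕ)
    (φ : Module.End R E) (r : R) :
    rho f hf n φ = Ideal.Quotient.mk _ r ↔ ∀ x ∈ En R E n, φ x = r • x := by
  unfold rho
  rw [RingHom.comp_apply]
  change (kap f hf n).symm (res n φ) = _ ↔ _
  rw [RingEquiv.symm_apply_eq, kap_mk]
  constructor
  · intro h x hx
    have := LinearMap.congr_fun h ⟨x, hx⟩
    exact congrArg Subtype.val this
  · intro h
    ext x
    exact h x.1 x.2

theorem rho_compat (f : ResidueField R →ₗ[R] E) (hf : IsInjectiveHull f) {m n : ℕ} (hle : m ≤ n) :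
    (Ideal.Quotient.factorPow (maximalIdeal R) hle).comp (rho f hf n) = rho f hf m := by
  ext φ
  obtain ⟨r, hr⟩ := Ideal.Quotient.mk_surjective (rho f hf n φ)
  rw [RingHom.comp_apply, ← hr, Ideal.Quotient.factor_mk]
  symm
  rw [rho_eq_mk_iff]
  intro x hx
  exact (rho_eq_mk_iff f hf n φ r).1 hr.symm x (En_mono hle hx)

/-- The ring hom `End(E) → R̂`. -/
noncomputable def Phi (f : ResidueField R →ₗ[R] E) (hf : IsInjectiveHull f) :
    Module.End R E →+* AdicCompletion (maximalIdeal R) R :=
  AdicCompletion.liftRingHom (maximalIdeal R) (rho f hf) (fun hle => rho_compat f hf hle)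

theorem evalₐ_Phi (f : ResidueField R →ₗ[R] E) (hf : IsInjectiveHull f) (n : ℕ)
    (φ : Module.End R E) :
    AdicCompletion.evalₐ (maximalIdeal R) n (Phi f hf φ) = rho f hf n φ :=
  AdicCompletion.evalₐ_liftRingHom _ _ _ _ _

theorem Phi_injective (f : ResidueField R →ₗ[R] E) (hf : IsInjectiveHull f) :
    Function.Injective (Phi f hf) := by
  rw [injective_iff_map_eq_zero]
  intro φ hφ
  ext x
  obtain ⟨n, hn⟩ := hull_isPowerTorsion f hf x
  have hx : x ∈ En R E n := mem_En.2 hn
  have h1 : rho f hf n φ = Ideal.Quotient.mk _ 0 := by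
    rw [← evalₐ_Phi, hφ, map_zero, map_zero]
  rw [(rho_eq_mk_iff f hf n φ 0).1 h1 x hx, zero_smul]
  rfl

/-- Construct an endomorphism from a Cauchy sequence. -/
theorem exists_end_of_cauchy (f : ResidueField R →ₗ[R] E) (hf : IsInjectiveHull f)
    (a : AdicCompletion.AdicCauchySequence (maximalIdeal R) R) :
    ∃ φ : Module.End R E, ∀ n, ∀ x ∈ En R E n, φ x = a n • x := by
  classical
  have hpt := hull_isPowerTorsion f hf
  -- compatibility
  have hcompat : ∀ {m n : ℕ}, m ≤ n → ∀ x ∈ En R E m, a n • x = a m • x := by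
    intro m n hmn x hx
    have h1 := a.property hmn
    rw [SModEq.sub_mem] at h1
    have h2 : a m - a n ∈ (maximalIdeal R) ^ m := by
      have : ((maximalIdeal R) ^ m • ⊤ : Ideal R) = (maximalIdeal R) ^ m := by
        rw [smul_eq_mul, Ideal.mul_top]
      rw [← this]; exact h1
    have h3 := mem_En.1 hx _ h2
    rw [sub_smul, sub_eq_zero] at h3
    exact h3.symm
  let N : E → ℕ := fun x => Nat.find (hpt x)
  have hN : ∀ x, x ∈ En R E (N x) := fun x => mem_En.2 (Nat.find_spec (hpt x))
  have hNmin : ∀ x n, x ∈ En R E n → N x ≤ n := fun x n hx => Nat.find_min' (hpt x) (mem_En.1 hx)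
  have key : ∀ x n, x ∈ En R E n → a (N x) • x = a n • x := fun x n hx =>
    (hcompat (hNmin x n hx) x (hN x)).symm
  refine ⟨{ toFun := fun x => a (N x) • x, map_add' := ?_, map_smul' := ?_ }, ?_⟩
  · intro x y
    set K := max (N x) (N y)
    have hx : x ∈ En R E K := En_mono (le_max_left _ _) (hN x)
    have hy : y ∈ En R E K := En_mono (le_max_right _ _) (hN y)
    rw [key (x + y) K (Submodule.add_mem _ hx hy), key x K hx, key y K hy, smul_add]
  · intro c x
    rw [key (c • x) (N x) (Submodule.smul_mem _ c (hN x)), RingHom.id_apply, smul_comm]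
  · intro n x hx
    exact key x n hx

theorem Phi_surjective (f : ResidueField R →ₗ[R] E) (hf : IsInjectiveHull f) :
    Function.Surjective (Phi f hf) := by
  intro â
  obtain ⟨a, rfl⟩ := AdicCompletion.mk_surjective (maximalIdeal R) R â
  obtain ⟨φ, hφ⟩ := exists_end_of_cauchy f hf a
  refine ⟨φ, AdicCompletion.ext_evalₐ fun n => ?_⟩
  rw [evalₐ_Phi, AdicCompletion.evalₐ_mk, rho_eq_mk_iff]
  exact hφ n

theorem Phi_algebraMap (f : ResidueField R →ₗ[R] E) (hf : IsInjectiveHull f) (r : R) :
    Phi f hf (algebraMap R (Module.End R E) r) =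
      algebraMap R (AdicCompletion (maximalIdeal R) R) r := by
  apply AdicCompletion.ext_evalₐ
  intro n
  rw [evalₐ_Phi, AlgHom.commutes]
  change rho f hf n _ = Ideal.Quotient.mk _ r
  rw [rho_eq_mk_iff]
  intro x _
  rfl

/-- **Matlis**: `End(E) ≃ R̂` as `R`-algebras. -/
noncomputable def endEquiv (f : ResidueField R →ₗ[R] E) (hf : IsInjectiveHull f) :
    Module.End R E ≃ₐ[R] AdicCompletion (maximalIdeal R) R :=
  AlgEquiv.ofRingEquiv (f := RingEquiv.ofBijective (Phi f hf) ⟨Phi_injective f hf, Phi_surjective f hf⟩)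
    (fun r => Phi_algebraMap f hf r)

end

end Groth.Agent.Helper7.Matlis
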