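import Mathlib
import Groth.Prelude.Def_Wider
import Groth.Agent.Lib.Helper7.Matlis5

set_option autoImplicit false
universe u v

namespace Groth.Agent.Helper7.Matlis

open InjHull IsLocalRing Groth.Agent.Helper7.IH

section

variable {R : Type u} [CommRing R] [IsLocalRing R] [IsNoetherianRing R]
variable [IsAdicComplete (maximalIdeal R) R]
variable {E : Type u} [AddCommGroup E] [Module R E]

/-- Over a complete Noetherian local ring every endomorphism of `E` is a homothety. -/
theorem end_eq_smul (f : ResidueField R →ₗ[R] E) (hf : IsInjectiveHull f) (φ : Module.End R E) :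
    ∃ r : R, ∀ x, φ x = r • x := by
  obtain ⟨r, hr⟩ := AdicCompletion.of_surjective (maximalIdeal R) R (Phi f hf φ)
  refine ⟨r, fun x => ?_⟩
  have h1 : Phi f hf (algebraMap R (Module.End R E) r) = Phi f hf φ := by
    rw [Phi_algebraMap, AdicCompletion.algebraMap_apply, Algebra.algebraMap_self, RingHom.id_apply, hr]
  rw [← Phi_injective f hf h1]
  rfl

/-- Every linear map `Eⁿ → E` is a linear combination of projections. -/
theorem hom_pi_eq (f : ResidueField R →ₗ[R] E) (hf : IsInjectiveHull f) (b : ℕ)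
    (ξ : (Fin b → E) →ₗ[R] E) : ∃ r : Fin b → R, ∀ e, ξ e = ∑ i, r i • e i := by
  choose r hr using fun i => end_eq_smul f hf (ξ ∘ₗ LinearMap.single R (fun _ => E) i)
  refine ⟨r, fun e => ?_⟩
  conv_lhs => rw [← Finset.univ_sum_single e]
  rw [map_sum]
  refine Finset.sum_congr rfl fun i _ => ?_
  exact hr i (e i)

omit [IsNoetherianRing R] [IsAdicComplete (maximalIdeal R) R] in
/-- For nonzero `x` in any module there is a map to `E` not killing `x`. -/
theorem exists_hom_ne_zero (f : ResidueField R →ₗ[R] E) (hf : IsInjectiveHull f)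
    {Q : Type u} [AddCommGroup Q] [Module R Q] (x : Q) (hx : x ≠ 0) :
    ∃ θ : Q →ₗ[R] E, θ x ≠ 0 := by
  by_contra hcon
  push Not at hcon
  apply hx
  apply applyₗ_injective f hf Q
  rw [map_zero]
  ext θ
  exact hcon θ

/-- Matlis duality for finite modules. -/
theorem duality_finite (f : ResidueField R →ₗ[R] E) (hf : IsInjectiveHull f)
    (M : Type u) [AddCommGroup M] [Module R M] [Module.Finite R M] :
    IsArtinian R (M →ₗ[R] E) ∧
      Function.Bijective (LinearMap.applyₗ : M →ₗ[R] (M →ₗ[R] E) →ₗ[R] E) := by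
  obtain ⟨b, π, hπ⟩ := Module.Finite.exists_fin' R M
  -- the embedding Hom(M, E) → E^b
  let j : (M →ₗ[R] E) →ₗ[R] (Fin b → E) :=
    LinearMap.pi fun i => LinearMap.applyₗ (π (Pi.single i 1))
  have hj : ∀ φ i, j φ i = φ (π (Pi.single i 1)) := fun φ i => rfl
  have hjinj : Function.Injective j := by
    rw [← LinearMap.ker_eq_bot, eq_bot_iff]
    intro φ hφ
    rw [LinearMap.mem_ker] at hφ
    rw [Submodule.mem_bot]
    have h1 : φ ∘ₗ π = 0 := by
      apply LinearMap.pi_ext'
      intro i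
      ext
      simp only [LinearMap.comp_apply, LinearMap.single_apply, LinearMap.zero_apply]
      have := congrFun hφ i
      rw [hj] at this
      exact this
    ext m
    obtain ⟨v, rfl⟩ := hπ m
    exact LinearMap.congr_fun h1 v
  have hE : IsArtinian R E := hull_isArtinian f hf
  refine ⟨isArtinian_of_injective j hjinj, applyₗ_injective f hf M, ?_⟩
  intro ξ
  have hinj : Module.Injective R (Fin b → E) := injective_pi (fun _ => E) (fun _ => hf.isInjective)
  obtain ⟨ξ', hξ'⟩ := exists_ext hf.isInjective j hjinj ξ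
  obtain ⟨r, hr⟩ := hom_pi_eq f hf b ξ'
  refine ⟨∑ i, r i • π (Pi.single i 1), ?_⟩
  ext φ
  change φ (∑ i, r i • π (Pi.single i 1)) = ξ φ
  rw [← hξ', LinearMap.comp_apply, hr, map_sum]
  refine Finset.sum_congr rfl fun i _ => ?_
  rw [map_smul, hj]

/-- Matlis duality for Artinian modules. -/
theorem duality_artinian (f : ResidueField R →ₗ[R] E) (hf : IsInjectiveHull f)
    (M : Type u) [AddCommGroup M] [Module R M] [IsArtinian R M] :
    Module.Finite R (M →ₗ[R] E) ∧
      Function.Bijective (LinearMap.applyₗ : M →ₗ[R] (M →ₗ[R] E) →ₗ[R] E) := by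
  -- M is power torsion with finite socle
  have hpt : LocCoh.IsPowerTorsion (maximalIdeal R) M := by
    intro x
    let P : ℕ →o (Submodule R M)ᵒᵈ :=
      ⟨fun n => OrderDual.toDual ((maximalIdeal R) ^ n • (R ∙ x)), fun i j hij =>
        OrderDual.toDual_le_toDual.2 (Submodule.smul_mono_left (Ideal.pow_le_pow_right hij))⟩
    obtain ⟨n, hn⟩ := IsArtinian.monotone_stabilizes P
    have h1 : (maximalIdeal R) ^ n • (R ∙ x) = (maximalIdeal R) ^ (n + 1) • (R ∙ x) :=
      hn (n + 1) (Nat.le_succ n)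
    have hfg : ((maximalIdeal R) ^ n • (R ∙ x)).FG := by
      have : IsNoetherian R (R ∙ x) :=
        isNoetherian_of_fg_of_noetherian _ (Submodule.fg_span_singleton x)
      exact isNoetherian_submodule.1 this _ Submodule.smul_le_right
    have hbot : (maximalIdeal R) ^ n • (R ∙ x) = ⊥ := by
      apply Submodule.eq_bot_of_le_smul_of_le_jacobson_bot (maximalIdeal R) _ hfg
      · conv_lhs => rw [h1, pow_succ', mul_smul]
      · exact maximalIdeal_le_jacobson _
    refine ⟨n, fun a ha => ?_⟩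
    have : a • x ∈ (maximalIdeal R) ^ n • (R ∙ x) :=
      Submodule.smul_mem_smul ha (Submodule.mem_span_singleton_self x)
    rw [hbot, Submodule.mem_bot] at this
    exact this
  let _ : Field (R ⧸ maximalIdeal R) := Ideal.Quotient.field _
  have hfin : Module.Finite (R ⧸ maximalIdeal R) ↥(LocCoh.torsionBy (maximalIdeal R) M) := by
    have h1 : IsArtinian R ↥(LocCoh.torsionBy (maximalIdeal R) M) := inferInstance
    have h2 : IsArtinian (R ⧸ maximalIdeal R) ↥(LocCoh.torsionBy (maximalIdeal R) M) :=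
      isArtinian_of_tower R h1
    exact (IsSemisimpleModule.finite_tfae.out 2 0).1 h2
  obtain ⟨n, hn⟩ : ∃ n, Module.finrank (R ⧸ maximalIdeal R)
      ↥(LocCoh.torsionBy (maximalIdeal R) M) = n := ⟨_, rfl⟩
  obtain ⟨j, hj⟩ := exists_embedding_pi f hf M hpt n hn
  -- every map M → E factors through j
  have hfac : ∀ φ : M →ₗ[R] E, ∃ r : Fin n → R, ∀ m, φ m = ∑ i, r i • j m i := by
    intro φ
    obtain ⟨θ, hθ⟩ := exists_ext hf.isInjective j hj φ
    obtain ⟨r, hr⟩ := hom_pi_eq f hf n θ
    refine ⟨r, fun m => ?_⟩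
    rw [← hθ, LinearMap.comp_apply, hr]
  -- the surjection Rⁿ → Hom(M, E)
  let Θ : (Fin n → R) →ₗ[R] (M →ₗ[R] E) :=
    { toFun := fun r => ∑ i, r i • ((LinearMap.proj i : (Fin n → E) →ₗ[R] E) ∘ₗ j)
      map_add' := by
        intro r s
        simp only [Pi.add_apply, add_smul, Finset.sum_add_distrib]
      map_smul' := by
        intro c r
        simp only [Pi.smul_apply, smul_eq_mul, mul_smul, RingHom.id_apply, Finset.smul_sum] }
  have hΘ : ∀ r m, Θ r m = ∑ i, r i • j m i := by
    intro r m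
    change (∑ i, r i • ((LinearMap.proj i : (Fin n → E) →ₗ[R] E) ∘ₗ j)) m = _
    rw [LinearMap.sum_apply]
    rfl
  have hΘsurj : Function.Surjective Θ := by
    intro φ
    obtain ⟨r, hr⟩ := hfac φ
    exact ⟨r, LinearMap.ext fun m => by rw [hΘ, hr]⟩
  refine ⟨Module.Finite.of_surjective Θ hΘsurj, applyₗ_injective f hf M, ?_⟩
  intro ξ
  -- the element z
  let z : Fin n → E := fun i => ξ ((LinearMap.proj i : (Fin n → E) →ₗ[R] E) ∘ₗ j)
  have hξΘ : ∀ r, ξ (Θ r) = ∑ i, r i • z i := by
    intro r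
    change ξ (∑ i, r i • ((LinearMap.proj i : (Fin n → E) →ₗ[R] E) ∘ₗ j)) = _
    rw [map_sum]
    refine Finset.sum_congr rfl fun i _ => ?_
    rw [map_smul]
  have hz : z ∈ LinearMap.range j := by
    by_contra hzn
    have hne : (LinearMap.range j).mkQ z ≠ 0 := by
      rw [Submodule.mkQ_apply, Ne, Submodule.Quotient.mk_eq_zero]
      exact hzn
    obtain ⟨θbar, hθbar⟩ := exists_hom_ne_zero f hf _ hne
    let θ : (Fin n → E) →ₗ[R] E := θbar ∘ₗ (LinearMap.range j).mkQ
    obtain ⟨r, hr⟩ := hom_pi_eq f hf n θ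
    have h1 : Θ r = 0 := by
      ext m
      rw [hΘ, ← hr]
      change θbar ((LinearMap.range j).mkQ (j m)) = 0
      have : (LinearMap.range j).mkQ (j m) = 0 := by
        rw [Submodule.mkQ_apply, Submodule.Quotient.mk_eq_zero]
        exact ⟨m, rfl⟩
      rw [this, map_zero]
    have h2 : ξ (Θ r) = θ z := by
      rw [hξΘ, hr]
    rw [h1, map_zero] at h2
    exact hθbar h2.symm
  obtain ⟨y, hy⟩ := hz
  refine ⟨y, ?_⟩
  ext φ
  change φ y = ξ φ
  obtain ⟨r, rfl⟩ := hΘsurj φ
  rw [hξΘ, hΘ, ← hy]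

end

end Groth.Agent.Helper7.Matlis
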