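import Mathlib
import Groth.Prelude.Def_Found

/-!
# Integral closure of a Nagata ring in a reduced finite type algebra is finite (for S0573)
-/

open scoped IntermediateField.algebraAdjoinAdjoin

namespace Groth.Agent.Helper7.NagataIC

universe u

section Field

variable {K L : Type*} [Field K] [Field L] [Algebra K L] {t : Set L}

local notation "FF" => IntermediateField.adjoin K (Set.range (Subtype.val : t → L))
local notation "AA" => Algebra.adjoin K (Set.range (Subtype.val : t → L))

theorem linearIndependent_adjoin (hai : AlgebraicIndependent K (Subtype.val : t → L))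
    {ι : Type*} [Fintype ι] (m : ι → algebraicClosure K L) (hm : LinearIndependent K m) :
    LinearIndependent FF (fun i => ((m i : algebraicClosure K L) : L)) := by
  refine (LinearIndependent.iff_fractionRing AA FF).mp ?_
  rw [Fintype.linearIndependent_iff]
  intro g hg
  have hM : AlgebraicIndependent (algebraicClosure K L) (Subtype.val : t → L) :=
    hai.algebraicClosure
  obtain ⟨p, hp⟩ : ∃ p : ι → MvPolynomial t K, ∀ i, hai.aevalEquiv (p i) = g i :=
    ⟨fun i => hai.aevalEquiv.symm (g i), fun i => AlgEquiv.apply_symm_apply _ _⟩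
  have hp' : ∀ i, MvPolynomial.aeval (Subtype.val : t → L) (p i) = ((g i : AA) : L) := by
    intro i
    rw [← hai.algebraMap_aevalEquiv, hp i]; rfl
  obtain ⟨Q, hQdef⟩ : ∃ Q : MvPolynomial t (algebraicClosure K L), Q = ∑ i, MvPolynomial.C (m i) *
      MvPolynomial.map (algebraMap K (algebraicClosure K L)) (p i) := ⟨_, rfl⟩
  have hQ : MvPolynomial.aeval (Subtype.val : t → L) Q = 0 := by
    rw [hQdef, map_sum, ← hg]
    refine Finset.sum_congr rfl (fun i _ => ?_)
    rw [map_mul, MvPolynomial.aeval_C, MvPolynomial.aeval_map_algebraMap, hp', Algebra.smul_def,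
      mul_comm]
    rfl
  have hQ0 : Q = 0 := hM.eq_zero_of_aeval_eq_zero Q hQ
  have hcoef : ∀ (α : t →₀ ℕ) (i : ι), MvPolynomial.coeff α (p i) = 0 := by
    intro α
    have h2 : MvPolynomial.coeff α Q = 0 := by rw [hQ0, MvPolynomial.coeff_zero]
    rw [hQdef, MvPolynomial.coeff_sum] at h2
    have h1 : ∑ i, MvPolynomial.coeff α (p i) • m i = 0 := by
      refine Eq.trans (Finset.sum_congr rfl (fun i _ => ?_)) h2
      rw [MvPolynomial.coeff_C_mul, MvPolynomial.coeff_map, Algebra.smul_def, mul_comm]
    exact Fintype.linearIndependent_iff.mp hm _ h1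
  intro i
  have hpi : p i = 0 := MvPolynomial.ext _ _ (fun α => by rw [hcoef α i, MvPolynomial.coeff_zero])
  rw [← hp i, hpi, map_zero]

end Field

theorem finite_algebraicClosure (K L : Type*) [Field K] [Field L] [Algebra K L]
    [Algebra.EssFiniteType K L] : FiniteDimensional K (algebraicClosure K L) := by
  classical
  obtain ⟨s, hs⟩ := IntermediateField.fg_top K L
  haveI : Algebra.IsAlgebraic (Algebra.adjoin K (s : Set L)) L := by
    rw [← IntermediateField.isAlgebraic_adjoin_iff_top, hs, Algebra.isAlgebraic_iff_isIntegral]
    exact Algebra.isIntegral_of_surjective IntermediateField.topEquiv.surjective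
  obtain ⟨t, -, ht⟩ := exists_isTranscendenceBasis_subset (R := K) (s : Set L)
  haveI : Algebra.IsAlgebraic
      (IntermediateField.adjoin K (Set.range (Subtype.val : t → L))) L := ht.isAlgebraic_field
  haveI : Algebra.EssFiniteType
      (IntermediateField.adjoin K (Set.range (Subtype.val : t → L))) L :=
    Algebra.EssFiniteType.of_comp K _ L
  haveI : Module.Finite (IntermediateField.adjoin K (Set.range (Subtype.val : t → L))) L :=
    Algebra.finite_of_essFiniteType_of_isAlgebraic
  have hrank : Module.rank K (algebraicClosure K L) ≤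
      (Module.finrank (IntermediateField.adjoin K (Set.range (Subtype.val : t → L))) L : ℕ) := by
    apply rank_le
    intro S₀ hS₀
    have h1 := linearIndependent_adjoin ht.1 (fun i : S₀ => (i : algebraicClosure K L)) hS₀
    have h2 := h1.fintype_card_le_finrank
    rwa [Fintype.card_coe] at h2
  exact Module.rank_lt_aleph0_iff.mp (lt_of_le_of_lt hrank (Cardinal.nat_lt_aleph0 _))

theorem finite_integralClosure_of_n2 {R' S' : Type u} [CommRing R'] [IsDomain R']
    [CommRing S'] [IsDomain S'] [Algebra R' S']
    (hinj : Function.Injective (algebraMap R' S')) [Algebra.FiniteType R' S'] (hN : CAlg.IsN2 R')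
    (L : Type u) [Field L] [Algebra S' L] [IsFractionRing S' L] [Algebra R' L]
    [IsScalarTower R' S' L] : (Subalgebra.toSubmodule (integralClosure R' L)).FG := by
  have hRL : Function.Injective (algebraMap R' L) := by
    rw [IsScalarTower.algebraMap_eq R' S' L]
    exact (IsFractionRing.injective S' L).comp hinj
  haveI : FaithfulSMul R' L := (faithfulSMul_iff_algebraMap_injective R' L).mpr hRL
  letI : Algebra (FractionRing R') L := FractionRing.liftAlgebra R' L
  haveI : IsScalarTower R' (FractionRing R') L := FractionRing.isScalarTower_liftAlgebra R' L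
  haveI : Algebra.EssFiniteType S' L :=
    Algebra.EssFiniteType.of_isLocalization L (nonZeroDivisors S')
  haveI : Algebra.EssFiniteType R' L := Algebra.EssFiniteType.comp R' S' L
  haveI : Algebra.EssFiniteType (FractionRing R') L :=
    Algebra.EssFiniteType.of_comp R' (FractionRing R') L
  have hfin : FiniteDimensional (FractionRing R') (algebraicClosure (FractionRing R') L) :=
    finite_algebraicClosure _ _
  haveI : IsScalarTower R' (algebraicClosure (FractionRing R') L) L :=
    IsScalarTower.of_algebraMap_eq (fun r => rfl)
  have hM : Module.Finite R' (integralClosure R' (algebraicClosure (FractionRing R') L)) :=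
    hN (algebraicClosure (FractionRing R') L) hfin
  have hfg := (Module.Finite.iff_fg
    (N := Subalgebra.toSubmodule (integralClosure R' (algebraicClosure (FractionRing R') L)))).mp hM
  have heq : Subalgebra.toSubmodule (integralClosure R' L) =
      Submodule.map ((IsScalarTower.toAlgHom R' (algebraicClosure (FractionRing R') L) L).toLinearMap)
        (Subalgebra.toSubmodule
          (integralClosure R' (algebraicClosure (FractionRing R') L))) := by
    ext y
    constructor
    · intro hy
      have hy' : IsIntegral R' y := hy
      have hyalg : IsIntegral (FractionRing R') y := hy'.tower_top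
      have hyM : y ∈ algebraicClosure (FractionRing R') L := mem_algebraicClosure_iff'.mpr hyalg
      refine ⟨⟨y, hyM⟩, ?_, rfl⟩
      show IsIntegral R' (⟨y, hyM⟩ : algebraicClosure (FractionRing R') L)
      exact (isIntegral_algebraMap_iff (B := L)
        (algebraMap (algebraicClosure (FractionRing R') L) L).injective).mp hy'
    · rintro ⟨z, hz, rfl⟩
      have hz' : IsIntegral R' z := hz
      exact IsIntegral.algebraMap (B := L) hz'
  rw [heq]
  exact hfg.map _

theorem main (R : Type u) [CommRing R] (hR : CAlg.IsNagata R)
    (S : Type u) [CommRing S] [IsReduced S] [Algebra R S] [Algebra.FiniteType R S] :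
    Module.Finite R (integralClosure R S) := by
  classical
  obtain ⟨hnoeth, hN2⟩ := hR
  haveI := hnoeth
  haveI : IsNoetherianRing S := Algebra.FiniteType.isNoetherianRing R S
  have hfinmin : (minimalPrimes S).Finite := minimalPrimes.finite_of_isNoetherianRing S
  haveI : Finite (minimalPrimes S) := hfinmin.to_subtype
  haveI hprime : ∀ q : minimalPrimes S, (q : Ideal S).IsPrime := fun q => q.2.1.1
  obtain ⟨φ, hφdef⟩ : ∃ φ : S →ₗ[R] (Π q : minimalPrimes S, FractionRing (S ⧸ (q : Ideal S))),
      ∀ s q, φ s q = algebraMap S (FractionRing (S ⧸ (q : Ideal S))) s :=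
    ⟨LinearMap.pi (fun q =>
      (IsScalarTower.toAlgHom R S (FractionRing (S ⧸ (q : Ideal S)))).toLinearMap),
      fun s q => rfl⟩
  have hφ : Function.Injective φ := by
    rw [injective_iff_map_eq_zero]
    intro s hs
    have h1 : ∀ q : minimalPrimes S, s ∈ (q : Ideal S) := by
      intro q
      have h2 : φ s q = 0 := by rw [hs]; rfl
      rw [hφdef, IsScalarTower.algebraMap_apply S (S ⧸ (q : Ideal S))
        (FractionRing (S ⧸ (q : Ideal S)))] at h2
      have h3 := (IsFractionRing.injective (S ⧸ (q : Ideal S))
        (FractionRing (S ⧸ (q : Ideal S)))) (h2.trans (map_zero _).symm)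
      exact Ideal.Quotient.eq_zero_iff_mem.mp h3
    have h4 : s ∈ sInf (Ideal.minimalPrimes (⊥ : Ideal S)) := by
      rw [Submodule.mem_sInf]
      intro q hq
      exact h1 ⟨q, hq⟩
    rw [Ideal.sInf_minimalPrimes] at h4
    have h5 : s ∈ nilradical S := h4
    rw [nilradical_eq_zero] at h5
    simpa using h5
  have hT : ∀ q : minimalPrimes S, (Subalgebra.toSubmodule
      (integralClosure R (FractionRing (S ⧸ (q : Ideal S))))).FG := by
    intro q
    haveI : Algebra.FiniteType (R ⧸ (q : Ideal S).comap (algebraMap R S)) (S ⧸ (q : Ideal S)) :=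
      Algebra.FiniteType.of_restrictScalars_finiteType R _ _
    have hB := finite_integralClosure_of_n2
      (R' := R ⧸ (q : Ideal S).comap (algebraMap R S)) (S' := S ⧸ (q : Ideal S))
      Ideal.algebraMap_quotient_injective (hN2 _) (FractionRing (S ⧸ (q : Ideal S)))
    obtain ⟨b, hb⟩ := hB
    refine ⟨b, ?_⟩
    rw [← Submodule.restrictScalars_span R (R ⧸ (q : Ideal S).comap (algebraMap R S))
      Ideal.Quotient.mk_surjective, hb]
    ext y
    haveI : Algebra.IsIntegral R (R ⧸ (q : Ideal S).comap (algebraMap R S)) :=
      Algebra.isIntegral_of_surjective Ideal.Quotient.mk_surjective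
    constructor
    · intro hy
      have hy' : IsIntegral (R ⧸ (q : Ideal S).comap (algebraMap R S)) y := hy
      exact isIntegral_trans (R := R) y hy'
    · intro hy
      have hy' : IsIntegral R y := hy
      exact hy'.tower_top (A := R ⧸ (q : Ideal S).comap (algebraMap R S))
  have hle : Submodule.map φ (Subalgebra.toSubmodule (integralClosure R S)) ≤
      Submodule.pi Set.univ (fun q : minimalPrimes S => Subalgebra.toSubmodule
        (integralClosure R (FractionRing (S ⧸ (q : Ideal S))))) := by
    rintro _ ⟨s, hs, rfl⟩ q _
    have hs' : IsIntegral R s := hs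
    rw [hφdef]
    exact IsIntegral.algebraMap (B := FractionRing (S ⧸ (q : Ideal S))) hs'
  have hpifg := Submodule.fg_pi hT
  haveI : IsNoetherian R ↥(Submodule.pi Set.univ (fun q : minimalPrimes S =>
      Subalgebra.toSubmodule (integralClosure R (FractionRing (S ⧸ (q : Ideal S)))))) :=
    isNoetherian_of_fg_of_noetherian _ hpifg
  haveI : IsNoetherian R ↥(Submodule.map φ (Subalgebra.toSubmodule (integralClosure R S))) :=
    isNoetherian_of_le hle
  have hmapfg : (Submodule.map φ (Subalgebra.toSubmodule (integralClosure R S))).FG :=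
    Module.Finite.iff_fg.mp inferInstance
  have hfg := Submodule.fg_of_fg_map_injective φ hφ hmapfg
  exact (Module.Finite.iff_fg (N := Subalgebra.toSubmodule (integralClosure R S))).mpr hfg

end Groth.Agent.Helper7.NagataIC
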