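import Mathlib
import Groth.Prelude.Def_AssocGrMod
import Groth.Agent.Lib.Helper8.LocalCrit

/-!
# Local criterion of flatness for a nilpotent ideal, graded form (helper7)
-/

set_option autoImplicit false
universe u

namespace Groth.Agent.Helper7.NilCrit

open TensorProduct

variable {A : Type u} [CommRing A] (I : Ideal A) (M : Type u) [AddCommGroup M] [Module A M]

theorem exists_fin_repr {P Q : Type u} [AddCommGroup P] [Module A P] [AddCommGroup Q] [Module A Q]
    (x : P ⊗[A] Q) : ∃ (k : ℕ) (a : Fin k → P) (m : Fin k → Q), x = ∑ i, a i ⊗ₜ[A] m i := by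
  obtain ⟨S, rfl⟩ := TensorProduct.exists_finset x
  refine ⟨S.card, fun i => (S.equivFin.symm i).1.1, fun i => (S.equivFin.symm i).1.2, ?_⟩
  rw [← Finset.sum_coe_sort S (fun i => i.1 ⊗ₜ[A] i.2)]
  exact (Equiv.sum_comp S.equivFin.symm (fun i : S => i.1.1 ⊗ₜ[A] i.1.2)).symm

/-- the map `I^(n+1) ⊗ M → I^n ⊗ M`. -/
noncomputable def ι (n : ℕ) : ↥(I ^ (n + 1)) ⊗[A] M →ₗ[A] ↥(I ^ n) ⊗[A] M :=
  LinearMap.rTensor M (Submodule.inclusion (Ideal.pow_le_pow_right (Nat.le_succ n)))

theorem subtype_ι (n : ℕ) (y : ↥(I ^ (n + 1)) ⊗[A] M) :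
    LinearMap.rTensor M (I ^ n).subtype (ι I M n y) =
      LinearMap.rTensor M (I ^ (n + 1)).subtype y := by
  induction y using TensorProduct.induction_on with
  | zero => simp
  | tmul a m => rfl
  | add x y hx hy => rw [map_add, map_add, map_add, hx, hy]

theorem H_of_hinj (hinj : ∀ (n k : ℕ) (a : Fin k → ↥((FiltBl.IdealFiltration.adic I).F n))
      (x : Fin k → ↥((Rees.powFilt I M).N 0)),
      (∑ i, (AssocGr.inDeg (FiltBl.IdealFiltration.adic I) n (a i) :
          AssocGr.GrRing (FiltBl.IdealFiltration.adic I)) •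
        (AssocGr.inDegM (Rees.powFilt I M) 0 (x i) : AssocGr.GrMod (Rees.powFilt I M))) = 0 →
      (∑ i, (AssocGr.inDeg (FiltBl.IdealFiltration.adic I) n (a i)) ⊗ₜ[A]
          (Submodule.Quotient.mk (x i : M)) :
        ↥(AssocGr.gr (FiltBl.IdealFiltration.adic I) n) ⊗[A] (M ⧸ (I • (⊤ : Submodule A M)))) = 0) :
    ∀ (n k : ℕ) (a : Fin k → ↥((FiltBl.IdealFiltration.adic I).F n)) (x : Fin k → M),
      ∑ i, (a i : A) • x i = 0 →
      (∑ i, (AssocGr.inDeg (FiltBl.IdealFiltration.adic I) n (a i)) ⊗ₜ[A]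
          (Submodule.Quotient.mk (x i) : M ⧸ (I • (⊤ : Submodule A M)))) = 0 := by
  intro n k a x hsum
  have hx0 : ∀ m : M, m ∈ (Rees.powFilt I M).N 0 := by
    intro m
    rw [Ideal.stableFiltration_N, pow_zero, Ideal.one_eq_top, Submodule.top_smul]
    exact Submodule.mem_top
  refine hinj n k a (fun i => ⟨x i, hx0 (x i)⟩) ?_
  have hmem : ∀ i, (a i : A) • x i ∈ (Rees.powFilt I M).N (n + 0) := fun i =>
    (Rees.powFilt I M).pow_smul_le n 0
      (Submodule.smul_mem_smul (show (a i : A) ∈ I ^ n from (a i).2) (hx0 (x i)))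
  have hterm : ∀ i, (AssocGr.inDeg (FiltBl.IdealFiltration.adic I) n (a i) :
        AssocGr.GrRing (FiltBl.IdealFiltration.adic I)) •
        (AssocGr.inDegM (Rees.powFilt I M) 0 ⟨x i, hx0 (x i)⟩ : AssocGr.GrMod (Rees.powFilt I M)) =
      ((AssocGr.inDegM (Rees.powFilt I M) (n + 0)) ⟨(a i : A) • x i, hmem i⟩ :
        AssocGr.GrMod (Rees.powFilt I M)) :=
    fun i => AssocGr.inDeg_smul_inDegM (Rees.powFilt I M) n 0 (a i) ⟨x i, hx0 (x i)⟩
  refine (Finset.sum_congr rfl (fun i _ => hterm i)).trans ?_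
  have hz0 : (∑ i, (⟨(a i : A) • x i, hmem i⟩ : ↥((Rees.powFilt I M).N (n + 0)))) = 0 := by
    apply Subtype.ext
    rw [Submodule.coe_sum]
    exact hsum
  have hcoe : (∑ i, (((AssocGr.inDegM (Rees.powFilt I M) (n + 0)) ⟨(a i : A) • x i, hmem i⟩ :
        ↥(AssocGr.grM (Rees.powFilt I M) (n + 0))) : AssocGr.GrMod (Rees.powFilt I M))) =
      (((AssocGr.inDegM (Rees.powFilt I M) (n + 0))
        (∑ i, (⟨(a i : A) • x i, hmem i⟩ : ↥((Rees.powFilt I M).N (n + 0)))) :
        ↥(AssocGr.grM (Rees.powFilt I M) (n + 0))) : AssocGr.GrMod (Rees.powFilt I M)) := by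
    rw [map_sum]
    exact (map_sum (AssocGr.grM (Rees.powFilt I M) (n + 0)).subtype
      (fun i => (AssocGr.inDegM (Rees.powFilt I M) (n + 0)) ⟨(a i : A) • x i, hmem i⟩)
      Finset.univ).symm
  refine hcoe.trans ?_
  rw [hz0, map_zero]
  rfl

variable (H : ∀ (n k : ℕ) (a : Fin k → ↥((FiltBl.IdealFiltration.adic I).F n)) (x : Fin k → M),
      ∑ i, (a i : A) • x i = 0 →
      (∑ i, (AssocGr.inDeg (FiltBl.IdealFiltration.adic I) n (a i)) ⊗ₜ[A]
          (Submodule.Quotient.mk (x i) : M ⧸ (I • (⊤ : Submodule A M)))) = 0)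

include H in
theorem step (n : ℕ) (h : Function.Injective (LinearMap.rTensor M (I ^ (n + 1)).subtype)) :
    Function.Injective (LinearMap.rTensor M (I ^ n).subtype) := by
  rw [injective_iff_map_eq_zero]
  intro x hx
  suffices hr : x ∈ LinearMap.range (ι I M n) by
    obtain ⟨y, rfl⟩ := hr
    rw [subtype_ι] at hx
    rw [h (hx.trans (map_zero _).symm), map_zero]
  obtain ⟨g, hg⟩ : ∃ g : ↥(I ^ n) →ₗ[A] ↥(AssocGr.gr (FiltBl.IdealFiltration.adic I) n),
      g = AssocGr.inDeg (FiltBl.IdealFiltration.adic I) n := ⟨_, rfl⟩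
  have hgs : Function.Surjective g := by
    rw [hg]
    exact AssocGr.inDeg_surjective (FiltBl.IdealFiltration.adic I) n
  have hg0 : ∀ a : ↥(I ^ n), g a = 0 ↔ (a : A) ∈ I ^ (n + 1) := fun a => by
    rw [hg]
    exact AssocGr.inDeg_eq_zero_iff (FiltBl.IdealFiltration.adic I) n a
  have hH : ∀ (k : ℕ) (a : Fin k → ↥(I ^ n)) (m : Fin k → M), ∑ i, (a i : A) • m i = 0 →
      ∑ i, g (a i) ⊗ₜ[A] (I • (⊤ : Submodule A M)).mkQ (m i) = 0 := by
    intro k a m h0
    rw [hg]
    exact H n k a m h0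
  have hker : TensorProduct.map g (I • (⊤ : Submodule A M)).mkQ x = 0 := by
    obtain ⟨k, a, m, rfl⟩ := exists_fin_repr (A := A) x
    have h1 : ∑ i, ((a i : ↥(I ^ n)) : A) • m i = 0 := by
      have h2 := congrArg (TensorProduct.lid A M) hx
      simpa [map_sum] using h2
    rw [map_sum]
    simp only [TensorProduct.map_tmul]
    exact hH k a m h1
  have hexact1 : Function.Exact
      (Submodule.inclusion (Ideal.pow_le_pow_right (Nat.le_succ n)) : ↥(I ^ (n + 1)) →ₗ[A] ↥(I ^ n))
      g := by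
    intro a
    rw [hg0]
    constructor
    · intro ha
      exact ⟨⟨a.1, ha⟩, rfl⟩
    · rintro ⟨b, rfl⟩
      exact b.2
  have hexact2 : Function.Exact (I • (⊤ : Submodule A M)).subtype (I • (⊤ : Submodule A M)).mkQ :=
    LinearMap.exact_subtype_mkQ _
  have hk := TensorProduct.map_ker hexact1 hgs hexact2 (Submodule.mkQ_surjective _)
  have hx0 : x ∈ LinearMap.ker (TensorProduct.map g (I • (⊤ : Submodule A M)).mkQ) := hker
  have hx' := hk.le hx0
  have hle : LinearMap.range (LinearMap.lTensor ↥(I ^ n) (I • (⊤ : Submodule A M)).subtype) ≤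
      LinearMap.range (ι I M n) := by
    rintro _ ⟨w, rfl⟩
    induction w using TensorProduct.induction_on with
    | zero => rw [map_zero]; exact Submodule.zero_mem _
    | tmul a y =>
      rw [LinearMap.lTensor_tmul, Submodule.subtype_apply]
      obtain ⟨y, hy⟩ := y
      show a ⊗ₜ[A] y ∈ LinearMap.range (ι I M n)
      refine Submodule.smul_induction_on hy (fun b hb m _ => ?_) (fun y1 y2 h1 h2 => ?_)
      · have hba : b * (a : A) ∈ I ^ (n + 1) :=
          (pow_succ' I n).ge (Ideal.mul_mem_mul hb a.2)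
        refine ⟨(⟨b * (a : A), hba⟩ : ↥(I ^ (n + 1))) ⊗ₜ[A] m, ?_⟩
        rw [ι, LinearMap.rTensor_tmul, TensorProduct.tmul_smul, TensorProduct.smul_tmul']
        congr 1
      · rw [TensorProduct.tmul_add]
        exact Submodule.add_mem _ h1 h2
    | add w1 w2 h1 h2 => rw [map_add]; exact Submodule.add_mem _ h1 h2
  have hle2 : LinearMap.range (LinearMap.rTensor M
      (Submodule.inclusion (Ideal.pow_le_pow_right (Nat.le_succ n)) : ↥(I ^ (n + 1)) →ₗ[A] ↥(I ^ n))) ≤
      LinearMap.range (ι I M n) := le_of_eq rfl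
  exact sup_le hle hle2 hx'

include H in
theorem flat_of_gr (N : ℕ) (hN : I ^ N = ⊥)
    (hflat : Module.Flat (A ⧸ I) (M ⧸ (I • (⊤ : Submodule A M)))) : Module.Flat A M := by
  have key : ∀ k n, N ≤ n + k → Function.Injective (LinearMap.rTensor M (I ^ n).subtype) := by
    intro k
    induction k with
    | zero =>
      intro n hn
      have hbot : I ^ n = ⊥ := by
        rw [eq_bot_iff, ← hN]
        exact Ideal.pow_le_pow_right (by omega)
      have hz : ∀ z : ↥(I ^ n) ⊗[A] M, z = 0 := by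
        intro z
        induction z using TensorProduct.induction_on with
        | zero => rfl
        | tmul a m =>
          have ha : a = 0 := by
            apply Subtype.ext
            exact Ideal.mem_bot.mp (hbot.le a.2)
          rw [ha, TensorProduct.zero_tmul]
        | add z1 z2 h1 h2 => rw [h1, h2, add_zero]
      intro x y _
      rw [hz x, hz y]
    | succ k ih =>
      intro n hn
      exact step I M H n (ih (n + 1) (by omega))
  have e1 : I ^ 1 = I := pow_one I
  have h1 : Function.Injective (LinearMap.rTensor M I.subtype) := by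
    have := key N 1 (by omega)
    rwa [e1] at this
  have h2 : Module.Flat (A ⧸ I) ((A ⧸ I) ⊗[A] M) := by
    haveI := hflat
    exact Module.Flat.of_linearEquiv
      (LinearEquiv.extendScalarsOfSurjective Ideal.Quotient.mk_surjective
        (quotTensorEquivQuotSMul M I))
  exact Groth.Agent.Helper8.LocalCrit.flat_of_nilpotent I N hN h1 h2

end Groth.Agent.Helper7.NilCrit
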