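import Mathlib

/-!
# Normal flatness and regular sequences

`A` Noetherian local, `J` proper, all `J^k/J^{k+1}` flat over `A/J`, `fs` weakly regular on `A/J`.
Then `fs` is weakly regular on every `J^k/J^{k+1}` and on every `J^k`.
-/

set_option autoImplicit false
set_option linter.style.haveILetI false
universe u
open TensorProduct RingTheory.Sequence

namespace Groth.Agent.Helper7.NormFlat

variable {A : Type u} [CommRing A]

/-- weak regularity passes to the middle of a short exact sequence. -/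
theorem wreg_of_exact (rs : List A) : ∀ {M' M M'' : Type u} [AddCommGroup M'] [Module A M']
    [AddCommGroup M] [Module A M] [AddCommGroup M''] [Module A M'']
    (f : M' →ₗ[A] M) (g : M →ₗ[A] M''),
    Function.Injective f → Function.Exact f g → Function.Surjective g →
    IsWeaklyRegular M' rs → IsWeaklyRegular M'' rs → IsWeaklyRegular M rs := by
  induction rs with
  | nil => intro M' M M'' _ _ _ _ _ _ f g _ _ _ _ _; exact IsWeaklyRegular.nil A M
  | cons r rs ih =>
    intro M' M M'' _ _ _ _ _ _ f g hf hex hg h' h''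
    rw [isWeaklyRegular_cons_iff] at h' h'' ⊢
    obtain ⟨h'1, h'2⟩ := h'
    obtain ⟨h''1, h''2⟩ := h''
    have hinj : Function.Injective (QuotSMulTop.map r f) := by
      have h12 : Function.Exact (0 : M' →ₗ[A] M') f := by
        intro y
        constructor
        · intro hy
          obtain rfl : y = 0 := hf (hy.trans (map_zero f).symm)
          exact ⟨0, LinearMap.zero_apply _⟩
        · rintro ⟨z, rfl⟩
          simp
      have hE := QuotSMulTop.map_first_exact_on_four_term_exact_of_isSMulRegular_last (r := r)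
        h12 hex h''1
      have hz : QuotSMulTop.map r (0 : M' →ₗ[A] M') = 0 := map_zero _
      refine (injective_iff_map_eq_zero _).mpr (fun a ha => ?_)
      obtain ⟨c, hc⟩ := (hE a).mp ha
      rw [hz, LinearMap.zero_apply] at hc
      exact hc.symm
    refine ⟨?_, ih (QuotSMulTop.map r f) (QuotSMulTop.map r g) hinj
      (QuotSMulTop.map_exact r hex hg) (QuotSMulTop.map_surjective r hg) h'2 h''2⟩
    rw [isSMulRegular_iff_right_eq_zero_of_smul]
    intro x hx
    have h1 : g x = 0 := h''1.right_eq_zero_of_smul (by rw [← map_smul, hx, map_zero])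
    obtain ⟨y, rfl⟩ := (hex x).mp h1
    have h2 : y = 0 := h'1.right_eq_zero_of_smul (hf (by rw [map_smul, hx, map_zero]))
    rw [h2, map_zero]

theorem wreg_of_subsingleton (M : Type u) [AddCommGroup M] [Module A M] [Subsingleton M]
    (rs : List A) : IsWeaklyRegular M rs := by
  rw [isWeaklyRegular_iff_Fin]
  intro i
  haveI : Subsingleton (M ⧸ (Ideal.ofList (List.take (↑i) rs) • (⊤ : Submodule A M))) :=
    (Submodule.Quotient.mk_surjective _).subsingleton
  exact Function.injective_of_subsingleton _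

theorem smulRegular_of_quot [IsNoetherianRing A] [IsLocalRing A] (J : Ideal A) (hJ : J ≠ ⊤)
    (M : Type u) [AddCommGroup M] [Module A M] [Module.Finite A M] (I : Ideal A) (r : A)
    (h : ∀ m : ℕ, IsSMulRegular
      ((M ⧸ (J ^ m • (⊤ : Submodule A M))) ⧸
        (I • (⊤ : Submodule A (M ⧸ (J ^ m • (⊤ : Submodule A M)))))) r) :
    IsSMulRegular (M ⧸ (I • (⊤ : Submodule A M))) r := by
  rw [isSMulRegular_on_quot_iff_lsmul_comap_le]
  intro x hx
  have hx' : r • x ∈ I • (⊤ : Submodule A M) := hx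
  have key : ∀ m : ℕ, x ∈ I • (⊤ : Submodule A M) ⊔ J ^ m • (⊤ : Submodule A M) := by
    intro m
    have hm := h m
    rw [isSMulRegular_on_quot_iff_lsmul_comap_le] at hm
    have e : I • (⊤ : Submodule A (M ⧸ (J ^ m • (⊤ : Submodule A M)))) =
        Submodule.map (J ^ m • (⊤ : Submodule A M)).mkQ (I • (⊤ : Submodule A M)) := by
      rw [Submodule.map_smul'', Submodule.map_top, Submodule.range_mkQ]
    have h1 : (J ^ m • (⊤ : Submodule A M)).mkQ x ∈
        I • (⊤ : Submodule A (M ⧸ (J ^ m • (⊤ : Submodule A M)))) := by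
      apply hm
      show r • ((J ^ m • (⊤ : Submodule A M)).mkQ x) ∈
        I • (⊤ : Submodule A (M ⧸ (J ^ m • (⊤ : Submodule A M))))
      rw [← map_smul, e]
      exact Submodule.mem_map_of_mem hx'
    rw [e] at h1
    obtain ⟨y, hy, hyx⟩ := h1
    have h2 : x - y ∈ J ^ m • (⊤ : Submodule A M) := by
      rw [← Submodule.Quotient.mk_eq_zero, Submodule.Quotient.mk_sub, sub_eq_zero]
      exact hyx.symm
    exact Submodule.mem_sup.mpr ⟨y, hy, x - y, h2, by abel⟩
  have hk := Ideal.iInf_pow_smul_eq_bot_of_isLocalRing (M := M ⧸ (I • (⊤ : Submodule A M))) J hJ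
  have hmem : (I • (⊤ : Submodule A M)).mkQ x ∈
      (⨅ m : ℕ, J ^ m • (⊤ : Submodule A (M ⧸ (I • (⊤ : Submodule A M))))) := by
    rw [Submodule.mem_iInf]
    intro m
    have e : J ^ m • (⊤ : Submodule A (M ⧸ (I • (⊤ : Submodule A M)))) =
        Submodule.map (I • (⊤ : Submodule A M)).mkQ (J ^ m • (⊤ : Submodule A M)) := by
      rw [Submodule.map_smul'', Submodule.map_top, Submodule.range_mkQ]
    rw [e]
    obtain ⟨y, hy, z, hz, hyz⟩ := Submodule.mem_sup.mp (key m)
    refine ⟨z, hz, ?_⟩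
    rw [← hyz, map_add]
    have : (I • (⊤ : Submodule A M)).mkQ y = 0 := (Submodule.Quotient.mk_eq_zero _).mpr hy
    rw [this, zero_add]
  rw [hk, Submodule.mem_bot] at hmem
  exact (Submodule.Quotient.mk_eq_zero _).mp hmem

theorem wreg_of_quot [IsNoetherianRing A] [IsLocalRing A] (J : Ideal A) (hJ : J ≠ ⊤)
    (M : Type u) [AddCommGroup M] [Module A M] [Module.Finite A M] (rs : List A)
    (h : ∀ m : ℕ, IsWeaklyRegular (M ⧸ (J ^ m • (⊤ : Submodule A M))) rs) :
    IsWeaklyRegular M rs := by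
  rw [isWeaklyRegular_iff_Fin]
  intro i
  exact smulRegular_of_quot J hJ M _ _ (fun m => (isWeaklyRegular_iff_Fin _ rs).mp (h m) i)

theorem wreg_gr (J : Ideal A) (N : Type u) [AddCommGroup N] [Module A N] (fs : List A)
    [Module.Flat (A ⧸ J) (N ⧸ (J • (⊤ : Submodule A N)))]
    (hreg : IsWeaklyRegular (A ⧸ J) fs) :
    IsWeaklyRegular (N ⧸ (J • (⊤ : Submodule A N))) fs := by
  have h1 : IsWeaklyRegular (A ⧸ J) (fs.map (algebraMap A (A ⧸ J))) :=
    (isWeaklyRegular_map_algebraMap_iff (A ⧸ J) (A ⧸ J) fs).mpr hreg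
  have h2 := h1.isWeaklyRegular_lTensor (M₂ := N ⧸ (J • (⊤ : Submodule A N)))
  have h3 := (LinearEquiv.isWeaklyRegular_congr
    (TensorProduct.rid (A ⧸ J) (N ⧸ (J • (⊤ : Submodule A N)))) _).mp h2
  exact (isWeaklyRegular_map_algebraMap_iff (A ⧸ J) _ fs).mp h3

section Filt
variable (J : Ideal A) (k : ℕ)

theorem mem_pow_smul_top (m : ℕ) (x : ↥(J ^ k)) :
    x ∈ J ^ m • (⊤ : Submodule A ↥(J ^ k)) ↔ (x : A) ∈ J ^ (m + k) := by
  rw [Submodule.mem_smul_top_iff, Ideal.smul_eq_mul, ← pow_add]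

theorem mem_smul_top (x : ↥(J ^ k)) :
    x ∈ J • (⊤ : Submodule A ↥(J ^ k)) ↔ (x : A) ∈ J ^ (k + 1) := by
  rw [Submodule.mem_smul_top_iff, Ideal.smul_eq_mul, ← pow_succ']

/-- `gr_{k+m} → J^k / J^{m+1} J^k`. -/
noncomputable def alpha (m : ℕ) :
    (↥(J ^ (k + m)) ⧸ (J • (⊤ : Submodule A ↥(J ^ (k + m))))) →ₗ[A]
      (↥(J ^ k) ⧸ (J ^ (m + 1) • (⊤ : Submodule A ↥(J ^ k)))) :=
  Submodule.mapQ _ _ (Submodule.inclusion (Ideal.pow_le_pow_right (Nat.le_add_right k m))) (by
    intro y hy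
    rw [Submodule.mem_comap, mem_pow_smul_top, Submodule.coe_inclusion]
    rw [mem_smul_top] at hy
    have : m + 1 + k = k + m + 1 := by omega
    rw [this]; exact hy)

/-- `J^k / J^{m+1} J^k → J^k / J^m J^k`. -/
noncomputable def beta (m : ℕ) :
    (↥(J ^ k) ⧸ (J ^ (m + 1) • (⊤ : Submodule A ↥(J ^ k)))) →ₗ[A]
      (↥(J ^ k) ⧸ (J ^ m • (⊤ : Submodule A ↥(J ^ k)))) :=
  Submodule.mapQ _ _ LinearMap.id (by
    rw [Submodule.comap_id]
    exact Submodule.smul_mono_left (Ideal.pow_le_pow_right (Nat.le_succ m)))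

theorem alpha_injective (m : ℕ) : Function.Injective (alpha J k m) := by
  rw [← LinearMap.ker_eq_bot, LinearMap.ker_eq_bot']
  intro z hz
  obtain ⟨y, rfl⟩ := Submodule.Quotient.mk_surjective _ z
  rw [alpha, Submodule.mapQ_apply, Submodule.Quotient.mk_eq_zero, mem_pow_smul_top,
    Submodule.coe_inclusion] at hz
  rw [Submodule.Quotient.mk_eq_zero, mem_smul_top]
  have : m + 1 + k = k + m + 1 := by omega
  rw [this] at hz; exact hz

theorem beta_surjective (m : ℕ) : Function.Surjective (beta J k m) := by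
  intro w
  obtain ⟨x, rfl⟩ := Submodule.Quotient.mk_surjective _ w
  exact ⟨Submodule.Quotient.mk x, by rw [beta, Submodule.mapQ_apply]; rfl⟩

theorem alpha_beta_exact (m : ℕ) : Function.Exact (alpha J k m) (beta J k m) := by
  intro w
  obtain ⟨x, rfl⟩ := Submodule.Quotient.mk_surjective _ w
  rw [beta, Submodule.mapQ_apply, LinearMap.id_apply, Submodule.Quotient.mk_eq_zero,
    mem_pow_smul_top]
  constructor
  · intro hx
    have hx' : (x : A) ∈ J ^ (k + m) := by rw [add_comm]; exact hx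
    exact ⟨Submodule.Quotient.mk ⟨(x : A), hx'⟩, by
      rw [alpha, Submodule.mapQ_apply]; rfl⟩
  · rintro ⟨z, hz⟩
    obtain ⟨y, rfl⟩ := Submodule.Quotient.mk_surjective _ z
    rw [alpha, Submodule.mapQ_apply, Submodule.Quotient.eq, mem_pow_smul_top, Submodule.coe_sub,
      Submodule.coe_inclusion] at hz
    have h1 : (y : A) - (x : A) ∈ J ^ (m + k) :=
      Ideal.pow_le_pow_right (show m + k ≤ m + 1 + k by omega) hz
    have h2 : (y : A) ∈ J ^ (m + k) := by rw [add_comm]; exact y.2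
    have h3 : (x : A) = (y : A) - ((y : A) - (x : A)) := by ring
    rw [h3]
    exact Ideal.sub_mem _ h2 h1

end Filt

theorem main5182 [IsNoetherianRing A] [IsLocalRing A] (J : Ideal A) (hJ : J ≠ ⊤)
    (hflat : ∀ k : ℕ, Module.Flat (A ⧸ J) (↥(J ^ k) ⧸ (J • (⊤ : Submodule A ↥(J ^ k)))))
    (fs : List A) (hreg : IsWeaklyRegular (A ⧸ J) fs) (k : ℕ) :
    IsWeaklyRegular (↥(J ^ k)) fs ∧
      IsWeaklyRegular (↥(J ^ k) ⧸ (J • (⊤ : Submodule A ↥(J ^ k)))) fs := by
  have hgr : ∀ k, IsWeaklyRegular (↥(J ^ k) ⧸ (J • (⊤ : Submodule A ↥(J ^ k)))) fs := by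
    intro k
    haveI := hflat k
    exact wreg_gr J ↥(J ^ k) fs hreg
  refine ⟨?_, hgr k⟩
  apply wreg_of_quot J hJ ↥(J ^ k) fs
  intro m
  induction m with
  | zero =>
    haveI : Subsingleton (↥(J ^ k) ⧸ (J ^ 0 • (⊤ : Submodule A ↥(J ^ k)))) := by
      rw [pow_zero, Ideal.one_eq_top, Submodule.top_smul]
      exact Submodule.Quotient.subsingleton_iff.mpr rfl
    exact wreg_of_subsingleton _ fs
  | succ m ih =>
    exact wreg_of_exact fs (alpha J k m) (beta J k m) (alpha_injective J k m)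
      (alpha_beta_exact J k m) (beta_surjective J k m) (hgr (k + m)) ih

end Groth.Agent.Helper7.NormFlat
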