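import Mathlib
import Groth.Prelude.Def_W4c5modbuncurvesppStab
import Groth.Agent.Lib.Helper7.MatTree2

/-! Stability data on multigraphs: reduction of the (semi)stability inequalities to elementary
vertex sets (helper7). -/

set_option autoImplicit false
universe u

namespace Groth.Agent.Helper7.PhiS

open LabGraph PhiStab Groth.Agent.Helper7.LabG Groth.Agent.Helper7.MatTree

variable {V E : Type u} [Fintype V] [Fintype E] [DecidableEq V] [DecidableEq E]
variable (ends : E → V × V)

lemma rtg_symm_of {α : Type*} {r : α → α → Prop} (hr : ∀ a b, r a b → r b a) {a b : α}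
    (h : Relation.ReflTransGen r a b) : Relation.ReflTransGen r b a := by
  induction h with
  | refl => exact Relation.ReflTransGen.refl
  | tail _ hbc ih => exact Relation.ReflTransGen.head (hr _ _ hbc) ih

lemma mem_inner {S : Finset V} {e : E} :
    e ∈ PhiStab.inner ends S ↔ (ends e).1 ∈ S ∧ (ends e).2 ∈ S := by
  simp [PhiStab.inner]

/-- `A` is closed under the edges with both ends in `S` -/
def ClosedIn (S A : Finset V) : Prop :=
  ∀ e, (ends e).1 ∈ S → (ends e).2 ∈ S → ((ends e).1 ∈ A ↔ (ends e).2 ∈ A)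

/-- the subgraph induced on `S` is connected, phrased with finsets -/
def IConn (S : Finset V) : Prop :=
  S.Nonempty ∧ ∀ A : Finset V, A ⊆ S → A.Nonempty → ClosedIn ends S A → A = S

lemma iconn_of_connected {S : Finset V} (h : LabGraph.Connected (PhiStab.indEnds ends S)) :
    IConn ends S := by
  obtain ⟨⟨⟨a, ha⟩⟩, hc⟩ := h
  refine ⟨⟨a, ha⟩, fun A hAS hAne hcl => ?_⟩
  obtain ⟨x, hx⟩ := hAne
  apply Finset.Subset.antisymm hAS
  intro s hs
  have key : ∀ y : {v : V // v ∈ S},
      Relation.ReflTransGen (LabGraph.Adj (PhiStab.indEnds ends S)) ⟨x, hAS hx⟩ y → y.1 ∈ A := by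
    intro y hy
    induction hy with
    | refl => exact hx
    | tail hab hbc ih =>
      rename_i b c
      obtain ⟨e', he'⟩ := hbc
      have hin := (mem_inner ends).1 e'.2
      have hcl' := hcl e'.1 hin.1 hin.2
      rcases he' with he' | he'
      · have h1 : (ends e'.1).1 = b.1 := congrArg (fun p => p.1.1) he'
        have h2 : (ends e'.1).2 = c.1 := congrArg (fun p => p.2.1) he'
        rw [← h2]
        exact hcl'.1 (by rw [h1]; exact ih)
      · have h1 : (ends e'.1).1 = c.1 := congrArg (fun p => p.1.1) he'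
        have h2 : (ends e'.1).2 = b.1 := congrArg (fun p => p.2.1) he'
        rw [← h1]
        exact hcl'.2 (by rw [h2]; exact ih)
  exact key ⟨s, hs⟩ (hc _ _)

lemma connected_of_iconn {S : Finset V} (h : IConn ends S) :
    LabGraph.Connected (PhiStab.indEnds ends S) := by
  classical
  obtain ⟨⟨a, ha⟩, hA⟩ := h
  let A : Finset V := S.filter (fun s => ∃ hs : s ∈ S,
    Relation.ReflTransGen (LabGraph.Adj (PhiStab.indEnds ends S)) ⟨a, ha⟩ ⟨s, hs⟩)
  have hAS : A ⊆ S := Finset.filter_subset _ _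
  have haA : a ∈ A := Finset.mem_filter.2 ⟨ha, ha, Relation.ReflTransGen.refl⟩
  have hcl : ClosedIn ends S A := by
    intro e h1 h2
    have he : e ∈ PhiStab.inner ends S := (mem_inner ends).2 ⟨h1, h2⟩
    constructor
    · intro hm
      obtain ⟨_, hs, hr⟩ := Finset.mem_filter.1 hm
      exact Finset.mem_filter.2 ⟨h2, h2, hr.tail ⟨⟨e, he⟩, Or.inl rfl⟩⟩
    · intro hm
      obtain ⟨_, hs, hr⟩ := Finset.mem_filter.1 hm
      exact Finset.mem_filter.2 ⟨h1, h1, hr.tail ⟨⟨e, he⟩, Or.inr rfl⟩⟩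
  have hAeq := hA A hAS ⟨a, haA⟩ hcl
  have hreach : ∀ y : {v : V // v ∈ S},
      Relation.ReflTransGen (LabGraph.Adj (PhiStab.indEnds ends S)) ⟨a, ha⟩ y := by
    intro y
    have hy : y.1 ∈ A := by rw [hAeq]; exact y.2
    obtain ⟨_, hs, hr⟩ := Finset.mem_filter.1 hy
    exact hr
  have hsymm : ∀ x y : {v : V // v ∈ S}, LabGraph.Adj (PhiStab.indEnds ends S) x y →
      LabGraph.Adj (PhiStab.indEnds ends S) y x := fun x y ⟨e, he⟩ => ⟨e, he.symm⟩
  exact ⟨⟨⟨a, ha⟩⟩, fun x y => (rtg_symm_of hsymm (hreach x)).trans (hreach y)⟩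

lemma closed_univ_of_connected (hconn : LabGraph.Connected ends) {A : Finset V} (hne : A.Nonempty)
    (hcl : ∀ e, ((ends e).1 ∈ A ↔ (ends e).2 ∈ A)) : A = Finset.univ := by
  obtain ⟨x, hx⟩ := hne
  apply Finset.eq_univ_of_forall
  intro y
  have hp := hconn.2 x y
  induction hp with
  | refl => exact hx
  | tail hab hbc ih =>
    rename_i b c
    obtain ⟨e, he | he⟩ := hbc
    · have h1 : (ends e).1 = b := congrArg Prod.fst he
      have h2 : (ends e).2 = c := congrArg Prod.snd he
      rw [← h2]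
      exact (hcl e).1 (by rw [h1]; exact ih)
    · have h1 : (ends e).1 = c := congrArg Prod.fst he
      have h2 : (ends e).2 = b := congrArg Prod.snd he
      rw [← h1]
      exact (hcl e).2 (by rw [h2]; exact ih)

lemma exists_sep {S : Finset V} (hne : S.Nonempty) (h : ¬ IConn ends S) :
    ∃ A : Finset V, A ⊆ S ∧ A.Nonempty ∧ A ≠ S ∧ ClosedIn ends S A := by
  unfold IConn at h
  push Not at h
  obtain ⟨A, h1, h2, h3, h4⟩ := h hne
  exact ⟨A, h1, h2, h4, h3⟩

lemma iconn_union (hconn : LabGraph.Connected ends) {S T₁ T₂ : Finset V} (hS : IConn ends S)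
    (hpart : ∀ v, v ∈ S ∨ v ∈ T₁ ∨ v ∈ T₂)
    (hST₁ : Disjoint S T₁) (hST₂ : Disjoint S T₂) (hT : Disjoint T₁ T₂)
    (hnadj : ∀ e, ¬ ((ends e).1 ∈ T₁ ∧ (ends e).2 ∈ T₂) ∧ ¬ ((ends e).1 ∈ T₂ ∧ (ends e).2 ∈ T₁)) :
    IConn ends (S ∪ T₂) := by
  have d1 : ∀ v, v ∈ S → v ∉ T₁ := fun v hv => Finset.disjoint_left.1 hST₁ hv
  have d2 : ∀ v, v ∈ S → v ∉ T₂ := fun v hv => Finset.disjoint_left.1 hST₂ hv
  have d3 : ∀ v, v ∈ T₁ → v ∉ T₂ := fun v hv => Finset.disjoint_left.1 hT hv
  obtain ⟨⟨s₀, hs₀⟩, hSA⟩ := hS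
  refine ⟨⟨s₀, Finset.mem_union_left _ hs₀⟩, fun A hA hAne hcl => ?_⟩
  by_cases hAS : (A ∩ S).Nonempty
  · have h1 : A ∩ S = S := by
      apply hSA _ Finset.inter_subset_right hAS
      intro e he1 he2
      have := hcl e (Finset.mem_union_left _ he1) (Finset.mem_union_left _ he2)
      simp only [Finset.mem_inter, he1, he2, and_true]
      exact this
    have hSsubA : ∀ v, v ∈ S → v ∈ A := fun v hv => by
      have : v ∈ A ∩ S := by rw [h1]; exact hv
      exact (Finset.mem_inter.1 this).1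
    have hB : A ∪ T₁ = Finset.univ := by
      apply closed_univ_of_connected ends hconn ⟨s₀, Finset.mem_union_left _ (hSsubA _ hs₀)⟩
      intro e
      have hu := hpart (ends e).1
      have hw := hpart (ends e).2
      simp only [Finset.mem_union]
      by_cases hu1 : (ends e).1 ∈ T₁
      · by_cases hw1 : (ends e).2 ∈ T₁
        · exact ⟨fun _ => Or.inr hw1, fun _ => Or.inr hu1⟩
        · rcases hw with hw | hw | hw
          · exact ⟨fun _ => Or.inl (hSsubA _ hw), fun _ => Or.inr hu1⟩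
          · exact absurd hw hw1
          · exact absurd ⟨hu1, hw⟩ (hnadj e).1
      · by_cases hw1 : (ends e).2 ∈ T₁
        · rcases hu with hu | hu | hu
          · exact ⟨fun _ => Or.inr hw1, fun _ => Or.inl (hSsubA _ hu)⟩
          · exact absurd hu hu1
          · exact absurd ⟨hu, hw1⟩ (hnadj e).2
        · have hu' : (ends e).1 ∈ S ∪ T₂ := by
            rcases hu with hu | hu | hu
            · exact Finset.mem_union_left _ hu
            · exact absurd hu hu1
            · exact Finset.mem_union_right _ hu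
          have hw' : (ends e).2 ∈ S ∪ T₂ := by
            rcases hw with hw | hw | hw
            · exact Finset.mem_union_left _ hw
            · exact absurd hw hw1
            · exact Finset.mem_union_right _ hw
          have := hcl e hu' hw'
          constructor
          · rintro (h | h)
            · exact Or.inl (this.1 h)
            · exact absurd h hu1
          · rintro (h | h)
            · exact Or.inl (this.2 h)
            · exact absurd h hw1
    apply Finset.Subset.antisymm hA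
    intro v hv
    have hvu : v ∈ A ∪ T₁ := by rw [hB]; exact Finset.mem_univ v
    rcases Finset.mem_union.1 hvu with h | h
    · exact h
    · exfalso
      rcases Finset.mem_union.1 hv with h' | h'
      · exact d1 v h' h
      · exact d3 v h h'
  · have hAS' : ∀ v, v ∈ A → v ∉ S := fun v hv hs => hAS ⟨v, Finset.mem_inter.2 ⟨hv, hs⟩⟩
    have hAT : ∀ v, v ∈ A → v ∈ T₂ := fun v hv => by
      rcases Finset.mem_union.1 (hA hv) with h | h
      · exact absurd h (hAS' v hv)
      · exact h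
    have hAu : A = Finset.univ := by
      apply closed_univ_of_connected ends hconn hAne
      intro e
      constructor
      · intro hu
        have hu2 := hAT _ hu
        have hw' : (ends e).2 ∈ S ∪ T₂ := by
          rcases hpart (ends e).2 with h | h | h
          · exact Finset.mem_union_left _ h
          · exact absurd ⟨hu2, h⟩ (hnadj e).2
          · exact Finset.mem_union_right _ h
        exact (hcl e (hA hu) hw').1 hu
      · intro hw
        have hw2 := hAT _ hw
        have hu' : (ends e).1 ∈ S ∪ T₂ := by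
          rcases hpart (ends e).1 with h | h | h
          · exact Finset.mem_union_left _ h
          · exact absurd ⟨h, hw2⟩ (hnadj e).1
          · exact Finset.mem_union_right _ h
        exact (hcl e hu' (hA hw)).2 hw
    exfalso
    have : s₀ ∈ A := by rw [hAu]; exact Finset.mem_univ s₀
    exact hAS' s₀ this hs₀

/-! ### the stability functional -/

/-- per-edge contribution -/
noncomputable def wE (N : Finset E) (S : Finset V) (e : E) : ℝ :=
  (if e ∈ N ∧ (ends e).1 ∈ S ∧ (ends e).2 ∈ S then 1 else 0) +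
  (if ((ends e).1 ∈ S ∧ (ends e).2 ∉ S) ∨ ((ends e).1 ∉ S ∧ (ends e).2 ∈ S) then 1 else 0) / 2

/-- `deg_S(m, N) - Σ_S φ + cut S / 2` -/
noncomputable def gfun (φ : V → ℝ) (m : V → ℤ) (N : Finset E) (S : Finset V) : ℝ :=
  (PhiStab.degOn ends m N S : ℝ) - ∑ v ∈ S, φ v + (LabGraph.cut ends S : ℝ) / 2

lemma card_inner_eq (N : Finset E) (S : Finset V) :
    ((N ∩ PhiStab.inner ends S).card : ℝ) =
      ∑ e, (if e ∈ N ∧ (ends e).1 ∈ S ∧ (ends e).2 ∈ S then (1:ℝ) else 0) := by
  have h1 : N ∩ PhiStab.inner ends S =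
      Finset.univ.filter (fun e => e ∈ N ∧ (ends e).1 ∈ S ∧ (ends e).2 ∈ S) := by
    ext e; simp [PhiStab.inner]
  rw [h1, Finset.card_filter, Nat.cast_sum]
  exact Finset.sum_congr rfl fun e _ => by split_ifs <;> simp

lemma cut_eq (S : Finset V) :
    (LabGraph.cut ends S : ℝ) =
      ∑ e, (if ((ends e).1 ∈ S ∧ (ends e).2 ∉ S) ∨ ((ends e).1 ∉ S ∧ (ends e).2 ∈ S)
        then (1:ℝ) else 0) := by
  unfold LabGraph.cut
  rw [Finset.card_filter, Nat.cast_sum]
  exact Finset.sum_congr rfl fun e _ => by split_ifs <;> simp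

lemma gfun_eq (φ : V → ℝ) (m : V → ℤ) (N : Finset E) (S : Finset V) :
    gfun ends φ m N S = ∑ v ∈ S, ((m v : ℝ) - φ v) + ∑ e, wE ends N S e := by
  unfold gfun PhiStab.degOn wE
  push_cast
  rw [card_inner_eq, cut_eq, Finset.sum_add_distrib, Finset.sum_sub_distrib, ← Finset.sum_div]
  ring

lemma wE_union {N : Finset E} {S₁ S₂ : Finset V} (hd : Disjoint S₁ S₂)
    (hn : ∀ e, ¬ ((ends e).1 ∈ S₁ ∧ (ends e).2 ∈ S₂) ∧ ¬ ((ends e).1 ∈ S₂ ∧ (ends e).2 ∈ S₁))
    (e : E) : wE ends N (S₁ ∪ S₂) e = wE ends N S₁ e + wE ends N S₂ e := by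
  have tri : ∀ v, (v ∈ S₁ ∧ v ∉ S₂) ∨ (v ∉ S₁ ∧ v ∈ S₂) ∨ (v ∉ S₁ ∧ v ∉ S₂) := by
    intro v
    by_cases h1 : v ∈ S₁
    · exact Or.inl ⟨h1, Finset.disjoint_left.1 hd h1⟩
    · by_cases h2 : v ∈ S₂
      · exact Or.inr (Or.inl ⟨h1, h2⟩)
      · exact Or.inr (Or.inr ⟨h1, h2⟩)
  unfold wE
  simp only [Finset.mem_union]
  rcases tri (ends e).1 with ⟨a1, a2⟩ | ⟨a1, a2⟩ | ⟨a1, a2⟩ <;>
  rcases tri (ends e).2 with ⟨b1, b2⟩ | ⟨b1, b2⟩ | ⟨b1, b2⟩ <;>
  by_cases hN : e ∈ N <;>
  first
  | (exfalso; exact (hn e).1 ⟨by assumption, by assumption⟩)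
  | (exfalso; exact (hn e).2 ⟨by assumption, by assumption⟩)
  | (simp [a1, a2, b1, b2, hN]; try norm_num)

lemma wE_compl {N : Finset E} {S T₁ T₂ : Finset V} (hpart : ∀ v, v ∈ S ∨ v ∈ T₁ ∨ v ∈ T₂)
    (hST₁ : Disjoint S T₁) (hST₂ : Disjoint S T₂) (hT : Disjoint T₁ T₂)
    (hn : ∀ e, ¬ ((ends e).1 ∈ T₁ ∧ (ends e).2 ∈ T₂) ∧ ¬ ((ends e).1 ∈ T₂ ∧ (ends e).2 ∈ T₁))
    (e : E) :
    wE ends N S e = wE ends N (S ∪ T₂) e + wE ends N (S ∪ T₁) e -
      (if e ∈ N then (1:ℝ) else 0) := by
  have tri : ∀ v, (v ∈ S ∧ v ∉ T₁ ∧ v ∉ T₂) ∨ (v ∉ S ∧ v ∈ T₁ ∧ v ∉ T₂) ∨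
      (v ∉ S ∧ v ∉ T₁ ∧ v ∈ T₂) := by
    intro v
    rcases hpart v with h | h | h
    · exact Or.inl ⟨h, Finset.disjoint_left.1 hST₁ h, Finset.disjoint_left.1 hST₂ h⟩
    · exact Or.inr (Or.inl ⟨fun h' => Finset.disjoint_left.1 hST₁ h' h, h,
        Finset.disjoint_left.1 hT h⟩)
    · exact Or.inr (Or.inr ⟨fun h' => Finset.disjoint_left.1 hST₂ h' h,
        fun h' => Finset.disjoint_left.1 hT h' h, h⟩)
  unfold wE
  simp only [Finset.mem_union]
  rcases tri (ends e).1 with ⟨a0, a1, a2⟩ | ⟨a0, a1, a2⟩ | ⟨a0, a1, a2⟩ <;>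
  rcases tri (ends e).2 with ⟨b0, b1, b2⟩ | ⟨b0, b1, b2⟩ | ⟨b0, b1, b2⟩ <;>
  by_cases hN : e ∈ N <;>
  first
  | (exfalso; exact (hn e).1 ⟨by assumption, by assumption⟩)
  | (exfalso; exact (hn e).2 ⟨by assumption, by assumption⟩)
  | (simp [a0, a1, a2, b0, b1, b2, hN]; try norm_num)

lemma gfun_union (φ : V → ℝ) (m : V → ℤ) (N : Finset E) {S₁ S₂ : Finset V}
    (hd : Disjoint S₁ S₂)
    (hn : ∀ e, ¬ ((ends e).1 ∈ S₁ ∧ (ends e).2 ∈ S₂) ∧ ¬ ((ends e).1 ∈ S₂ ∧ (ends e).2 ∈ S₁)) :
    gfun ends φ m N (S₁ ∪ S₂) = gfun ends φ m N S₁ + gfun ends φ m N S₂ := by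
  rw [gfun_eq, gfun_eq, gfun_eq, Finset.sum_union hd,
    Finset.sum_congr rfl (fun e _ => wE_union ends (N := N) hd hn e), Finset.sum_add_distrib]
  ring

lemma sum_mem_ind (N : Finset E) : ∑ e : E, (if e ∈ N then (1:ℝ) else 0) = (N.card : ℝ) := by
  rw [Finset.sum_boole, Finset.filter_mem_eq_inter, Finset.univ_inter]

lemma gfun_compl (φ : V → ℝ) (m : V → ℤ) (N : Finset E)
    (hdeg : (∑ v : V, φ v) = (PhiStab.totDeg m N : ℝ)) {S T₁ T₂ : Finset V}
    (hpart : ∀ v, v ∈ S ∨ v ∈ T₁ ∨ v ∈ T₂)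
    (hST₁ : Disjoint S T₁) (hST₂ : Disjoint S T₂) (hT : Disjoint T₁ T₂)
    (hn : ∀ e, ¬ ((ends e).1 ∈ T₁ ∧ (ends e).2 ∈ T₂) ∧ ¬ ((ends e).1 ∈ T₂ ∧ (ends e).2 ∈ T₁)) :
    gfun ends φ m N S = gfun ends φ m N (S ∪ T₂) + gfun ends φ m N (S ∪ T₁) := by
  have huniv : (Finset.univ : Finset V) = (S ∪ T₁) ∪ T₂ := by
    ext v
    simp only [Finset.mem_univ, Finset.mem_union, true_iff]
    rcases hpart v with h | h | h
    · exact Or.inl (Or.inl h)
    · exact Or.inl (Or.inr h)
    · exact Or.inr h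
  have hd' : Disjoint (S ∪ T₁) T₂ := Finset.disjoint_union_left.2 ⟨hST₂, hT⟩
  have hV : ∑ v, ((m v : ℝ) - φ v) = -(N.card : ℝ) := by
    rw [Finset.sum_sub_distrib, hdeg]
    unfold PhiStab.totDeg
    push_cast
    ring
  have hV2 : ∑ v, ((m v : ℝ) - φ v) = ∑ v ∈ S, ((m v : ℝ) - φ v) +
      ∑ v ∈ T₁, ((m v : ℝ) - φ v) + ∑ v ∈ T₂, ((m v : ℝ) - φ v) := by
    rw [huniv, Finset.sum_union hd', Finset.sum_union hST₁]
  have hE : ∑ e, wE ends N S e = ∑ e, wE ends N (S ∪ T₂) e + ∑ e, wE ends N (S ∪ T₁) e -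
      (N.card : ℝ) := by
    rw [Finset.sum_congr rfl (fun e _ => wE_compl ends (N := N) hpart hST₁ hST₂ hT hn e),
      Finset.sum_sub_distrib, Finset.sum_add_distrib, sum_mem_ind]
  rw [gfun_eq, gfun_eq, gfun_eq, Finset.sum_union hST₂, Finset.sum_union hST₁, hE]
  linarith [hV, hV2]

/-- reduction to elementary vertex sets -/
theorem all_of_elementary (hconn : LabGraph.Connected ends) (φ : V → ℝ) (m : V → ℤ)
    (N : Finset E) (hdeg : (∑ v : V, φ v) = (PhiStab.totDeg m N : ℝ)) (P : ℝ → Prop)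
    (hP : ∀ a b, P a → P b → P (a + b))
    (hel : ∀ S, PhiStab.IsElementary ends S → P (gfun ends φ m N S)) :
    ∀ S : Finset V, S.Nonempty → S ≠ Finset.univ → P (gfun ends φ m N S) := by
  have phase1 : ∀ k : ℕ, ∀ S : Finset V, Sᶜ.card = k → IConn ends S → S ≠ Finset.univ →
      P (gfun ends φ m N S) := by
    intro k
    induction k using Nat.strong_induction_on with
    | _ k ih =>
      intro S hk hS hne
      have hcne : Sᶜ.Nonempty := by
        rw [Finset.nonempty_iff_ne_empty]
        intro h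
        exact hne ((Finset.compl_eq_empty_iff _).1 h)
      by_cases hc : IConn ends Sᶜ
      · exact hel S ⟨connected_of_iconn ends hS, connected_of_iconn ends hc⟩
      · obtain ⟨T₁, hT₁S, hT₁ne, hT₁ne', hcl⟩ := exists_sep ends hcne hc
        obtain ⟨T₂, hT₂⟩ : ∃ T₂, T₂ = Sᶜ \ T₁ := ⟨_, rfl⟩
        have hm2 : ∀ v, v ∈ T₂ ↔ v ∉ S ∧ v ∉ T₁ := fun v => by
          rw [hT₂, Finset.mem_sdiff, Finset.mem_compl]
        have hm1 : ∀ v, v ∈ T₁ → v ∉ S := fun v hv => Finset.mem_compl.1 (hT₁S hv)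
        have hT₂ne : T₂.Nonempty := by
          by_contra h
          rw [Finset.not_nonempty_iff_eq_empty] at h
          apply hT₁ne'
          apply Finset.Subset.antisymm hT₁S
          intro v hv
          by_contra hv1
          have : v ∈ T₂ := (hm2 v).2 ⟨Finset.mem_compl.1 hv, hv1⟩
          rw [h] at this
          exact absurd this (Finset.notMem_empty v)
        have hpart : ∀ v, v ∈ S ∨ v ∈ T₁ ∨ v ∈ T₂ := by
          intro v
          by_cases h1 : v ∈ S
          · exact Or.inl h1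
          · by_cases h2 : v ∈ T₁
            · exact Or.inr (Or.inl h2)
            · exact Or.inr (Or.inr ((hm2 v).2 ⟨h1, h2⟩))
        have hpart' : ∀ v, v ∈ S ∨ v ∈ T₂ ∨ v ∈ T₁ := fun v => by
          rcases hpart v with h | h | h
          · exact Or.inl h
          · exact Or.inr (Or.inr h)
          · exact Or.inr (Or.inl h)
        have hdS1 : Disjoint S T₁ := Finset.disjoint_left.2 fun v hv hv1 => hm1 v hv1 hv
        have hdS2 : Disjoint S T₂ := Finset.disjoint_left.2 fun v hv hv2 => ((hm2 v).1 hv2).1 hv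
        have hd12 : Disjoint T₁ T₂ := Finset.disjoint_left.2 fun v hv1 hv2 => ((hm2 v).1 hv2).2 hv1
        have hn : ∀ e, ¬ ((ends e).1 ∈ T₁ ∧ (ends e).2 ∈ T₂) ∧
            ¬ ((ends e).1 ∈ T₂ ∧ (ends e).2 ∈ T₁) := by
          intro e
          constructor
          · rintro ⟨h1, h2⟩
            have h2' := (hm2 _).1 h2
            exact h2'.2 ((hcl e (hT₁S h1) (Finset.mem_compl.2 h2'.1)).1 h1)
          · rintro ⟨h1, h2⟩
            have h1' := (hm2 _).1 h1
            exact h1'.2 ((hcl e (Finset.mem_compl.2 h1'.1) (hT₁S h2)).2 h2)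
        have hn' : ∀ e, ¬ ((ends e).1 ∈ T₂ ∧ (ends e).2 ∈ T₁) ∧
            ¬ ((ends e).1 ∈ T₁ ∧ (ends e).2 ∈ T₂) := fun e => ⟨(hn e).2, (hn e).1⟩
        have hc2 : IConn ends (S ∪ T₂) := iconn_union ends hconn hS hpart hdS1 hdS2 hd12 hn
        have hc1 : IConn ends (S ∪ T₁) :=
          iconn_union ends hconn hS hpart' hdS2 hdS1 hd12.symm hn'
        have hcomp2 : (S ∪ T₂)ᶜ = T₁ := by
          ext v
          simp only [Finset.mem_compl, Finset.mem_union]
          constructor
          · intro h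
            rcases hpart v with h' | h' | h'
            · exact absurd (Or.inl h') h
            · exact h'
            · exact absurd (Or.inr h') h
          · intro h hh
            rcases hh with hh | hh
            · exact hm1 v h hh
            · exact ((hm2 v).1 hh).2 h
        have hcomp1 : (S ∪ T₁)ᶜ = T₂ := by
          ext v
          simp only [Finset.mem_compl, Finset.mem_union]
          constructor
          · intro h
            rcases hpart v with h' | h' | h'
            · exact absurd (Or.inl h') h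
            · exact absurd (Or.inr h') h
            · exact h'
          · intro h hh
            rcases hh with hh | hh
            · exact ((hm2 v).1 h).1 hh
            · exact ((hm2 v).1 h).2 hh
        have hcard1 : T₁.card < k := by
          rw [← hk]
          exact Finset.card_lt_card (Finset.ssubset_iff_subset_ne.2 ⟨hT₁S, hT₁ne'⟩)
        have hT₂S : T₂ ⊆ Sᶜ := fun v hv => Finset.mem_compl.2 ((hm2 v).1 hv).1
        have hT₂ne' : T₂ ≠ Sᶜ := by
          intro h
          obtain ⟨t, ht⟩ := hT₁ne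
          have : t ∈ T₂ := by rw [h]; exact hT₁S ht
          exact ((hm2 t).1 this).2 ht
        have hcard2 : T₂.card < k := by
          rw [← hk]
          exact Finset.card_lt_card (Finset.ssubset_iff_subset_ne.2 ⟨hT₂S, hT₂ne'⟩)
        have hne2 : S ∪ T₂ ≠ Finset.univ := by
          intro h
          rw [h, Finset.compl_univ] at hcomp2
          exact hT₁ne.ne_empty hcomp2.symm
        have hne1 : S ∪ T₁ ≠ Finset.univ := by
          intro h
          rw [h, Finset.compl_univ] at hcomp1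
          exact hT₂ne.ne_empty hcomp1.symm
        have g2 := ih T₁.card hcard1 (S ∪ T₂) (by rw [hcomp2]) hc2 hne2
        have g1 := ih T₂.card hcard2 (S ∪ T₁) (by rw [hcomp1]) hc1 hne1
        rw [gfun_compl ends φ m N hdeg hpart hdS1 hdS2 hd12 hn]
        exact hP _ _ g2 g1
  have phase2 : ∀ k : ℕ, ∀ S : Finset V, S.card = k → S.Nonempty → S ≠ Finset.univ →
      P (gfun ends φ m N S) := by
    intro k
    induction k using Nat.strong_induction_on with
    | _ k ih =>
      intro S hk hne hnu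
      by_cases hc : IConn ends S
      · exact phase1 _ S rfl hc hnu
      · obtain ⟨A, hAS, hAne, hAne', hcl⟩ := exists_sep ends hne hc
        obtain ⟨B, hB⟩ : ∃ B, B = S \ A := ⟨_, rfl⟩
        have hmB : ∀ v, v ∈ B ↔ v ∈ S ∧ v ∉ A := fun v => by rw [hB, Finset.mem_sdiff]
        have hBne : B.Nonempty := by
          by_contra h
          rw [Finset.not_nonempty_iff_eq_empty] at h
          apply hAne'
          apply Finset.Subset.antisymm hAS
          intro v hv
          by_contra hvA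
          have : v ∈ B := (hmB v).2 ⟨hv, hvA⟩
          rw [h] at this
          exact absurd this (Finset.notMem_empty v)
        have hd : Disjoint A B := Finset.disjoint_left.2 fun v h1 h2 => ((hmB v).1 h2).2 h1
        have hU : A ∪ B = S := by
          ext v
          simp only [Finset.mem_union, hmB]
          constructor
          · rintro (h | h)
            · exact hAS h
            · exact h.1
          · intro h
            by_cases hA : v ∈ A
            · exact Or.inl hA
            · exact Or.inr ⟨h, hA⟩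
        have hn : ∀ e, ¬ ((ends e).1 ∈ A ∧ (ends e).2 ∈ B) ∧
            ¬ ((ends e).1 ∈ B ∧ (ends e).2 ∈ A) := by
          intro e
          constructor
          · rintro ⟨h1, h2⟩
            have h2' := (hmB _).1 h2
            exact h2'.2 ((hcl e (hAS h1) h2'.1).1 h1)
          · rintro ⟨h1, h2⟩
            have h1' := (hmB _).1 h1
            exact h1'.2 ((hcl e h1'.1 (hAS h2)).2 h2)
        have hcA : A.card < k := by
          rw [← hk]
          exact Finset.card_lt_card (Finset.ssubset_iff_subset_ne.2 ⟨hAS, hAne'⟩)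
        have hBS : B ⊆ S := fun v hv => ((hmB v).1 hv).1
        have hBne' : B ≠ S := by
          intro h
          obtain ⟨a, ha⟩ := hAne
          have : a ∈ B := by rw [h]; exact hAS ha
          exact ((hmB a).1 this).2 ha
        have hcB : B.card < k := by
          rw [← hk]
          exact Finset.card_lt_card (Finset.ssubset_iff_subset_ne.2 ⟨hBS, hBne'⟩)
        have hAu : A ≠ Finset.univ := fun h =>
          hAne' (Finset.Subset.antisymm hAS (by rw [h]; exact Finset.subset_univ S))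
        have hBu : B ≠ Finset.univ := fun h =>
          hBne' (Finset.Subset.antisymm hBS (by rw [h]; exact Finset.subset_univ S))
        have gA := ih A.card hcA A rfl hAne hAu
        have gB := ih B.card hcB B rfl hBne hBu
        rw [← hU, gfun_union ends φ m N hd hn]
        exact hP _ _ gA gB
  exact fun S hne hnu => phase2 _ S rfl hne hnu

end Groth.Agent.Helper7.PhiS
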