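import Mathlib
import Groth.Agent.Lib.Helper7.PhiStab1

/-! Stability data on multigraphs: spanning trees, sides of tree edges, the stability functional
in tree coordinates (helper7). -/

set_option autoImplicit false
universe u

namespace Groth.Agent.Helper7.PhiS

open LabGraph PhiStab Groth.Agent.Helper7.LabG Groth.Agent.Helper7.MatTree

variable {V E : Type u} [Fintype V] [Fintype E] [DecidableEq V] [DecidableEq E]
variable (ends : E → V × V)

lemma sconn_erase_of_path' {T : Finset E} (e : E) (hS : SConn ends T)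
    (h12 : Relation.ReflTransGen (step ends (T.erase e)) (ends e).1 (ends e).2) :
    SConn ends (T.erase e) := by
  have h21 := rtg_symm ends _ h12
  intro x y
  have hxy := hS x y
  induction hxy with
  | refl => exact Relation.ReflTransGen.refl
  | tail _ hbc ih =>
    refine ih.trans ?_
    obtain ⟨e', he', h⟩ := hbc
    by_cases hee : e' = e
    · rw [hee] at h
      rcases h with h | h
      · simpa [h] using h12
      · simpa [h] using h21
    · exact Relation.ReflTransGen.single ⟨e', Finset.mem_erase.2 ⟨hee, he'⟩, h⟩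

open Classical in
/-- the side of the tree edge `f` containing its first endpoint -/
noncomputable def sideT (T : Finset E) (f : E) : Finset V :=
  Finset.univ.filter (fun v => Relation.ReflTransGen (step ends (T.erase f)) (ends f).1 v)

lemma mem_sideT {T : Finset E} {f : E} {v : V} :
    v ∈ sideT ends T f ↔ Relation.ReflTransGen (step ends (T.erase f)) (ends f).1 v := by
  classical
  simp only [sideT, Finset.mem_filter, Finset.mem_univ, true_and]

lemma side_fst (T : Finset E) (f : E) : (ends f).1 ∈ sideT ends T f :=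
  (mem_sideT ends).2 Relation.ReflTransGen.refl

lemma side_snd [Nonempty V] {T : Finset E} (hS : SConn ends T)
    (hcard : T.card + 1 = Fintype.card V) {f : E} (hf : f ∈ T) :
    (ends f).2 ∉ sideT ends T f := by
  intro hmem
  have h12 := (mem_sideT ends).1 hmem
  have h3 := card_ge_of_sconn ends (sconn_erase_of_path' ends f hS h12)
  have h4 := Finset.card_erase_lt_of_mem hf
  omega

lemma side_other {T : Finset E} {f f' : E} (hf' : f' ∈ T) (hne : f' ≠ f) :
    (ends f').1 ∈ sideT ends T f ↔ (ends f').2 ∈ sideT ends T f := by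
  rw [mem_sideT, mem_sideT]
  have hmem : f' ∈ T.erase f := Finset.mem_erase.2 ⟨hne, hf'⟩
  constructor
  · intro h; exact h.tail ⟨f', hmem, Or.inl rfl⟩
  · intro h; exact h.tail ⟨f', hmem, Or.inr rfl⟩

lemma sum_bvec_on (R : Type*) [Ring R] (S : Finset V) (f : E) :
    ∑ v ∈ S, bvec ends R f v =
      (if (ends f).2 ∈ S then 1 else 0) - (if (ends f).1 ∈ S then 1 else 0) := by
  simp only [bvec_apply, Finset.sum_sub_distrib, Finset.sum_ite_eq']

lemma sum_comb_on {R : Type*} [CommRing R] (cf : E → R) (S : Finset V) :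
    ∑ v ∈ S, (∑ f, cf f • bvec ends R f) v =
      ∑ f, cf f * ((if (ends f).2 ∈ S then 1 else 0) - (if (ends f).1 ∈ S then 1 else 0)) := by
  simp only [Finset.sum_apply, Pi.smul_apply, smul_eq_mul]
  rw [Finset.sum_comm]
  refine Finset.sum_congr rfl fun f _ => ?_
  rw [← Finset.mul_sum, sum_bvec_on]

lemma sum_comb_side [Nonempty V] {R : Type*} [CommRing R] {T : Finset E} (hS : SConn ends T)
    (hcard : T.card + 1 = Fintype.card V) (cf : E → R) (hcf : ∀ e, e ∉ T → cf e = 0) {f : E}
    (hf : f ∈ T) :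
    ∑ v ∈ sideT ends T f, (∑ e, cf e • bvec ends R e) v = - cf f := by
  rw [sum_comb_on, Finset.sum_eq_single f]
  · rw [if_neg (side_snd ends hS hcard hf), if_pos (side_fst ends T f)]; ring
  · intro e _ hef
    by_cases heT : e ∈ T
    · by_cases hm : (ends e).1 ∈ sideT ends T f
      · rw [if_pos hm, if_pos ((side_other ends heT hef).1 hm)]; ring
      · rw [if_neg hm, if_neg (fun h => hm ((side_other ends heT hef).2 h))]; ring
    · rw [hcf e heT]; ring
  · intro h; exact absurd (Finset.mem_univ _) h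

lemma eq_zero_of_side_sums [Nonempty V] {T : Finset E} (hS : SConn ends T)
    (hcard : T.card + 1 = Fintype.card V) (y : V → ℝ) (h0 : ∑ v, y v = 0)
    (hside : ∀ f ∈ T, ∑ v ∈ sideT ends T f, y v = 0) : y = 0 := by
  obtain ⟨cf, hcf, hy⟩ := coeff_of_sum_zero ends ℝ hS y h0
  have hz : ∀ e, cf e = 0 := by
    intro e
    by_cases he : e ∈ T
    · have h1 := hside e he
      rw [hy, sum_comb_side ends hS hcard cf hcf he] at h1
      linarith
    · exact hcf e he
  rw [hy]
  simp [hz]

/-! ### tree coordinates for the stability functional -/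

noncomputable def psi (N : Finset E) (φ : V → ℝ) (v : V) : ℝ :=
  φ v - (1/2) * ∑ e, (if e ∈ N then
    ((if (ends e).1 = v then (1:ℝ) else 0) + (if (ends e).2 = v then 1 else 0)) else 0)

noncomputable def xi (S : Finset V) (e : E) : ℝ :=
  if ((ends e).1 ∈ S ∧ (ends e).2 ∉ S) ∨ ((ends e).1 ∉ S ∧ (ends e).2 ∈ S) then 1 else 0

noncomputable def ct (N : Finset E) (S : Finset V) : ℝ :=
  ∑ e, (if e ∈ N then 0 else xi ends S e)

lemma sum_psi_on (N : Finset E) (φ : V → ℝ) (S : Finset V) :
    ∑ v ∈ S, psi ends N φ v = ∑ v ∈ S, φ v - (1/2) * ∑ e, (if e ∈ N then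
      ((if (ends e).1 ∈ S then (1:ℝ) else 0) + (if (ends e).2 ∈ S then 1 else 0)) else 0) := by
  unfold psi
  rw [Finset.sum_sub_distrib, ← Finset.mul_sum, Finset.sum_comm]
  congr 2
  refine Finset.sum_congr rfl fun e _ => ?_
  by_cases hN : e ∈ N
  · simp only [if_pos hN]
    rw [Finset.sum_add_distrib, Finset.sum_ite_eq, Finset.sum_ite_eq]
  · simp only [if_neg hN]
    simp

lemma gfun_eq' (φ : V → ℝ) (m : V → ℤ) (N : Finset E) (S : Finset V) :
    gfun ends φ m N S = ∑ v ∈ S, ((m v : ℝ) - psi ends N φ v) + (1/2) * ct ends N S := by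
  have key : ∀ e, wE ends N S e = (1/2) * (if e ∈ N then
      ((if (ends e).1 ∈ S then (1:ℝ) else 0) + (if (ends e).2 ∈ S then 1 else 0)) else 0) +
      (1/2) * (if e ∈ N then 0 else xi ends S e) := by
    intro e
    unfold wE xi
    by_cases hN : e ∈ N <;> by_cases a : (ends e).1 ∈ S <;> by_cases b : (ends e).2 ∈ S <;>
      simp [hN, a, b] <;> norm_num
  rw [gfun_eq, Finset.sum_sub_distrib, Finset.sum_sub_distrib, sum_psi_on]
  unfold ct
  rw [Finset.sum_congr rfl (fun e _ => key e), Finset.sum_add_distrib, ← Finset.mul_sum,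
    ← Finset.mul_sum]
  ring

lemma sum_x_zero (φ : V → ℝ) (m : V → ℤ) (N : Finset E)
    (hdeg : ∑ v, φ v = (PhiStab.totDeg m N : ℝ)) :
    ∑ v, ((m v : ℝ) - psi ends N φ v) = 0 := by
  rw [Finset.sum_sub_distrib, sum_psi_on, hdeg]
  simp only [Finset.mem_univ, if_true]
  have h2 : ∑ e : E, (if e ∈ N then ((1:ℝ) + 1) else 0) = 2 * (N.card : ℝ) := by
    rw [← sum_mem_ind N, Finset.mul_sum]
    exact Finset.sum_congr rfl fun e _ => by split_ifs <;> norm_num
  rw [h2]
  unfold PhiStab.totDeg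
  push_cast
  ring

lemma semistable_of_coeff {T : Finset E} (φ : V → ℝ) (m : V → ℤ) (cf : E → ℝ)
    (hcf0 : ∀ e, e ∉ T → cf e = 0) (hcf : ∀ e, |cf e| ≤ 1/2)
    (hx : (fun v => (m v : ℝ) - psi ends Tᶜ φ v) = ∑ e, cf e • bvec ends ℝ e) :
    ∀ S : Finset V, 0 ≤ gfun ends φ m Tᶜ S := by
  intro S
  rw [gfun_eq']
  have h1 : ∑ v ∈ S, ((m v : ℝ) - psi ends Tᶜ φ v) =
      ∑ f, cf f * ((if (ends f).2 ∈ S then 1 else 0) - (if (ends f).1 ∈ S then 1 else 0)) := by
    have h2 := sum_comb_on ends cf S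
    rw [← hx] at h2
    exact h2
  rw [h1]
  unfold ct
  rw [Finset.mul_sum, ← Finset.sum_add_distrib]
  apply Finset.sum_nonneg
  intro e _
  have hb := abs_le.1 (hcf e)
  unfold xi
  by_cases hT : e ∈ T
  · have hN : e ∉ Tᶜ := by simp [hT]
    rw [if_neg hN]
    by_cases a : (ends e).1 ∈ S <;> by_cases b : (ends e).2 ∈ S <;> simp [a, b] <;>
      linarith [hb.1, hb.2]
  · rw [hcf0 e hT]
    have hN : e ∈ Tᶜ := by simp [hT]
    rw [if_pos hN]
    simp

lemma ct_side [Nonempty V] {T : Finset E} (hS : SConn ends T)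
    (hcard : T.card + 1 = Fintype.card V) {f : E} (hf : f ∈ T) :
    ct ends Tᶜ (sideT ends T f) = 1 := by
  unfold ct
  rw [Finset.sum_eq_single f]
  · have hN : f ∉ Tᶜ := by simp [hf]
    rw [if_neg hN]
    unfold xi
    rw [if_pos (Or.inl ⟨side_fst ends T f, side_snd ends hS hcard hf⟩)]
  · intro e _ hef
    by_cases heT : e ∈ T
    · have hN : e ∉ Tᶜ := by simp [heT]
      rw [if_neg hN]
      unfold xi
      rw [if_neg]
      rintro (⟨h1, h2⟩ | ⟨h1, h2⟩)
      · exact h2 ((side_other ends heT hef).1 h1)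
      · exact h1 ((side_other ends heT hef).2 h2)
    · have hN : e ∈ Tᶜ := by simp [heT]
      rw [if_pos hN]
  · intro h; exact absurd (Finset.mem_univ _) h

lemma ct_compl (N : Finset E) (S : Finset V) : ct ends N Sᶜ = ct ends N S := by
  unfold ct xi
  refine Finset.sum_congr rfl fun e _ => ?_
  by_cases hN : e ∈ N
  · simp [hN]
  · simp only [if_neg hN, Finset.mem_compl, not_not]
    by_cases a : (ends e).1 ∈ S <;> by_cases b : (ends e).2 ∈ S <;> simp [a, b]

/-- stability forces the side sums of `m - ψ` into `(-1/2, 1/2)` -/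
lemma side_bound_of_stable [Nonempty V] {T : Finset E} (hS : SConn ends T)
    (hcard : T.card + 1 = Fintype.card V) (φ : V → ℝ) (m : V → ℤ)
    (hdeg : ∑ v, φ v = (PhiStab.totDeg m Tᶜ : ℝ))
    (hst : ∀ S : Finset V, S.Nonempty → S ≠ Finset.univ → 0 < gfun ends φ m Tᶜ S)
    {f : E} (hf : f ∈ T) :
    |∑ v ∈ sideT ends T f, ((m v : ℝ) - psi ends Tᶜ φ v)| < 1/2 := by
  have h1 := side_fst ends T f
  have h2 := side_snd ends hS hcard hf
  have hne : (sideT ends T f).Nonempty := ⟨_, h1⟩
  have hnu : sideT ends T f ≠ Finset.univ := fun h => h2 (by rw [h]; exact Finset.mem_univ _)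
  have hne' : (sideT ends T f)ᶜ.Nonempty := ⟨_, Finset.mem_compl.2 h2⟩
  have hnu' : (sideT ends T f)ᶜ ≠ Finset.univ := fun h => by
    have : (ends f).1 ∈ (sideT ends T f)ᶜ := by rw [h]; exact Finset.mem_univ _
    exact Finset.mem_compl.1 this h1
  have g1 := hst _ hne hnu
  have g2 := hst _ hne' hnu'
  rw [gfun_eq', ct_side ends hS hcard hf] at g1
  rw [gfun_eq', ct_compl, ct_side ends hS hcard hf] at g2
  have h0 := sum_x_zero ends φ m Tᶜ hdeg
  have h3 : ∑ v ∈ (sideT ends T f)ᶜ, ((m v : ℝ) - psi ends Tᶜ φ v) =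
      - ∑ v ∈ sideT ends T f, ((m v : ℝ) - psi ends Tᶜ φ v) := by
    have := Finset.sum_add_sum_compl (sideT ends T f) (fun v => (m v : ℝ) - psi ends Tᶜ φ v)
    linarith
  rw [h3] at g2
  rw [abs_lt]
  constructor <;> linarith

end Groth.Agent.Helper7.PhiS
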