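import Mathlib
import Groth.Agent.Lib.Helper7.PhiStab2

/-! Stability data on multigraphs: spanning trees adapted to an elementary vertex set (helper7). -/

set_option autoImplicit false
universe u

namespace Groth.Agent.Helper7.PhiS

open LabGraph PhiStab Groth.Agent.Helper7.LabG Groth.Agent.Helper7.MatTree

variable {V E : Type u} [Fintype V] [Fintype E] [DecidableEq V] [DecidableEq E]
variable (ends : E → V × V)

lemma reach_of_iconn {S : Finset V} (hS : IConn ends S) {T' : Finset E}
    (hi : PhiStab.inner ends S ⊆ T') {x y : V} (hx : x ∈ S) (hy : y ∈ S) :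
    Relation.ReflTransGen (step ends T') x y := by
  classical
  let A : Finset V := S.filter (fun v => Relation.ReflTransGen (step ends T') x v)
  have hAS : A ⊆ S := Finset.filter_subset _ _
  have hxA : x ∈ A := Finset.mem_filter.2 ⟨hx, Relation.ReflTransGen.refl⟩
  have hcl : ClosedIn ends S A := by
    intro e h1 h2
    have hm : e ∈ T' := hi ((mem_inner ends).2 ⟨h1, h2⟩)
    constructor
    · intro h
      exact Finset.mem_filter.2 ⟨h2, (Finset.mem_filter.1 h).2.tail ⟨e, hm, Or.inl rfl⟩⟩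
    · intro h
      exact Finset.mem_filter.2 ⟨h1, (Finset.mem_filter.1 h).2.tail ⟨e, hm, Or.inr rfl⟩⟩
  have hA := hS.2 A hAS ⟨x, hxA⟩ hcl
  have hyA : y ∈ A := by rw [hA]; exact hy
  exact (Finset.mem_filter.1 hyA).2

lemma sconn_two {S₁ S₂ : Finset V} (hcov : ∀ v, v ∈ S₁ ∨ v ∈ S₂) (h1 : IConn ends S₁)
    (h2 : IConn ends S₂) {T' : Finset E} (hi1 : PhiStab.inner ends S₁ ⊆ T')
    (hi2 : PhiStab.inner ends S₂ ⊆ T') {e₀ : E} (he₀ : e₀ ∈ T') (ha : (ends e₀).1 ∈ S₁)
    (hc : (ends e₀).2 ∈ S₂) : SConn ends T' := by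
  have hr : ∀ v, Relation.ReflTransGen (step ends T') (ends e₀).1 v := by
    intro v
    rcases hcov v with hv | hv
    · exact reach_of_iconn ends h1 hi1 ha hv
    · exact (Relation.ReflTransGen.single ⟨e₀, he₀, Or.inl rfl⟩).trans
        (reach_of_iconn ends h2 hi2 hc hv)
  exact fun x y => (rtg_symm ends _ (hr x)).trans (hr y)

lemma exists_tree_sub [Nonempty V] : ∀ (n : ℕ) (T₀ : Finset E), T₀.card = n → SConn ends T₀ →
    ∃ T, T ⊆ T₀ ∧ SConn ends T ∧ T.card + 1 = Fintype.card V := by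
  intro n
  induction n using Nat.strong_induction_on with
  | _ n ih =>
    intro T₀ hn h
    by_cases hF : ∀ C : Finset E, C ⊆ T₀ → ¬ IsCircuit ends C
    · exact ⟨T₀, Finset.Subset.refl _, h,
        le_antisymm (card_le_of_forest ends hF) (card_ge_of_sconn ends h)⟩
    · push Not at hF
      obtain ⟨C, hCT, hC⟩ := hF
      obtain ⟨e₁, he₁⟩ := hC.1
      have h1 := erase_conn ends hCT hC.2.1 he₁ h
      have h2 : (T₀.erase e₁).card < n := by
        rw [← hn]; exact Finset.card_erase_lt_of_mem (hCT he₁)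
      obtain ⟨T, hT1, hT2, hT3⟩ := ih _ h2 _ rfl h1
      exact ⟨T, hT1.trans (Finset.erase_subset _ _), hT2, hT3⟩

lemma ct_le_one {T : Finset E} {S : Finset V} {e₀ : E}
    (hT : T ⊆ PhiStab.inner ends S ∪ PhiStab.inner ends Sᶜ ∪ {e₀}) :
    ct ends Tᶜ S ≤ 1 := by
  unfold ct
  rw [Finset.sum_eq_single e₀]
  · unfold xi
    split_ifs <;> norm_num
  · intro e _ hne
    by_cases heT : e ∈ T
    · have hN : e ∉ Tᶜ := by simp [heT]
      rw [if_neg hN]
      unfold xi
      rw [if_neg]
      have hm := hT heT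
      simp only [Finset.mem_union, Finset.mem_singleton, mem_inner ends, Finset.mem_compl] at hm
      rcases hm with (⟨h1, h2⟩ | ⟨h1, h2⟩) | h
      · rintro (⟨_, h⟩ | ⟨h, _⟩)
        · exact h h2
        · exact h h1
      · rintro (⟨h, _⟩ | ⟨_, h⟩)
        · exact h1 h
        · exact h2 h
      · exact absurd h hne
    · have hN : e ∈ Tᶜ := by simp [heT]
      rw [if_pos hN]
  · intro h; exact absurd (Finset.mem_univ _) h

end Groth.Agent.Helper7.PhiS
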