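import Mathlib

/-!
# Localizations of a product of domains at a prime
-/

set_option autoImplicit false
set_option linter.unusedSectionVars false
universe u

namespace Groth.Agent.Helper7

variable {ι : Type u} (R : ι → Type u) [∀ i, CommRing (R i)] [∀ i, IsDomain (R i)]
  (P : Ideal (∀ i, R i)) [P.IsPrime]

open Classical in
/-- indicator idempotent of a predicate -/
noncomputable def ind (E : ι → Prop) : ∀ i, R i := fun i => if E i then 1 else 0

theorem ind_add_ind_not (E : ι → Prop) : ind R E + ind R (fun i => ¬ E i) = 1 := by
  classical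
  funext i
  by_cases h : E i <;> simp [ind, h]

theorem ind_not_mem_or {P : Ideal (∀ i, R i)} [P.IsPrime] (E : ι → Prop) :
    ind R E ∉ P ∨ ind R (fun i => ¬ E i) ∉ P := by
  by_contra hcon
  push Not at hcon
  have h1 : (1 : ∀ i, R i) ∈ P := by
    rw [← ind_add_ind_not R E]
    exact P.add_mem hcon.1 hcon.2
  exact (Ideal.IsPrime.ne_top inferInstance) ((Ideal.eq_top_iff_one P).2 h1)

theorem isDomain_localization_pi : IsDomain (Localization.AtPrime P) := by
  classical
  have hnz : NoZeroDivisors (Localization.AtPrime P) := by
    refine ⟨fun {x y} hxy => ?_⟩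
    obtain ⟨⟨a, s⟩, rfl⟩ := IsLocalization.mk'_surjective P.primeCompl x
    obtain ⟨⟨b, t⟩, rfl⟩ := IsLocalization.mk'_surjective P.primeCompl y
    rw [← IsLocalization.mk'_mul, IsLocalization.mk'_eq_zero_iff] at hxy
    obtain ⟨u, hu⟩ := hxy
    rcases ind_not_mem_or R (P := P) (fun i => a i = 0) with he | he
    · left
      rw [IsLocalization.mk'_eq_zero_iff]
      refine ⟨⟨ind R (fun i => a i = 0), he⟩, ?_⟩
      funext i
      by_cases h : a i = 0 <;> simp [ind, h]
    · right
      rw [IsLocalization.mk'_eq_zero_iff]
      refine ⟨⟨ind R (fun i => ¬ a i = 0), he⟩ * u, ?_⟩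
      funext i
      have hui := congrFun hu i
      simp only [Pi.mul_apply, Pi.zero_apply] at hui
      by_cases h : a i = 0
      · simp [ind, h]
      · have : (u : ∀ i, R i) i * b i = 0 := by
          rcases mul_eq_zero.1 hui with h1 | h1
          · simp [h1]
          · rcases mul_eq_zero.1 h1 with h2 | h2
            · exact absurd h2 h
            · simp [h2]
        simp [ind, h, this]
  exact NoZeroDivisors.to_isDomain _

end Groth.Agent.Helper7
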