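import Mathlib

set_option autoImplicit false
universe u

namespace Groth.Agent.Helper7.PC

open ProfiniteGrp ProfiniteGrp.ProfiniteCompletion CategoryTheory

theorem lift_etaFn {G : GrpCat.{u}} {P : ProfiniteGrp.{u}} (f : G ⟶ GrpCat.of P) (a : G) :
    (lift f).hom (etaFn G a) = f.hom a := by
  have := ConcreteCategory.congr_hom (lift_eta f) a
  exact this

theorem map_etaFn {G H : GrpCat.{u}} (f : G ⟶ H) (a : G) :
    (profiniteCompletion.map f).hom (etaFn G a) = etaFn H (f.hom a) := by
  exact lift_etaFn (f ≫ eta H) a

/-- Two continuous maps from the completion into a T2 space that agree on the image of `G`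
are equal. -/
theorem eq_of_eq_on_etaFn {G : GrpCat.{u}} {X : Type*} [TopologicalSpace X] [T2Space X]
    (φ ψ : completion G → X) (hφ : Continuous φ) (hψ : Continuous ψ)
    (h : ∀ a : G, φ (etaFn G a) = ψ (etaFn G a)) : φ = ψ :=
  (denseRange G).equalizer hφ hψ (funext h)

end Groth.Agent.Helper7.PC
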