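import Mathlib
import Groth.Agent.S13363

set_option autoImplicit false
universe u

namespace Groth.Agent.Helper7.PC

/-- A non-`n`-th power in an abelian group is avoided by a finite index subgroup. -/
theorem exists_finiteIndex_not_mem_mul {B : Type u} [CommGroup B] (φ : B) (n : ℕ) (hn : 0 < n)
    (h : ¬ ∃ b : B, b ^ n = φ) : ∃ H : Subgroup B, H.FiniteIndex ∧ φ ∉ H := by
  let _ : TopologicalSpace (Additive B) := ⊥
  have : DiscreteTopology (Additive B) := ⟨rfl⟩
  have key := (Groth.Agent.S13363.result (A := Additive B)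
    (fun _ _ => isOpen_discrete _) (Additive.ofMul φ)).2 (by
      intro hdiv
      obtain ⟨b, hb⟩ := hdiv n hn
      exact h ⟨Additive.toMul b, by
        have := congrArg Additive.toMul hb
        simpa using this⟩)
  obtain ⟨Hadd, -, hfin, hφ⟩ := key
  refine ⟨Subgroup.toAddSubgroup.symm Hadd, ?_, ?_⟩
  · have e : (B ⧸ (Subgroup.toAddSubgroup.symm Hadd)) ≃ (Additive B ⧸ Hadd) :=
      Quotient.congr Additive.ofMul (fun a b => by
        rw [QuotientGroup.leftRel_apply, QuotientAddGroup.leftRel_apply]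
        rfl)
    have hfinq : Finite (Additive B ⧸ Hadd) := AddSubgroup.finite_quotient_of_finiteIndex
    have : Finite (B ⧸ (Subgroup.toAddSubgroup.symm Hadd)) := Finite.of_equiv _ e.symm
    exact Subgroup.finiteIndex_of_finite_quotient
  · exact hφ

/-- Key group-theoretic input for injectivity of profinite completions. -/
theorem exists_finiteIndex_inf_le {A : Type u} [CommGroup A] (A' : Subgroup A)
    (htors : ∃ N : ℕ, 0 < N ∧ ∀ x : A ⧸ A', IsOfFinOrder x → x ^ N = 1)
    (H' : Subgroup A') [H'.FiniteIndex] :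
    ∃ H : Subgroup A, H.FiniteIndex ∧ ∀ a : A', (a : A) ∈ H → a ∈ H' := by
  classical
  obtain ⟨N, hNpos, hN⟩ := htors
  set Ht : Subgroup A := H'.map A'.subtype with hHt
  have hHtle : Ht ≤ A' := by
    rintro _ ⟨a, -, rfl⟩
    exact a.2
  -- B = A / Ht, F = image of A' in B
  let π : A →* A ⧸ Ht := QuotientGroup.mk' Ht
  let ρ : (A ⧸ Ht) →* (A ⧸ A') := QuotientGroup.map Ht A' (MonoidHom.id A) hHtle
  have hρπ : ∀ a, ρ (π a) = QuotientGroup.mk a := fun a => rfl
  -- the image of A' in B is finite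
  let ψ : A' →* A ⧸ Ht := π.comp A'.subtype
  have hψker : ψ.ker = H' := by
    ext a
    rw [MonoidHom.mem_ker]
    change (QuotientGroup.mk (a : A) : A ⧸ Ht) = 1 ↔ _
    rw [QuotientGroup.eq_one_iff, hHt, Subgroup.mem_map]
    constructor
    · rintro ⟨b, hb, hba⟩
      have : b = a := Subtype.ext hba
      rwa [← this]
    · intro ha
      exact ⟨a, ha, rfl⟩
  have hFfin : Finite ψ.range := by
    have e := QuotientGroup.quotientKerEquivRange ψ
    have : Finite (A' ⧸ ψ.ker) := by
      rw [hψker]; exact Subgroup.finite_quotient_of_finiteIndex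
    exact Finite.of_equiv _ e.toEquiv
  set e := Nat.card ψ.range with he
  have hepos : 0 < e := Nat.card_pos
  have hpow : ∀ x ∈ ψ.range, x ^ e = 1 := by
    intro x hx
    have := pow_card_eq_one' (G := ψ.range) (x := ⟨x, hx⟩)
    exact congrArg Subtype.val this
  have hkerρ : ∀ b : A ⧸ Ht, ρ b = 1 → b ∈ ψ.range := by
    intro b hb
    obtain ⟨a, rfl⟩ := QuotientGroup.mk_surjective b
    have : (QuotientGroup.mk a : A ⧸ A') = 1 := hb
    rw [QuotientGroup.eq_one_iff] at this
    exact ⟨⟨a, this⟩, rfl⟩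
  -- each nontrivial element of F is avoided by a finite index subgroup
  have hsep : ∀ φ ∈ ψ.range, φ ≠ 1 → ∃ L : Subgroup (A ⧸ Ht), L.FiniteIndex ∧ φ ∉ L := by
    intro φ hφ hφ1
    apply exists_finiteIndex_not_mem_mul φ (N * e) (Nat.mul_pos hNpos hepos)
    rintro ⟨b, hb⟩
    apply hφ1
    have h1 : ρ φ = 1 := by
      obtain ⟨a, rfl⟩ := hφ
      change (QuotientGroup.mk (a : A) : A ⧸ A') = 1
      rw [QuotientGroup.eq_one_iff]
      exact a.2
    have h2 : IsOfFinOrder (ρ b) := by
      rw [isOfFinOrder_iff_pow_eq_one]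
      refine ⟨N * e, Nat.mul_pos hNpos hepos, ?_⟩
      rw [← map_pow, hb, h1]
    have h3 : ρ (b ^ N) = 1 := by
      rw [map_pow]; exact hN _ h2
    have h4 := hpow _ (hkerρ _ h3)
    rw [← hb, pow_mul]
    exact h4
  choose! L hLfin hLnot using hsep
  -- intersect
  let Lall : Subgroup (A ⧸ Ht) := ⨅ φ : ψ.range, if (φ : A ⧸ Ht) = 1 then ⊤ else L φ
  have hLall : Lall.FiniteIndex := by
    apply Subgroup.finiteIndex_iInf
    intro φ
    split_ifs with h
    · infer_instance
    · exact hLfin φ φ.2 h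
  refine ⟨Lall.comap π, ?_, ?_⟩
  · refine ⟨?_⟩
    rw [Subgroup.index_comap_of_surjective Lall (QuotientGroup.mk'_surjective Ht)]
    exact hLall.index_ne_zero
  · intro a ha
    rw [← hψker, MonoidHom.mem_ker]
    by_contra hne
    have hmem : ψ a ∈ Lall := ha
    have h1 := (Subgroup.mem_iInf.1 hmem) ⟨ψ a, ⟨a, rfl⟩⟩
    simp only [hne, if_false] at h1
    exact hLnot (ψ a) ⟨a, rfl⟩ hne h1

end Groth.Agent.Helper7.PC
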