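import Mathlib
import Groth.Prelude.Def_Found

/-!
# Quasi-finite extensions of N-2 Noetherian domains are N-2 (for S2114)
-/

open Polynomial

namespace Groth.Agent.Helper7.QFiniteN2

universe u

theorem exists_pow_mul_isIntegral {R S L : Type*} [CommRing R] [CommRing S] [Field L]
    [Algebra R S] [Algebra S L] [Algebra R L] [IsScalarTower R S L] (r : S) (hr : IsIntegral R r)
    (hm : ∀ c : S, ∃ m : ℕ, IsIntegral R (r ^ m * c)) (x : L) (hx : IsIntegral S x) :
    ∃ N : ℕ, IsIntegral R (algebraMap S L (r ^ N) * x) := by
  obtain ⟨P, hPm, hPx⟩ := hx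
  choose m hm using hm
  obtain ⟨N, hN⟩ : ∃ N : ℕ, ∀ i ∈ Finset.range (P.natDegree + 1), m (P.coeff i) ≤ N :=
    ⟨(Finset.range (P.natDegree + 1)).sup (fun i => m (P.coeff i)),
      fun i hi => Finset.le_sup (f := fun i => m (P.coeff i)) hi⟩
  have hc : ∀ i, IsIntegral R (r ^ N * P.coeff i) := by
    intro i
    by_cases hi : i ∈ Finset.range (P.natDegree + 1)
    · have h1 := hN i hi
      have h2 : r ^ N * P.coeff i =
          r ^ (N - m (P.coeff i)) * (r ^ m (P.coeff i) * P.coeff i) := by
        rw [← mul_assoc, ← pow_add, Nat.sub_add_cancel h1]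
      rw [h2]
      exact (hr.pow _).mul (hm _)
    · have h0 : P.coeff i = 0 := by
        apply Polynomial.coeff_eq_zero_of_natDegree_lt
        rw [Finset.mem_range] at hi
        omega
      rw [h0, mul_zero]; exact isIntegral_zero
  refine ⟨N, ?_⟩
  have hd : P.natDegree ≠ 0 := by
    intro hd
    have h1 : P = 1 := hPm.natDegree_eq_zero.mp hd
    rw [h1, Polynomial.eval₂_one] at hPx
    exact one_ne_zero hPx
  have hroot := Polynomial.scaleRoots_eval₂_eq_zero (algebraMap S L) (s := r ^ N) hPx
  have hQm : (Polynomial.scaleRoots P (r ^ N)).Monic := (Polynomial.monic_scaleRoots_iff _).mpr hPm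
  refine IsIntegral.of_aeval_monic_of_isIntegral_coeff
    (p := (Polynomial.scaleRoots P (r ^ N)).map (algebraMap S L)) (hQm.map _) ?_ ?_ ?_
  · rw [hQm.natDegree_map, Polynomial.natDegree_scaleRoots]; exact hd
  · rw [Polynomial.eval_map, hroot]; exact isIntegral_zero
  · intro i
    rw [Polynomial.coeff_map]
    apply IsIntegral.algebraMap
    rw [Polynomial.coeff_scaleRoots]
    by_cases hi : i < P.natDegree
    · have e1 : P.coeff i * (r ^ N) ^ (P.natDegree - i) =
          (r ^ N * P.coeff i) * (r ^ N) ^ (P.natDegree - i - 1) := by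
        obtain ⟨k, hk⟩ : ∃ k, P.natDegree - i = k + 1 := ⟨P.natDegree - i - 1, by omega⟩
        rw [hk, Nat.add_sub_cancel, pow_succ]; ring
      rw [e1]
      exact (hc i).mul ((hr.pow N).pow _)
    · have e2 : P.natDegree - i = 0 := by omega
      rw [e2, pow_zero, mul_one]
      rcases Nat.lt_or_eq_of_le (not_lt.mp hi) with h | h
      · rw [Polynomial.coeff_eq_zero_of_natDegree_lt h]; exact isIntegral_zero
      · rw [← h, Polynomial.coeff_natDegree, hPm.leadingCoeff]; exact isIntegral_one

theorem finite_fraction {R S : Type*} [CommRing R] [IsDomain R] [CommRing S] [IsDomain S]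
    [Algebra R S] [Algebra.FiniteType R S] [Algebra.QuasiFinite R S]
    (K F : Type*) [Field K] [Field F] [Algebra R K] [Algebra S F] [IsFractionRing S F]
    [Algebra R F] [Algebra K F] [IsScalarTower R K F] [IsScalarTower R S F] : Module.Finite K F := by
  obtain ⟨r, hr0, hr, hm⟩ := Algebra.zariskisMainProperty_iff.mp
    (Algebra.ZariskisMainProperty.of_finiteType (R := R) (⊥ : Ideal S))
  have hr0' : r ≠ 0 := fun h => hr0 (by rw [h]; exact Ideal.zero_mem _)
  have h3 : algebraMap S F r ≠ 0 :=
    (map_ne_zero_iff _ (IsFractionRing.injective S F)).mpr hr0'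
  have h2 : IsIntegral K (algebraMap S F r) := (hr.algebraMap (B := F)).tower_top
  have hint : ∀ c : S, IsIntegral K (algebraMap S F c) := by
    intro c
    obtain ⟨n, hn⟩ := hm c
    have h1 : IsIntegral K (algebraMap S F (r ^ n * c)) := (hn.algebraMap (B := F)).tower_top
    have e1 : algebraMap S F c = ((algebraMap S F r) ^ n)⁻¹ * algebraMap S F (r ^ n * c) := by
      rw [map_mul, map_pow, ← mul_assoc, inv_mul_cancel₀ (pow_ne_zero n h3), one_mul]
    rw [e1]
    exact ((h2.pow n).inv).mul h1
  obtain ⟨G, hG⟩ := Algebra.FiniteType.out (R := R) (A := S)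
  have hfd : FiniteDimensional K
      (IntermediateField.adjoin K ((algebraMap S F) '' (G : Set S))) :=
    IntermediateField.finiteDimensional_adjoin (by rintro _ ⟨g, -, rfl⟩; exact hint g)
  have hS : ∀ c : S, algebraMap S F c ∈
      IntermediateField.adjoin K ((algebraMap S F) '' (G : Set S)) := by
    intro c
    have hc : c ∈ Algebra.adjoin R (G : Set S) := by rw [hG]; trivial
    induction hc using Algebra.adjoin_induction with
    | mem g hg => exact IntermediateField.subset_adjoin K _ ⟨g, hg, rfl⟩
    | algebraMap a =>
      rw [← IsScalarTower.algebraMap_apply R S F, IsScalarTower.algebraMap_apply R K F]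
      exact IntermediateField.algebraMap_mem _ _
    | add a b _ _ ha hb => rw [map_add]; exact add_mem ha hb
    | mul a b _ _ ha hb => rw [map_mul]; exact mul_mem ha hb
  have hE : IntermediateField.adjoin K ((algebraMap S F) '' (G : Set S)) = ⊤ := by
    rw [eq_top_iff]
    intro f _
    obtain ⟨a, b, -, rfl⟩ := IsFractionRing.div_surjective S f
    exact div_mem (hS a) (hS b)
  rw [hE] at hfd
  exact Module.Finite.equiv (IntermediateField.topEquiv (F := K) (E := F)).toLinearEquiv

theorem main {R S : Type u} [CommRing R] [IsDomain R] [IsNoetherianRing R] [CommRing S]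
    [IsDomain S] [Algebra R S] (hinj : Function.Injective (algebraMap R S)) [Algebra.FiniteType R S]
    [Algebra.QuasiFinite R S] (hR : CAlg.IsN2 R) : CAlg.IsN2 S := by
  intro L _ _ _ _ hfd
  have hSL : Function.Injective (algebraMap S L) := by
    rw [IsScalarTower.algebraMap_eq S (FractionRing S) L]
    exact (algebraMap (FractionRing S) L).injective.comp (IsFractionRing.injective S (FractionRing S))
  letI : Algebra R L := ((algebraMap S L).comp (algebraMap R S)).toAlgebra
  haveI : IsScalarTower R S L := IsScalarTower.of_algebraMap_eq (fun _ => rfl)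
  have hRL : Function.Injective (algebraMap R L) := hSL.comp hinj
  haveI : FaithfulSMul R L := (faithfulSMul_iff_algebraMap_injective R L).mpr hRL
  letI : Algebra (FractionRing R) L := FractionRing.liftAlgebra R L
  haveI : IsScalarTower R (FractionRing R) L := FractionRing.isScalarTower_liftAlgebra R L
  have hRF : Function.Injective (algebraMap R (FractionRing S)) := by
    rw [IsScalarTower.algebraMap_eq R S (FractionRing S)]
    exact (IsFractionRing.injective S (FractionRing S)).comp hinj
  haveI : FaithfulSMul R (FractionRing S) :=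
    (faithfulSMul_iff_algebraMap_injective R (FractionRing S)).mpr hRF
  letI : Algebra (FractionRing R) (FractionRing S) := FractionRing.liftAlgebra R (FractionRing S)
  haveI : IsScalarTower R (FractionRing R) (FractionRing S) :=
    FractionRing.isScalarTower_liftAlgebra R (FractionRing S)
  haveI : IsScalarTower (FractionRing R) (FractionRing S) L := IsScalarTower.of_algebraMap_eq' (by
    apply IsLocalization.ringHom_ext (nonZeroDivisors R)
    ext a
    simp only [RingHom.comp_apply]
    rw [← IsScalarTower.algebraMap_apply R (FractionRing R) L,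
      ← IsScalarTower.algebraMap_apply R (FractionRing R) (FractionRing S),
      IsScalarTower.algebraMap_apply R S (FractionRing S),
      ← IsScalarTower.algebraMap_apply S (FractionRing S) L,
      ← IsScalarTower.algebraMap_apply R S L])
  haveI : Module.Finite (FractionRing R) (FractionRing S) :=
    finite_fraction (R := R) (S := S) (FractionRing R) (FractionRing S)
  haveI : Module.Finite (FractionRing S) L := hfd
  haveI : Module.Finite (FractionRing R) L := Module.Finite.trans (FractionRing S) L
  have hT : Module.Finite R (integralClosure R L) := hR L inferInstance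
  haveI : IsNoetherianRing S := Algebra.FiniteType.isNoetherianRing R S
  have hTfg : (Subalgebra.toSubmodule (integralClosure R L)).FG :=
    (Module.Finite.iff_fg (N := Subalgebra.toSubmodule (integralClosure R L))).mp hT
  obtain ⟨t, ht⟩ := hTfg
  have hUfg : (Submodule.span S (t : Set L)).FG := Submodule.fg_span (Finset.finite_toSet t)
  have hTU : ∀ y : L, IsIntegral R y → y ∈ Submodule.span S (t : Set L) := by
    intro y hy
    have h1 : y ∈ Submodule.span R (t : Set L) := by
      rw [ht]; exact hy
    exact Submodule.span_le_restrictScalars R S (t : Set L) h1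
  have key : ∀ x : L, IsIntegral S x → x ∈ Submodule.span S (t : Set L) := by
    intro x hx
    by_contra hxU
    have hI : Submodule.comap (LinearMap.toSpanSingleton S L x) (Submodule.span S (t : Set L)) ≠
        (⊤ : Ideal S) := by
      intro htop
      have h1 : (1 : S) ∈ Submodule.comap (LinearMap.toSpanSingleton S L x)
          (Submodule.span S (t : Set L)) := by rw [htop]; trivial
      rw [Submodule.mem_comap, LinearMap.toSpanSingleton_apply, one_smul] at h1
      exact hxU h1
    obtain ⟨q, hqmax, hIq⟩ := Ideal.exists_le_maximal _ hI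
    haveI : q.IsPrime := hqmax.isPrime
    obtain ⟨r, hrq, hr, hm⟩ := Algebra.zariskisMainProperty_iff.mp
      (Algebra.ZariskisMainProperty.of_finiteType (R := R) q)
    obtain ⟨N, hN⟩ := exists_pow_mul_isIntegral (R := R) r hr hm x hx
    have h2 : r ^ N ∈ Submodule.comap (LinearMap.toSpanSingleton S L x)
        (Submodule.span S (t : Set L)) := by
      rw [Submodule.mem_comap, LinearMap.toSpanSingleton_apply, Algebra.smul_def]
      exact hTU _ hN
    exact hrq (‹q.IsPrime›.mem_of_pow_mem N (hIq h2))
  haveI : IsNoetherian S ↥(Submodule.span S (t : Set L)) :=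
    isNoetherian_of_fg_of_noetherian _ hUfg
  have hle : Subalgebra.toSubmodule (integralClosure S L) ≤ Submodule.span S (t : Set L) :=
    fun x hx => key x hx
  haveI : IsNoetherian S ↥(Subalgebra.toSubmodule (integralClosure S L)) := isNoetherian_of_le hle
  exact (inferInstance : Module.Finite S ↥(Subalgebra.toSubmodule (integralClosure S L)))

end Groth.Agent.Helper7.QFiniteN2
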