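import Mathlib
import Groth.Agent.Lib.Helper7.GrFlat
import Groth.Agent.Lib.Helper7.FlatACP
import Groth.Agent.S5778

/-!
# Flatness of `J^n/J^m` for a quasi-regular ideal with flat quotient

Uses the maps `psi`, `factorL` of `Groth.Agent.S5778` (the presentation
`(B/J)^{D_n} → J^n/J^{n+1}`), which are bijective for a quasi-regular sequence.
-/

set_option autoImplicit false
set_option linter.style.haveILetI false
universe u
open TensorProduct

namespace Groth.Agent.Helper7.TransReg

variable {A B : Type u} [CommRing A] [CommRing B] [Algebra A B]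

/-- a `B`-linear map read as an `A`-linear map out of `RestrictScalars A B M`. -/
noncomputable def rsLin {M N : Type u} [AddCommGroup M] [Module B M] [AddCommGroup N] [Module B N]
    [Module A N] [IsScalarTower A B N] (f : M →ₗ[B] N) : RestrictScalars A B M →ₗ[A] N where
  toFun z := f (RestrictScalars.addEquiv A B M z)
  map_add' z w := by rw [map_add, map_add]
  map_smul' a z := by
    rw [RestrictScalars.addEquiv_map_smul, map_smul, algebraMap_smul, RingHom.id_apply]

theorem rsLin_apply {M N : Type u} [AddCommGroup M] [Module B M] [AddCommGroup N] [Module B N]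
    [Module A N] [IsScalarTower A B N] (f : M →ₗ[B] N) (z : RestrictScalars A B M) :
    rsLin (A := A) f z = f (RestrictScalars.addEquiv A B M z) := rfl

/-- `RestrictScalars A B L ≃ L` when `L` already carries a compatible `A`-structure. -/
noncomputable def rsEquiv (L : Type u) [AddCommGroup L] [Module B L] [Module A L]
    [IsScalarTower A B L] : RestrictScalars A B L ≃ₗ[A] L where
  toFun := RestrictScalars.addEquiv A B L
  invFun := (RestrictScalars.addEquiv A B L).symm
  map_add' := map_add _
  map_smul' a z := by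
    rw [RingHom.id_apply, RestrictScalars.addEquiv_map_smul, algebraMap_smul]
  left_inv := (RestrictScalars.addEquiv A B L).left_inv
  right_inv := (RestrictScalars.addEquiv A B L).right_inv

theorem flat_rs_of_exact {M N P : Type u} [AddCommGroup M] [Module B M] [Module A M]
    [IsScalarTower A B M] [AddCommGroup N] [Module B N]
    [Module A N] [IsScalarTower A B N] [AddCommGroup P] [Module B P] [Module A P]
    [IsScalarTower A B P]
    (f : M →ₗ[B] N) (g : N →ₗ[B] P) (hf : Function.Injective f) (hex : Function.Exact f g)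
    (hg : Function.Surjective g) [Module.Flat A N] [Module.Flat A P] :
    Module.Flat A (RestrictScalars A B M) := by
  have : Module.Flat A M :=
    GrFlat.flat_of_exact_of_flat_flat (f.restrictScalars A) (g.restrictScalars A) hf hex hg
  exact Module.Flat.of_linearEquiv (rsEquiv (A := A) M)

section QR
variable {r : ℕ} (x : Fin r → B)

theorem flat_pi_quot (n : ℕ) [Module.Flat A (B ⧸ Ideal.span (Set.range x))] :
    Module.Flat A ((S5778.Dn r n) → B ⧸ Ideal.span (Set.range x)) :=
by
  classical
  exact Module.Flat.of_linearEquiv (DFinsupp.linearEquivFunOnFintype (R := A)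
    (M := fun _ : ↥(S5778.Dn r n) => B ⧸ Ideal.span (Set.range x))).symm

theorem flat_quot_pow (hq : CAlgX.IsQuasiRegular x)
    [Module.Flat A (B ⧸ Ideal.span (Set.range x))] (k : ℕ) :
    Module.Flat A (B ⧸ Ideal.span (Set.range x) ^ k) := by
  induction k with
  | zero =>
    have : Subsingleton (B ⧸ Ideal.span (Set.range x) ^ 0) := by
      rw [Ideal.Quotient.subsingleton_iff, pow_zero, Ideal.one_eq_top]
    have := Module.Free.of_subsingleton A (B ⧸ Ideal.span (Set.range x) ^ 0)
    infer_instance
  | succ n ih =>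
    haveI := ih
    haveI := flat_pi_quot (A := A) x n
    have hinj : Function.Injective (S5778.psi x n) :=
      (S5778.psi_injective_iff x n).mpr (S5778.crit_of_quasiRegular x hq n)
    have hex : Function.Exact (S5778.psi x n) (S5778.factorL x n) := by
      rw [LinearMap.exact_iff]; exact (S5778.range_psi x n).symm
    exact GrFlat.flat_of_exact_of_flat_left_right ((S5778.psi x n).restrictScalars A)
      ((S5778.factorL x n).restrictScalars A) hinj hex (S5778.factorL_surjective x n)

end QR

section Quot
variable (J : Ideal B)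

/-- `J^n/J^m → B/J^m`. -/
noncomputable def iota (n m : ℕ) :
    (↥(J ^ n) ⧸ Submodule.comap (J ^ n).subtype (J ^ m)) →ₗ[B] (B ⧸ J ^ m) :=
  Submodule.mapQ _ (J ^ m) (J ^ n).subtype le_rfl

/-- `B/J^m → B/J^n`. -/
noncomputable def proj (n m : ℕ) (h : n ≤ m) : (B ⧸ J ^ m) →ₗ[B] (B ⧸ J ^ n) :=
  Submodule.mapQ (J ^ m) (J ^ n) LinearMap.id (by
    rw [Submodule.comap_id]; exact Ideal.pow_le_pow_right h)

theorem iota_injective (n m : ℕ) : Function.Injective (iota J n m) := by
  rw [← LinearMap.ker_eq_bot, LinearMap.ker_eq_bot']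
  intro z hz
  obtain ⟨y, rfl⟩ := Submodule.Quotient.mk_surjective _ z
  rw [iota, Submodule.mapQ_apply, Submodule.Quotient.mk_eq_zero] at hz
  rw [Submodule.Quotient.mk_eq_zero]
  exact hz

theorem proj_surjective (n m : ℕ) (h : n ≤ m) : Function.Surjective (proj J n m h) := by
  intro y
  obtain ⟨b, rfl⟩ := Submodule.Quotient.mk_surjective _ y
  exact ⟨Submodule.Quotient.mk b, by rw [proj, Submodule.mapQ_apply]; rfl⟩

theorem iota_exact (n m : ℕ) (h : n ≤ m) : Function.Exact (iota J n m) (proj J n m h) := by
  intro y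
  obtain ⟨b, rfl⟩ := Submodule.Quotient.mk_surjective _ y
  rw [proj, Submodule.mapQ_apply, Submodule.Quotient.mk_eq_zero, LinearMap.id_apply]
  constructor
  · intro hb
    exact ⟨Submodule.Quotient.mk ⟨b, hb⟩, by rw [iota, Submodule.mapQ_apply]; rfl⟩
  · rintro ⟨z, hz⟩
    obtain ⟨c, rfl⟩ := Submodule.Quotient.mk_surjective _ z
    rw [iota, Submodule.mapQ_apply, Submodule.subtype_apply] at hz
    have h1 : (c : B) - b ∈ J ^ m := (Submodule.Quotient.eq _).mp hz
    have h2 : (c : B) - b ∈ J ^ n := Ideal.pow_le_pow_right h h1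
    have h3 : b = (c : B) - ((c : B) - b) := by ring
    rw [h3]
    exact Ideal.sub_mem _ c.2 h2

theorem flat_quot_pow_quot (hflat : ∀ k, Module.Flat A (B ⧸ J ^ k)) (n m : ℕ) (h : n ≤ m) :
    Module.Flat A (RestrictScalars A B
      (↥(J ^ n) ⧸ Submodule.comap (J ^ n).subtype (J ^ m))) := by
  haveI := hflat n
  haveI := hflat m
  exact flat_rs_of_exact (iota J n m) (proj J n m h) (iota_injective J n m) (iota_exact J n m h)
    (proj_surjective J n m h)

theorem flat_pow (hflat : ∀ k, Module.Flat A (B ⧸ J ^ k)) [Module.Flat A B] (n : ℕ) :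
    Module.Flat A ↥(J ^ n) := by
  haveI := hflat n
  exact GrFlat.flat_of_exact_of_flat_flat ((J ^ n).subtype.restrictScalars A)
    ((J ^ n).mkQ.restrictScalars A) (Submodule.injective_subtype _)
    (LinearMap.exact_subtype_mkQ (J ^ n)) (Submodule.mkQ_surjective _)

theorem flat_localized_pow (hflat : ∀ k, Module.Flat A (B ⧸ J ^ k)) [Module.Flat A B] (n : ℕ)
    (T : Submonoid B) : Module.Flat A (LocalizedModule T ↥(J ^ n)) := by
  haveI := flat_pow (A := A) J hflat n
  rw [FlatACP.flat_localized_iff]
  intro I k hk
  have hinj : Function.Injective (LinearMap.lTensor ↥(J ^ n) I.subtype) :=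
    Module.Flat.lTensor_preserves_injective_linearMap _ (Submodule.injective_subtype I)
  have hk0 : k = 0 := hinj (hk.trans (map_zero _).symm)
  exact ⟨1, one_mem _, by rw [hk0, smul_zero]⟩

theorem flat_rs_localized_pow (hflat : ∀ k, Module.Flat A (B ⧸ J ^ k)) [Module.Flat A B] (n : ℕ)
    (T : Submonoid B) :
    Module.Flat A (RestrictScalars A B (LocalizedModule T ↥(J ^ n))) := by
  haveI := flat_localized_pow (A := A) J hflat n T
  exact Module.Flat.of_linearEquiv (rsEquiv (A := A) (LocalizedModule T ↥(J ^ n)))

end Quot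

end Groth.Agent.Helper7.TransReg
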