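import Mathlib
import Groth.Agent.Lib.Helper7.TransReg

/-!
# Base change of a quasi-regular sequence with flat quotient

`A → B`, `A → A'`, `f` quasi-regular in `B` with `B/(f)` flat over `A`; then `1 ⊗ f` is
quasi-regular in `A' ⊗_A B`.  Uses the presentation maps `psi` of `Groth.Agent.S5778`.
-/

set_option autoImplicit false
set_option linter.style.haveILetI false
universe u
open TensorProduct

namespace Groth.Agent.Helper7.QRBC

variable {A B A' : Type u} [CommRing A] [CommRing B] [CommRing A'] [Algebra A B] [Algebra A A']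

variable (A A') in
/-- `b ↦ 1 ⊗ b`. -/
noncomputable abbrev incl : B →ₐ[A] A' ⊗[A] B := Algebra.TensorProduct.includeRight

variable (A A') in
/-- `A' ⊗ (B/I) ≃ B'/K` for `K = I B'`. -/
noncomputable def Ue (I : Ideal B) (K : Ideal (A' ⊗[A] B))
    (h : K = I.map (incl A A' (B := B))) :
    A' ⊗[A] (B ⧸ I) ≃ₐ[A] (A' ⊗[A] B) ⧸ K :=
  (Algebra.TensorProduct.tensorQuotientEquiv (R := A) A B A' I).trans
    (Ideal.quotientEquivAlgOfEq A h.symm)

theorem Ue_tmul (I : Ideal B) (K : Ideal (A' ⊗[A] B)) (h : K = I.map (incl A A' (B := B)))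
    (a' : A') (b : B) :
    Ue A A' I K h (a' ⊗ₜ[A] Ideal.Quotient.mk I b) = Ideal.Quotient.mk K (a' ⊗ₜ[A] b) := by
  subst h
  rfl

section
variable {r : ℕ} (f : Fin r → B)

variable (A A') in
/-- the sequence `1 ⊗ f i`. -/
noncomputable def fx : Fin r → A' ⊗[A] B := fun i => (1 : A') ⊗ₜ[A] f i

theorem span_fx : Ideal.span (Set.range (fx A A' f)) =
    (Ideal.span (Set.range f)).map (incl A A' (B := B)) := by
  rw [Ideal.map_span, ← Set.range_comp]
  rfl

theorem span_fx_pow (k : ℕ) : Ideal.span (Set.range (fx A A' f)) ^ k =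
    ((Ideal.span (Set.range f)) ^ k).map (incl A A' (B := B)) := by
  rw [span_fx, Ideal.map_pow]

theorem mon_fx (α : Fin r →₀ ℕ) :
    S5778.mon (fx A A' f) α = (1 : A') ⊗ₜ[A] S5778.mon f α := by
  have h := map_finsuppProd (incl A A' (B := B)) α (fun i e => f i ^ e)
  simp only [map_pow] at h
  exact h.symm

theorem lT_injective (hflat : Module.Flat A (B ⧸ Ideal.span (Set.range f)))
    (hq : CAlgX.IsQuasiRegular f) (n : ℕ) :
    Function.Injective (LinearMap.lTensor A' ((S5778.psi f n).restrictScalars A)) := by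
  haveI := hflat
  haveI : Module.Flat A (B ⧸ Ideal.span (Set.range f) ^ n) :=
    TransReg.flat_quot_pow (A := A) f hq n
  have hinj : Function.Injective (S5778.psi f n) :=
    (S5778.psi_injective_iff f n).mpr (S5778.crit_of_quasiRegular f hq n)
  have hex : Function.Exact (S5778.psi f n) (S5778.factorL f n) := by
    rw [LinearMap.exact_iff]; exact (S5778.range_psi f n).symm
  rw [LinearMap.lTensor_inj_iff_rTensor_inj]
  exact GrFlat.rTensor_injective_of_flat_coker ((S5778.psi f n).restrictScalars A)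
    ((S5778.factorL f n).restrictScalars A) hinj hex (S5778.factorL_surjective f n) A'

variable (A A') in
/-- `A' ⊗ (B/J)^{D_n} → (B'/J')^{D_n}`. -/
noncomputable def V (n : ℕ) :
    A' ⊗[A] (↥(S5778.Dn r n) → B ⧸ Ideal.span (Set.range f)) →ₗ[A]
      (↥(S5778.Dn r n) → (A' ⊗[A] B) ⧸ Ideal.span (Set.range (fx A A' f))) :=
  (LinearMap.pi fun α => (Ue A A' _ _ (span_fx f)).toLinearMap ∘ₗ LinearMap.proj α) ∘ₗ
    (TensorProduct.piRight A A A'
      (fun _ : ↥(S5778.Dn r n) => B ⧸ Ideal.span (Set.range f))).toLinearMap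

theorem V_apply (n : ℕ) (z : A' ⊗[A] (↥(S5778.Dn r n) → B ⧸ Ideal.span (Set.range f)))
    (α : ↥(S5778.Dn r n)) :
    V A A' f n z α = Ue A A' _ _ (span_fx f) (TensorProduct.piRight A A A'
      (fun _ : ↥(S5778.Dn r n) => B ⧸ Ideal.span (Set.range f)) z α) := rfl

theorem V_tmul (n : ℕ) (a' : A') (g : ↥(S5778.Dn r n) → B ⧸ Ideal.span (Set.range f))
    (α : ↥(S5778.Dn r n)) :
    V A A' f n (a' ⊗ₜ[A] g) α = Ue A A' _ _ (span_fx f) (a' ⊗ₜ[A] g α) := rfl

theorem V_surjective (n : ℕ) : Function.Surjective (V A A' f n) := by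
  intro y
  choose w hw using fun α => (Ue A A' _ _ (span_fx (A := A) (A' := A') f)).surjective (y α)
  refine ⟨(TensorProduct.piRight A A A'
    (fun _ : ↥(S5778.Dn r n) => B ⧸ Ideal.span (Set.range f))).symm w, ?_⟩
  funext α
  rw [V_apply, LinearEquiv.apply_symm_apply]
  exact hw α

theorem square (n : ℕ) (z : A' ⊗[A] (↥(S5778.Dn r n) → B ⧸ Ideal.span (Set.range f))) :
    S5778.psi (fx A A' f) n (V A A' f n z) =
      Ue A A' _ _ (span_fx_pow f (n + 1))
        (LinearMap.lTensor A' ((S5778.psi f n).restrictScalars A) z) := by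
  induction z using TensorProduct.induction_on with
  | zero => simp only [map_zero]
  | add z w hz hw => simp only [map_add, hz, hw]
  | tmul a' g =>
    obtain ⟨c, rfl⟩ := S5778.exists_lift f n g
    have hV : V A A' f n (a' ⊗ₜ[A] fun α : ↥(S5778.Dn r n) =>
          Ideal.Quotient.mk (Ideal.span (Set.range f)) (c α.1)) =
        fun α : ↥(S5778.Dn r n) =>
          Ideal.Quotient.mk (Ideal.span (Set.range (fx A A' f))) (a' ⊗ₜ[A] c α.1) := by
      funext α
      rw [V_tmul, Ue_tmul]
    have h1 := S5778.psi_mk (fx A A' f) n (fun γ => a' ⊗ₜ[A] c γ)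
    have h2 : ((S5778.psi f n).restrictScalars A) (fun α : ↥(S5778.Dn r n) =>
          Ideal.Quotient.mk (Ideal.span (Set.range f)) (c α.1)) =
        Ideal.Quotient.mk _ (∑ α ∈ S5778.Dn r n, c α * S5778.mon f α) := S5778.psi_mk f n c
    rw [hV, LinearMap.lTensor_tmul, h2, Ue_tmul]
    refine h1.trans ?_
    congr 1
    rw [TensorProduct.tmul_sum]
    refine Finset.sum_congr rfl (fun α _ => ?_)
    rw [mon_fx, Algebra.TensorProduct.tmul_mul_tmul, mul_one]

theorem psi_fx_injective (hflat : Module.Flat A (B ⧸ Ideal.span (Set.range f)))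
    (hq : CAlgX.IsQuasiRegular f) (n : ℕ) :
    Function.Injective (S5778.psi (fx A A' f) n) := by
  intro y1 y2 h
  obtain ⟨z1, rfl⟩ := V_surjective (A := A) (A' := A') f n y1
  obtain ⟨z2, rfl⟩ := V_surjective (A := A) (A' := A') f n y2
  rw [square, square] at h
  have h1 := (Ue A A' _ _ (span_fx_pow f (n + 1))).injective h
  rw [lT_injective f hflat hq n h1]

theorem main9272 (hflat : Module.Flat A (B ⧸ Ideal.span (Set.range f)))
    (hq : CAlgX.IsQuasiRegular f) : CAlgX.IsQuasiRegular (fx A A' f) :=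
  S5778.quasiRegular_of_crit _ (fun n c hc =>
    (S5778.psi_injective_iff _ n).mp (psi_fx_injective f hflat hq n) c hc)

end

end Groth.Agent.Helper7.QRBC
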