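import Mathlib
import Groth.Prelude.Def_FSch5

/-!
# Restriction of a formal system to an open subset (helper7)
-/

open CategoryTheory CategoryTheory.Limits AlgebraicGeometry TopologicalSpace

universe u

namespace Groth.Agent.Helper7.RestrictOpen

theorem isPullback_resLE_of_eq {X Y : Scheme.{u}} (f : X ⟶ Y) (U : Y.Opens) (V : X.Opens)
    (e : V = f ⁻¹ᵁ U) : IsPullback (f.resLE U V e.le) V.ι U.ι f := by
  subst e
  rw [Scheme.Hom.resLE_eq_morphismRestrict]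
  exact isPullback_morphismRestrict f U

theorem P_resLE_of_eq (P : MorphismProperty Scheme.{u}) [IsZariskiLocalAtTarget P]
    {X Y : Scheme.{u}} (f : X ⟶ Y) (U : Y.Opens) (V : X.Opens) (e : V = f ⁻¹ᵁ U) (hf : P f) :
    P (f.resLE U V e.le) := by
  subst e
  rw [Scheme.Hom.resLE_eq_morphismRestrict]
  exact IsZariskiLocalAtTarget.restrict hf U

theorem ker_of_isPullback {Z W Z' W' : Scheme.{u}} (g : Z ⟶ W) [IsClosedImmersion g] (j : W' ⟶ W)
    (g' : Z' ⟶ W') (j' : Z' ⟶ Z) (H : IsPullback g' j' j g) : g'.ker = g.ker.comap j := by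
  rw [← H.isoPullback_hom_fst, Scheme.Hom.ker_comp_of_isIso,
    Scheme.IdealSheafData.ker_fst_of_isClosedImmersion]

theorem comap_pow_of_bijective {A B : Type*} [CommRing A] [CommRing B] (φ : A →+* B)
    (hφ : Function.Bijective φ) (J : Ideal B) (k : ℕ) :
    Ideal.comap φ (J ^ k) = (Ideal.comap φ J) ^ k := by
  conv_lhs => rw [← Ideal.map_comap_of_surjective φ hφ.2 J, ← Ideal.map_pow]
  exact Ideal.comap_map_of_bijective φ hφ

theorem comap_pow {X Y : Scheme.{u}} (j : X ⟶ Y) [IsOpenImmersion j] (I : Y.IdealSheafData)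
    (k : ℕ) : (I ^ k).comap j = (I.comap j) ^ k := by
  refine Scheme.IdealSheafData.ext (funext fun U => ?_)
  rw [Scheme.IdealSheafData.ideal_comap_of_isOpenImmersion, Scheme.IdealSheafData.ideal_pow,
    Scheme.IdealSheafData.ideal_pow]
  simp only [Pi.pow_apply]
  rw [Scheme.IdealSheafData.ideal_comap_of_isOpenImmersion]
  exact comap_pow_of_bijective _ (ConcreteCategory.bijective_of_isIso (j.appIso U).inv) _ _

open FSch

variable (𝔛 : FSch.Sys.{u}) (h : 𝔛.IsFormal) (U : (𝔛.X 0).Opens)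

theorem toX_preimage_lvU (m : ℕ) : (𝔛.toX m) ⁻¹ᵁ (𝔛.lvU h m U) = U := by
  change (Opens.map ((𝔛.toX m).base ≫ 𝔛.gInv h m)).obj U = U
  rw [𝔛.toX_base_gInv h m]
  rfl

theorem lvU_zero : 𝔛.lvU h 0 U = U := toX_preimage_lvU 𝔛 h U 0

theorem restrict_isFormal : (𝔛.restrictOpen h U).IsFormal := by
  intro n
  have e : 𝔛.lvU h n U = (𝔛.ι n) ⁻¹ᵁ (𝔛.lvU h (n + 1) U) := (𝔛.lvU_succ h n U).symm
  constructor
  · exact P_resLE_of_eq @IsClosedImmersion (𝔛.ι n) _ _ e (h n).1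
  · have : Surjective (𝔛.ι n) := ⟨(h n).2⟩
    exact (P_resLE_of_eq @Surjective (𝔛.ι n) _ _ e this).surj

theorem restrict_toX (m : ℕ) :
    (𝔛.restrictOpen h U).toX m ≫ (𝔛.lvU h m U).ι = (𝔛.lvU h 0 U).ι ≫ 𝔛.toX m :=
  FSch.Hom.toX_comm (𝔛.restrictOpenι h U) m

theorem restrict_isAdic (hadic : 𝔛.IsAdic) : (𝔛.restrictOpen h U).IsAdic := by
  intro n
  have hci : IsClosedImmersion (𝔛.ι n) := (h n).1
  have hci' : IsClosedImmersion (𝔛.toX (n + 1)) := FSch.Sys.toX_isClosedImmersion 𝔛 h (n + 1)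
  have e1 : 𝔛.lvU h n U = (𝔛.ι n) ⁻¹ᵁ (𝔛.lvU h (n + 1) U) := (𝔛.lvU_succ h n U).symm
  have e2 : 𝔛.lvU h 0 U = (𝔛.toX (n + 1)) ⁻¹ᵁ (𝔛.lvU h (n + 1) U) :=
    (lvU_zero 𝔛 h U).trans (toX_preimage_lvU 𝔛 h U (n + 1)).symm
  have k1 : ((𝔛.restrictOpen h U).ι n).ker = (𝔛.ι n).ker.comap (𝔛.lvU h (n + 1) U).ι :=
    ker_of_isPullback (𝔛.ι n) _ _ _ (isPullback_resLE_of_eq (𝔛.ι n) _ _ e1)
  have hto : (𝔛.restrictOpen h U).toX (n + 1) =
      (𝔛.toX (n + 1)).resLE (𝔛.lvU h (n + 1) U) (𝔛.lvU h 0 U) e2.le := by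
    apply (cancel_mono (𝔛.lvU h (n + 1) U).ι).mp
    refine (restrict_toX 𝔛 h U (n + 1)).trans ?_
    exact (Scheme.Hom.resLE_comp_ι _ _).symm
  have k2 : ((𝔛.restrictOpen h U).toX (n + 1)).ker =
      (𝔛.toX (n + 1)).ker.comap (𝔛.lvU h (n + 1) U).ι := by
    rw [hto]
    exact ker_of_isPullback (𝔛.toX (n + 1)) _ _ _
      (isPullback_resLE_of_eq (𝔛.toX (n + 1)) _ _ e2)
  rw [k1, k2, hadic n]
  exact comap_pow _ _ _

theorem restrict_compact (hN : IsLocallyNoetherian (𝔛.X 0)) (hc : CompactSpace (𝔛.X 0)) :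
    CompactSpace ((𝔛.restrictOpen h U).X 0) := by
  have : IsNoetherian (𝔛.X 0) := {}
  have : IsCompact ((𝔛.lvU h 0 U : (𝔛.X 0).Opens) : Set (𝔛.X 0)) :=
    TopologicalSpace.NoetherianSpace.isCompact _
  exact isCompact_iff_compactSpace.mp this

theorem restrict_locNoeth (hN : ∀ n, IsLocallyNoetherian (𝔛.X n)) (n : ℕ) :
    IsLocallyNoetherian ((𝔛.restrictOpen h U).X n) := by
  haveI := hN n
  exact (inferInstance : IsLocallyNoetherian (𝔛.lvU h n U))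

end Groth.Agent.Helper7.RestrictOpen
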