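import Mathlib
import Groth.Agent.Lib.Helper4.LinRed

/-!
# Comodule maps into the invariants (helper7 library)

* `hom_to_invariants_zero`: in a semisimple comodule, a comodule endomorphism with invariant values
  vanishes on every subcomodule without nonzero invariants.
-/

set_option autoImplicit false
universe u v w

open TensorProduct Groth.Agent.H29 Groth.Agent.Helper4.LinRed

namespace Groth.Agent.Helper7.Reyn7

attribute [local instance] Groth.Agent.H29.dualModule

variable {k : Type u} [Field k] {A : Type v} [CommRing A] [HopfAlgebra k A]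
variable {V : Type w} [AddCommGroup V] [Module k V] [HopfRep.Comod k A V]

lemma dualAct_aug (φ : A →ₗ[k] k) (v : V) :
    dualAct (φ + (-(φ 1)) • Coalgebra.counit (R := k) (A := A)) v = dualAct φ v - φ 1 • v := by
  rw [dualAct_apply, rAct_add, rAct_smul, ← dualAct_apply, ← dualAct_apply, dualAct_counit,
    neg_smul, sub_eq_add_neg]

lemma isSubcomod_fixedPts :
    HopfRep.IsSubcomod (k := k) (A := A) (HopfRep.fixedPts k A V) := by
  rw [isSubcomod_iff]
  intro φ w hw
  rw [(mem_fixedPts_iff w).mp hw φ]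
  exact Submodule.smul_mem _ _ hw

theorem hom_to_invariants_zero (hss : IsSemisimpleModule (DualAlg k A) V) (D : V →ₗ[k] V)
    (hD : Hoch.IsComodHom A D) (hDinv : ∀ x, D x ∈ HopfRep.fixedPts k A V)
    (W : Submodule k V) (hW : HopfRep.IsSubcomod (k := k) (A := A) W)
    (hW0 : ∀ x ∈ W, x ∈ HopfRep.fixedPts k A V → x = 0) : ∀ w ∈ W, D w = 0 := by
  have hDlin := (isComodHom_iff D).mp hD
  have hWst := (isSubcomod_iff W).mp hW
  let K : Submodule (DualAlg k A) V :=
    { carrier := {x | x ∈ W ∧ D x = 0}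
      add_mem' := by
        rintro a b ⟨ha, ha'⟩ ⟨hb, hb'⟩
        exact ⟨W.add_mem ha hb, by rw [map_add, ha', hb', add_zero]⟩
      zero_mem' := ⟨W.zero_mem, map_zero D⟩
      smul_mem' := by
        rintro ψ x ⟨hx, hx'⟩
        refine ⟨hWst ψ.ofConv x hx, ?_⟩
        show D (dualAct ψ.ofConv x) = 0
        rw [hDlin, hx', map_zero] }
  obtain ⟨K', hK'⟩ := exists_isCompl K
  intro w hw
  have hwtop : w ∈ K ⊔ K' := by rw [hK'.sup_eq_top]; exact Submodule.mem_top
  obtain ⟨a, ha, b, hb, hab⟩ := Submodule.mem_sup.mp hwtop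
  have hbW : b ∈ W := by
    have hb' : b = w - a := by rw [← hab]; abel
    rw [hb']
    exact W.sub_mem hw ha.1
  have hbinv : b ∈ HopfRep.fixedPts k A V := by
    rw [mem_fixedPts_iff]
    intro φ
    let ψ : DualAlg k A := WithConv.toConv (φ + (-(φ 1)) • Coalgebra.counit (R := k) (A := A))
    have h1 : ψ • b ∈ K' := K'.smul_mem ψ hb
    have h2 : ψ • b = dualAct φ b - φ 1 • b := dualAct_aug φ b
    have h3 : ψ • b ∈ K := by
      refine ⟨?_, ?_⟩
      · rw [h2]
        exact W.sub_mem (hWst φ b hbW) (W.smul_mem _ hbW)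
      · rw [h2, map_sub, map_smul, hDlin, (mem_fixedPts_iff (D b)).mp (hDinv b) φ, sub_self]
    have h4 : ψ • b ∈ K ⊓ K' := ⟨h3, h1⟩
    rw [hK'.inf_eq_bot, Submodule.mem_bot] at h4
    rw [h2] at h4
    exact sub_eq_zero.mp h4
  have hb0 : b = 0 := hW0 b hbW hbinv
  rw [← hab, hb0, add_zero]
  exact ha.2

end Groth.Agent.Helper7.Reyn7
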