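import Groth.Agent.H23.RootD.Dominant
import Groth.Agent.S5452

/-! Dominant homomorphisms `f : M →+ Γ` for a root datum with a positive system (helper7).
Built on helper23's `H23.RootD` library. -/

set_option autoImplicit false

namespace Groth.Agent.Helper7.RootDom

open RootD Set RootPairing Groth.Agent.H23.RD

variable {ι M N : Type*} [AddCommGroup M] [AddCommGroup N] {P : RootPairing ι ℤ M N} {S : Set ι}
variable {Γ : Type*} [AddCommGroup Γ] [LinearOrder Γ] [IsOrderedAddMonoid Γ]

lemma nonneg_of_zsmul_nonneg {a : Γ} {n : ℤ} (hn : 0 < n) (h : 0 ≤ n • a) : 0 ≤ a := by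
  by_contra ha
  push Not at ha
  have h1 := zsmul_pos (neg_pos.2 ha) hn
  rw [smul_neg] at h1
  exact absurd h (not_le.2 (neg_pos.1 h1))

lemma refl_eval (f : M →+ Γ) (i : ι) (m : M) :
    f (Equiv.reflection P i • m) = f m - (P.coroot' i m) • f (P.root i) := by
  rw [Equiv.reflection_smul, P.reflection_apply, map_sub, map_zsmul]

/-- Existence of a Weyl conjugate that is dominant. -/
theorem exists_dom [Finite ι] (hS : IsPosSys P S) (f : M →+ Γ) :
    ∃ g : P.Aut, g ∈ P.weylGroup ∧ ∀ i ∈ S, 0 ≤ f (g • P.root i) := by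
  obtain ⟨P', hP'⟩ : ∃ P' : Set ι, ∀ i, i ∈ P' ↔
      (0 < f (P.root i) ∨ (f (P.root i) = 0 ∧ i ∈ S)) :=
    ⟨{i | 0 < f (P.root i) ∨ (f (P.root i) = 0 ∧ i ∈ S)}, fun i => Iff.rfl⟩
  have hneg : ∀ i, f (P.root (P.reflectionPerm i i)) = - f (P.root i) := by
    intro i; rw [root_negIdx, map_neg]
  have h1 : ∀ i ∈ P', P.reflectionPerm i i ∉ P' := by
    intro i hi hj
    rw [hP'] at hi hj
    rw [hneg] at hj
    rcases hi with hi | ⟨hi0, hiS⟩
    · rcases hj with hj | ⟨hj0, -⟩
      · exact absurd (neg_pos.1 hj) (not_lt.2 hi.le)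
      · rw [neg_eq_zero] at hj0; exact hi.ne' hj0
    · rcases hj with hj | ⟨-, hjS⟩
      · rw [hi0, neg_zero] at hj; exact lt_irrefl _ hj
      · exact hS.disjoint hiS hjS
  have h2 : ∀ i, i ∈ P' ∨ P.reflectionPerm i i ∈ P' := by
    intro i
    rw [hP', hP', hneg]
    rcases lt_trichotomy (f (P.root i)) 0 with h | h | h
    · right; left; exact neg_pos.2 h
    · rcases hS.cover i with hi | hi
      · left; right; exact ⟨h, hi⟩
      · right; right; exact ⟨by rw [h, neg_zero], hi⟩
    · left; left; exact h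
  have hcl : IsClosedSub P P' := by
    intro i j k hi hj hk
    rw [hP'] at hi hj ⊢
    have hf : f (P.root k) = f (P.root i) + f (P.root j) := by rw [hk, map_add]
    have hi0 : 0 ≤ f (P.root i) := by
      rcases hi with h | ⟨h, -⟩
      · exact h.le
      · exact h.ge
    have hj0 : 0 ≤ f (P.root j) := by
      rcases hj with h | ⟨h, -⟩
      · exact h.le
      · exact h.ge
    rcases hi with hi | ⟨hi, hiS⟩
    · left; rw [hf]; exact add_pos_of_pos_of_nonneg hi hj0
    · rcases hj with hj | ⟨hj, hjS⟩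
      · left; rw [hf]; exact add_pos_of_nonneg_of_pos hi0 hj
      · right; exact ⟨by rw [hf, hi, hj, add_zero], ps_closed hS hiS hjS hk⟩
  have hP : IsPosSys P P' := isPosSys_of_closed h1 h2 hcl
  obtain ⟨g, hg, hgS⟩ := exists_weyl_image_eq hS hP
  refine ⟨g, hg, fun i hi => ?_⟩
  have hmem : g • i ∈ P' := by rw [← hgS]; exact ⟨i, hi, rfl⟩
  rw [← root_smul]
  rcases (hP' _).1 hmem with h | ⟨h, -⟩
  · exact h.le
  · exact h.ge

/-- Word version of the fixed point statement. -/
theorem dom_fix_word [Finite ι] {Δ : Set ι} (hΔ : IsSimpleSys P Δ) (f : M →+ Γ)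
    (hf : ∀ i ∈ posOf P Δ, 0 ≤ f (P.root i)) :
    ∀ n : ℕ, ∀ L : List ι, L.length = n → (∀ a ∈ L, a ∈ Δ) →
      (∀ i ∈ Δ, 0 ≤ f (wprod P L • P.root i)) → ∀ m : M, f (wprod P L • m) = f m := by
  intro n
  induction n using Nat.strong_induction_on with
  | _ n ih =>
    intro L hn hL hdom m
    rcases List.eq_nil_or_concat L with rfl | ⟨L0, l, hLeq⟩
    · simp
    · rw [List.concat_eq_append] at hLeq
      subst hLeq
      have hl : l ∈ Δ := hL l (by simp)
      have hL0 : ∀ a ∈ L0, a ∈ Δ := fun a ha => hL a (by simp [ha])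
      have hw : wprod P (L0 ++ [l]) = wprod P L0 * Equiv.reflection P l := by
        rw [wprod_append]; simp
      have hlen : L0.length < n := by
        simp only [List.length_append, List.length_cons, List.length_nil] at hn
        omega
      by_cases hpos : wprod P L0 • l ∈ posOf P Δ
      · have h1 : 0 ≤ f (wprod P L0 • P.root l) := by
          rw [← root_smul]; exact hf _ hpos
        have h2 : 0 ≤ f (wprod P (L0 ++ [l]) • P.root l) := hdom l hl
        have h3 : wprod P (L0 ++ [l]) • P.root l = - (wprod P L0 • P.root l) := by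
          rw [hw, mul_smul, Equiv.reflection_smul, P.reflection_apply_self, smul_neg]
        rw [h3, map_neg] at h2
        have h0 : f (wprod P L0 • P.root l) = 0 := le_antisymm (neg_nonneg.1 h2) h1
        have key : ∀ x : M, f (wprod P (L0 ++ [l]) • x) = f (wprod P L0 • x) := by
          intro x
          rw [hw, mul_smul, Equiv.reflection_smul, P.reflection_apply, smul_sub, map_sub,
            smul_comm (wprod P L0), map_zsmul, h0, smul_zero, sub_zero]
        rw [key]
        exact ih L0.length hlen L0 rfl hL0 (fun i hi => by rw [← key]; exact hdom i hi) m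
      · obtain ⟨L', hL', hlen', heq⟩ := deletion hΔ hl L0 hL0 hpos
        have hwL' : wprod P (L0 ++ [l]) = wprod P L' := by rw [hw, heq]
        rw [hwL'] at hdom ⊢
        exact ih L'.length (by omega) L' rfl hL' hdom m

/-- If `f` and `f ∘ g` are both dominant (`g` in the Weyl group) then `f ∘ g = f`. -/
theorem dom_fix [Finite ι] (hS : IsPosSys P S) (f : M →+ Γ) (hf : ∀ i ∈ S, 0 ≤ f (P.root i))
    {g : P.Aut} (hg : g ∈ P.weylGroup) (hgf : ∀ i ∈ S, 0 ≤ f (g • P.root i)) (m : M) :
    f (g • m) = f m := by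
  have hΔ := ps_isSimpleSys_simpleOf hS
  have hpos := ps_posOf_simpleOf hS
  rw [weylGroup_eq_closure_simple hΔ] at hg
  obtain ⟨L, hL, rfl⟩ := exists_word_of_mem_closure hg
  exact dom_fix_word hΔ f (by rw [hpos]; exact hf) L.length L rfl hL
    (fun i hi => hgf i (simpleOf_subset hi)) m

/-- Word version of the strong dominance decomposition. -/
theorem dom_decomp_word [Fintype ι] {Δ : Set ι} (hΔ : IsSimpleSys P Δ) (f : M →+ Γ)
    (hf : ∀ i ∈ posOf P Δ, 0 ≤ f (P.root i)) :
    ∀ n : ℕ, ∀ L : List ι, L.length = n → (∀ a ∈ L, a ∈ Δ) →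
      ∃ c : ι → Γ, (∀ i, 0 ≤ c i) ∧ (∀ i, i ∉ Δ → c i = 0) ∧
        ∀ m : M, f m - f (wprod P L • m) = ∑ i, (P.coroot' i m) • c i := by
  classical
  intro n
  induction n using Nat.strong_induction_on with
  | _ n ih =>
    intro L hn hL
    rcases List.eq_nil_or_concat L with rfl | ⟨L0, l, hLeq⟩
    · exact ⟨0, fun _ => le_rfl, fun _ _ => rfl, fun m => by simp⟩
    · rw [List.concat_eq_append] at hLeq
      subst hLeq
      have hl : l ∈ Δ := hL l (by simp)
      have hL0 : ∀ a ∈ L0, a ∈ Δ := fun a ha => hL a (by simp [ha])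
      have hw : wprod P (L0 ++ [l]) = wprod P L0 * Equiv.reflection P l := by
        rw [wprod_append]; simp
      have hlen : L0.length < n := by
        simp only [List.length_append, List.length_cons, List.length_nil] at hn
        omega
      by_cases hpos : wprod P L0 • l ∈ posOf P Δ
      · obtain ⟨c0, hc0, hc0Δ, hc0eq⟩ := ih L0.length hlen L0 rfl hL0
        have hγ : 0 ≤ f (wprod P L0 • P.root l) := by
          rw [← root_smul]; exact hf _ hpos
        refine ⟨fun i => c0 i + if i = l then f (wprod P L0 • P.root l) else 0, ?_, ?_, ?_⟩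
        · intro i
          refine add_nonneg (hc0 i) ?_
          split_ifs
          · exact hγ
          · exact le_rfl
        · intro i hi
          have hne : i ≠ l := fun h => hi (h ▸ hl)
          simp only [hc0Δ i hi, if_neg hne, add_zero]
        · intro m
          have e1 : f (wprod P (L0 ++ [l]) • m) =
              f (wprod P L0 • m) - (P.coroot' l m) • f (wprod P L0 • P.root l) := by
            rw [hw, mul_smul, Equiv.reflection_smul, P.reflection_apply, smul_sub, map_sub,
              smul_comm (wprod P L0), map_zsmul]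
          have e2 : ∑ i, (P.coroot' i m) • (c0 i + if i = l then f (wprod P L0 • P.root l) else 0)
              = ∑ i, (P.coroot' i m) • c0 i + (P.coroot' l m) • f (wprod P L0 • P.root l) := by
            simp only [smul_add, Finset.sum_add_distrib]
            congr 1
            rw [Finset.sum_eq_single l]
            · simp
            · intro b _ hb; simp [hb]
            · intro h; exact absurd (Finset.mem_univ l) h
          rw [e1, e2, ← hc0eq m]
          abel
      · obtain ⟨L', hL', hlen', heq⟩ := deletion hΔ hl L0 hL0 hpos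
        have hwL' : wprod P (L0 ++ [l]) = wprod P L' := by rw [hw, heq]
        rw [hwL']
        exact ih L'.length (by omega) L' rfl hL'

/-- Strong dominance: `f - f ∘ g` is a non-negative combination of positive coroots. -/
theorem dom_decomp [Fintype ι] (hS : IsPosSys P S) (f : M →+ Γ)
    (hf : ∀ i ∈ S, 0 ≤ f (P.root i)) {g : P.Aut} (hg : g ∈ P.weylGroup) :
    ∃ c : ι → Γ, (∀ i, 0 ≤ c i) ∧ (∀ i, i ∉ S → c i = 0) ∧
      ∀ m : M, f m - f (g • m) = ∑ i, (P.coroot' i m) • c i := by
  have hΔ := ps_isSimpleSys_simpleOf hS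
  have hpos := ps_posOf_simpleOf hS
  rw [weylGroup_eq_closure_simple hΔ] at hg
  obtain ⟨L, hL, rfl⟩ := exists_word_of_mem_closure hg
  obtain ⟨c, hc, hcΔ, hceq⟩ :=
    dom_decomp_word hΔ f (by rw [hpos]; exact hf) L.length L rfl hL
  exact ⟨c, hc, fun i hi => hcΔ i (fun h => hi (simpleOf_subset h)), hceq⟩

lemma sum_nonneg_of [Fintype ι] {c : ι → Γ} (hc : ∀ i, 0 ≤ c i) (hcS : ∀ i, i ∉ S → c i = 0)
    {m : M} (hm : ∀ i ∈ S, 0 ≤ P.coroot' i m) : 0 ≤ ∑ i, (P.coroot' i m) • c i := by
  refine Finset.sum_nonneg fun i _ => ?_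
  by_cases hi : i ∈ S
  · exact zsmul_nonneg (hc i) (hm i hi)
  · rw [hcS i hi, smul_zero]

/-- Weak dominance. -/
theorem dom_le [Finite ι] (hS : IsPosSys P S) (f : M →+ Γ)
    (hf : ∀ i ∈ S, 0 ≤ f (P.root i)) {g : P.Aut} (hg : g ∈ P.weylGroup) {m : M}
    (hm : ∀ i ∈ S, 0 ≤ P.coroot' i m) : f (g • m) ≤ f m := by
  have := Fintype.ofFinite ι
  obtain ⟨c, hc, hcS, hceq⟩ := dom_decomp hS f hf hg
  rw [← sub_nonneg, hceq m]
  exact sum_nonneg_of hc hcS hm

lemma rootForm_coroot' [Fintype ι] (x : M) (j : ι) :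
    P.RootForm (P.root j) (P.root j) * P.coroot' j x = 2 * P.RootForm x (P.root j) := by
  have h := congrArg (P.toLinearMap x) (P.rootForm_self_smul_coroot j)
  rw [map_smul, map_nsmul, P.toLinearMap_apply_apply_Polarization, rootForm_comm P (P.root j) x] at h
  simpa using h

/-- Every weight has a dominant Weyl conjugate. -/
theorem exists_dom_weight [Finite ι] (hS : IsPosSys P S) (x : M) :
    ∃ g : P.Aut, g ∈ P.weylGroup ∧ ∀ i ∈ S, 0 ≤ P.coroot' i (g • x) := by
  classical
  have := Fintype.ofFinite ι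
  obtain ⟨g, hg, hdom⟩ := exists_dom hS (P.RootForm x).toAddMonoidHom
  refine ⟨g⁻¹, inv_mem hg, fun i hi => ?_⟩
  have h1 : P.coroot' i (g⁻¹ • x) = P.coroot' (g • i) x := by
    have := aut_coroot' g (g⁻¹ • x) i
    rw [smul_inv_smul] at this
    exact this.symm
  have h2 := rootForm_coroot' (P := P) x (g • i)
  have h3 : 0 ≤ P.RootForm x (P.root (g • i)) := by
    rw [root_smul]; exact hdom i hi
  have h4 : 0 < P.RootForm (P.root (g • i)) (P.root (g • i)) := rootForm_root_pos P (g • i)
  rw [h1]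
  by_contra h
  push Not at h
  have := mul_neg_of_pos_of_neg h4 h
  linarith

/-- There is a regular dominant weight. -/
theorem exists_regular [Finite ι] (hS : IsPosSys P S) :
    ∃ m₀ : M, ∀ j ∈ S, 0 < P.coroot' j m₀ := by
  classical
  have := Fintype.ofFinite ι
  obtain ⟨m₁, hm₁⟩ := exists_avoid (Finset.univ : Finset ι) (fun i => P.coroot' i)
    (fun i _ h => by
      have := LinearMap.congr_fun h (P.root i)
      simp at this)
  obtain ⟨g, hg, hdom⟩ := exists_dom_weight hS m₁
  refine ⟨g • m₁, fun j hj => lt_of_le_of_ne (hdom j hj) (Ne.symm ?_)⟩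
  have h1 := aut_coroot' g m₁ (g⁻¹ • j)
  rw [smul_inv_smul] at h1
  rw [h1]
  exact hm₁ _ (Finset.mem_univ _)

lemma finite_weylGroup [Finite ι] : Finite P.weylGroup :=
  Finite.of_injective _ (Groth.Agent.S5452.result P)

end Groth.Agent.Helper7.RootDom
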