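import Mathlib

/-!
# Separatedness over an affine base via an affine open cover (helper7)
-/

open CategoryTheory CategoryTheory.Limits AlgebraicGeometry TopologicalSpace

universe u v

namespace Groth.Agent.Helper7.SepCover

theorem closure_eq_top_of_isPushout {R A₁ A₂ D : CommRingCat.{u}} {a₁ : R ⟶ A₁} {a₂ : R ⟶ A₂}
    {b₁ : A₁ ⟶ D} {b₂ : A₂ ⟶ D} (h : IsPushout a₁ a₂ b₁ b₂) :
    Subring.closure (Set.range b₁.hom ∪ Set.range b₂.hom) = ⊤ := by
  let K : Subring D := Subring.closure (Set.range b₁.hom ∪ Set.range b₂.hom)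
  let b₁' : A₁ ⟶ CommRingCat.of K := CommRingCat.ofHom
    (b₁.hom.codRestrict K fun x => Subring.subset_closure (Or.inl ⟨x, rfl⟩))
  let b₂' : A₂ ⟶ CommRingCat.of K := CommRingCat.ofHom
    (b₂.hom.codRestrict K fun x => Subring.subset_closure (Or.inr ⟨x, rfl⟩))
  let incl : CommRingCat.of K ⟶ D := CommRingCat.ofHom K.subtype
  have w : a₁ ≫ b₁' = a₂ ≫ b₂' := by
    ext x
    exact congr(($(h.w)).hom x)
  let u := h.desc b₁' b₂' w
  have hu : u ≫ incl = 𝟙 D := by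
    apply h.hom_ext
    · rw [← Category.assoc, h.inl_desc]
      ext x
      rfl
    · rw [← Category.assoc, h.inr_desc]
      ext x
      rfl
  rw [eq_top_iff]
  intro d _
  have hd : incl.hom (u.hom d) = d := congr(($hu).hom d)
  rw [← hd]
  exact (u.hom d).2

theorem surjective_iff_closure {R A₁ A₂ D C : CommRingCat.{u}} {a₁ : R ⟶ A₁} {a₂ : R ⟶ A₂}
    {b₁ : A₁ ⟶ D} {b₂ : A₂ ⟶ D} (h : IsPushout a₁ a₂ b₁ b₂) (δ : D ⟶ C) (ρ₁ : A₁ ⟶ C)
    (ρ₂ : A₂ ⟶ C) (h₁ : b₁ ≫ δ = ρ₁) (h₂ : b₂ ≫ δ = ρ₂) :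
    Function.Surjective δ.hom ↔
      Subring.closure (Set.range ρ₁.hom ∪ Set.range ρ₂.hom) = ⊤ := by
  have key : Subring.map δ.hom (Subring.closure (Set.range b₁.hom ∪ Set.range b₂.hom)) =
      Subring.closure (Set.range ρ₁.hom ∪ Set.range ρ₂.hom) := by
    rw [RingHom.map_closure, Set.image_union, ← Set.range_comp, ← Set.range_comp]
    subst h₁ h₂
    rfl
  rw [closure_eq_top_of_isPushout h] at key
  rw [← key, ← RingHom.range_eq_map, RingHom.range_eq_top]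

theorem appLE_of_eq_id {X : Scheme.{u}} (k : X ⟶ X) (hk : k = 𝟙 X) (U V : X.Opens)
    (e : V ≤ k ⁻¹ᵁ U) (e' : V ≤ U) :
    k.appLE U V e = X.presheaf.map (homOfLE e').op := by
  subst hk
  simp [Scheme.Hom.appLE]
  exact Category.id_comp _

theorem surj_appLE_iff {X Z : Scheme.{u}} (g : X ⟶ Z) (W : Z.Opens) (V : X.Opens)
    (hV : V = g ⁻¹ᵁ W) :
    Function.Surjective (g.appLE W V hV.le).hom ↔ Function.Surjective (g.app W).hom := by
  subst hV
  rw [Scheme.Hom.appLE_eq_app]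

variable {X Y : Scheme.{u}} (f : X ⟶ Y)

/-- The open `p₁⁻¹ U₁ ∩ p₂⁻¹ U₂` of `X ×_Y X`. -/
noncomputable abbrev W (U₁ U₂ : X.Opens) : (pullback f f).Opens :=
  pullback.fst f f ⁻¹ᵁ U₁ ⊓ pullback.snd f f ⁻¹ᵁ U₂

theorem hle (V : X.Opens) : V ≤ f ⁻¹ᵁ (⊤ : Y.Opens) := fun _ _ => trivial

theorem diag_preimage_W (U₁ U₂ : X.Opens) :
    pullback.diagonal f ⁻¹ᵁ (W f U₁ U₂) = U₁ ⊓ U₂ := by
  rw [W, Scheme.Hom.preimage_inf, ← Scheme.Hom.comp_preimage, ← Scheme.Hom.comp_preimage,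
    pullback.diagonal_fst, pullback.diagonal_snd, Scheme.Hom.id_preimage, Scheme.Hom.id_preimage]

theorem iSup_W {ι : Type v} (U : ι → X.Opens) (hcov : ⨆ i, U i = ⊤) :
    ⨆ ij : ι × ι, W f (U ij.1) (U ij.2) = ⊤ := by
  rw [eq_top_iff]
  intro z _
  have h1 : (pullback.fst f f) z ∈ (⊤ : X.Opens) := trivial
  have h2 : (pullback.snd f f) z ∈ (⊤ : X.Opens) := trivial
  rw [← hcov, Opens.mem_iSup] at h1 h2
  obtain ⟨i, hi⟩ := h1
  obtain ⟨j, hj⟩ := h2
  exact Opens.mem_iSup.mpr ⟨(i, j), ⟨hi, hj⟩⟩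

variable [IsAffine Y]

theorem isAffineOpen_W {U₁ U₂ : X.Opens} (h₁ : IsAffineOpen U₁) (h₂ : IsAffineOpen U₂) :
    IsAffineOpen (W f U₁ U₂) := by
  have H := Scheme.Hom.isPullback_resLE (IsPullback.of_hasPullback f f) (US := ⊤) (UT := U₂)
    (UX := U₁) (hle f U₂) (hle f U₁) (UY := W f U₁ U₂) rfl
  have : IsAffine ↑U₁ := h₁
  have : IsAffine ↑U₂ := h₂
  have : IsAffine ↑(⊤ : Y.Opens) := isAffineOpen_top Y
  exact IsAffine.of_isIso H.isoPullback.hom

theorem isPushout_W {U₁ U₂ : X.Opens} (h₁ : IsAffineOpen U₁) (h₂ : IsAffineOpen U₂) :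
    IsPushout (f.appLE ⊤ U₁ (hle f U₁)) (f.appLE ⊤ U₂ (hle f U₂))
      ((pullback.fst f f).appLE U₁ (W f U₁ U₂) inf_le_left)
      ((pullback.snd f f).appLE U₂ (W f U₁ U₂) inf_le_right) :=
  (isIso_pushoutSection_iff (IsPullback.of_hasPullback f f) (hle f U₂) (hle f U₁) rfl).mp
    (isIso_pushoutSection_of_isAffineOpen _ _ _ rfl (isAffineOpen_top Y) h₂ h₁)

theorem key {U₁ U₂ : X.Opens} (h₁ : IsAffineOpen U₁) (h₂ : IsAffineOpen U₂) :
    Function.Surjective ((pullback.diagonal f).appLE (W f U₁ U₂) (U₁ ⊓ U₂)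
        (diag_preimage_W f U₁ U₂).ge).hom ↔
      Subring.closure (Set.range (X.presheaf.map (homOfLE (inf_le_left : U₁ ⊓ U₂ ≤ U₁)).op).hom ∪
        Set.range (X.presheaf.map (homOfLE (inf_le_right : U₁ ⊓ U₂ ≤ U₂)).op).hom) = ⊤ := by
  refine surjective_iff_closure (isPushout_W f h₁ h₂) _ _ _ ?_ ?_
  · rw [Scheme.Hom.appLE_comp_appLE]
    exact appLE_of_eq_id _ (pullback.diagonal_fst f) _ _ _ _
  · rw [Scheme.Hom.appLE_comp_appLE]
    exact appLE_of_eq_id _ (pullback.diagonal_snd f) _ _ _ _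

theorem main {ι : Type v} (U : ι → X.Opens) (hU : ∀ i, IsAffineOpen (U i))
    (hcov : ⨆ i, U i = ⊤) :
    IsSeparated f ↔ ∀ i j, IsAffineOpen (U i ⊓ U j) ∧
      Subring.closure (Set.range (X.presheaf.map (homOfLE (inf_le_left : U i ⊓ U j ≤ U i)).op).hom ∪
        Set.range (X.presheaf.map (homOfLE (inf_le_right : U i ⊓ U j ≤ U j)).op).hom) = ⊤ := by
  constructor
  · intro hsep i j
    have hΔ : IsClosedImmersion (pullback.diagonal f) := inferInstance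
    obtain ⟨haff, hsurj⟩ := isClosedImmersion_iff_isAffineHom.mp hΔ
    have hW := isAffineOpen_W f (hU i) (hU j)
    constructor
    · have := hW.preimage (pullback.diagonal f)
      rwa [diag_preimage_W] at this
    · exact (key f (hU i) (hU j)).mp
        ((surj_appLE_iff _ _ _ (diag_preimage_W f _ _).symm).mpr (hsurj _ hW))
  · intro h
    refine ⟨?_⟩
    rw [HasAffineProperty.iff_of_iSup_eq_top (P := @IsClosedImmersion)
      (fun ij : ι × ι => (⟨W f (U ij.1) (U ij.2), isAffineOpen_W f (hU ij.1) (hU ij.2)⟩ :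
        (pullback f f).affineOpens)) (iSup_W f U hcov)]
    rintro ⟨i, j⟩
    obtain ⟨haff, hcl⟩ := h i j
    refine ⟨?_, ?_⟩
    · have : IsAffineOpen (pullback.diagonal f ⁻¹ᵁ W f (U i) (U j)) := by
        rw [diag_preimage_W]; exact haff
      exact this
    · have hs := (surj_appLE_iff _ _ _ (diag_preimage_W f _ _).symm).mp
        ((key f (hU i) (hU j)).mpr hcl)
      rw [← Scheme.Hom.resLE_eq_morphismRestrict]
      refine (RingHom.surjective_respectsIso.arrow_mk_iso_iff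
        (arrowResLEAppIso _ _ _ le_rfl)).mpr ?_
      rwa [Scheme.Hom.appLE_eq_app]

end Groth.Agent.Helper7.SepCover
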