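import Mathlib

/-!
# Atom stratification attached to a finite family of closed sets
-/

set_option autoImplicit false
set_option linter.unusedSectionVars false
universe u

namespace Groth.Agent.Helper7

open Set

variable {X : Type u} [TopologicalSpace X] {ι : Type} [Fintype ι] [DecidableEq ι]

/-- the atom of the family `C` attached to `A`: points lying exactly in the `C l`, `l ∈ A`. -/
def atom (C : ι → Set X) (A : (Finset ι)ᵒᵈ) : Set X :=
  {x | ∀ l, l ∈ OrderDual.ofDual A ↔ x ∈ C l}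

theorem atom_eq (C : ι → Set X) (A : (Finset ι)ᵒᵈ) :
    atom C A = (⋃ l ∈ (OrderDual.ofDual A)ᶜ, C l)ᶜ ∩ (⋂ l ∈ OrderDual.ofDual A, C l) := by
  ext x
  simp only [atom, mem_ofPred_eq, mem_inter_iff, mem_compl_iff, mem_iUnion, mem_iInter,
    Finset.mem_compl, not_exists]
  constructor
  · intro h
    exact ⟨fun l hl hx => hl ((h l).2 hx), fun l hl => (h l).1 hl⟩
  · rintro ⟨h1, h2⟩ l
    exact ⟨h2 l, fun hx => by_contra fun hl => h1 l hl hx⟩

theorem atom_isLocallyClosed (C : ι → Set X) (hC : ∀ l, IsClosed (C l)) (A : (Finset ι)ᵒᵈ) :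
    IsLocallyClosed (atom C A) := by
  refine ⟨(⋃ l ∈ (OrderDual.ofDual A)ᶜ, C l)ᶜ, ⋂ l ∈ OrderDual.ofDual A, C l, ?_, ?_, atom_eq C A⟩
  · exact (isClosed_biUnion_finset (fun l _ => hC l)).isOpen_compl
  · exact isClosed_biInter (fun l _ => hC l)

theorem atom_isOpen_compl_inter (C : ι → Set X) (A : (Finset ι)ᵒᵈ) (x : X) (hx : x ∈ atom C A)
    (l : ι) : x ∈ C l ↔ l ∈ OrderDual.ofDual A := (hx l).symm

theorem iUnion_atom (C : ι → Set X) : ⋃ A, atom C A = univ := by
  rw [eq_univ_iff_forall]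
  intro x
  classical
  refine mem_iUnion.2 ⟨OrderDual.toDual (Finset.univ.filter (fun l => x ∈ C l)), ?_⟩
  intro l
  simp

theorem atom_disjoint (C : ι → Set X) (A B : (Finset ι)ᵒᵈ) (hAB : A ≠ B) :
    Disjoint (atom C A) (atom C B) := by
  rw [Set.disjoint_left]
  intro x hxA hxB
  apply hAB
  apply OrderDual.ofDual.injective
  ext l
  rw [hxA l, hxB l]

theorem closure_atom_subset (C : ι → Set X) (hC : ∀ l, IsClosed (C l)) (B : (Finset ι)ᵒᵈ) :
    closure (atom C B) ⊆ ⋃ A ∈ Set.Iic B, atom C A := by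
  intro x hx
  classical
  have hx' : x ∈ ⋂ l ∈ OrderDual.ofDual B, C l := by
    have hcl : IsClosed (⋂ l ∈ OrderDual.ofDual B, C l) := isClosed_biInter (fun l _ => hC l)
    refine closure_minimal ?_ hcl hx
    intro y hy
    simp only [mem_iInter]
    exact fun l hl => (hy l).1 hl
  simp only [mem_iInter] at hx'
  simp only [mem_iUnion, Set.mem_Iic]
  refine ⟨OrderDual.toDual (Finset.univ.filter (fun l => x ∈ C l)), ?_, ?_⟩
  · rw [← OrderDual.ofDual_le_ofDual]
    intro l hl
    simp only [OrderDual.ofDual_toDual, Finset.mem_filter, Finset.mem_univ, true_and]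
    exact hx' l hl
  · intro l
    simp

end Groth.Agent.Helper7
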