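import Mathlib
import Groth.Prelude.Def_MoreMor
import Groth.Agent.Lib.Helper8.LocalCrit

/-!
# Flatness and finite order thickenings (helper7)

Ring level: `A' → B' → C'` with `C'` flat over `A'`, `I ⊂ A'` nilpotent; if the base change of
`B' → C'` to `B'/IB'` is flat then `B' → C'` is flat.  Scheme level: the same for morphisms
`X' → Y'` over `S'` with `X'` flat over `S'` and a finite order thickening `S → S'`.
-/

set_option autoImplicit false
universe u

namespace Groth.Agent.Helper7.ThickFlat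

open AlgebraicGeometry CategoryTheory Limits TensorProduct

theorem rTensor_map_subtype_injective {A' B' C' : Type u} [CommRing A'] [CommRing B'] [CommRing C']
    [Algebra A' B'] [Algebra B' C'] [Algebra A' C'] [IsScalarTower A' B' C'] (I : Ideal A')
    [Module.Flat A' C'] :
    Function.Injective (((I.map (algebraMap A' B')).subtype).rTensor C') := by
  set J : Ideal B' := I.map (algebraMap A' B') with hJ
  · -- injectivity of `J ⊗ C' → C'`
    let ρ : I →ₗ[A'] J :=
      { toFun := fun r => ⟨algebraMap A' B' r, Ideal.mem_map_of_mem _ r.2⟩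
        map_add' := fun r s => by ext; simp
        map_smul' := fun a r => by ext; simp [Algebra.smul_def] }
    let θ : I ⊗[A'] C' →ₗ[A'] J ⊗[B'] C' :=
      (TensorProduct.mapOfCompatibleSMul B' A' A' J C').comp (TensorProduct.map ρ LinearMap.id)
    have hθt : ∀ (r : I) (c : C'), θ (r ⊗ₜ[A'] c) = ρ r ⊗ₜ[B'] c := by
      intro r c
      simp [θ]
    have hθ : Function.Surjective θ := by
      intro x
      induction x using TensorProduct.induction_on with
      | zero => exact ⟨0, map_zero _⟩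
      | add x y hx hy =>
        obtain ⟨x', rfl⟩ := hx
        obtain ⟨y', rfl⟩ := hy
        exact ⟨x' + y', map_add _ _ _⟩
      | tmul j c =>
        obtain ⟨j, hj⟩ := j
        have hj' : j ∈ Submodule.span B' ((algebraMap A' B') '' (I : Set A')) := hj
        revert c
        refine Submodule.span_induction
          (p := fun j hj => ∀ (c : C'), ∃ y, θ y = (⟨j, hj⟩ : J) ⊗ₜ[B'] c)
          ?_ ?_ ?_ ?_ hj'
        · rintro _ ⟨r, hr, rfl⟩ c
          exact ⟨(⟨r, hr⟩ : I) ⊗ₜ c, hθt _ c⟩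
        · intro c
          refine ⟨0, ?_⟩
          rw [map_zero]
          exact (TensorProduct.zero_tmul _ c).symm
        · intro j j' hj hj' ih ih' c
          obtain ⟨y, hy⟩ := ih c
          obtain ⟨y', hy'⟩ := ih' c
          refine ⟨y + y', ?_⟩
          rw [map_add, hy, hy', ← TensorProduct.add_tmul]
          rfl
        · intro b j hj ih c
          obtain ⟨y, hy⟩ := ih (b • c)
          refine ⟨y, ?_⟩
          rw [hy, ← TensorProduct.smul_tmul]
          rfl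
    have hinj : Function.Injective ((I.subtype).rTensor C') :=
      Module.Flat.rTensor_preserves_injective_linearMap _ (Submodule.injective_subtype I)
    have hrel : ∀ y : I ⊗[A'] C', TensorProduct.lid B' C' ((J.subtype.rTensor C') (θ y)) =
        TensorProduct.lid A' C' ((I.subtype.rTensor C') y) := by
      intro y
      induction y using TensorProduct.induction_on with
      | zero => simp
      | add y y' h h' => simp only [map_add, h, h']
      | tmul r c =>
        rw [hθt]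
        simp [ρ]
    rw [injective_iff_map_eq_zero]
    intro x hx
    obtain ⟨y, rfl⟩ := hθ x
    have h0 : (I.subtype.rTensor C') y = 0 := by
      apply (TensorProduct.lid A' C').injective
      rw [← hrel y, hx, map_zero, map_zero]
    have hy0 : y = 0 := hinj (by rw [h0, map_zero])
    rw [hy0, map_zero]

theorem flat_of_thickening_alg {A' B' C' B C : Type u} [CommRing A'] [CommRing B'] [CommRing C']
    [CommRing B] [CommRing C]
    [Algebra A' B'] [Algebra B' C'] [Algebra A' C'] [IsScalarTower A' B' C']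
    [Algebra B' B] [Algebra B C] [Algebra C' C] [Algebra B' C] [IsScalarTower B' B C]
    [IsScalarTower B' C' C] [Algebra.IsPushout B' B C' C] (I : Ideal A') (n : ℕ) (hn : I ^ n = ⊥)
    [Module.Flat A' C'] [Module.Flat B C]
    (d : B →+* B' ⧸ I.map (algebraMap A' B'))
    (hd : ∀ b' : B', d (algebraMap B' B b') = Ideal.Quotient.mk _ b') : Module.Flat B' C' := by
  have hJn : (I.map (algebraMap A' B')) ^ n = ⊥ := by rw [← Ideal.map_pow, hn, Ideal.map_bot]
  refine Groth.Agent.Helper8.LocalCrit.flat_of_nilpotent (I.map (algebraMap A' B')) n hJn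
    (rTensor_map_subtype_injective I) ?_
  letI : Algebra B (B' ⧸ I.map (algebraMap A' B')) := d.toAlgebra
  have : IsScalarTower B' B (B' ⧸ I.map (algebraMap A' B')) :=
    IsScalarTower.of_algebraMap_eq (fun b' => (hd b').symm)
  have e1 : B ⊗[B'] C' ≃ₗ[B] C :=
    (Algebra.IsPushout.out (R := B') (S := B) (R' := C') (S' := C)).equiv
  have : Module.Flat B (B ⊗[B'] C') := Module.Flat.of_linearEquiv e1
  have : Module.Flat (B' ⧸ I.map (algebraMap A' B'))
      ((B' ⧸ I.map (algebraMap A' B')) ⊗[B] (B ⊗[B'] C')) :=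
    Module.Flat.baseChange B (B' ⧸ I.map (algebraMap A' B')) (B ⊗[B'] C')
  exact Module.Flat.of_linearEquiv
    (AlgebraTensorModule.cancelBaseChange B' B (B' ⧸ I.map (algebraMap A' B'))
      (B' ⧸ I.map (algebraMap A' B')) C').symm

theorem flat_of_isPushout {A' A B' B C' C : CommRingCat.{u}} {β' : A' ⟶ B'} {a : A' ⟶ A}
    {b : B' ⟶ B} {β : A ⟶ B} {γ' : B' ⟶ C'} {c : C' ⟶ C} {γ : B ⟶ C}
    (h1 : IsPushout β' a b β) (h2 : IsPushout γ' b c γ) (ha : Function.Surjective a.hom)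
    (hn : IsNilpotent (RingHom.ker a.hom)) (hfl : (β' ≫ γ').hom.Flat) (hγ : γ.hom.Flat) :
    γ'.hom.Flat := by
  obtain ⟨n, hn⟩ := hn
  algebraize [β'.hom, γ'.hom, (β' ≫ γ').hom, b.hom, γ.hom, c.hom, c.hom.comp γ'.hom]
  have : IsScalarTower A' B' C' := .of_algebraMap_eq' rfl
  have : IsScalarTower B' B C := .of_algebraMap_eq' <| congr($(h2.1.1).hom)
  have hP : Algebra.IsPushout B' C' B C := CommRingCat.isPushout_iff_isPushout.mp h2
  have hP' : Algebra.IsPushout B' B C' C := hP.symm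
  let J : Ideal B' := (RingHom.ker a.hom).map (algebraMap A' B')
  let q : B' ⟶ CommRingCat.of (B' ⧸ J) := CommRingCat.ofHom (Ideal.Quotient.mk J)
  have hker : RingHom.ker a.hom ≤ RingHom.ker (β' ≫ q).hom := by
    intro r hr
    rw [RingHom.mem_ker]
    show Ideal.Quotient.mk J (β'.hom r) = 0
    rw [Ideal.Quotient.eq_zero_iff_mem]
    exact Ideal.mem_map_of_mem _ hr
  let σ : A ⟶ CommRingCat.of (B' ⧸ J) :=
    CommRingCat.ofHom (RingHom.liftOfSurjective a.hom ha ⟨(β' ≫ q).hom, hker⟩)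
  have hσ : a ≫ σ = β' ≫ q := by
    ext r
    exact RingHom.liftOfRightInverse_comp_apply a.hom (Function.surjInv ha)
      (Function.rightInverse_surjInv ha) ⟨(β' ≫ q).hom, hker⟩ r
  have hd : b ≫ h1.desc q σ hσ.symm = q := h1.inl_desc _ _ _
  have : Module.Flat A' C' := hfl
  have : Module.Flat B C := hγ
  have hk : RingHom.ker a.hom ^ n = ⊥ := hn
  exact flat_of_thickening_alg (A' := A') (B' := B') (C' := C') (B := B) (C := C)
    (RingHom.ker a.hom) n hk (h1.desc q σ hσ.symm).hom (fun b' => congr($(hd).hom b'))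

theorem flat_of_thickening {X X' Y Y' S S' : Scheme.{u}} (iX : X ⟶ X') (iY : Y ⟶ Y') (iS : S ⟶ S')
    (f : X ⟶ Y) (f' : X' ⟶ Y') (g : Y ⟶ S) (g' : Y' ⟶ S')
    (hS : MoreMor.IsFiniteOrderThickening iS) (hcX : IsPullback iX (f ≫ g) (f' ≫ g') iS)
    (hcY : IsPullback iY g g' iS) (w : iX ≫ f' = f ≫ iY) [Flat (f' ≫ g')] [Flat f] : Flat f' := by
  obtain ⟨⟨hci, hsurj⟩, hnil⟩ := hS
  have := hci
  have hloc : RingHom.StableUnderCompositionWithLocalizationAwaySource RingHom.Flat :=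
    fun R S T _ _ _ _ r _ f hf => RingHom.Flat.comp (RingHom.Flat.holdsForLocalizationAway S r) hf
  rw [HasRingHomProperty.iff_exists_appLE (P := @Flat) hloc]
  intro x'
  obtain ⟨U', hU', hxU', -⟩ := TopologicalSpace.Opens.isBasis_iff_nbhd.mp S'.isBasis_affineOpens
    (show g' (f' x') ∈ (⊤ : S'.Opens) from trivial)
  obtain ⟨V', hV', hxV', eV⟩ := TopologicalSpace.Opens.isBasis_iff_nbhd.mp Y'.isBasis_affineOpens
    (show f' x' ∈ g' ⁻¹ᵁ U' from hxU')
  obtain ⟨W', hW', hxW', eW⟩ := TopologicalSpace.Opens.isBasis_iff_nbhd.mp X'.isBasis_affineOpens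
    (show x' ∈ f' ⁻¹ᵁ V' from hxV')
  refine ⟨⟨V', hV'⟩, ⟨W', hW'⟩, hxW', eW, ?_⟩
  have eW2 : W' ≤ (f' ≫ g') ⁻¹ᵁ U' := by
    intro z hz
    have h1 : f' z ∈ V' := eW hz
    have h2 : g' (f' z) ∈ U' := eV h1
    show (f' ≫ g') z ∈ U'
    rw [Scheme.Hom.comp_apply]; exact h2
  have hUT : IsAffineOpen (iS ⁻¹ᵁ U') := hU'.preimage iS
  obtain ⟨V, hVdef⟩ : ∃ V : Y.Opens, V = iY ⁻¹ᵁ V' ⊓ g ⁻¹ᵁ (iS ⁻¹ᵁ U') := ⟨_, rfl⟩
  obtain ⟨W, hWdef⟩ : ∃ W : X.Opens, W = iX ⁻¹ᵁ W' ⊓ (f ≫ g) ⁻¹ᵁ (iS ⁻¹ᵁ U') := ⟨_, rfl⟩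
  have hisoY := isIso_pushoutSection_of_isAffineOpen hcY (le_refl (iS ⁻¹ᵁ U')) eV hVdef hU' hUT hV'
  have hpoY := (isIso_pushoutSection_iff hcY (le_refl (iS ⁻¹ᵁ U')) eV hVdef).mp hisoY
  have hisoX := isIso_pushoutSection_of_isAffineOpen hcX (le_refl (iS ⁻¹ᵁ U')) eW2 hWdef hU' hUT hW'
  have hpoX := (isIso_pushoutSection_iff hcX (le_refl (iS ⁻¹ᵁ U')) eW2 hWdef).mp hisoX
  have hVa : IsAffineOpen V := by
    have : IsAffine _ := hU'
    have : IsAffine _ := hUT
    have : IsAffine _ := hV'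
    exact .of_isIso (Scheme.Hom.isPullback_resLE hcY (le_refl (iS ⁻¹ᵁ U')) eV hVdef).isoPullback.hom
  have hWa : IsAffineOpen W := by
    have : IsAffine _ := hU'
    have : IsAffine _ := hUT
    have : IsAffine _ := hW'
    exact .of_isIso (Scheme.Hom.isPullback_resLE hcX (le_refl (iS ⁻¹ᵁ U')) eW2 hWdef).isoPullback.hom
  have hWV' : W ≤ iX ⁻¹ᵁ W' := hWdef.le.trans inf_le_left
  have hVV' : V ≤ iY ⁻¹ᵁ V' := hVdef.le.trans inf_le_left
  have hVU : V ≤ g ⁻¹ᵁ (iS ⁻¹ᵁ U') := hVdef.le.trans inf_le_right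
  have eVW : W ≤ f ⁻¹ᵁ V := by
    intro z hz
    rw [hWdef] at hz
    obtain ⟨hz1, hz2⟩ := hz
    show f z ∈ V
    rw [hVdef]
    refine ⟨?_, ?_⟩
    · show iY (f z) ∈ V'
      have h3 : iY (f z) = f' (iX z) := by
        rw [← Scheme.Hom.comp_apply, ← w, Scheme.Hom.comp_apply]
      rw [h3]; exact eW hz1
    · show g (f z) ∈ iS ⁻¹ᵁ U'
      rw [← Scheme.Hom.comp_apply]; exact hz2
  have hsX : IsPushout (g'.appLE U' V' eV ≫ f'.appLE V' W' eW)
      (iS.appLE U' (iS ⁻¹ᵁ U') (le_refl _)) (iX.appLE W' W hWV')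
      (g.appLE (iS ⁻¹ᵁ U') V hVU ≫ f.appLE V W eVW) := by
    rw [Scheme.Hom.appLE_comp_appLE, Scheme.Hom.appLE_comp_appLE]; exact hpoX
  have hp : f'.appLE V' W' eW ≫ iX.appLE W' W hWV' = iY.appLE V' V hVV' ≫ f.appLE V W eVW := by
    rw [Scheme.Hom.appLE_comp_appLE, Scheme.Hom.appLE_comp_appLE]
    congr 1
  have hright := IsPushout.of_left hsX hp hpoY
  have hflA : ((g'.appLE U' V' eV) ≫ (f'.appLE V' W' eW)).hom.Flat := by
    rw [Scheme.Hom.appLE_comp_appLE]
    exact HasRingHomProperty.appLE @Flat (f' ≫ g') inferInstance ⟨U', hU'⟩ ⟨W', hW'⟩ _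
  have hflB : (f.appLE V W eVW).hom.Flat :=
    HasRingHomProperty.appLE @Flat f inferInstance ⟨V, hVa⟩ ⟨W, hWa⟩ eVW
  refine flat_of_isPushout hpoY hright ?_ ?_ hflA hflB
  · rw [Scheme.Hom.appLE_eq_app]; exact iS.app_surjective U' hU'
  · rw [Scheme.Hom.appLE_eq_app]
    obtain ⟨n, hn⟩ := hnil
    exact ⟨n, by simpa using congr(($hn).ideal ⟨U', hU'⟩)⟩

theorem flat_iff_of_thickening {X X' Y Y' S S' : Scheme.{u}} (iX : X ⟶ X') (iY : Y ⟶ Y')
    (iS : S ⟶ S') (f : X ⟶ Y) (f' : X' ⟶ Y') (g : Y ⟶ S) (g' : Y' ⟶ S')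
    (hS : MoreMor.IsFiniteOrderThickening iS) (hcX : IsPullback iX (f ≫ g) (f' ≫ g') iS)
    (hcY : IsPullback iY g g' iS) (w : iX ≫ f' = f ≫ iY) [Flat (f' ≫ g')] :
    Flat f ↔ Flat f' := by
  constructor
  · intro _
    exact flat_of_thickening iX iY iS f f' g g' hS hcX hcY w
  · intro hf'
    exact MorphismProperty.of_isPullback (P := @Flat) (IsPullback.of_bot hcX w hcY) hf'

end Groth.Agent.Helper7.ThickFlat
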