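import Mathlib
import Groth.Prelude.Def_MoreMor
import Groth.Agent.Lib.Helper7.ThickFlat

/-!
# Finite presentation and finite order thickenings (helper7)

Ring level: `R → S`, `J ⊂ R` nilpotent with `J ⊗ S → S` injective; if `S/JS` is finitely presented
over `R/J` then `S` is finitely presented over `R`.  Scheme level: local finite presentation lifts
along finite order thickenings for morphisms `X' → Y'` over `S'` with `X'` flat over `S'`.
-/

set_option autoImplicit false
universe u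

namespace Groth.Agent.Helper7.ThickFP

open AlgebraicGeometry CategoryTheory Limits TensorProduct

/-- Nakayama for nilpotent ideals. -/
theorem le_of_le_sup_smul {R M : Type*} [CommRing R] [AddCommGroup M] [Module R M] (J : Ideal R)
    (n : ℕ) (hJ : J ^ n = ⊥) (L N : Submodule R M) (h : N ≤ L ⊔ J • N) : N ≤ L := by
  have h2 : ∀ k : ℕ, N ≤ L ⊔ J ^ k • N := by
    intro k
    induction k with
    | zero => rw [pow_zero, Ideal.one_eq_top, Submodule.top_smul]; exact le_sup_right
    | succ k ih =>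
      calc N ≤ L ⊔ J ^ k • N := ih
        _ ≤ L ⊔ J ^ k • (L ⊔ J • N) := sup_le_sup_left (Submodule.smul_mono le_rfl h) _
        _ = L ⊔ (J ^ k • L ⊔ J ^ k • J • N) := by rw [Submodule.smul_sup]
        _ ≤ L ⊔ J ^ (k + 1) • N := by
          rw [← Submodule.mul_smul, ← pow_succ]
          exact sup_le le_sup_left
            (sup_le (Submodule.smul_le_right.trans le_sup_left) le_sup_right)
  have := h2 n
  rwa [hJ, Submodule.bot_smul, sup_bot_eq] at this

theorem finitePresentation_of_nilpotent {R S T S' : Type u} [CommRing R] [CommRing S] [CommRing T]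
    [CommRing S'] [Algebra R S] [Algebra R T] [Algebra T S'] [Algebra S S'] [Algebra R S']
    [IsScalarTower R T S'] [IsScalarTower R S S']
    (J : Ideal R) (n : ℕ) (hJ : J ^ n = ⊥) (hT : Function.Surjective (algebraMap R T))
    (hker : RingHom.ker (algebraMap R T) = J)
    (hS : Function.Surjective (algebraMap S S'))
    (hSker : ∀ s : S, algebraMap S S' s = 0 → s ∈ (J • ⊤ : Submodule R S))
    [Algebra.FinitePresentation T S'] (hTor : Function.Injective (J.subtype.rTensor S)) :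
    Algebra.FinitePresentation R S := by
  classical
  obtain ⟨m, f', hf'⟩ := Algebra.FiniteType.iff_quotient_mvPolynomial''.mp
    (inferInstance : Algebra.FiniteType T S')
  choose s hs using fun i : Fin m => hS (f' (MvPolynomial.X i))
  let π : MvPolynomial (Fin m) R →ₐ[R] S := MvPolynomial.aeval s
  let μ : MvPolynomial (Fin m) R →+* MvPolynomial (Fin m) T := MvPolynomial.map (algebraMap R T)
  have hμ : Function.Surjective μ := MvPolynomial.map_surjective _ hT
  have hC : ∀ r : R, f' (MvPolynomial.C (algebraMap R T r)) = algebraMap S S' (algebraMap R S r) := by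
    intro r
    have h1 : f' (MvPolynomial.C (algebraMap R T r)) = algebraMap T S' (algebraMap R T r) := by
      rw [← MvPolynomial.algebraMap_eq]; exact f'.commutes _
    rw [h1, ← IsScalarTower.algebraMap_apply, ← IsScalarTower.algebraMap_apply]
  have hcomp' : (f'.toRingHom.comp μ) = (algebraMap S S').comp π.toRingHom := by
    apply MvPolynomial.ringHom_ext
    · intro r
      show f' (μ (MvPolynomial.C r)) = algebraMap S S' (π (MvPolynomial.C r))
      simp only [μ, π, MvPolynomial.map_C, MvPolynomial.aeval_C]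
      exact hC r
    · intro i
      show f' (μ (MvPolynomial.X i)) = algebraMap S S' (π (MvPolynomial.X i))
      simp only [μ, π, MvPolynomial.map_X, MvPolynomial.aeval_X]
      exact (hs i).symm
  have hcomp : ∀ p, f' (μ p) = algebraMap S S' (π p) := fun p => congr($hcomp' p)
  have hμJ : ∀ p ∈ (J • ⊤ : Submodule R (MvPolynomial (Fin m) R)), μ p = 0 := by
    intro p hp
    refine Submodule.smul_induction_on hp ?_ ?_
    · intro j hj q _
      have hj0 : algebraMap R T j = 0 := by rw [← RingHom.mem_ker, hker]; exact hj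
      rw [Algebra.smul_def, map_mul, MvPolynomial.algebraMap_eq]
      simp only [μ, MvPolynomial.map_C, hj0, map_zero, zero_mul]
    · intro x y hx hy; rw [map_add, hx, hy, add_zero]
  have hπ : Function.Surjective π := by
    have h1 : (⊤ : Submodule R S) ≤ LinearMap.range π.toLinearMap ⊔ J • ⊤ := by
      intro x _
      obtain ⟨pb, hpb⟩ := hf' (algebraMap S S' x)
      obtain ⟨p, rfl⟩ := hμ pb
      have h2 : x - π p ∈ (J • ⊤ : Submodule R S) :=
        hSker _ (by rw [map_sub, ← hcomp, hpb, sub_self])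
      have h3 : x = π p + (x - π p) := by ring
      rw [h3]
      exact Submodule.add_mem_sup ⟨p, rfl⟩ h2
    have h4 := le_of_le_sup_smul J n hJ _ _ h1
    intro x
    obtain ⟨p, hp⟩ := h4 (Submodule.mem_top : x ∈ ⊤)
    exact ⟨p, hp⟩
  have hKb : (RingHom.ker f'.toRingHom).FG :=
    Algebra.FinitePresentation.ker_fG_of_surjective f' hf'
  obtain ⟨G, hG⟩ := hKb
  have lift : ∀ gb : MvPolynomial (Fin m) T, f' gb = 0 → ∃ k, π k = 0 ∧ μ k = gb := by
    intro gb hgb
    obtain ⟨p, rfl⟩ := hμ gb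
    have h1 : π p ∈ (J • ⊤ : Submodule R S) := hSker _ (by rw [← hcomp, hgb])
    have h2 : (J • ⊤ : Submodule R S) =
        (J • ⊤ : Submodule R (MvPolynomial (Fin m) R)).map π.toLinearMap := by
      rw [Submodule.map_smul'', Submodule.map_top, LinearMap.range_eq_top.mpr hπ]
    rw [h2] at h1
    obtain ⟨p', hp'J, hp'⟩ := h1
    have hp'' : π p' = π p := hp'
    refine ⟨p - p', ?_, ?_⟩
    · rw [map_sub, hp'', sub_self]
    · rw [map_sub, hμJ p' hp'J, sub_zero]
  have hGk : ∀ gb ∈ G, f' gb = 0 := by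
    intro gb hgb
    have : gb ∈ RingHom.ker f'.toRingHom := by rw [← hG]; exact Submodule.subset_span hgb
    exact this
  choose! kk hkk1 hkk2 using lift
  let K'' : Ideal (MvPolynomial (Fin m) R) := Ideal.span ((G.image kk : Finset _) : Set _)
  have hK''le : ∀ k ∈ K'', π k = 0 := by
    intro k hk
    refine Submodule.span_induction (p := fun x _ => π x = 0) ?_ ?_ ?_ ?_ hk
    · intro x hx
      simp only [Finset.coe_image, Set.mem_image, Finset.mem_coe] at hx
      obtain ⟨gb, hgb, rfl⟩ := hx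
      exact hkk1 gb (hGk gb hgb)
    · exact map_zero _
    · intro x y _ _ hx hy; rw [map_add, hx, hy, add_zero]
    · intro a x _ hx; rw [smul_eq_mul, map_mul, hx, mul_zero]
  have hK''μ : ∀ gb ∈ RingHom.ker f'.toRingHom, ∃ k ∈ K'', μ k = gb := by
    intro gb hgb
    rw [← hG] at hgb
    refine Submodule.span_induction (p := fun x _ => ∃ k ∈ K'', μ k = x) ?_ ?_ ?_ ?_ hgb
    · intro x hx
      refine ⟨kk x, Ideal.subset_span ?_, hkk2 x (hGk x hx)⟩
      simp only [Finset.coe_image]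
      exact ⟨x, hx, rfl⟩
    · exact ⟨0, K''.zero_mem, map_zero _⟩
    · rintro x y _ _ ⟨kx, hkx, rfl⟩ ⟨ky, hky, rfl⟩
      exact ⟨kx + ky, K''.add_mem hkx hky, map_add _ _ _⟩
    · rintro a x _ ⟨kx, hkx, rfl⟩
      obtain ⟨q, rfl⟩ := hμ a
      exact ⟨q * kx, K''.mul_mem_left q hkx, by rw [map_mul, smul_eq_mul]⟩
  let πl : MvPolynomial (Fin m) R →ₗ[R] S := π.toLinearMap
  let KR : Submodule R (MvPolynomial (Fin m) R) := LinearMap.ker πl
  have htor : ∀ x ∈ KR, x ∈ (J • ⊤ : Submodule R (MvPolynomial (Fin m) R)) → x ∈ J • KR := by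
    intro x hxK hxJ
    let mulP : J ⊗[R] MvPolynomial (Fin m) R →ₗ[R] MvPolynomial (Fin m) R :=
      (TensorProduct.lid R _).toLinearMap ∘ₗ (J.subtype.rTensor _)
    have hmulP : ∀ (j : J) (p : MvPolynomial (Fin m) R), mulP (j ⊗ₜ p) = (j : R) • p := by
      intro j p; simp [mulP]
    obtain ⟨w, hw⟩ : ∃ w, mulP w = x := by
      refine Submodule.smul_induction_on hxJ ?_ ?_
      · intro j hj p _; exact ⟨(⟨j, hj⟩ : J) ⊗ₜ p, hmulP _ _⟩
      · rintro _ _ ⟨w1, rfl⟩ ⟨w2, rfl⟩; exact ⟨w1 + w2, map_add _ _ _⟩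
    have h2 : ∀ w : J ⊗[R] MvPolynomial (Fin m) R,
        TensorProduct.lid R S ((J.subtype.rTensor S) ((LinearMap.lTensor J πl) w)) =
          πl (mulP w) := by
      intro w
      induction w using TensorProduct.induction_on with
      | zero => simp
      | add a b ha hb => simp only [map_add, ha, hb]
      | tmul j p => simp [mulP, πl]
    have h1 : (LinearMap.lTensor J πl) w = 0 := by
      apply hTor
      rw [map_zero]
      apply (TensorProduct.lid R S).injective
      rw [map_zero, h2, hw]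
      exact hxK
    have hex := lTensor_exact J (LinearMap.exact_subtype_ker_map πl) hπ
    obtain ⟨w', hw'⟩ := (hex w).mp h1
    have h3 : ∀ w' : J ⊗[R] KR, mulP ((LinearMap.lTensor J KR.subtype) w') ∈ J • KR := by
      intro w'
      induction w' using TensorProduct.induction_on with
      | zero => simp
      | add a b ha hb => rw [map_add, map_add]; exact Submodule.add_mem _ ha hb
      | tmul j k =>
        rw [LinearMap.lTensor_tmul, hmulP]
        exact Submodule.smul_mem_smul j.2 k.2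
    rw [← hw, ← hw']
    exact h3 w'
  have hmain : KR ≤ K''.restrictScalars R ⊔ J • KR := by
    intro k hk
    have hk0 : π k = 0 := hk
    have h1 : μ k ∈ RingHom.ker f'.toRingHom := by
      rw [RingHom.mem_ker]
      show f' (μ k) = 0
      rw [hcomp, hk0, map_zero]
    obtain ⟨k'', hk'', hμk⟩ := hK''μ _ h1
    have h2 : k - k'' ∈ KR := by
      show π (k - k'') = 0
      rw [map_sub, hk0, hK''le k'' hk'', sub_zero]
    have h3 : k - k'' ∈ (J • ⊤ : Submodule R (MvPolynomial (Fin m) R)) := by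
      have h4 : k - k'' ∈ RingHom.ker (MvPolynomial.map (σ := Fin m) (algebraMap R T)) := by
        rw [RingHom.mem_ker]
        show μ (k - k'') = 0
        rw [map_sub, hμk, sub_self]
      rw [MvPolynomial.ker_map, hker] at h4
      rw [Ideal.smul_top_eq_map, MvPolynomial.algebraMap_eq]
      exact h4
    have h5 : k = k'' + (k - k'') := by ring
    rw [h5]
    exact Submodule.add_mem_sup hk'' (htor _ h2 h3)
  have hKle := le_of_le_sup_smul J n hJ _ _ hmain
  have hKeq : RingHom.ker π.toRingHom = K'' := by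
    apply le_antisymm
    · intro k hk
      exact hKle (show πl k = 0 from hk)
    · intro k hk
      exact hK''le k hk
  refine Algebra.FinitePresentation.of_surjective (f := π) hπ ?_
  rw [hKeq]
  exact ⟨G.image kk, rfl⟩

section Cat

/-- In a pushout square of commutative rings with `ψ` surjective, the quotient map of `A` by the
extension of `ker ψ` factors through `inl`. -/
theorem exists_desc_quot {R A S B : CommRingCat.{u}} {φ : R ⟶ A} {ψ : R ⟶ S} {inl : A ⟶ B}
    {inr : S ⟶ B} (hpo : IsPushout φ ψ inl inr) (hψ : Function.Surjective ψ.hom) :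
    ∃ d : B ⟶ CommRingCat.of (A ⧸ (RingHom.ker ψ.hom).map φ.hom),
      inl ≫ d = CommRingCat.ofHom (Ideal.Quotient.mk _) := by
  set K : Ideal A := (RingHom.ker ψ.hom).map φ.hom with hK
  let q : A ⟶ CommRingCat.of (A ⧸ K) := CommRingCat.ofHom (Ideal.Quotient.mk K)
  have hker : RingHom.ker ψ.hom ≤ RingHom.ker (φ ≫ q).hom := by
    intro r hr
    rw [RingHom.mem_ker]
    show Ideal.Quotient.mk K (φ.hom r) = 0
    rw [Ideal.Quotient.eq_zero_iff_mem]
    exact Ideal.mem_map_of_mem _ hr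
  let σ : S ⟶ CommRingCat.of (A ⧸ K) :=
    CommRingCat.ofHom (RingHom.liftOfSurjective ψ.hom hψ ⟨(φ ≫ q).hom, hker⟩)
  have hσ : ψ ≫ σ = φ ≫ q := by
    ext r
    exact RingHom.liftOfRightInverse_comp_apply ψ.hom (Function.surjInv hψ)
      (Function.rightInverse_surjInv hψ) ⟨(φ ≫ q).hom, hker⟩ r
  exact ⟨hpo.desc q σ hσ.symm, hpo.inl_desc _ _ _⟩

theorem ker_inl_eq {R A S B : CommRingCat.{u}} {φ : R ⟶ A} {ψ : R ⟶ S} {inl : A ⟶ B}
    {inr : S ⟶ B} (hpo : IsPushout φ ψ inl inr) (hψ : Function.Surjective ψ.hom) :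
    RingHom.ker inl.hom = (RingHom.ker ψ.hom).map φ.hom := by
  apply le_antisymm
  · obtain ⟨d, hd⟩ := exists_desc_quot hpo hψ
    intro x hx
    have h1 : (inl ≫ d).hom x = 0 := by
      show d.hom (inl.hom x) = 0
      rw [RingHom.mem_ker.mp hx, map_zero]
    rw [hd] at h1
    exact Ideal.Quotient.eq_zero_iff_mem.mp h1
  · rw [Ideal.map_le_iff_le_comap]
    intro r hr
    show inl.hom (φ.hom r) = 0
    have h1 : (φ ≫ inl).hom r = (ψ ≫ inr).hom r := by rw [hpo.w]
    refine h1.trans ?_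
    show inr.hom (ψ.hom r) = 0
    rw [RingHom.mem_ker.mp hr, map_zero]

theorem surjective_inl {R A S B : CommRingCat.{u}} {φ : R ⟶ A} {ψ : R ⟶ S} {inl : A ⟶ B}
    {inr : S ⟶ B} (hpo : IsPushout φ ψ inl inr) (hψ : Function.Surjective ψ.hom) :
    Function.Surjective inl.hom := by
  algebraize [φ.hom, ψ.hom, inl.hom, inr.hom, inl.hom.comp φ.hom]
  have : IsScalarTower R S B := .of_algebraMap_eq' <| congr($(hpo.1.1).hom)
  have h1 : Algebra.IsPushout R A S B := CommRingCat.isPushout_iff_isPushout.mp hpo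
  have h2 : Algebra.IsPushout R S A B := h1.symm
  exact RingHom.surjective_isStableUnderBaseChange R S A B hψ

/-- Copied from helper26's S1310: formally unramified lifts along a surjection with nilpotent
kernel (ring level). -/
theorem unram_ring_key {R S A B : Type u} [CommRing R] [CommRing S] [CommRing A] [CommRing B]
    [Algebra R S] [Algebra R A] [Algebra R B] [Algebra A B] [Algebra S B]
    [IsScalarTower R A B] [IsScalarTower R S B] [Algebra.IsPushout R S A B]
    (hs : Function.Surjective (algebraMap R S)) (hn : IsNilpotent (RingHom.ker (algebraMap R S)))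
    [Algebra.FormallyUnramified S B] : Algebra.FormallyUnramified R A := by
  constructor
  have h2 : Subsingleton (S ⊗[R] Ω[A⁄R]) :=
    (KaehlerDifferential.tensorKaehlerEquivBase R S A B).toEquiv.subsingleton
  let f : R →ₐ[R] S := Algebra.ofId R S
  have hf : Function.Surjective f := hs
  let eS : (R ⧸ RingHom.ker f) ≃ₗ[R] S := (Ideal.quotientKerAlgEquivOfSurjective hf).toLinearEquiv
  have h3 : Subsingleton ((R ⧸ RingHom.ker f) ⊗[R] Ω[A⁄R]) :=
    (TensorProduct.congr eS (LinearEquiv.refl R Ω[A⁄R])).toEquiv.subsingleton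
  have h4 : Subsingleton (Ω[A⁄R] ⧸ (RingHom.ker f • ⊤ : Submodule R Ω[A⁄R])) :=
    (TensorProduct.quotTensorEquivQuotSMul Ω[A⁄R] (RingHom.ker f)).symm.toEquiv.subsingleton
  have h5 : (RingHom.ker f • ⊤ : Submodule R Ω[A⁄R]) = ⊤ :=
    Submodule.Quotient.subsingleton_iff.mp h4
  obtain ⟨n, hn⟩ := hn
  have hk : RingHom.ker f ^ n = ⊥ := by
    have h0 : RingHom.ker f = RingHom.ker (algebraMap R S) := by
      ext x; simp [RingHom.mem_ker, f]
    rw [h0]; exact hn
  have h7 : (⊤ : Submodule R Ω[A⁄R]) ≤ ⊥ :=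
    le_of_le_sup_smul (RingHom.ker f) n hk ⊥ ⊤ (by rw [h5]; exact le_sup_right)
  exact (Submodule.subsingleton_iff R).mp (subsingleton_of_bot_eq_top (le_antisymm bot_le h7))

theorem unram_cat_key {R S T P : CommRingCat.{u}} {f : R ⟶ S} {g : R ⟶ T} {inl : S ⟶ P}
    {inr : T ⟶ P} (h : CategoryTheory.IsPushout f g inl inr) (hg : Function.Surjective g.hom)
    (hn : IsNilpotent (RingHom.ker g.hom)) (hu : inr.hom.FormallyUnramified) :
    f.hom.FormallyUnramified := by
  algebraize [f.hom, g.hom, inl.hom, inr.hom, inl.hom.comp f.hom]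
  have : IsScalarTower R T P := .of_algebraMap_eq' <| congr($(h.1.1).hom)
  have h1 : Algebra.IsPushout R S T P := CommRingCat.isPushout_iff_isPushout.mp h
  have h2 : Algebra.IsPushout R T S P := h1.symm
  have : Algebra.FormallyUnramified T P := hu
  exact unram_ring_key (R := R) (S := T) (A := S) (B := P) hg hn

theorem fp_of_isPushout {A' A B' B C' C : CommRingCat.{u}} {β' : A' ⟶ B'} {a : A' ⟶ A}
    {b : B' ⟶ B} {β : A ⟶ B} {γ' : B' ⟶ C'} {c : C' ⟶ C} {γ : B ⟶ C}
    (h1 : IsPushout β' a b β) (h2 : IsPushout γ' b c γ) (ha : Function.Surjective a.hom)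
    (hn : IsNilpotent (RingHom.ker a.hom)) (hfl : (β' ≫ γ').hom.Flat)
    (hγ : γ.hom.FinitePresentation) : γ'.hom.FinitePresentation := by
  obtain ⟨n, hn⟩ := hn
  have hb : Function.Surjective b.hom := surjective_inl h1 ha
  have hkb : RingHom.ker b.hom = (RingHom.ker a.hom).map β'.hom := ker_inl_eq h1 ha
  have hc : Function.Surjective c.hom := surjective_inl h2 hb
  have hkc : RingHom.ker c.hom = (RingHom.ker b.hom).map γ'.hom := ker_inl_eq h2 hb
  algebraize [β'.hom, γ'.hom, (β' ≫ γ').hom, b.hom, γ.hom, c.hom, c.hom.comp γ'.hom]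
  have : IsScalarTower A' B' C' := .of_algebraMap_eq' rfl
  have : IsScalarTower B' B C := .of_algebraMap_eq' <| congr($(h2.1.1).hom)
  have : Module.Flat A' C' := hfl
  have : Algebra.FinitePresentation B C := hγ
  have hk : RingHom.ker a.hom ^ n = ⊥ := hn
  have hJn : ((RingHom.ker a.hom).map (algebraMap A' B')) ^ n = ⊥ := by
    rw [← Ideal.map_pow, hk, Ideal.map_bot]
  refine finitePresentation_of_nilpotent (R := B') (S := C') (T := B) (S' := C)
    ((RingHom.ker a.hom).map (algebraMap A' B')) n hJn hb hkb hc ?_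
    (ThickFlat.rTensor_map_subtype_injective _)
  intro s hs
  rw [Ideal.smul_top_eq_map]
  have h3 : s ∈ RingHom.ker c.hom := hs
  rw [hkc, hkb] at h3
  exact h3

end Cat

section Sch

/-- Chart data around a point of `X'` for a morphism `X' → Y'` over a finite order thickening. -/
theorem exists_charts {X X' Y Y' S S' : Scheme.{u}} (iX : X ⟶ X') (iY : Y ⟶ Y') (iS : S ⟶ S')
    (f : X ⟶ Y) (f' : X' ⟶ Y') (g : Y ⟶ S) (g' : Y' ⟶ S')
    (hS : MoreMor.IsFiniteOrderThickening iS) (hcX : IsPullback iX (f ≫ g) (f' ≫ g') iS)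
    (hcY : IsPullback iY g g' iS) (w : iX ≫ f' = f ≫ iY) [Flat (f' ≫ g')] (x' : X') :
    ∃ (V' : Y'.affineOpens) (W' : X'.affineOpens) (_ : x' ∈ W'.1) (eW : W'.1 ≤ f' ⁻¹ᵁ V'.1)
      (V : Y.affineOpens) (W : X.affineOpens) (eVW : W.1 ≤ f ⁻¹ᵁ V.1)
      (A' A : CommRingCat.{u}) (β' : A' ⟶ Γ(Y', V'.1)) (a : A' ⟶ A)
      (b : Γ(Y', V'.1) ⟶ Γ(Y, V.1)) (β : A ⟶ Γ(Y, V.1)) (c : Γ(X', W'.1) ⟶ Γ(X, W.1)),
      IsPushout β' a b β ∧ IsPushout (f'.appLE V'.1 W'.1 eW) b c (f.appLE V.1 W.1 eVW) ∧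
      Function.Surjective a.hom ∧ IsNilpotent (RingHom.ker a.hom) ∧
      (β' ≫ f'.appLE V'.1 W'.1 eW).hom.Flat := by
  obtain ⟨⟨hci, hsurj⟩, hnil⟩ := hS
  have := hci
  obtain ⟨U', hU', hxU', -⟩ := TopologicalSpace.Opens.isBasis_iff_nbhd.mp S'.isBasis_affineOpens
    (show g' (f' x') ∈ (⊤ : S'.Opens) from trivial)
  obtain ⟨V', hV', hxV', eV⟩ := TopologicalSpace.Opens.isBasis_iff_nbhd.mp Y'.isBasis_affineOpens
    (show f' x' ∈ g' ⁻¹ᵁ U' from hxU')
  obtain ⟨W', hW', hxW', eW⟩ := TopologicalSpace.Opens.isBasis_iff_nbhd.mp X'.isBasis_affineOpens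
    (show x' ∈ f' ⁻¹ᵁ V' from hxV')
  have eW2 : W' ≤ (f' ≫ g') ⁻¹ᵁ U' := by
    intro z hz
    have h1 : f' z ∈ V' := eW hz
    have h2 : g' (f' z) ∈ U' := eV h1
    show (f' ≫ g') z ∈ U'
    rw [Scheme.Hom.comp_apply]; exact h2
  have hUT : IsAffineOpen (iS ⁻¹ᵁ U') := hU'.preimage iS
  obtain ⟨V, hVdef⟩ : ∃ V : Y.Opens, V = iY ⁻¹ᵁ V' ⊓ g ⁻¹ᵁ (iS ⁻¹ᵁ U') := ⟨_, rfl⟩
  obtain ⟨W, hWdef⟩ : ∃ W : X.Opens, W = iX ⁻¹ᵁ W' ⊓ (f ≫ g) ⁻¹ᵁ (iS ⁻¹ᵁ U') := ⟨_, rfl⟩
  have hisoY := isIso_pushoutSection_of_isAffineOpen hcY (le_refl (iS ⁻¹ᵁ U')) eV hVdef hU' hUT hV'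
  have hpoY := (isIso_pushoutSection_iff hcY (le_refl (iS ⁻¹ᵁ U')) eV hVdef).mp hisoY
  have hisoX := isIso_pushoutSection_of_isAffineOpen hcX (le_refl (iS ⁻¹ᵁ U')) eW2 hWdef hU' hUT hW'
  have hpoX := (isIso_pushoutSection_iff hcX (le_refl (iS ⁻¹ᵁ U')) eW2 hWdef).mp hisoX
  have hVa : IsAffineOpen V := by
    have : IsAffine _ := hU'
    have : IsAffine _ := hUT
    have : IsAffine _ := hV'
    exact .of_isIso (Scheme.Hom.isPullback_resLE hcY (le_refl (iS ⁻¹ᵁ U')) eV hVdef).isoPullback.hom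
  have hWa : IsAffineOpen W := by
    have : IsAffine _ := hU'
    have : IsAffine _ := hUT
    have : IsAffine _ := hW'
    exact .of_isIso (Scheme.Hom.isPullback_resLE hcX (le_refl (iS ⁻¹ᵁ U')) eW2 hWdef).isoPullback.hom
  have hWV' : W ≤ iX ⁻¹ᵁ W' := hWdef.le.trans inf_le_left
  have hVV' : V ≤ iY ⁻¹ᵁ V' := hVdef.le.trans inf_le_left
  have hVU : V ≤ g ⁻¹ᵁ (iS ⁻¹ᵁ U') := hVdef.le.trans inf_le_right
  have eVW : W ≤ f ⁻¹ᵁ V := by
    intro z hz
    rw [hWdef] at hz
    obtain ⟨hz1, hz2⟩ := hz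
    show f z ∈ V
    rw [hVdef]
    refine ⟨?_, ?_⟩
    · show iY (f z) ∈ V'
      have h3 : iY (f z) = f' (iX z) := by
        rw [← Scheme.Hom.comp_apply, ← w, Scheme.Hom.comp_apply]
      rw [h3]; exact eW hz1
    · show g (f z) ∈ iS ⁻¹ᵁ U'
      rw [← Scheme.Hom.comp_apply]; exact hz2
  have hsX : IsPushout (g'.appLE U' V' eV ≫ f'.appLE V' W' eW)
      (iS.appLE U' (iS ⁻¹ᵁ U') (le_refl _)) (iX.appLE W' W hWV')
      (g.appLE (iS ⁻¹ᵁ U') V hVU ≫ f.appLE V W eVW) := by
    rw [Scheme.Hom.appLE_comp_appLE, Scheme.Hom.appLE_comp_appLE]; exact hpoX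
  have hp : f'.appLE V' W' eW ≫ iX.appLE W' W hWV' = iY.appLE V' V hVV' ≫ f.appLE V W eVW := by
    rw [Scheme.Hom.appLE_comp_appLE, Scheme.Hom.appLE_comp_appLE]
    congr 1
  have hright := IsPushout.of_left hsX hp hpoY
  have hflA : ((g'.appLE U' V' eV) ≫ (f'.appLE V' W' eW)).hom.Flat := by
    rw [Scheme.Hom.appLE_comp_appLE]
    exact HasRingHomProperty.appLE @Flat (f' ≫ g') inferInstance ⟨U', hU'⟩ ⟨W', hW'⟩ _
  refine ⟨⟨V', hV'⟩, ⟨W', hW'⟩, hxW', eW, ⟨V, hVa⟩, ⟨W, hWa⟩, eVW, _, _, _, _, _, _, _,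
    hpoY, hright, ?_, ?_, hflA⟩
  · rw [Scheme.Hom.appLE_eq_app]; exact iS.app_surjective U' hU'
  · rw [Scheme.Hom.appLE_eq_app]
    obtain ⟨n, hn⟩ := hnil
    exact ⟨n, by simpa using congr(($hn).ideal ⟨U', hU'⟩)⟩

variable {X X' Y Y' S S' : Scheme.{u}} (iX : X ⟶ X') (iY : Y ⟶ Y') (iS : S ⟶ S')
    (f : X ⟶ Y) (f' : X' ⟶ Y') (g : Y ⟶ S) (g' : Y' ⟶ S')

theorem lfp_of_thickening
    (hS : MoreMor.IsFiniteOrderThickening iS) (hcX : IsPullback iX (f ≫ g) (f' ≫ g') iS)
    (hcY : IsPullback iY g g' iS) (w : iX ≫ f' = f ≫ iY) [Flat (f' ≫ g')]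
    [LocallyOfFinitePresentation f] : LocallyOfFinitePresentation f' := by
  have hloc : RingHom.StableUnderCompositionWithLocalizationAwaySource
      @RingHom.FinitePresentation :=
    fun R S T _ _ _ _ r _ f hf =>
      RingHom.FinitePresentation.comp hf (RingHom.finitePresentation_holdsForLocalizationAway S r)
  rw [HasRingHomProperty.iff_exists_appLE (P := @LocallyOfFinitePresentation) hloc]
  intro x'
  obtain ⟨V', W', hx, eW, V, W, eVW, A', A, β', a, b, β, c, h1, h2, ha, hn, hfl⟩ :=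
    exists_charts iX iY iS f f' g g' hS hcX hcY w x'
  exact ⟨V', W', hx, eW, fp_of_isPushout h1 h2 ha hn hfl
    (HasRingHomProperty.appLE @LocallyOfFinitePresentation f inferInstance V W eVW)⟩

theorem unram_of_thickening
    (hS : MoreMor.IsFiniteOrderThickening iS) (hcX : IsPullback iX (f ≫ g) (f' ≫ g') iS)
    (hcY : IsPullback iY g g' iS) (w : iX ≫ f' = f ≫ iY) [Flat (f' ≫ g')]
    [FormallyUnramified f] : FormallyUnramified f' := by
  have hloc : RingHom.StableUnderCompositionWithLocalizationAwaySource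
      @RingHom.FormallyUnramified :=
    fun R S T _ _ _ _ r _ f hf =>
      RingHom.FormallyUnramified.comp (RingHom.FormallyUnramified.holdsForLocalizationAway S r) hf
  rw [HasRingHomProperty.iff_exists_appLE (P := @FormallyUnramified) hloc]
  intro x'
  obtain ⟨V', W', hx, eW, V, W, eVW, A', A, β', a, b, β, c, h1, h2, ha, hn, hfl⟩ :=
    exists_charts iX iY iS f f' g g' hS hcX hcY w x'
  refine ⟨V', W', hx, eW, ?_⟩
  have hb := surjective_inl h1 ha
  have hkb := ker_inl_eq h1 ha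
  have hnb : IsNilpotent (RingHom.ker b.hom) := by
    obtain ⟨n, hn⟩ := hn
    have hk : RingHom.ker a.hom ^ n = ⊥ := hn
    have e1 : (Ideal.map β'.hom (RingHom.ker a.hom)) ^ n = ⊥ := by
      rw [← Ideal.map_pow, hk, Ideal.map_bot]
    refine ⟨n, ?_⟩
    rw [hkb]
    exact e1
  exact unram_cat_key h2 hb hnb (f.formallyUnramified_appLE V.2 W.2 eVW)

theorem etale_of_thickening
    (hS : MoreMor.IsFiniteOrderThickening iS) (hcX : IsPullback iX (f ≫ g) (f' ≫ g') iS)
    (hcY : IsPullback iY g g' iS) (w : iX ≫ f' = f ≫ iY) [Flat (f' ≫ g')]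
    [Etale f] : Etale f' := by
  obtain ⟨h1, h2, h3⟩ := Etale.iff_flat_and_formallyUnramified.mp ‹Etale f›
  rw [Etale.iff_flat_and_formallyUnramified]
  exact ⟨ThickFlat.flat_of_thickening iX iY iS f f' g g' hS hcX hcY w,
    unram_of_thickening iX iY iS f f' g g' hS hcX hcY w,
    lfp_of_thickening iX iY iS f f' g g' hS hcX hcY w⟩

theorem lfp_iff_of_thickening
    (hS : MoreMor.IsFiniteOrderThickening iS) (hcX : IsPullback iX (f ≫ g) (f' ≫ g') iS)
    (hcY : IsPullback iY g g' iS) (w : iX ≫ f' = f ≫ iY) [Flat (f' ≫ g')] :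
    LocallyOfFinitePresentation f ↔ LocallyOfFinitePresentation f' := by
  constructor
  · intro _
    exact lfp_of_thickening iX iY iS f f' g g' hS hcX hcY w
  · intro hf'
    exact MorphismProperty.of_isPullback (P := @LocallyOfFinitePresentation)
      (IsPullback.of_bot hcX w hcY) hf'

theorem etale_iff_of_thickening
    (hS : MoreMor.IsFiniteOrderThickening iS) (hcX : IsPullback iX (f ≫ g) (f' ≫ g') iS)
    (hcY : IsPullback iY g g' iS) (w : iX ≫ f' = f ≫ iY) [Flat (f' ≫ g')] :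
    Etale f ↔ Etale f' := by
  constructor
  · intro _
    exact etale_of_thickening iX iY iS f f' g g' hS hcX hcY w
  · intro hf'
    exact MorphismProperty.of_isPullback (P := @Etale) (IsPullback.of_bot hcX w hcY) hf'

end Sch

end Groth.Agent.Helper7.ThickFP
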