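import Mathlib
import Groth.Prelude.Def_MoreMor

/-!
# Monomorphisms and finite order thickenings (helper7)

Ring level: if `R → S` is surjective with nilpotent kernel, `B = S ⊗[R] A` and `S → B` is an
epimorphism of rings, then `R → A` is an epimorphism of rings.  Scheme level: monomorphisms lift
along base change by a finite order thickening.
-/

set_option autoImplicit false
universe u

namespace Groth.Agent.Helper7.ThickMono

open AlgebraicGeometry CategoryTheory Limits TensorProduct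

/-- Nakayama-type step: if `a ⊗ 1 - 1 ⊗ a ∈ I • (A ⊗ A)` for all `a` and `I` is nilpotent then
`R → A` is epi. -/
theorem one_tmul_eq_of_mem_smul {R A : Type u} [CommRing R] [CommRing A] [Algebra R A]
    (I : Ideal R) (n : ℕ) (hn : I ^ n = ⊥)
    (h : ∀ a : A, a ⊗ₜ[R] (1 : A) - (1 : A) ⊗ₜ[R] a ∈ (I • ⊤ : Submodule R (A ⊗[R] A))) :
    ∀ a : A, (1 : A) ⊗ₜ[R] a = a ⊗ₜ[R] (1 : A) := by
  classical
  let M := A ⊗[R] A
  let ι : A →ₗ[R] M := (Algebra.TensorProduct.includeLeft : A →ₐ[R] A ⊗[R] A).toLinearMap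
  have hι : ∀ a : A, ι a = a ⊗ₜ[R] (1 : A) := fun a => rfl
  let L : Submodule R M := LinearMap.range ι
  have hmul : ∀ (c m : M), m ∈ (I • ⊤ : Submodule R M) → c * m ∈ (I • ⊤ : Submodule R M) := by
    intro c m hm
    rw [Ideal.smul_top_eq_map] at hm ⊢
    exact Ideal.mul_mem_left _ c hm
  have h1 : L ⊔ I • (⊤ : Submodule R M) = ⊤ := by
    refine eq_top_iff.mpr fun m _ => ?_
    revert m
    suffices hm : ∀ m : M, m ∈ L ⊔ I • (⊤ : Submodule R M) from fun m _ => hm m
    intro m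
    induction m using TensorProduct.induction_on with
    | zero => exact Submodule.zero_mem _
    | add x y hx hy => exact Submodule.add_mem _ hx hy
    | tmul x y =>
      have e : x ⊗ₜ[R] y = ι (x * y) - (x ⊗ₜ[R] (1 : A)) * (y ⊗ₜ[R] (1 : A) - (1 : A) ⊗ₜ[R] y) := by
        rw [hι, mul_sub, Algebra.TensorProduct.tmul_mul_tmul, Algebra.TensorProduct.tmul_mul_tmul]
        simp
      rw [e]
      exact Submodule.sub_mem _ (Submodule.mem_sup_left ⟨_, rfl⟩)
        (Submodule.mem_sup_right (hmul _ _ (h y)))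
  have h2 : ∀ k : ℕ, L ⊔ I ^ (k + 1) • (⊤ : Submodule R M) = ⊤ := by
    intro k
    induction k with
    | zero => simpa using h1
    | succ k ih =>
      rw [eq_top_iff]
      calc (⊤ : Submodule R M) = L ⊔ I • (⊤ : Submodule R M) := h1.symm
        _ = L ⊔ I • (L ⊔ I ^ (k + 1) • (⊤ : Submodule R M)) := by rw [ih]
        _ = L ⊔ (I • L ⊔ I • I ^ (k + 1) • (⊤ : Submodule R M)) := by rw [Submodule.smul_sup]
        _ ≤ L ⊔ I ^ (k + 1 + 1) • (⊤ : Submodule R M) := by
          rw [← Submodule.mul_smul, ← pow_succ']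
          exact sup_le le_sup_left
            (sup_le (Submodule.smul_le_right.trans le_sup_left) le_sup_right)
  have h3 : L = ⊤ := by
    have hk : I ^ (n + 1) = ⊥ := by rw [pow_succ, hn, Ideal.bot_mul]
    have := h2 n
    rwa [hk, Submodule.bot_smul, sup_bot_eq] at this
  intro a
  have ha : (1 : A) ⊗ₜ[R] a ∈ L := by rw [h3]; trivial
  obtain ⟨a', ha'⟩ := ha
  rw [hι] at ha'
  have h4 := congr(Algebra.TensorProduct.lmul' R $ha')
  simp only [Algebra.TensorProduct.lmul'_apply_tmul, mul_one, one_mul] at h4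
  rw [← ha', h4]

/-- In a pushout square of commutative rings with `ψ` surjective and `inr` epi, two maps out of
`A` agreeing on `R` agree modulo the extension of `ker ψ`. -/
theorem sub_mem_map_ker {R A S B C : CommRingCat.{u}} {φ : R ⟶ A} {ψ : R ⟶ S} {inl : A ⟶ B}
    {inr : S ⟶ B} (hpo : IsPushout φ ψ inl inr) (hψ : Function.Surjective ψ.hom) [Epi inr]
    (α β : A ⟶ C) (hαβ : φ ≫ α = φ ≫ β) (a : A) :
    α.hom a - β.hom a ∈ Ideal.map (φ ≫ α).hom (RingHom.ker ψ.hom) := by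
  set K : Ideal C := Ideal.map (φ ≫ α).hom (RingHom.ker ψ.hom) with hK
  let π : C ⟶ CommRingCat.of (C ⧸ K) := CommRingCat.ofHom (Ideal.Quotient.mk K)
  have hker : RingHom.ker ψ.hom ≤ RingHom.ker (φ ≫ α ≫ π).hom := by
    intro r hr
    rw [RingHom.mem_ker]
    show Ideal.Quotient.mk K ((φ ≫ α).hom r) = 0
    rw [Ideal.Quotient.eq_zero_iff_mem]
    exact Ideal.mem_map_of_mem _ hr
  let σ : S ⟶ CommRingCat.of (C ⧸ K) :=
    CommRingCat.ofHom (RingHom.liftOfSurjective ψ.hom hψ ⟨(φ ≫ α ≫ π).hom, hker⟩)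
  have hσ : ψ ≫ σ = φ ≫ α ≫ π := by
    ext r
    exact RingHom.liftOfRightInverse_comp_apply ψ.hom (Function.surjInv hψ)
      (Function.rightInverse_surjInv hψ) ⟨(φ ≫ α ≫ π).hom, hker⟩ r
  have hσ' : ψ ≫ σ = φ ≫ β ≫ π := by
    rw [hσ, ← Category.assoc, hαβ, Category.assoc]
  have e1 : inr ≫ hpo.desc (α ≫ π) σ hσ.symm = inr ≫ hpo.desc (β ≫ π) σ hσ'.symm := by
    rw [hpo.inr_desc, hpo.inr_desc]
  have e2 := (cancel_epi inr).mp e1
  have e3 : α ≫ π = β ≫ π := by
    rw [← hpo.inl_desc (α ≫ π) σ hσ.symm, e2, hpo.inl_desc]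
  have e4 := congr($(e3).hom a)
  have e5 : Ideal.Quotient.mk K (α.hom a) = Ideal.Quotient.mk K (β.hom a) := e4
  exact Ideal.Quotient.eq.mp e5

/-- Epimorphisms of rings lift along a surjection with nilpotent kernel. -/
theorem epi_of_isPushout {R A S B : CommRingCat.{u}} {φ : R ⟶ A} {ψ : R ⟶ S} {inl : A ⟶ B}
    {inr : S ⟶ B} (hpo : IsPushout φ ψ inl inr) (hψ : Function.Surjective ψ.hom)
    (hn : IsNilpotent (RingHom.ker ψ.hom)) (hepi : Epi inr) : Epi φ := by
  algebraize [φ.hom]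
  obtain ⟨n, hn⟩ := hn
  let M := A ⊗[R] A
  let α : A ⟶ CommRingCat.of M :=
    CommRingCat.ofHom (Algebra.TensorProduct.includeLeft : A →ₐ[R] A ⊗[R] A).toRingHom
  let β : A ⟶ CommRingCat.of M :=
    CommRingCat.ofHom (Algebra.TensorProduct.includeRight : A →ₐ[R] A ⊗[R] A).toRingHom
  have hαβ : φ ≫ α = φ ≫ β := by
    ext r
    show (Algebra.TensorProduct.includeLeft : A →ₐ[R] A ⊗[R] A) (algebraMap R A r) =
      (Algebra.TensorProduct.includeRight : A →ₐ[R] A ⊗[R] A) (algebraMap R A r)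
    rw [AlgHom.commutes, AlgHom.commutes]
  have hmap : (φ ≫ α).hom = algebraMap R M := by
    ext r
    show (Algebra.TensorProduct.includeLeft : A →ₐ[R] A ⊗[R] A) (algebraMap R A r) = _
    rw [AlgHom.commutes]
  have key : ∀ a : A, a ⊗ₜ[R] (1 : A) - (1 : A) ⊗ₜ[R] a ∈
      (RingHom.ker ψ.hom • ⊤ : Submodule R (A ⊗[R] A)) := by
    intro a
    have := sub_mem_map_ker hpo hψ α β hαβ a
    rw [hmap] at this
    rw [Ideal.smul_top_eq_map]
    exact this
  have hk : RingHom.ker ψ.hom ^ n = ⊥ := hn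
  have h1 := one_tmul_eq_of_mem_smul (R := R) (A := A) (RingHom.ker ψ.hom) n hk key
  have h2 : Algebra.IsEpi R A := (Algebra.isEpi_iff_forall_one_tmul_eq R A).mpr h1
  exact CommRingCat.epi_iff_epi.mpr h2

/-- A monomorphism of schemes induces ring epimorphisms on affine charts. -/
theorem epi_appLE_of_mono {X Y : Scheme.{u}} (f : X ⟶ Y) [Mono f] {U : Y.Opens} {V : X.Opens}
    (hU : IsAffineOpen U) (hV : IsAffineOpen V) (e : V ≤ f ⁻¹ᵁ U) : Epi (f.appLE U V e) := by
  have h := hU.SpecMap_appLE_fromSpec f hV e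
  have hm : Mono (Spec.map (f.appLE U V e)) := by
    have : Mono (Spec.map (f.appLE U V e) ≫ hU.fromSpec) := by rw [h]; infer_instance
    exact mono_of_mono _ hU.fromSpec
  constructor
  intro C α β hαβ
  apply Spec.map_injective
  rw [← cancel_mono (Spec.map (f.appLE U V e)), ← Spec.map_comp, ← Spec.map_comp, hαβ]

/-- Monomorphisms lift along base change by a finite order thickening. -/
theorem mono_of_thickening {X X' S S' : Scheme.{u}} (iX : X ⟶ X') (iS : S ⟶ S') (f : X ⟶ S)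
    (f' : X' ⟶ S') (hS : MoreMor.IsFiniteOrderThickening iS) (hc : IsPullback iX f f' iS)
    [Mono f] : Mono f' := by
  obtain ⟨⟨hci, hsurj⟩, hnil⟩ := hS
  have := hci
  have := hsurj
  constructor
  intro T a b hab
  have hj : pullback.fst (a ≫ f') iS ≫ a = pullback.fst (a ≫ f') iS ≫ b := by
    have hw : (pullback.fst (a ≫ f') iS ≫ a) ≫ f' = pullback.snd (a ≫ f') iS ≫ iS := by
      rw [Category.assoc]; exact pullback.condition
    have hw' : (pullback.fst (a ≫ f') iS ≫ b) ≫ f' = pullback.snd (a ≫ f') iS ≫ iS := by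
      rw [Category.assoc, ← hab]; exact pullback.condition
    have e : hc.lift _ _ hw = hc.lift _ _ hw' := by
      rw [← cancel_mono f, hc.lift_snd, hc.lift_snd]
    calc pullback.fst (a ≫ f') iS ≫ a = hc.lift _ _ hw ≫ iX := (hc.lift_fst _ _ hw).symm
      _ = hc.lift _ _ hw' ≫ iX := by rw [e]
      _ = pullback.fst (a ≫ f') iS ≫ b := hc.lift_fst _ _ hw'
  have hjs : Function.Surjective (pullback.fst (a ≫ f') iS) :=
    (inferInstance : Surjective (pullback.fst (a ≫ f') iS)).surj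
  have hpt : ∀ t : T, a t = b t := by
    intro t
    obtain ⟨t₀, rfl⟩ := hjs t
    have := congr($(hj) t₀)
    simpa using this
  refine Scheme.hom_ext_of_forall a b fun t => ?_
  obtain ⟨U', hU', htU', -⟩ := TopologicalSpace.Opens.isBasis_iff_nbhd.mp S'.isBasis_affineOpens
    (show f' (a t) ∈ (⊤ : S'.Opens) from trivial)
  obtain ⟨V', hV', htV', e⟩ := TopologicalSpace.Opens.isBasis_iff_nbhd.mp X'.isBasis_affineOpens
    (show a t ∈ f' ⁻¹ᵁ U' from htU')
  obtain ⟨W, hW, htW, hWV⟩ := TopologicalSpace.Opens.isBasis_iff_nbhd.mp T.isBasis_affineOpens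
    (show t ∈ a ⁻¹ᵁ V' from htV')
  have hWb : W ≤ b ⁻¹ᵁ V' := by
    intro w hw
    have h1 : a w ∈ V' := hWV hw
    show b w ∈ V'
    rw [← hpt w]; exact h1
  refine ⟨W, htW, ?_⟩
  -- the chart map of `f'` is an epimorphism of rings
  have hepi : Epi (f'.appLE U' V' e) := by
    have hUT : IsAffineOpen (iS ⁻¹ᵁ U') := hU'.preimage iS
    have hiso := isIso_pushoutSection_of_isAffineOpen hc (le_refl (iS ⁻¹ᵁ U')) e rfl hU' hUT hV'
    have hpo := (isIso_pushoutSection_iff hc (le_refl (iS ⁻¹ᵁ U')) e rfl).mp hiso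
    have hUY : IsAffineOpen (iX ⁻¹ᵁ V' ⊓ f ⁻¹ᵁ (iS ⁻¹ᵁ U')) := by
      have : IsAffine _ := hU'
      have : IsAffine _ := hUT
      have : IsAffine _ := hV'
      exact .of_isIso (Scheme.Hom.isPullback_resLE hc (le_refl (iS ⁻¹ᵁ U')) e rfl).isoPullback.hom
    refine epi_of_isPushout hpo ?_ ?_ (epi_appLE_of_mono f hUT hUY _)
    · rw [Scheme.Hom.appLE_eq_app]; exact iS.app_surjective U' hU'
    · rw [Scheme.Hom.appLE_eq_app]
      obtain ⟨n, hn⟩ := hnil
      exact ⟨n, by simpa using congr(($hn).ideal ⟨U', hU'⟩)⟩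
  have key : a.appLE V' W hWV = b.appLE V' W hWb := by
    rw [← cancel_epi (f'.appLE U' V' e), Scheme.Hom.appLE_comp_appLE, Scheme.Hom.appLE_comp_appLE]
    congr 1
  have h1 := hV'.SpecMap_appLE_fromSpec a hW hWV
  have h2 := hV'.SpecMap_appLE_fromSpec b hW hWb
  have h3 : hW.fromSpec ≫ a = hW.fromSpec ≫ b := by rw [← h1, ← h2, key]
  have h4 : Scheme.Opens.ι W = hW.isoSpec.hom ≫ hW.fromSpec := by
    rw [← hW.isoSpec_inv_ι, Iso.hom_inv_id_assoc]
  rw [h4, Category.assoc, Category.assoc, h3]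

theorem mono_iff_of_thickening {X X' S S' : Scheme.{u}} (iX : X ⟶ X') (iS : S ⟶ S') (f : X ⟶ S)
    (f' : X' ⟶ S') (hS : MoreMor.IsFiniteOrderThickening iS) (hc : IsPullback iX f f' iS) :
    Mono f ↔ Mono f' := by
  constructor
  · intro _
    exact mono_of_thickening iX iS f f' hS hc
  · intro _
    constructor
    intro T a b hab
    apply hc.hom_ext _ hab
    rw [← cancel_mono f', Category.assoc, Category.assoc, hc.w, reassoc_of% hab]

end Groth.Agent.Helper7.ThickMono
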