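import Mathlib
import Groth.Prelude.Def_MoreMor
import Groth.Agent.Lib.Helper7.ThickMono
import Groth.Agent.Lib.Helper7.ThickFP

/-!
# Open immersions, isomorphisms and finite order thickenings (helper7)

For `X' → Y'` over `S'` with `X'` flat over `S'` and a finite order thickening `S → S'`:
monomorphisms, open immersions and isomorphisms lift from the base change to `S`.
-/

set_option autoImplicit false
universe u

namespace Groth.Agent.Helper7.ThickOpen

open AlgebraicGeometry CategoryTheory Limits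

variable {X X' Y Y' S S' : Scheme.{u}} (iX : X ⟶ X') (iY : Y ⟶ Y') (iS : S ⟶ S')
    (f : X ⟶ Y) (f' : X' ⟶ Y') (g : Y ⟶ S) (g' : Y' ⟶ S')

theorem surjective_iY (hS : MoreMor.IsFiniteOrderThickening iS) (hcY : IsPullback iY g g' iS) :
    Surjective iY :=
  MorphismProperty.of_isPullback (P := @Surjective) hcY.flip hS.1.2

theorem mono_of_thickening2
    (hS : MoreMor.IsFiniteOrderThickening iS) (hcX : IsPullback iX (f ≫ g) (f' ≫ g') iS)
    (hcY : IsPullback iY g g' iS) (w : iX ≫ f' = f ≫ iY) [Flat (f' ≫ g')]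
    [Mono f] : Mono f' := by
  have hc : IsPullback iX f f' iY := IsPullback.of_bot hcX w hcY
  have hsurjY : Surjective iY := surjective_iY iY iS g g' hS hcY
  constructor
  intro T a b hab
  have hj : pullback.fst (a ≫ f') iY ≫ a = pullback.fst (a ≫ f') iY ≫ b := by
    have hw : (pullback.fst (a ≫ f') iY ≫ a) ≫ f' = pullback.snd (a ≫ f') iY ≫ iY := by
      rw [Category.assoc]; exact pullback.condition
    have hw' : (pullback.fst (a ≫ f') iY ≫ b) ≫ f' = pullback.snd (a ≫ f') iY ≫ iY := by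
      rw [Category.assoc, ← hab]; exact pullback.condition
    have e : hc.lift _ _ hw = hc.lift _ _ hw' := by
      rw [← cancel_mono f, hc.lift_snd, hc.lift_snd]
    calc pullback.fst (a ≫ f') iY ≫ a = hc.lift _ _ hw ≫ iX := (hc.lift_fst _ _ hw).symm
      _ = hc.lift _ _ hw' ≫ iX := by rw [e]
      _ = pullback.fst (a ≫ f') iY ≫ b := hc.lift_fst _ _ hw'
  have hjs : Function.Surjective (pullback.fst (a ≫ f') iY) :=
    (inferInstance : Surjective (pullback.fst (a ≫ f') iY)).surj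
  have hpt : ∀ t : T, a t = b t := by
    intro t
    obtain ⟨t₀, rfl⟩ := hjs t
    have := congr($(hj) t₀)
    simpa using this
  refine Scheme.hom_ext_of_forall a b fun t => ?_
  obtain ⟨V', W', hx, eW, V, W, eVW, A', A, β', a₀, b₀, β, c, h1, h2, ha, hn, hfl⟩ :=
    ThickFP.exists_charts iX iY iS f f' g g' hS hcX hcY w (a t)
  obtain ⟨Wt, hWt, htWt, hWtW⟩ := TopologicalSpace.Opens.isBasis_iff_nbhd.mp
    T.isBasis_affineOpens (show t ∈ a ⁻¹ᵁ W'.1 from hx)
  have hWtb : Wt ≤ b ⁻¹ᵁ W'.1 := by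
    intro z hz
    have h1 : a z ∈ W'.1 := hWtW hz
    show b z ∈ W'.1
    rw [← hpt z]; exact h1
  refine ⟨Wt, htWt, ?_⟩
  have hb := ThickFP.surjective_inl h1 ha
  have hkb := ThickFP.ker_inl_eq h1 ha
  have hnb : IsNilpotent (RingHom.ker b₀.hom) := by
    obtain ⟨n, hn⟩ := hn
    have hk : RingHom.ker a₀.hom ^ n = ⊥ := hn
    have e1 : (Ideal.map β'.hom (RingHom.ker a₀.hom)) ^ n = ⊥ := by
      rw [← Ideal.map_pow, hk, Ideal.map_bot]
    refine ⟨n, ?_⟩
    rw [hkb]
    exact e1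
  have hepi : Epi (f'.appLE V'.1 W'.1 eW) :=
    ThickMono.epi_of_isPushout h2 hb hnb (ThickMono.epi_appLE_of_mono f V.2 W.2 eVW)
  have key : a.appLE W'.1 Wt hWtW = b.appLE W'.1 Wt hWtb := by
    rw [← cancel_epi (f'.appLE V'.1 W'.1 eW), Scheme.Hom.appLE_comp_appLE,
      Scheme.Hom.appLE_comp_appLE]
    congr 1
  have h1' := W'.2.SpecMap_appLE_fromSpec a hWt hWtW
  have h2' := W'.2.SpecMap_appLE_fromSpec b hWt hWtb
  have h3 : hWt.fromSpec ≫ a = hWt.fromSpec ≫ b := by rw [← h1', ← h2', key]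
  have h4 : Scheme.Opens.ι Wt = hWt.isoSpec.hom ≫ hWt.fromSpec := by
    rw [← hWt.isoSpec_inv_ι, Iso.hom_inv_id_assoc]
  rw [h4, Category.assoc, Category.assoc, h3]

theorem openImmersion_of_thickening
    (hS : MoreMor.IsFiniteOrderThickening iS) (hcX : IsPullback iX (f ≫ g) (f' ≫ g') iS)
    (hcY : IsPullback iY g g' iS) (w : iX ≫ f' = f ≫ iY) [Flat (f' ≫ g')]
    [IsOpenImmersion f] : IsOpenImmersion f' := by
  have : Flat f' := ThickFlat.flat_of_thickening iX iY iS f f' g g' hS hcX hcY w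
  have : LocallyOfFinitePresentation f' :=
    ThickFP.lfp_of_thickening iX iY iS f f' g g' hS hcX hcY w
  have : Mono f' := mono_of_thickening2 iX iY iS f f' g g' hS hcX hcY w
  exact IsOpenImmersion.of_flat_of_mono f'

theorem isIso_of_thickening
    (hS : MoreMor.IsFiniteOrderThickening iS) (hcX : IsPullback iX (f ≫ g) (f' ≫ g') iS)
    (hcY : IsPullback iY g g' iS) (w : iX ≫ f' = f ≫ iY) [Flat (f' ≫ g')]
    [IsIso f] : IsIso f' := by
  rw [isIso_iff_isOpenImmersion_and_surjective]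
  refine ⟨openImmersion_of_thickening iX iY iS f f' g g' hS hcX hcY w, ⟨fun y' => ?_⟩⟩
  obtain ⟨y, rfl⟩ := (surjective_iY iY iS g g' hS hcY).surj y'
  obtain ⟨x, rfl⟩ := (inferInstance : Surjective f).surj y
  exact ⟨iX x, by rw [← Scheme.Hom.comp_apply, w, Scheme.Hom.comp_apply]⟩

theorem openImmersion_iff_of_thickening
    (hS : MoreMor.IsFiniteOrderThickening iS) (hcX : IsPullback iX (f ≫ g) (f' ≫ g') iS)
    (hcY : IsPullback iY g g' iS) (w : iX ≫ f' = f ≫ iY) [Flat (f' ≫ g')] :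
    IsOpenImmersion f ↔ IsOpenImmersion f' := by
  constructor
  · intro _
    exact openImmersion_of_thickening iX iY iS f f' g g' hS hcX hcY w
  · intro hf'
    exact MorphismProperty.of_isPullback (P := @IsOpenImmersion) (IsPullback.of_bot hcX w hcY) hf'

theorem isIso_iff_of_thickening
    (hS : MoreMor.IsFiniteOrderThickening iS) (hcX : IsPullback iX (f ≫ g) (f' ≫ g') iS)
    (hcY : IsPullback iY g g' iS) (w : iX ≫ f' = f ≫ iY) [Flat (f' ≫ g')] :
    IsIso f ↔ IsIso f' := by
  constructor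
  · intro _
    exact isIso_of_thickening iX iY iS f f' g g' hS hcX hcY w
  · intro hf'
    exact (IsPullback.of_bot hcX w hcY).isIso_snd_of_isIso

end Groth.Agent.Helper7.ThickOpen
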