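import Mathlib
import Groth.Prelude.Def_MoreMor
import Groth.Prelude.Def_Mor2
import Groth.Agent.Lib.Helper7.ThickOpen

/-!
# Finite locally free morphisms and finite order thickenings (helper7)

Finiteness lifts along a finite order thickening for `X' → Y'` (locally of finite presentation):
the thick morphism is proper and has finite fibres, hence is finite by Zariski's main theorem.
-/

set_option autoImplicit false
universe u

namespace Groth.Agent.Helper7.ThickFin

open AlgebraicGeometry CategoryTheory Limits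

/-- (as in helper27's `H27/Thick.lean`) -/
theorem quasiCompact_of_comp_surjective {X Y Z : Scheme.{u}} (f : X ⟶ Y) (g : Y ⟶ Z)
    [QuasiCompact (f ≫ g)] [Surjective f] : QuasiCompact g := by
  constructor
  intro U hU hU'
  have h1 := QuasiCompact.isCompact_preimage (f := f ≫ g) U hU hU'
  have h2 : g ⁻¹' U = f '' ((f ≫ g) ⁻¹' U) := by
    ext y
    constructor
    · intro hy
      obtain ⟨x, rfl⟩ := f.surjective y
      exact ⟨x, by simpa using hy, rfl⟩
    · rintro ⟨x, hx, rfl⟩
      simpa using hx
  rw [h2]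
  exact h1.image f.continuous

theorem isSeparated_of_comp_surjective {X Y Z : Scheme.{u}} (i : X ⟶ Y) (g : Y ⟶ Z)
    [IsSeparated (i ≫ g)] [IsClosedImmersion i] [Surjective i] : IsSeparated g := by
  have hmap : IsClosedImmersion (pullback.map (i ≫ g) (i ≫ g) g g i i (𝟙 Z)
      ((Category.comp_id _).trans rfl) ((Category.comp_id _).trans rfl)) :=
    MorphismProperty.pullbackMap (P := @IsClosedImmersion) (f := i ≫ g) (g := i ≫ g) (f' := g)
      (g' := g) (i₁ := i) (i₂ := i) inferInstance inferInstance rfl rfl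
  have hcomm : pullback.diagonal (i ≫ g) ≫ pullback.map (i ≫ g) (i ≫ g) g g i i (𝟙 Z)
      ((Category.comp_id _).trans rfl) ((Category.comp_id _).trans rfl) =
      i ≫ pullback.diagonal g := by
    apply pullback.hom_ext
    · simp only [Category.assoc, pullback.diagonal_fst, Category.comp_id, pullback.map]
      rw [pullback.lift_fst, pullback.diagonal_fst_assoc]
    · simp only [Category.assoc, pullback.diagonal_snd, Category.comp_id, pullback.map]
      rw [pullback.lift_snd, pullback.diagonal_snd_assoc]
  obtain ⟨m, hm⟩ : ∃ m : pullback (i ≫ g) (i ≫ g) ⟶ pullback g g,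
      m = pullback.map (i ≫ g) (i ≫ g) g g i i (𝟙 Z)
      ((Category.comp_id _).trans rfl) ((Category.comp_id _).trans rfl) := ⟨_, rfl⟩
  rw [← hm] at hmap hcomm
  have hrange : Set.range (pullback.diagonal g) =
      m '' (Set.range (pullback.diagonal (i ≫ g))) := by
    ext z
    constructor
    · rintro ⟨y, rfl⟩
      obtain ⟨x, rfl⟩ := i.surjective y
      refine ⟨pullback.diagonal (i ≫ g) x, ⟨x, rfl⟩, ?_⟩
      rw [← Scheme.Hom.comp_apply, hcomm, Scheme.Hom.comp_apply]
    · rintro ⟨_, ⟨x, rfl⟩, rfl⟩
      exact ⟨i x, by rw [← Scheme.Hom.comp_apply, ← hcomm, Scheme.Hom.comp_apply]⟩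
  have hclosed : IsClosed (Set.range (pullback.diagonal g)) := by
    rw [hrange]
    exact m.isClosedEmbedding.isClosedMap _
      (pullback.diagonal (i ≫ g)).isClosedEmbedding.isClosed_range
  exact ⟨IsClosedImmersion.of_isPreimmersion _ hclosed⟩

variable {X X' Y Y' S S' : Scheme.{u}} (iX : X ⟶ X') (iY : Y ⟶ Y') (iS : S ⟶ S')
    (f : X ⟶ Y) (f' : X' ⟶ Y') (g : Y ⟶ S) (g' : Y' ⟶ S')

theorem isFinite_of_thickening
    (hS : MoreMor.IsFiniteOrderThickening iS) (hcX : IsPullback iX (f ≫ g) (f' ≫ g') iS)
    (hcY : IsPullback iY g g' iS) (w : iX ≫ f' = f ≫ iY) [Flat (f' ≫ g')]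
    [IsFinite f] [LocallyOfFinitePresentation f] : IsFinite f' := by
  have hXY : IsPullback iX f f' iY := IsPullback.of_bot hcX w hcY
  have hciS : IsClosedImmersion iS := hS.1.1
  have hsS : Surjective iS := hS.1.2
  have hciY : IsClosedImmersion iY :=
    MorphismProperty.of_isPullback (P := @IsClosedImmersion) hcY.flip hciS
  have hsY : Surjective iY := MorphismProperty.of_isPullback (P := @Surjective) hcY.flip hsS
  have hciX : IsClosedImmersion iX :=
    MorphismProperty.of_isPullback (P := @IsClosedImmersion) hXY.flip hciY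
  have hsX : Surjective iX := MorphismProperty.of_isPullback (P := @Surjective) hXY.flip hsY
  have hfin : IsFinite (iX ≫ f') := by rw [w]; infer_instance
  have : LocallyOfFinitePresentation f' :=
    ThickFP.lfp_of_thickening iX iY iS f f' g g' hS hcX hcY w
  have : LocallyOfFiniteType f' := inferInstance
  have : QuasiCompact f' := quasiCompact_of_comp_surjective iX f'
  have : UniversallyClosed f' := UniversallyClosed.of_comp_surjective iX f'
  have : IsSeparated f' := isSeparated_of_comp_surjective iX f'
  have : IsProper f' := {}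
  have : LocallyQuasiFinite f' := by
    apply LocallyQuasiFinite.of_finite_preimage_singleton
    intro y'
    obtain ⟨y, rfl⟩ := hsY.surj y'
    have hfinp := f.finite_preimage_singleton y
    refine (hfinp.image iX).subset ?_
    intro x' hx'
    obtain ⟨x, rfl⟩ := hsX.surj x'
    refine ⟨x, ?_, rfl⟩
    have h0 : f' (iX x) = iY y := hx'
    have h1 : iY (f x) = iY y := by
      rw [← h0, ← Scheme.Hom.comp_apply, ← w, Scheme.Hom.comp_apply]
    exact iY.isClosedEmbedding.injective h1
  exact IsFinite.of_isProper_of_locallyQuasiFinite f'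

theorem finLocFreeOfDeg_iff_of_thickening (d : ℕ)
    (hS : MoreMor.IsFiniteOrderThickening iS) (hcX : IsPullback iX (f ≫ g) (f' ≫ g') iS)
    (hcY : IsPullback iY g g' iS) (w : iX ≫ f' = f ≫ iY) [Flat (f' ≫ g')] :
    Mor2.IsFinLocFreeOfDeg d f ↔ Mor2.IsFinLocFreeOfDeg d f' := by
  have hXY : IsPullback iX f f' iY := IsPullback.of_bot hcX w hcY
  have hsY : Surjective iY := ThickOpen.surjective_iY iY iS g g' hS hcY
  constructor
  · rintro ⟨⟨hfin, hfl, hfp⟩, hrank⟩
    have hfin' : IsFinite f' := isFinite_of_thickening iX iY iS f f' g g' hS hcX hcY w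
    have hfl' : Flat f' := ThickFlat.flat_of_thickening iX iY iS f f' g g' hS hcX hcY w
    have hfp' : LocallyOfFinitePresentation f' :=
      ThickFP.lfp_of_thickening iX iY iS f f' g g' hS hcX hcY w
    refine ⟨⟨hfin', hfl', hfp'⟩, fun y' => ?_⟩
    obtain ⟨y, rfl⟩ := hsY.surj y'
    rw [← Scheme.Hom.finrank_of_isPullback iX f f' iY hXY y]
    exact hrank y
  · rintro ⟨⟨hfin, hfl, hfp⟩, hrank⟩
    refine ⟨⟨MorphismProperty.of_isPullback (P := @IsFinite) hXY hfin,
      MorphismProperty.of_isPullback (P := @Flat) hXY hfl,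
      MorphismProperty.of_isPullback (P := @LocallyOfFinitePresentation) hXY hfp⟩, fun y => ?_⟩
    rw [Scheme.Hom.finrank_of_isPullback iX f f' iY hXY y]
    exact hrank (iY y)

end Groth.Agent.Helper7.ThickFin
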