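import Mathlib
import Groth.Prelude.Def_MoreMor
import Groth.Agent.Lib.Helper7.ThickFin

/-!
# Finiteness along nil-thickenings in a cartesian square (helper7)
-/

set_option autoImplicit false
universe u

namespace Groth.Agent.Helper7.ThickFin2

open AlgebraicGeometry CategoryTheory Limits TensorProduct

theorem finiteType_of_nilpotent {R S T S' : Type u} [CommRing R] [CommRing S] [CommRing T]
    [CommRing S'] [Algebra R S] [Algebra R T] [Algebra T S'] [Algebra S S'] [Algebra R S']
    [IsScalarTower R T S'] [IsScalarTower R S S']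
    (J : Ideal R) (n : ℕ) (hJ : J ^ n = ⊥) (hT : Function.Surjective (algebraMap R T))
    (hS : Function.Surjective (algebraMap S S'))
    (hSker : ∀ s : S, algebraMap S S' s = 0 → s ∈ (J • ⊤ : Submodule R S))
    [Algebra.FiniteType T S'] : Algebra.FiniteType R S := by
  classical
  obtain ⟨m, f', hf'⟩ := Algebra.FiniteType.iff_quotient_mvPolynomial''.mp
    (inferInstance : Algebra.FiniteType T S')
  choose s hs using fun i : Fin m => hS (f' (MvPolynomial.X i))
  let π : MvPolynomial (Fin m) R →ₐ[R] S := MvPolynomial.aeval s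
  let μ : MvPolynomial (Fin m) R →+* MvPolynomial (Fin m) T := MvPolynomial.map (algebraMap R T)
  have hμ : Function.Surjective μ := MvPolynomial.map_surjective _ hT
  have hC : ∀ r : R, f' (MvPolynomial.C (algebraMap R T r)) = algebraMap S S' (algebraMap R S r) := by
    intro r
    have h1 : f' (MvPolynomial.C (algebraMap R T r)) = algebraMap T S' (algebraMap R T r) := by
      rw [← MvPolynomial.algebraMap_eq]; exact f'.commutes _
    rw [h1, ← IsScalarTower.algebraMap_apply, ← IsScalarTower.algebraMap_apply]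
  have hcomp' : (f'.toRingHom.comp μ) = (algebraMap S S').comp π.toRingHom := by
    apply MvPolynomial.ringHom_ext
    · intro r
      show f' (μ (MvPolynomial.C r)) = algebraMap S S' (π (MvPolynomial.C r))
      simp only [μ, π, MvPolynomial.map_C, MvPolynomial.aeval_C]
      exact hC r
    · intro i
      show f' (μ (MvPolynomial.X i)) = algebraMap S S' (π (MvPolynomial.X i))
      simp only [μ, π, MvPolynomial.map_X, MvPolynomial.aeval_X]
      exact (hs i).symm
  have hcomp : ∀ p, f' (μ p) = algebraMap S S' (π p) := fun p => congr($hcomp' p)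
  have hπ : Function.Surjective π := by
    have h1 : (⊤ : Submodule R S) ≤ LinearMap.range π.toLinearMap ⊔ J • ⊤ := by
      intro x _
      obtain ⟨pb, hpb⟩ := hf' (algebraMap S S' x)
      obtain ⟨p, rfl⟩ := hμ pb
      have h2 : x - π p ∈ (J • ⊤ : Submodule R S) :=
        hSker _ (by rw [map_sub, ← hcomp, hpb, sub_self])
      have h3 : x = π p + (x - π p) := by ring
      rw [h3]
      exact Submodule.add_mem_sup ⟨p, rfl⟩ h2
    have h4 := ThickFP.le_of_le_sup_smul J n hJ _ _ h1
    intro x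
    obtain ⟨p, hp⟩ := h4 (Submodule.mem_top : x ∈ ⊤)
    exact ⟨p, hp⟩
  exact Algebra.FiniteType.of_surjective π hπ

theorem finiteType_of_isPushout {R A S B : CommRingCat.{u}} {φ : R ⟶ A} {ψ : R ⟶ S} {inl : A ⟶ B}
    {inr : S ⟶ B} (hpo : IsPushout φ ψ inl inr) (hψ : Function.Surjective ψ.hom)
    (hn : IsNilpotent (RingHom.ker ψ.hom)) (h : inr.hom.FiniteType) : φ.hom.FiniteType := by
  obtain ⟨n, hn⟩ := hn
  have hinl := ThickFP.surjective_inl hpo hψ
  have hk := ThickFP.ker_inl_eq hpo hψ
  algebraize [φ.hom, ψ.hom, inl.hom, inr.hom, inl.hom.comp φ.hom]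
  have : IsScalarTower R S B := .of_algebraMap_eq' <| congr($(hpo.1.1).hom)
  have : Algebra.FiniteType S B := h
  have hk' : RingHom.ker ψ.hom ^ n = ⊥ := hn
  refine finiteType_of_nilpotent (R := R) (S := A) (T := S) (S' := B) (RingHom.ker ψ.hom) n hk'
    hψ hinl ?_
  intro s hs
  rw [Ideal.smul_top_eq_map]
  have h3 : s ∈ RingHom.ker inl.hom := hs
  rw [hk] at h3
  exact h3

theorem lft_of_nilThickening {X X' S S' : Scheme.{u}} (iX : X ⟶ X') (iS : S ⟶ S') (f : X ⟶ S)
    (f' : X' ⟶ S') [IsClosedImmersion iS]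
    (hnil : ∀ U : S'.affineOpens, IsNilpotent (iS.ker.ideal U))
    (hc : IsPullback iX f f' iS) [LocallyOfFiniteType f] : LocallyOfFiniteType f' := by
  have hloc : RingHom.StableUnderCompositionWithLocalizationAwaySource @RingHom.FiniteType :=
    fun R S T _ _ _ _ r _ f hf =>
      RingHom.FiniteType.comp hf (RingHom.finiteType_holdsForLocalizationAway S r)
  rw [HasRingHomProperty.iff_exists_appLE (P := @LocallyOfFiniteType) hloc]
  intro x'
  obtain ⟨U', hU', hxU', -⟩ := TopologicalSpace.Opens.isBasis_iff_nbhd.mp S'.isBasis_affineOpens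
    (show f' x' ∈ (⊤ : S'.Opens) from trivial)
  obtain ⟨V', hV', hxV', e⟩ := TopologicalSpace.Opens.isBasis_iff_nbhd.mp X'.isBasis_affineOpens
    (show x' ∈ f' ⁻¹ᵁ U' from hxU')
  refine ⟨⟨U', hU'⟩, ⟨V', hV'⟩, hxV', e, ?_⟩
  have hUT : IsAffineOpen (iS ⁻¹ᵁ U') := hU'.preimage iS
  have hiso := isIso_pushoutSection_of_isAffineOpen hc (le_refl (iS ⁻¹ᵁ U')) e rfl hU' hUT hV'
  have hpo := (isIso_pushoutSection_iff hc (le_refl (iS ⁻¹ᵁ U')) e rfl).mp hiso
  have hUY : IsAffineOpen (iX ⁻¹ᵁ V' ⊓ f ⁻¹ᵁ (iS ⁻¹ᵁ U')) := by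
    have : IsAffine _ := hU'
    have : IsAffine _ := hUT
    have : IsAffine _ := hV'
    exact .of_isIso (Scheme.Hom.isPullback_resLE hc (le_refl (iS ⁻¹ᵁ U')) e rfl).isoPullback.hom
  refine finiteType_of_isPushout hpo ?_ ?_
    (HasRingHomProperty.appLE @LocallyOfFiniteType f inferInstance ⟨_, hUT⟩ ⟨_, hUY⟩ _)
  · rw [Scheme.Hom.appLE_eq_app]; exact iS.app_surjective U' hU'
  · rw [Scheme.Hom.appLE_eq_app]
    simpa using hnil ⟨U', hU'⟩

theorem isFinite_iff_of_nilThickening {X X₀ Y Y₀ : Scheme.{u}}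
    (F : Y ⟶ X) (F₀ : Y₀ ⟶ X₀) (i : Y₀ ⟶ Y) (j : X₀ ⟶ X)
    (hi : MoreMor.IsThickening i) (hj : MoreMor.IsThickening j)
    (hjnil : ∀ U : X.affineOpens, IsNilpotent (j.ker.ideal U))
    (hc : IsPullback F₀ i j F) :
    IsFinite F ↔ IsFinite F₀ := by
  obtain ⟨hci, hsi⟩ := hi
  obtain ⟨hcj, hsj⟩ := hj
  constructor
  · intro hF
    exact MorphismProperty.of_isPullback (P := @IsFinite) hc.flip hF
  · intro hF₀
    have hfin : IsFinite (i ≫ F) := by rw [← hc.w]; infer_instance
    have : LocallyOfFiniteType F := lft_of_nilThickening i j F₀ F hjnil hc.flip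
    have : QuasiCompact F := ThickFin.quasiCompact_of_comp_surjective i F
    have : UniversallyClosed F := UniversallyClosed.of_comp_surjective i F
    have : IsSeparated F := ThickFin.isSeparated_of_comp_surjective i F
    have : IsProper F := {}
    have : LocallyQuasiFinite F := by
      apply LocallyQuasiFinite.of_finite_preimage_singleton
      intro x
      obtain ⟨x₀, rfl⟩ := hsj.surj x
      have hfinp := F₀.finite_preimage_singleton x₀
      refine (hfinp.image i).subset ?_
      intro y hy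
      obtain ⟨y₀, rfl⟩ := hsi.surj y
      refine ⟨y₀, ?_, rfl⟩
      have h0 : F (i y₀) = j x₀ := hy
      have h1 : j (F₀ y₀) = j x₀ := by
        rw [← h0, ← Scheme.Hom.comp_apply, hc.w, Scheme.Hom.comp_apply]
      exact j.isClosedEmbedding.injective h1
    exact IsFinite.of_isProper_of_locallyQuasiFinite F

end Groth.Agent.Helper7.ThickFin2
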