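import Mathlib
import Groth.Prelude.Def_MoreMor
import Groth.Agent.Lib.Helper7.ThickFP

/-!
# Smoothness and finite order thickenings (helper7)

Ring level: Stacks 031L (Mathlib: square-zero case) extended to nilpotent ideals by induction on
the order.  Scheme level: smoothness lifts along finite order thickenings for morphisms
`X' → Y'` over `S'` with `X'` flat over `S'`.
-/

set_option autoImplicit false
universe u

namespace Groth.Agent.Helper7.ThickSmooth

open AlgebraicGeometry CategoryTheory Limits TensorProduct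

/-- Flatness passes to the quotient map `R ⧸ I → S ⧸ IS`. -/
theorem flat_quotientMap {R S : Type u} [CommRing R] [CommRing S] (f : R →+* S) (hf : f.Flat)
    (I : Ideal R) : (Ideal.quotientMap (I.map f) f Ideal.le_comap_map).Flat := by
  algebraize [f]
  letI alg : Algebra (R ⧸ I) (S ⧸ I.map (algebraMap R S)) :=
    (Ideal.quotientMap (I.map (algebraMap R S)) (algebraMap R S) Ideal.le_comap_map).toAlgebra
  have tower : IsScalarTower R (R ⧸ I) (S ⧸ I.map (algebraMap R S)) :=
    IsScalarTower.of_algebraMap_eq (fun r => rfl)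
  have : Module.Flat R S := hf
  let e₁ : (R ⧸ I) ⊗[R] S ≃ₗ[R] S ⧸ (I • ⊤ : Submodule R S) :=
    TensorProduct.quotTensorEquivQuotSMul S I
  let e₂ : (S ⧸ (I • ⊤ : Submodule R S)) ≃ₗ[R]
      S ⧸ ((I.map (algebraMap R S)).restrictScalars R) :=
    Submodule.quotEquivOfEq _ _ (Ideal.smul_top_eq_map I)
  let e₃ : (S ⧸ ((I.map (algebraMap R S)).restrictScalars R)) ≃ₗ[R]
      S ⧸ I.map (algebraMap R S) :=
    Submodule.Quotient.restrictScalarsEquiv R _
  let e : (R ⧸ I) ⊗[R] S ≃ₗ[R] S ⧸ I.map (algebraMap R S) := (e₁.trans e₂).trans e₃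
  let e' : (R ⧸ I) ⊗[R] S ≃ₗ[R ⧸ I] S ⧸ I.map (algebraMap R S) :=
    LinearEquiv.extendScalarsOfSurjective Ideal.Quotient.mk_surjective e
  have : Module.Flat (R ⧸ I) ((R ⧸ I) ⊗[R] S) := Module.Flat.baseChange R (R ⧸ I) S
  exact Module.Flat.of_linearEquiv e'.symm

/-- Stacks 031L for nilpotent ideals. -/
theorem formallySmooth_of_nilpotent (n : ℕ) : ∀ {R S R' S' : Type u} [CommRing R] [CommRing S]
    [CommRing R'] [CommRing S'] (f : R →+* S) (_ : f.Flat)
    (qR : R →+* R') (qS : S →+* S') (g : R' →+* S') (_ : Function.Surjective qR)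
    (_ : Function.Surjective qS) (_ : qS.comp f = g.comp qR)
    (_ : RingHom.ker qR ^ n = ⊥) (_ : RingHom.ker qS = (RingHom.ker qR).map f)
    (_ : g.FormallySmooth), f.FormallySmooth := by
  induction n with
  | zero =>
    intro R S R' S' _ _ _ _ f flat qR qS g surjR surjS comm hn eqmap smoothq
    refine RingHom.FormallySmooth.of_flat_of_ker_eq_map_of_square_zero f flat qR qS g surjR surjS
      comm ?_ eqmap smoothq
    exact le_bot_iff.mp ((Ideal.pow_le_pow_right (Nat.zero_le 2)).trans hn.le)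
  | succ n ih =>
    intro R S R' S' _ _ _ _ f flat qR qS g surjR surjS comm hn eqmap smoothq
    by_cases hn2 : n + 1 ≤ 2
    · refine RingHom.FormallySmooth.of_flat_of_ker_eq_map_of_square_zero f flat qR qS g surjR
        surjS comm ?_ eqmap smoothq
      exact le_bot_iff.mp ((Ideal.pow_le_pow_right hn2).trans hn.le)
    · have hn1 : 2 ≤ n := by omega
      set I : Ideal R := RingHom.ker qR with hI
      have hI₂ : I ^ n ≤ I := Ideal.pow_le_self (by omega)
      have hS₂ : (I ^ n).map f ≤ RingHom.ker qS := by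
        rw [eqmap]; exact Ideal.map_mono hI₂
      let fb : R ⧸ I ^ n →+* S ⧸ (I ^ n).map f :=
        Ideal.quotientMap ((I ^ n).map f) f Ideal.le_comap_map
      let qRb : R ⧸ I ^ n →+* R' :=
        Ideal.Quotient.lift (I ^ n) qR (fun a ha => RingHom.mem_ker.mp (hI₂ ha))
      let qSb : S ⧸ (I ^ n).map f →+* S' :=
        Ideal.Quotient.lift ((I ^ n).map f) qS (fun a ha => RingHom.mem_ker.mp (hS₂ ha))
      have hfb : fb.Flat := flat_quotientMap f flat (I ^ n)
      have hsR : Function.Surjective qRb :=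
        Ideal.Quotient.lift_surjective_of_surjective _ _ surjR
      have hsS : Function.Surjective qSb :=
        Ideal.Quotient.lift_surjective_of_surjective _ _ surjS
      have hcomm : qSb.comp fb = g.comp qRb := by
        apply Ideal.Quotient.ringHom_ext
        ext r
        simp only [RingHom.comp_apply, fb, qRb, qSb, Ideal.quotientMap_mk, Ideal.Quotient.lift_mk]
        exact congr($comm r)
      have hkR : RingHom.ker qRb = I.map (Ideal.Quotient.mk (I ^ n)) :=
        Ideal.ker_quotient_lift qR _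
      have hkS : RingHom.ker qSb = (RingHom.ker qS).map (Ideal.Quotient.mk ((I ^ n).map f)) :=
        Ideal.ker_quotient_lift qS _
      have hnb : RingHom.ker qRb ^ n = ⊥ := by
        rw [hkR, ← Ideal.map_pow, Ideal.map_quotient_self]
      have heq : RingHom.ker qSb = (RingHom.ker qRb).map fb := by
        rw [hkS, hkR, eqmap, Ideal.map_map, Ideal.map_map]
        congr 1
      have hsm : fb.FormallySmooth := ih fb hfb qRb qSb g hsR hsS hcomm hnb heq smoothq
      refine RingHom.FormallySmooth.of_flat_of_ker_eq_map_of_square_zero f flat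
        (Ideal.Quotient.mk (I ^ n)) (Ideal.Quotient.mk ((I ^ n).map f)) fb
        Ideal.Quotient.mk_surjective Ideal.Quotient.mk_surjective
        (Ideal.quotientMap_comp_mk _).symm ?_ ?_ hsm
      · rw [Ideal.mk_ker, ← pow_mul]
        refine le_bot_iff.mp (le_trans (Ideal.pow_le_pow_right ?_) hn.le)
        nlinarith
      · rw [Ideal.mk_ker, Ideal.mk_ker]

theorem smooth_of_isPushout {A' A B' B C' C : CommRingCat.{u}} {β' : A' ⟶ B'} {a : A' ⟶ A}
    {b : B' ⟶ B} {β : A ⟶ B} {γ' : B' ⟶ C'} {c : C' ⟶ C} {γ : B ⟶ C}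
    (h1 : IsPushout β' a b β) (h2 : IsPushout γ' b c γ) (ha : Function.Surjective a.hom)
    (hn : IsNilpotent (RingHom.ker a.hom)) (hfl : (β' ≫ γ').hom.Flat)
    (hγ : γ.hom.Smooth) : γ'.hom.Smooth := by
  have hγfl : γ.hom.Flat := by
    algebraize [γ.hom]
    have : Algebra.Smooth B C := hγ
    exact (inferInstance : Module.Flat B C)
  have hflat : γ'.hom.Flat := ThickFlat.flat_of_isPushout h1 h2 ha hn hfl hγfl
  have hfp : γ'.hom.FinitePresentation :=
    ThickFP.fp_of_isPushout h1 h2 ha hn hfl (RingHom.smooth_def.mp hγ).2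
  obtain ⟨n, hn⟩ := hn
  have hb : Function.Surjective b.hom := ThickFP.surjective_inl h1 ha
  have hkb : RingHom.ker b.hom = (RingHom.ker a.hom).map β'.hom := ThickFP.ker_inl_eq h1 ha
  have hc : Function.Surjective c.hom := ThickFP.surjective_inl h2 hb
  have hkc : RingHom.ker c.hom = (RingHom.ker b.hom).map γ'.hom := ThickFP.ker_inl_eq h2 hb
  have hk : RingHom.ker a.hom ^ n = ⊥ := hn
  have hbn : RingHom.ker b.hom ^ n = ⊥ := by
    rw [hkb, ← Ideal.map_pow, hk, Ideal.map_bot]
  have hcomm : c.hom.comp γ'.hom = γ.hom.comp b.hom := congr($(h2.w).hom)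
  have hfs : γ'.hom.FormallySmooth :=
    formallySmooth_of_nilpotent n γ'.hom hflat b.hom c.hom γ.hom hb hc hcomm hbn hkc
      (RingHom.smooth_def.mp hγ).1
  exact RingHom.smooth_def.mpr ⟨hfs, hfp⟩

variable {X X' Y Y' S S' : Scheme.{u}} (iX : X ⟶ X') (iY : Y ⟶ Y') (iS : S ⟶ S')
    (f : X ⟶ Y) (f' : X' ⟶ Y') (g : Y ⟶ S) (g' : Y' ⟶ S')

theorem smooth_of_thickening
    (hS : MoreMor.IsFiniteOrderThickening iS) (hcX : IsPullback iX (f ≫ g) (f' ≫ g') iS)
    (hcY : IsPullback iY g g' iS) (w : iX ≫ f' = f ≫ iY) [Flat (f' ≫ g')]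
    [Smooth f] : Smooth f' := by
  have hloc : RingHom.StableUnderCompositionWithLocalizationAwaySource @RingHom.Smooth :=
    fun R S T _ _ _ _ r _ f hf =>
      RingHom.Smooth.comp (RingHom.Smooth.holdsForLocalizationAway S r) hf
  rw [HasRingHomProperty.iff_exists_appLE (P := @Smooth) hloc]
  intro x'
  obtain ⟨V', W', hx, eW, V, W, eVW, A', A, β', a, b, β, c, h1, h2, ha, hn, hfl⟩ :=
    ThickFP.exists_charts iX iY iS f f' g g' hS hcX hcY w x'
  exact ⟨V', W', hx, eW, smooth_of_isPushout h1 h2 ha hn hfl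
    (HasRingHomProperty.appLE @Smooth f inferInstance V W eVW)⟩

theorem smooth_iff_of_thickening
    (hS : MoreMor.IsFiniteOrderThickening iS) (hcX : IsPullback iX (f ≫ g) (f' ≫ g') iS)
    (hcY : IsPullback iY g g' iS) (w : iX ≫ f' = f ≫ iY) [Flat (f' ≫ g')] :
    Smooth f ↔ Smooth f' := by
  constructor
  · intro _
    exact smooth_of_thickening iX iY iS f f' g g' hS hcX hcY w
  · intro hf'
    exact MorphismProperty.of_isPullback (P := @Smooth) (IsPullback.of_bot hcX w hcY) hf'

end Groth.Agent.Helper7.ThickSmooth
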