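import Mathlib
import Groth.Prelude.Def_MoreMor
import Groth.Prelude.Def_FSch2
import Groth.Agent.Lib.Helper7.ThickSmooth

/-!
# Smoothness of adic flat morphisms of formal systems (helper7)

`exists_charts'` is `ThickFP.exists_charts` with the nilpotency hypothesis weakened to local
nilpotency on suitable affine charts.  For a locally Noetherian (in fact: formal and adic) system
the transition maps are locally nilpotent thickenings, so smoothness propagates up the levels of a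
flat adic morphism.
-/

set_option autoImplicit false
universe u

namespace Groth.Agent.Helper7.ThickFormal

open AlgebraicGeometry CategoryTheory Limits TensorProduct

theorem exists_charts' {X X' Y Y' S S' : Scheme.{u}} (iX : X ⟶ X') (iY : Y ⟶ Y') (iS : S ⟶ S')
    (f : X ⟶ Y) (f' : X' ⟶ Y') (g : Y ⟶ S) (g' : Y' ⟶ S')
    (hci : IsClosedImmersion iS)
    (hloc : ∀ s' : S', ∃ U' : S'.Opens, IsAffineOpen U' ∧ s' ∈ U' ∧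
      IsNilpotent (RingHom.ker (iS.app U').hom)) (hcX : IsPullback iX (f ≫ g) (f' ≫ g') iS)
    (hcY : IsPullback iY g g' iS) (w : iX ≫ f' = f ≫ iY) [Flat (f' ≫ g')] (x' : X') :
    ∃ (V' : Y'.affineOpens) (W' : X'.affineOpens) (_ : x' ∈ W'.1) (eW : W'.1 ≤ f' ⁻¹ᵁ V'.1)
      (V : Y.affineOpens) (W : X.affineOpens) (eVW : W.1 ≤ f ⁻¹ᵁ V.1)
      (A' A : CommRingCat.{u}) (β' : A' ⟶ Γ(Y', V'.1)) (a : A' ⟶ A)
      (b : Γ(Y', V'.1) ⟶ Γ(Y, V.1)) (β : A ⟶ Γ(Y, V.1)) (c : Γ(X', W'.1) ⟶ Γ(X, W.1)),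
      IsPushout β' a b β ∧ IsPushout (f'.appLE V'.1 W'.1 eW) b c (f.appLE V.1 W.1 eVW) ∧
      Function.Surjective a.hom ∧ IsNilpotent (RingHom.ker a.hom) ∧
      (β' ≫ f'.appLE V'.1 W'.1 eW).hom.Flat := by
  have := hci
  obtain ⟨U', hU', hxU', hnilU⟩ := hloc (g' (f' x'))
  obtain ⟨V', hV', hxV', eV⟩ := TopologicalSpace.Opens.isBasis_iff_nbhd.mp Y'.isBasis_affineOpens
    (show f' x' ∈ g' ⁻¹ᵁ U' from hxU')
  obtain ⟨W', hW', hxW', eW⟩ := TopologicalSpace.Opens.isBasis_iff_nbhd.mp X'.isBasis_affineOpens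
    (show x' ∈ f' ⁻¹ᵁ V' from hxV')
  have eW2 : W' ≤ (f' ≫ g') ⁻¹ᵁ U' := by
    intro z hz
    have h1 : f' z ∈ V' := eW hz
    have h2 : g' (f' z) ∈ U' := eV h1
    show (f' ≫ g') z ∈ U'
    rw [Scheme.Hom.comp_apply]; exact h2
  have hUT : IsAffineOpen (iS ⁻¹ᵁ U') := hU'.preimage iS
  obtain ⟨V, hVdef⟩ : ∃ V : Y.Opens, V = iY ⁻¹ᵁ V' ⊓ g ⁻¹ᵁ (iS ⁻¹ᵁ U') := ⟨_, rfl⟩
  obtain ⟨W, hWdef⟩ : ∃ W : X.Opens, W = iX ⁻¹ᵁ W' ⊓ (f ≫ g) ⁻¹ᵁ (iS ⁻¹ᵁ U') := ⟨_, rfl⟩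
  have hisoY := isIso_pushoutSection_of_isAffineOpen hcY (le_refl (iS ⁻¹ᵁ U')) eV hVdef hU' hUT hV'
  have hpoY := (isIso_pushoutSection_iff hcY (le_refl (iS ⁻¹ᵁ U')) eV hVdef).mp hisoY
  have hisoX := isIso_pushoutSection_of_isAffineOpen hcX (le_refl (iS ⁻¹ᵁ U')) eW2 hWdef hU' hUT hW'
  have hpoX := (isIso_pushoutSection_iff hcX (le_refl (iS ⁻¹ᵁ U')) eW2 hWdef).mp hisoX
  have hVa : IsAffineOpen V := by
    have : IsAffine _ := hU'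
    have : IsAffine _ := hUT
    have : IsAffine _ := hV'
    exact .of_isIso (Scheme.Hom.isPullback_resLE hcY (le_refl (iS ⁻¹ᵁ U')) eV hVdef).isoPullback.hom
  have hWa : IsAffineOpen W := by
    have : IsAffine _ := hU'
    have : IsAffine _ := hUT
    have : IsAffine _ := hW'
    exact .of_isIso (Scheme.Hom.isPullback_resLE hcX (le_refl (iS ⁻¹ᵁ U')) eW2 hWdef).isoPullback.hom
  have hWV' : W ≤ iX ⁻¹ᵁ W' := hWdef.le.trans inf_le_left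
  have hVV' : V ≤ iY ⁻¹ᵁ V' := hVdef.le.trans inf_le_left
  have hVU : V ≤ g ⁻¹ᵁ (iS ⁻¹ᵁ U') := hVdef.le.trans inf_le_right
  have eVW : W ≤ f ⁻¹ᵁ V := by
    intro z hz
    rw [hWdef] at hz
    obtain ⟨hz1, hz2⟩ := hz
    show f z ∈ V
    rw [hVdef]
    refine ⟨?_, ?_⟩
    · show iY (f z) ∈ V'
      have h3 : iY (f z) = f' (iX z) := by
        rw [← Scheme.Hom.comp_apply, ← w, Scheme.Hom.comp_apply]
      rw [h3]; exact eW hz1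
    · show g (f z) ∈ iS ⁻¹ᵁ U'
      rw [← Scheme.Hom.comp_apply]; exact hz2
  have hsX : IsPushout (g'.appLE U' V' eV ≫ f'.appLE V' W' eW)
      (iS.appLE U' (iS ⁻¹ᵁ U') (le_refl _)) (iX.appLE W' W hWV')
      (g.appLE (iS ⁻¹ᵁ U') V hVU ≫ f.appLE V W eVW) := by
    rw [Scheme.Hom.appLE_comp_appLE, Scheme.Hom.appLE_comp_appLE]; exact hpoX
  have hp : f'.appLE V' W' eW ≫ iX.appLE W' W hWV' = iY.appLE V' V hVV' ≫ f.appLE V W eVW := by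
    rw [Scheme.Hom.appLE_comp_appLE, Scheme.Hom.appLE_comp_appLE]
    congr 1
  have hright := IsPushout.of_left hsX hp hpoY
  have hflA : ((g'.appLE U' V' eV) ≫ (f'.appLE V' W' eW)).hom.Flat := by
    rw [Scheme.Hom.appLE_comp_appLE]
    exact HasRingHomProperty.appLE @Flat (f' ≫ g') inferInstance ⟨U', hU'⟩ ⟨W', hW'⟩ _
  refine ⟨⟨V', hV'⟩, ⟨W', hW'⟩, hxW', eW, ⟨V, hVa⟩, ⟨W, hWa⟩, eVW, _, _, _, _, _, _, _,
    hpoY, hright, ?_, ?_, hflA⟩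
  · rw [Scheme.Hom.appLE_eq_app]; exact iS.app_surjective U' hU'
  · rw [Scheme.Hom.appLE_eq_app]
    exact hnilU


theorem smooth_of_thickening' {X X' Y Y' S S' : Scheme.{u}} (iX : X ⟶ X') (iY : Y ⟶ Y')
    (iS : S ⟶ S') (f : X ⟶ Y) (f' : X' ⟶ Y') (g : Y ⟶ S) (g' : Y' ⟶ S')
    (hci : IsClosedImmersion iS)
    (hloc : ∀ s' : S', ∃ U' : S'.Opens, IsAffineOpen U' ∧ s' ∈ U' ∧
      IsNilpotent (RingHom.ker (iS.app U').hom))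
    (hcX : IsPullback iX (f ≫ g) (f' ≫ g') iS)
    (hcY : IsPullback iY g g' iS) (w : iX ≫ f' = f ≫ iY) [Flat (f' ≫ g')]
    [Smooth f] : Smooth f' := by
  have hl : RingHom.StableUnderCompositionWithLocalizationAwaySource @RingHom.Smooth :=
    fun R S T _ _ _ _ r _ f hf =>
      RingHom.Smooth.comp (RingHom.Smooth.holdsForLocalizationAway S r) hf
  rw [HasRingHomProperty.iff_exists_appLE (P := @Smooth) hl]
  intro x'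
  obtain ⟨V', W', hx, eW, V, W, eVW, A', A, β', a, b, β, c, h1, h2, ha, hn, hfl⟩ :=
    exists_charts' iX iY iS f f' g g' hci hloc hcX hcY w x'
  exact ⟨V', W', hx, eW, ThickSmooth.smooth_of_isPushout h1 h2 ha hn hfl
    (HasRingHomProperty.appLE @Smooth f inferInstance V W eVW)⟩

/-- Core computation: if `ι₂.ker = (t₁ ≫ ι₂).ker ^ m` then the kernel of `t₁` on the affine chart
`ι₂⁻¹ U₂` has vanishing `m`-th power. -/
theorem ker_pow_eq_bot {Y0 Y1 Y2 : Scheme.{u}} (t₁ : Y0 ⟶ Y1) (ι₂ : Y1 ⟶ Y2)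
    [IsClosedImmersion ι₂] [QuasiCompact t₁] (m : ℕ) (h₂ : ι₂.ker = (t₁ ≫ ι₂).ker ^ m)
    (U₂ : Y2.Opens) (hU₂ : IsAffineOpen U₂) :
    (RingHom.ker (t₁.app (ι₂ ⁻¹ᵁ U₂)).hom) ^ m = ⊥ := by
  have hsurj : Function.Surjective (ι₂.app U₂).hom := ι₂.app_surjective U₂ hU₂
  have hk : RingHom.ker (ι₂.app U₂).hom = (RingHom.ker ((t₁ ≫ ι₂).app U₂).hom) ^ m := by
    have h3 := congr(($h₂).ideal ⟨U₂, hU₂⟩)
    simpa using h3
  have hle : RingHom.ker (t₁.app (ι₂ ⁻¹ᵁ U₂)).hom ≤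
      (RingHom.ker ((t₁ ≫ ι₂).app U₂).hom).map (ι₂.app U₂).hom := by
    intro x hx
    obtain ⟨a, rfl⟩ := hsurj x
    refine Ideal.mem_map_of_mem _ ?_
    rw [RingHom.mem_ker] at hx ⊢
    rw [Scheme.Hom.comp_app]
    exact hx
  refine le_bot_iff.mp ?_
  calc (RingHom.ker (t₁.app (ι₂ ⁻¹ᵁ U₂)).hom) ^ m
      ≤ ((RingHom.ker ((t₁ ≫ ι₂).app U₂).hom).map (ι₂.app U₂).hom) ^ m :=
        Ideal.pow_right_mono hle m
    _ = ((RingHom.ker ((t₁ ≫ ι₂).app U₂).hom) ^ m).map (ι₂.app U₂).hom :=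
        (Ideal.map_pow _ _ _).symm
    _ = (RingHom.ker (ι₂.app U₂).hom).map (ι₂.app U₂).hom := by rw [hk]
    _ ≤ ⊥ := by rw [le_bot_iff, Ideal.map_eq_bot_iff_le_ker]

theorem isClosedImmersion_toX (𝔜 : FSch.Sys.{u}) (h : 𝔜.IsFormal) :
    ∀ m, IsClosedImmersion (𝔜.toX m) := by
  intro m
  induction m with
  | zero => show IsClosedImmersion (𝟙 _); infer_instance
  | succ m ih =>
    have := (h m).1
    show IsClosedImmersion (𝔜.toX m ≫ 𝔜.ι m)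
    infer_instance

theorem locally_nilpotent (𝔜 : FSch.Sys.{u}) (hform : 𝔜.IsFormal) (hadic : 𝔜.IsAdic) (n : ℕ)
    (y : 𝔜.X (n + 1)) : ∃ U : (𝔜.X (n + 1)).Opens, IsAffineOpen U ∧ y ∈ U ∧
      IsNilpotent (RingHom.ker ((𝔜.ι n).app U).hom) := by
  have hci₂ : IsClosedImmersion (𝔜.ι (n + 1)) := (hform (n + 1)).1
  have hci₁ : IsClosedImmersion (𝔜.ι n) := (hform n).1
  have hct : IsClosedImmersion (𝔜.toX (n + 1)) := isClosedImmersion_toX 𝔜 hform (n + 1)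
  obtain ⟨U₂, hU₂, hyU₂, -⟩ := TopologicalSpace.Opens.isBasis_iff_nbhd.mp
    (𝔜.X (n + 2)).isBasis_affineOpens
    (show (𝔜.ι (n + 1)) y ∈ (⊤ : (𝔜.X (n + 2)).Opens) from trivial)
  have hU : IsAffineOpen ((𝔜.ι (n + 1)) ⁻¹ᵁ U₂) := hU₂.preimage (𝔜.ι (n + 1))
  refine ⟨(𝔜.ι (n + 1)) ⁻¹ᵁ U₂, hU, hyU₂, ?_⟩
  have h2 : (𝔜.ι (n + 1)).ker = (𝔜.toX (n + 1) ≫ 𝔜.ι (n + 1)).ker ^ (n + 2) := hadic (n + 1)
  have hK := ker_pow_eq_bot (𝔜.toX (n + 1)) (𝔜.ι (n + 1)) (n + 2) h2 U₂ hU₂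
  have h1 : RingHom.ker ((𝔜.ι n).app ((𝔜.ι (n + 1)) ⁻¹ᵁ U₂)).hom =
      (RingHom.ker ((𝔜.toX (n + 1)).app ((𝔜.ι (n + 1)) ⁻¹ᵁ U₂)).hom) ^ (n + 1) := by
    have h3 := congr(($(hadic n)).ideal ⟨(𝔜.ι (n + 1)) ⁻¹ᵁ U₂, hU⟩)
    simpa using h3
  have h4 : (RingHom.ker ((𝔜.ι n).app ((𝔜.ι (n + 1)) ⁻¹ᵁ U₂)).hom) ^ 2 = ⊥ := by
    rw [h1, ← pow_mul]
    refine le_bot_iff.mp (le_trans (Ideal.pow_le_pow_right ?_) hK.le)
    omega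
  exact ⟨2, h4⟩

theorem smooth_levels (𝔛 𝔜 : FSch.Sys.{u}) (h𝔜 : 𝔜.IsLocNoethFormal) (f : 𝔛 ⟶ 𝔜)
    (hf : FSch.IsAdicHom f) (hflat : ∀ n : ℕ, Flat ((f : FSch.Hom 𝔛 𝔜).app n))
    (h0 : Smooth ((f : FSch.Hom 𝔛 𝔜).app 0)) :
    ∀ n : ℕ, Smooth ((f : FSch.Hom 𝔛 𝔜).app n) := by
  intro n
  induction n with
  | zero => exact h0
  | succ n ih =>
    have hci : IsClosedImmersion (𝔜.ι n) := (h𝔜.1 n).1
    have hcX : IsPullback (𝔛.ι n) ((f : FSch.Hom 𝔛 𝔜).app n ≫ 𝟙 _)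
        ((f : FSch.Hom 𝔛 𝔜).app (n + 1) ≫ 𝟙 _) (𝔜.ι n) := by
      rw [Category.comp_id, Category.comp_id]; exact hf n
    have hcY : IsPullback (𝔜.ι n) (𝟙 _) (𝟙 _) (𝔜.ι n) := IsPullback.of_vert_isIso ⟨by simp⟩
    have hfl : Flat ((f : FSch.Hom 𝔛 𝔜).app (n + 1) ≫ 𝟙 _) := by
      rw [Category.comp_id]; exact hflat (n + 1)
    exact smooth_of_thickening' (𝔛.ι n) (𝔜.ι n) (𝔜.ι n) ((f : FSch.Hom 𝔛 𝔜).app n)
      ((f : FSch.Hom 𝔛 𝔜).app (n + 1)) (𝟙 _) (𝟙 _) hci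
      (locally_nilpotent 𝔜 h𝔜.1 h𝔜.2.1 n) hcX hcY ((f : FSch.Hom 𝔛 𝔜).comm n).symm

end Groth.Agent.Helper7.ThickFormal
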