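import Mathlib
import Groth.Prelude.Def_MoreMor
import Groth.Prelude.Def_FSch2
import Groth.Agent.Lib.Helper7.ThickFormal
import Groth.Agent.Lib.Helper7.ThickFin2

/-!
# Finite and proper morphisms of adic formal systems (helper7)
-/

set_option autoImplicit false
universe u

namespace Groth.Agent.Helper7.ThickFormal2

open AlgebraicGeometry CategoryTheory Limits TensorProduct

theorem lft_of_locNilThickening {X X' S S' : Scheme.{u}} (iX : X ⟶ X') (iS : S ⟶ S') (f : X ⟶ S)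
    (f' : X' ⟶ S') [IsClosedImmersion iS]
    (hloc : ∀ s' : S', ∃ U' : S'.Opens, IsAffineOpen U' ∧ s' ∈ U' ∧
      IsNilpotent (RingHom.ker (iS.app U').hom))
    (hc : IsPullback iX f f' iS) [LocallyOfFiniteType f] : LocallyOfFiniteType f' := by
  have hl : RingHom.StableUnderCompositionWithLocalizationAwaySource @RingHom.FiniteType :=
    fun R S T _ _ _ _ r _ f hf =>
      RingHom.FiniteType.comp hf (RingHom.finiteType_holdsForLocalizationAway S r)
  rw [HasRingHomProperty.iff_exists_appLE (P := @LocallyOfFiniteType) hl]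
  intro x'
  obtain ⟨U', hU', hxU', hnilU⟩ := hloc (f' x')
  obtain ⟨V', hV', hxV', e⟩ := TopologicalSpace.Opens.isBasis_iff_nbhd.mp X'.isBasis_affineOpens
    (show x' ∈ f' ⁻¹ᵁ U' from hxU')
  refine ⟨⟨U', hU'⟩, ⟨V', hV'⟩, hxV', e, ?_⟩
  have hUT : IsAffineOpen (iS ⁻¹ᵁ U') := hU'.preimage iS
  have hiso := isIso_pushoutSection_of_isAffineOpen hc (le_refl (iS ⁻¹ᵁ U')) e rfl hU' hUT hV'
  have hpo := (isIso_pushoutSection_iff hc (le_refl (iS ⁻¹ᵁ U')) e rfl).mp hiso
  have hUY : IsAffineOpen (iX ⁻¹ᵁ V' ⊓ f ⁻¹ᵁ (iS ⁻¹ᵁ U')) := by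
    have : IsAffine _ := hU'
    have : IsAffine _ := hUT
    have : IsAffine _ := hV'
    exact .of_isIso (Scheme.Hom.isPullback_resLE hc (le_refl (iS ⁻¹ᵁ U')) e rfl).isoPullback.hom
  refine ThickFin2.finiteType_of_isPushout hpo ?_ ?_
    (HasRingHomProperty.appLE @LocallyOfFiniteType f inferInstance ⟨_, hUT⟩ ⟨_, hUY⟩ _)
  · rw [Scheme.Hom.appLE_eq_app]; exact iS.app_surjective U' hU'
  · rw [Scheme.Hom.appLE_eq_app]
    exact hnilU

section

variable {X₀ X Y₀ Y : Scheme.{u}} (i : Y₀ ⟶ Y) (j : X₀ ⟶ X) (F₀ : Y₀ ⟶ X₀) (F : Y ⟶ X)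

/-- Properness lifts along a cartesian square over a locally nilpotent thickening. -/
theorem isProper_of_locNil [IsClosedImmersion j] [Surjective j]
    (hloc : ∀ s' : X, ∃ U' : X.Opens, IsAffineOpen U' ∧ s' ∈ U' ∧
      IsNilpotent (RingHom.ker (j.app U').hom))
    (hc : IsPullback i F₀ F j) [IsProper F₀] : IsProper F := by
  have hci : IsClosedImmersion i :=
    MorphismProperty.of_isPullback (P := @IsClosedImmersion) hc.flip inferInstance
  have hsi : Surjective i :=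
    MorphismProperty.of_isPullback (P := @Surjective) hc.flip inferInstance
  have hprop : IsProper (i ≫ F) := by rw [hc.w]; infer_instance
  have : LocallyOfFiniteType F := lft_of_locNilThickening i j F₀ F hloc hc
  have : QuasiCompact F := ThickFin.quasiCompact_of_comp_surjective i F
  have : UniversallyClosed F := UniversallyClosed.of_comp_surjective i F
  have : IsSeparated F := ThickFin.isSeparated_of_comp_surjective i F
  exact {}

/-- Finiteness lifts along a cartesian square over a locally nilpotent thickening. -/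
theorem isFinite_of_locNil [IsClosedImmersion j] [Surjective j]
    (hloc : ∀ s' : X, ∃ U' : X.Opens, IsAffineOpen U' ∧ s' ∈ U' ∧
      IsNilpotent (RingHom.ker (j.app U').hom))
    (hc : IsPullback i F₀ F j) [IsFinite F₀] : IsFinite F := by
  have hsi : Surjective i :=
    MorphismProperty.of_isPullback (P := @Surjective) hc.flip inferInstance
  have : IsProper F := isProper_of_locNil i j F₀ F hloc hc
  have : LocallyQuasiFinite F := by
    apply LocallyQuasiFinite.of_finite_preimage_singleton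
    intro x
    obtain ⟨x₀, rfl⟩ := (inferInstance : Surjective j).surj x
    have hfinp := F₀.finite_preimage_singleton x₀
    refine (hfinp.image i).subset ?_
    intro y hy
    obtain ⟨y₀, rfl⟩ := hsi.surj y
    refine ⟨y₀, ?_, rfl⟩
    have h0 : F (i y₀) = j x₀ := hy
    have h1 : j (F₀ y₀) = j x₀ := by
      rw [← h0, ← Scheme.Hom.comp_apply, ← hc.w, Scheme.Hom.comp_apply]
    exact j.isClosedEmbedding.injective h1
  exact IsFinite.of_isProper_of_locallyQuasiFinite F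

end

theorem isFinite_levels {𝔛 𝔜 : FSch.Sys.{u}} (f : 𝔛 ⟶ 𝔜)
    (h𝔜 : 𝔜.IsLocNoethFormal) (hf : FSch.IsAdicHom f)
    [IsFinite ((f : FSch.Hom 𝔛 𝔜).app 0)] (n : ℕ) :
    IsFinite ((f : FSch.Hom 𝔛 𝔜).app n) := by
  induction n with
  | zero => infer_instance
  | succ n ih =>
    have hci : IsClosedImmersion (𝔜.ι n) := (h𝔜.1 n).1
    have hs : Surjective (𝔜.ι n) := ⟨(h𝔜.1 n).2⟩
    exact isFinite_of_locNil (𝔛.ι n) (𝔜.ι n) ((f : FSch.Hom 𝔛 𝔜).app n)
      ((f : FSch.Hom 𝔛 𝔜).app (n + 1)) (ThickFormal.locally_nilpotent 𝔜 h𝔜.1 h𝔜.2.1 n) (hf n)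

theorem isProper_levels {𝔛 𝔜 : FSch.Sys.{u}} (f : 𝔛 ⟶ 𝔜)
    (h𝔜 : 𝔜.IsLocNoethFormal) (hf : FSch.IsAdicHom f)
    [IsProper ((f : FSch.Hom 𝔛 𝔜).app 0)] (n : ℕ) :
    IsProper ((f : FSch.Hom 𝔛 𝔜).app n) := by
  induction n with
  | zero => infer_instance
  | succ n ih =>
    have hci : IsClosedImmersion (𝔜.ι n) := (h𝔜.1 n).1
    have hs : Surjective (𝔜.ι n) := ⟨(h𝔜.1 n).2⟩
    exact isProper_of_locNil (𝔛.ι n) (𝔜.ι n) ((f : FSch.Hom 𝔛 𝔜).app n)
      ((f : FSch.Hom 𝔛 𝔜).app (n + 1)) (ThickFormal.locally_nilpotent 𝔜 h𝔜.1 h𝔜.2.1 n) (hf n)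

end Groth.Agent.Helper7.ThickFormal2
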