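import Mathlib
import Groth.Prelude.Def_MoreMor
import Groth.Prelude.Def_FSch2
import Groth.Agent.Lib.Helper7.ThickFormal2

/-!
# Closed immersions of adic formal systems (helper7)
-/

set_option autoImplicit false
universe u

namespace Groth.Agent.Helper7.ThickFormal3

open AlgebraicGeometry CategoryTheory Limits TensorProduct

/-- Monomorphisms lift along base change by a locally nilpotent thickening. -/
theorem mono_of_locNil {X X' S S' : Scheme.{u}} (iX : X ⟶ X') (iS : S ⟶ S') (f : X ⟶ S)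
    (f' : X' ⟶ S') [IsClosedImmersion iS] [Surjective iS]
    (hloc : ∀ s' : S', ∃ U' : S'.Opens, IsAffineOpen U' ∧ s' ∈ U' ∧
      IsNilpotent (RingHom.ker (iS.app U').hom))
    (hc : IsPullback iX f f' iS)
    [Mono f] : Mono f' := by
  constructor
  intro T a b hab
  have hj : pullback.fst (a ≫ f') iS ≫ a = pullback.fst (a ≫ f') iS ≫ b := by
    have hw : (pullback.fst (a ≫ f') iS ≫ a) ≫ f' = pullback.snd (a ≫ f') iS ≫ iS := by
      rw [Category.assoc]; exact pullback.condition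
    have hw' : (pullback.fst (a ≫ f') iS ≫ b) ≫ f' = pullback.snd (a ≫ f') iS ≫ iS := by
      rw [Category.assoc, ← hab]; exact pullback.condition
    have e : hc.lift _ _ hw = hc.lift _ _ hw' := by
      rw [← cancel_mono f, hc.lift_snd, hc.lift_snd]
    calc pullback.fst (a ≫ f') iS ≫ a = hc.lift _ _ hw ≫ iX := (hc.lift_fst _ _ hw).symm
      _ = hc.lift _ _ hw' ≫ iX := by rw [e]
      _ = pullback.fst (a ≫ f') iS ≫ b := hc.lift_fst _ _ hw'
  have hjs : Function.Surjective (pullback.fst (a ≫ f') iS) :=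
    (inferInstance : Surjective (pullback.fst (a ≫ f') iS)).surj
  have hpt : ∀ t : T, a t = b t := by
    intro t
    obtain ⟨t₀, rfl⟩ := hjs t
    have := congr($(hj) t₀)
    simpa using this
  refine Scheme.hom_ext_of_forall a b fun t => ?_
  obtain ⟨U', hU', htU', hnilU⟩ := hloc (f' (a t))
  obtain ⟨V', hV', htV', e⟩ := TopologicalSpace.Opens.isBasis_iff_nbhd.mp X'.isBasis_affineOpens
    (show a t ∈ f' ⁻¹ᵁ U' from htU')
  obtain ⟨W, hW, htW, hWV⟩ := TopologicalSpace.Opens.isBasis_iff_nbhd.mp T.isBasis_affineOpens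
    (show t ∈ a ⁻¹ᵁ V' from htV')
  have hWb : W ≤ b ⁻¹ᵁ V' := by
    intro w hw
    have h1 : a w ∈ V' := hWV hw
    show b w ∈ V'
    rw [← hpt w]; exact h1
  refine ⟨W, htW, ?_⟩
  -- the chart map of `f'` is an epimorphism of rings
  have hepi : Epi (f'.appLE U' V' e) := by
    have hUT : IsAffineOpen (iS ⁻¹ᵁ U') := hU'.preimage iS
    have hiso := isIso_pushoutSection_of_isAffineOpen hc (le_refl (iS ⁻¹ᵁ U')) e rfl hU' hUT hV'
    have hpo := (isIso_pushoutSection_iff hc (le_refl (iS ⁻¹ᵁ U')) e rfl).mp hiso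
    have hUY : IsAffineOpen (iX ⁻¹ᵁ V' ⊓ f ⁻¹ᵁ (iS ⁻¹ᵁ U')) := by
      have : IsAffine _ := hU'
      have : IsAffine _ := hUT
      have : IsAffine _ := hV'
      exact .of_isIso (Scheme.Hom.isPullback_resLE hc (le_refl (iS ⁻¹ᵁ U')) e rfl).isoPullback.hom
    refine ThickMono.epi_of_isPushout hpo ?_ ?_ (ThickMono.epi_appLE_of_mono f hUT hUY _)
    · rw [Scheme.Hom.appLE_eq_app]; exact iS.app_surjective U' hU'
    · rw [Scheme.Hom.appLE_eq_app]
      exact hnilU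
  have key : a.appLE V' W hWV = b.appLE V' W hWb := by
    rw [← cancel_epi (f'.appLE U' V' e), Scheme.Hom.appLE_comp_appLE, Scheme.Hom.appLE_comp_appLE]
    congr 1
  have h1 := hV'.SpecMap_appLE_fromSpec a hW hWV
  have h2 := hV'.SpecMap_appLE_fromSpec b hW hWb
  have h3 : hW.fromSpec ≫ a = hW.fromSpec ≫ b := by rw [← h1, ← h2, key]
  have h4 : Scheme.Opens.ι W = hW.isoSpec.hom ≫ hW.fromSpec := by
    rw [← hW.isoSpec_inv_ι, Iso.hom_inv_id_assoc]
  rw [h4, Category.assoc, Category.assoc, h3]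


theorem isClosedImmersion_of_locNil {X₀ X Y₀ Y : Scheme.{u}} (i : Y₀ ⟶ Y) (j : X₀ ⟶ X)
    (F₀ : Y₀ ⟶ X₀) (F : Y ⟶ X) [IsClosedImmersion j] [Surjective j]
    (hloc : ∀ s' : X, ∃ U' : X.Opens, IsAffineOpen U' ∧ s' ∈ U' ∧
      IsNilpotent (RingHom.ker (j.app U').hom))
    (hc : IsPullback i F₀ F j) [IsClosedImmersion F₀] : IsClosedImmersion F := by
  rw [IsClosedImmersion.iff_isFinite_and_mono]
  exact ⟨ThickFormal2.isFinite_of_locNil i j F₀ F hloc hc, mono_of_locNil i j F₀ F hloc hc⟩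

theorem isClosedImmersion_levels {𝔛 𝔜 : FSch.Sys.{u}} (f : 𝔛 ⟶ 𝔜)
    (h𝔜 : 𝔜.IsLocNoethFormal) (hf : FSch.IsAdicHom f)
    [IsClosedImmersion ((f : FSch.Hom 𝔛 𝔜).app 0)] (n : ℕ) :
    IsClosedImmersion ((f : FSch.Hom 𝔛 𝔜).app n) := by
  induction n with
  | zero => infer_instance
  | succ n ih =>
    have hci : IsClosedImmersion (𝔜.ι n) := (h𝔜.1 n).1
    have hs : Surjective (𝔜.ι n) := ⟨(h𝔜.1 n).2⟩
    exact isClosedImmersion_of_locNil (𝔛.ι n) (𝔜.ι n) ((f : FSch.Hom 𝔛 𝔜).app n)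
      ((f : FSch.Hom 𝔛 𝔜).app (n + 1)) (ThickFormal.locally_nilpotent 𝔜 h𝔜.1 h𝔜.2.1 n) (hf n)

end Groth.Agent.Helper7.ThickFormal3
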