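import Mathlib

/-!
# The Todd-class integrand `B(-dx)⁻¹ B(-dpx) B(x)^(n+1) e^((dp-d-n-1+s)x)` (helper7)
-/

set_option autoImplicit false

namespace Groth.Agent.Helper7.Todd

open PowerSeries

noncomputable section

local notation "B" => bernoulli'PowerSeries ℚ

lemma coeff_B (n : ℕ) : coeff n B = bernoulli' n / n.factorial := by
  simp [bernoulli'PowerSeries, coeff_mk]

lemma rescale_neg_one_B : rescale (-1 : ℚ) B = bernoulliPowerSeries ℚ := by
  ext n
  rw [coeff_rescale]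
  simp only [bernoulli'PowerSeries, bernoulliPowerSeries, coeff_mk, bernoulli]
  simp [mul_div_assoc]

lemma B_reflect : rescale (-1 : ℚ) B * exp ℚ = B := by
  have h1 : bernoulliPowerSeries ℚ * (exp ℚ - 1) = X := bernoulliPowerSeries_mul_exp_sub_one ℚ
  have h2 : B * (exp ℚ - 1) = X * exp ℚ := bernoulli'PowerSeries_mul_exp_sub_one ℚ
  have hne : (exp ℚ - 1 : PowerSeries ℚ) ≠ 0 := by
    intro h
    have := congrArg (coeff 1) h
    simp [coeff_exp, coeff_one] at this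
  apply mul_right_cancel₀ hne
  rw [rescale_neg_one_B, mul_right_comm, h1, h2]

lemma B_reflect_a (a : ℚ) : rescale (-a) B * rescale a (exp ℚ) = rescale a B := by
  have := congrArg (rescale a) B_reflect
  rw [map_mul, rescale_rescale] at this
  rwa [neg_one_mul] at this

/-- the `p`-independent factor -/
def G (n d : ℕ) (s : ℤ) : PowerSeries ℚ :=
  (rescale (-(d : ℚ)) B)⁻¹ * B ^ (n + 1) * rescale ((s : ℚ) - d - n - 1) (exp ℚ)

lemma todd_eq (n d : ℕ) (s : ℤ) (p : ℕ) :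
    (rescale (-(d : ℚ)) B)⁻¹ * rescale (-((d : ℚ) * p)) B * B ^ (n + 1) *
      rescale ((d : ℚ) * p - d - n - 1 + s) (exp ℚ) = G n d s * rescale ((d : ℚ) * p) B := by
  have h0 : (d : ℚ) * p - d - n - 1 + s = (d : ℚ) * p + ((s : ℚ) - d - n - 1) := by ring
  rw [h0, ← exp_mul_exp_eq_exp_add, ← B_reflect_a ((d : ℚ) * p), G]
  ring

lemma cc_B : constantCoeff B = 1 := by
  rw [← coeff_zero_eq_constantCoeff_apply, coeff_B]; simp

lemma c1_B : coeff 1 B = 1 / 2 := by rw [coeff_B]; simp [bernoulli'_one]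

lemma cc_rescale (a : ℚ) (φ : PowerSeries ℚ) : constantCoeff (rescale a φ) = constantCoeff φ := by
  rw [← coeff_zero_eq_constantCoeff_apply, coeff_rescale, pow_zero, one_mul,
    coeff_zero_eq_constantCoeff_apply]

lemma cc_G (n d : ℕ) (s : ℤ) : constantCoeff (G n d s) = 1 := by
  simp only [G, map_mul, map_pow, constantCoeff_inv, cc_rescale, cc_B, constantCoeff_exp]
  norm_num

lemma c1_inv (φ : PowerSeries ℚ) (h : constantCoeff φ = 1) : coeff 1 φ⁻¹ = - coeff 1 φ := by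
  have h1 : φ * φ⁻¹ = 1 := PowerSeries.mul_inv_cancel φ (by rw [h]; exact one_ne_zero)
  have h2 := congrArg (coeff 1) h1
  rw [coeff_one_mul, constantCoeff_inv, h, inv_one, mul_one, mul_one, coeff_one,
    if_neg one_ne_zero] at h2
  linarith

lemma c1_G (n d : ℕ) (s : ℤ) : coeff 1 (G n d s) = (2 * (s : ℚ) - d - n - 1) / 2 := by
  unfold G
  rw [coeff_one_mul, coeff_one_mul, coeff_one_pow, c1_inv _ (by rw [cc_rescale, cc_B]),
    coeff_rescale, coeff_rescale, c1_B, coeff_exp]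
  simp only [map_mul, map_pow, constantCoeff_inv, cc_rescale, cc_B, constantCoeff_exp]
  simp
  ring

lemma coeff_todd (n d : ℕ) (s : ℤ) (p : ℕ) :
    coeff n (G n d s * rescale ((d : ℚ) * p) B) =
      ∑ k ∈ Finset.range (n + 1), coeff k (G n d s) *
        (((d : ℚ) * p) ^ (n - k) * (bernoulli' (n - k) / ((n - k).factorial : ℚ))) := by
  rw [coeff_mul, Finset.Nat.sum_antidiagonal_eq_sum_range_succ_mk]
  apply Finset.sum_congr rfl
  intro k _
  rw [coeff_rescale, coeff_B]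

theorem leading_terms (n d : ℕ) (s : ℤ) (hn : 2 ≤ n) :
    ∃ P : Polynomial ℚ, P.natDegree ≤ n - 2 ∧ ∀ p : ℕ,
      coeff n (G n d s * rescale ((d : ℚ) * p) B) =
        bernoulli' n * ((d : ℚ) * p) ^ n / (n.factorial : ℚ) +
          (2 * (s : ℚ) - d - n - 1) / 2 * bernoulli' (n - 1) * ((d : ℚ) * p) ^ (n - 1) /
            ((n - 1).factorial : ℚ) + P.eval (p : ℚ) := by
  obtain ⟨m, rfl⟩ : ∃ m, n = m + 2 := ⟨n - 2, by omega⟩
  refine ⟨∑ k ∈ Finset.range (m + 1), Polynomial.C (coeff (k + 2) (G (m + 2) d s) *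
      ((d : ℚ) ^ (m - k) * (bernoulli' (m - k) / ((m - k).factorial : ℚ)))) *
      Polynomial.X ^ (m - k), ?_, ?_⟩
  · apply Polynomial.natDegree_sum_le_of_forall_le
    intro k _
    exact (Polynomial.natDegree_C_mul_X_pow_le _ _).trans (by omega)
  · intro p
    have key : ∀ F : ℕ → ℚ, ∑ k ∈ Finset.range (m + 2 + 1), F k =
        ∑ k ∈ Finset.range (m + 1), F (k + 2) + F 1 + F 0 := by
      intro F; rw [Finset.sum_range_succ', Finset.sum_range_succ']
    rw [coeff_todd, key]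
    have hg0 : coeff 0 (G (m + 2) d s) = 1 := by
      rw [coeff_zero_eq_constantCoeff_apply, cc_G]
    rw [hg0, c1_G, Polynomial.eval_finsetSum]
    have e : ∀ k ∈ Finset.range (m + 1), coeff (k + 2) (G (m + 2) d s) *
        (((d : ℚ) * p) ^ (m + 2 - (k + 2)) * (bernoulli' (m + 2 - (k + 2)) /
          ((m + 2 - (k + 2)).factorial : ℚ))) =
        Polynomial.eval (p : ℚ) (Polynomial.C (coeff (k + 2) (G (m + 2) d s) *
          ((d : ℚ) ^ (m - k) * (bernoulli' (m - k) / ((m - k).factorial : ℚ)))) *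
          Polynomial.X ^ (m - k)) := by
      intro k _
      rw [Nat.add_sub_add_right, Polynomial.eval_mul, Polynomial.eval_C, Polynomial.eval_pow,
        Polynomial.eval_X, mul_pow]
      ring
    rw [Finset.sum_congr rfl e]
    simp only [Nat.sub_zero]
    ring

lemma bernoulli_sign (k : ℕ) (hk : k ≠ 0) : 0 < (-1 : ℚ) ^ (k + 1) * bernoulli (2 * k) := by
  have h := hasSum_zeta_nat hk
  have hpos : (0 : ℝ) < ∑' n : ℕ, 1 / (n : ℝ) ^ (2 * k) := by
    apply h.summable.tsum_pos (fun n => by positivity) 1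
    simp
  rw [h.tsum_eq] at hpos
  have hc : (0 : ℝ) < (2 : ℝ) ^ (2 * k - 1) * Real.pi ^ (2 * k) / ((2 * k).factorial : ℝ) := by
    positivity
  have e : (-1 : ℝ) ^ (k + 1) * (2 : ℝ) ^ (2 * k - 1) * Real.pi ^ (2 * k) *
      (bernoulli (2 * k) : ℝ) / ((2 * k).factorial : ℝ) =
      ((-1 : ℝ) ^ (k + 1) * (bernoulli (2 * k) : ℝ)) *
        ((2 : ℝ) ^ (2 * k - 1) * Real.pi ^ (2 * k) / ((2 * k).factorial : ℝ)) := by ring
  rw [e] at hpos
  have h2 : (0 : ℝ) < (-1 : ℝ) ^ (k + 1) * (bernoulli (2 * k) : ℝ) :=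
    (mul_pos_iff_of_pos_right hc).mp hpos
  exact_mod_cast h2

lemma bernoulli'_neg_of_mod_four_eq_zero (n : ℕ) (hn : n % 4 = 0) (hpos : 0 < n) :
    bernoulli' n < 0 := by
  obtain ⟨j, rfl⟩ : ∃ j, n = 4 * j := ⟨n / 4, by omega⟩
  have h := bernoulli_sign (2 * j) (by omega)
  rw [show 2 * (2 * j) = 4 * j by ring, bernoulli_eq_bernoulli'_of_ne_one (by omega)] at h
  have h1 : (-1 : ℚ) ^ (2 * j + 1) = -1 := by rw [pow_succ, pow_mul]; simp
  rw [h1] at h
  linarith

lemma bernoulli'_pos_of_mod_four_eq_two (n : ℕ) (hn : n % 4 = 2) : 0 < bernoulli' n := by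
  obtain ⟨j, rfl⟩ : ∃ j, n = 4 * j + 2 := ⟨n / 4, by omega⟩
  have h := bernoulli_sign (2 * j + 1) (by omega)
  rw [show 2 * (2 * j + 1) = 4 * j + 2 by ring, bernoulli_eq_bernoulli'_of_ne_one (by omega)] at h
  have h1 : (-1 : ℚ) ^ (2 * j + 1 + 1) = 1 := by
    rw [show 2 * j + 1 + 1 = 2 * (j + 1) by ring, pow_mul]; simp
  rw [h1] at h
  linarith

lemma eventually_neg (a : ℚ) (D : ℕ) (hD : 0 < D) (ha : a < 0) (R : Polynomial ℚ)
    (hR : R.natDegree < D) :
    ∃ P₀ : ℕ, ∀ p : ℕ, P₀ ≤ p → a * (p : ℚ) ^ D + R.eval (p : ℚ) < 0 := by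
  have hdegR : R.degree < (Polynomial.C a * Polynomial.X ^ D).degree := by
    rw [Polynomial.degree_C_mul_X_pow D ha.ne]
    exact lt_of_le_of_lt Polynomial.degree_le_natDegree (by exact_mod_cast hR)
  have hdeg : (Polynomial.C a * Polynomial.X ^ D + R).degree = (D : WithBot ℕ) := by
    rw [Polynomial.degree_add_eq_left_of_degree_lt hdegR, Polynomial.degree_C_mul_X_pow D ha.ne]
  have hlead : (Polynomial.C a * Polynomial.X ^ D + R).leadingCoeff = a := by
    rw [Polynomial.leadingCoeff_add_of_degree_lt' hdegR, Polynomial.leadingCoeff_C_mul_X_pow]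
  have ht := Polynomial.tendsto_atBot_of_leadingCoeff_nonpos
    (Polynomial.C a * Polynomial.X ^ D + R) (by rw [hdeg]; exact_mod_cast hD)
    (by rw [hlead]; exact ha.le)
  have ht2 := ht.comp (tendsto_natCast_atTop_atTop (R := ℚ))
  obtain ⟨P₀, hP₀⟩ := (Filter.tendsto_atBot.mp ht2 (-1)).exists_forall_of_atTop
  refine ⟨P₀, fun p hp => ?_⟩
  have := hP₀ p hp
  simp only [Function.comp_apply, Polynomial.eval_add, Polynomial.eval_mul, Polynomial.eval_C,
    Polynomial.eval_pow, Polynomial.eval_X] at this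
  linarith

theorem neg_eventually_of_leading (n d : ℕ) (s : ℤ) (hn : 2 ≤ n) (hd : 1 ≤ d)
    (h : bernoulli' n < 0 ∨
      (bernoulli' n = 0 ∧ (2 * (s : ℚ) - d - n - 1) / 2 * bernoulli' (n - 1) < 0)) :
    ∃ P₀ : ℕ, ∀ p : ℕ, P₀ ≤ p → coeff n (G n d s * rescale ((d : ℚ) * p) B) < 0 := by
  obtain ⟨P, hPdeg, hP⟩ := leading_terms n d s hn
  have hdpos : (0 : ℚ) < d := by exact_mod_cast hd
  rcases h with h | ⟨h0, h1⟩
  · obtain ⟨P₀, hP₀⟩ := eventually_neg (bernoulli' n * (d : ℚ) ^ n / (n.factorial : ℚ)) n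
      (by omega)
      (div_neg_of_neg_of_pos (mul_neg_of_neg_of_pos h (pow_pos hdpos n)) (by positivity))
      (Polynomial.C ((2 * (s : ℚ) - d - n - 1) / 2 * bernoulli' (n - 1) * (d : ℚ) ^ (n - 1) /
        ((n - 1).factorial : ℚ)) * Polynomial.X ^ (n - 1) + P) (by
        apply lt_of_le_of_lt (Polynomial.natDegree_add_le _ _)
        rw [max_lt_iff]
        constructor
        · exact lt_of_le_of_lt (Polynomial.natDegree_C_mul_X_pow_le _ _) (by omega)
        · omega)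
    refine ⟨P₀, fun p hp => ?_⟩
    have := hP₀ p hp
    rw [hP p]
    simp only [Polynomial.eval_add, Polynomial.eval_mul, Polynomial.eval_C, Polynomial.eval_pow,
      Polynomial.eval_X] at this
    convert this using 1
    ring
  · obtain ⟨P₀, hP₀⟩ := eventually_neg ((2 * (s : ℚ) - d - n - 1) / 2 * bernoulli' (n - 1) *
        (d : ℚ) ^ (n - 1) / ((n - 1).factorial : ℚ)) (n - 1) (by omega)
      (div_neg_of_neg_of_pos (mul_neg_of_neg_of_pos h1 (pow_pos hdpos _)) (by positivity))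
      P (by omega)
    refine ⟨P₀, fun p hp => ?_⟩
    have := hP₀ p hp
    rw [hP p, h0]
    convert this using 1
    ring

theorem neg_eventually_01 (n d : ℕ) (s : ℤ) (hn : 2 ≤ n)
    (hmod : n % 4 = 0 ∨ n % 4 = 1) (hd : 1 ≤ d) (hs : (n : ℤ) + d + 1 < 2 * s) :
    ∃ P₀ : ℕ, ∀ p : ℕ, P₀ ≤ p → coeff n (G n d s * rescale ((d : ℚ) * p) B) < 0 := by
  apply neg_eventually_of_leading n d s hn hd
  rcases hmod with h | h
  · left
    exact bernoulli'_neg_of_mod_four_eq_zero n h (by omega)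
  · right
    refine ⟨bernoulli'_eq_zero_of_odd (Nat.odd_iff.mpr (by omega)) (by omega), ?_⟩
    have h1 : bernoulli' (n - 1) < 0 :=
      bernoulli'_neg_of_mod_four_eq_zero (n - 1) (by omega) (by omega)
    have h2 : (0 : ℚ) < (2 * (s : ℚ) - d - n - 1) / 2 := by
      have : ((n : ℤ) : ℚ) + d + 1 < 2 * s := by exact_mod_cast hs
      have h3 : ((n : ℤ) : ℚ) = (n : ℚ) := by norm_cast
      rw [h3] at this
      linarith
    exact mul_neg_of_pos_of_neg h2 h1

theorem neg_eventually_3 (n d : ℕ) (hn : 2 ≤ n) (hmod : n % 4 = 3) (hd : 1 ≤ d) :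
    ∃ P₀ : ℕ, ∀ p : ℕ, P₀ ≤ p → coeff n (G n d 1 * rescale ((d : ℚ) * p) B) < 0 := by
  apply neg_eventually_of_leading n d 1 hn hd
  right
  refine ⟨bernoulli'_eq_zero_of_odd (Nat.odd_iff.mpr (by omega)) (by omega), ?_⟩
  have h1 : 0 < bernoulli' (n - 1) := bernoulli'_pos_of_mod_four_eq_two (n - 1) (by omega)
  have h2 : (2 * ((1 : ℤ) : ℚ) - d - n - 1) / 2 < 0 := by
    have hd' : (1 : ℚ) ≤ d := by exact_mod_cast hd
    have hn' : (2 : ℚ) ≤ n := by exact_mod_cast hn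
    push_cast
    linarith
  exact mul_neg_of_neg_of_pos h2 h1

end

end Groth.Agent.Helper7.Todd
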