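import Mathlib
import Groth.Prelude.Def_NonAbH1

/-!
Helper library (helper7): torsors under sheaves of groups on a site — gluing lemmas for sheaves of
sets, "every equivariant morphism of torsors is an isomorphism", the sheaf of local liftings
(fibre of `G → G/F` over a global section) and the basic facts about `NonAbH1.GSheaf.IsFibreOver`.
-/

set_option autoImplicit false
universe w v u
open CategoryTheory Opposite

namespace Groth.Agent.Lib.Helper7.Torsor7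

variable {C : Type u} [Category.{v} C] {J : GrothendieckTopology C}

section Sets
variable (R : Sheaf J (Type w))

lemma Rmap_comp {W W' W'' : C} (k : W' ⟶ W) (l : W'' ⟶ W') (z : R.obj.obj (op W)) :
    R.obj.map (l ≫ k).op z = R.obj.map l.op (R.obj.map k.op z) := by
  rw [op_comp, CategoryTheory.Functor.map_comp]; rfl

lemma Rmap_id {W : C} (z : R.obj.obj (op W)) : R.obj.map (𝟙 W).op z = z := by
  rw [op_id, CategoryTheory.Functor.map_id]; rfl

theorem R_glue {W : C} (S : Sieve W) (hS : S ∈ J W)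
    (y : ∀ ⦃W' : C⦄ (h : W' ⟶ W), S h → R.obj.obj (op W'))
    (hy : ∀ ⦃W' W'' : C⦄ (h : W' ⟶ W) (k : W'' ⟶ W') (hh : S h),
      y (k ≫ h) (S.downward_closed hh k) = R.obj.map k.op (y h hh)) :
    ∃! z : R.obj.obj (op W), ∀ ⦃W' : C⦄ (h : W' ⟶ W) (hh : S h), R.obj.map h.op z = y h hh := by
  have hRs : Presieve.IsSheaf J R.obj := (isSheaf_iff_isSheaf_of_type J _).1 R.property
  have h1 := hRs S hS
  let x : Presieve.FamilyOfElements R.obj S.arrows := fun W' h hh => y h hh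
  have hx : x.Compatible := by
    rw [Presieve.compatible_iff_sieveCompatible]
    intro W' W'' h k hh
    exact hy h k hh
  obtain ⟨z, hz, hz'⟩ := h1 x hx
  exact ⟨z, fun W' h hh => hz h hh, fun z' hz'' => hz' z' (fun W' h hh => hz'' h hh)⟩

theorem R_sep {W : C} (S : Sieve W) (hS : S ∈ J W) (z z' : R.obj.obj (op W))
    (h : ∀ ⦃W' : C⦄ (k : W' ⟶ W), S k → R.obj.map k.op z = R.obj.map k.op z') : z = z' := by
  obtain ⟨z0, _, huniq⟩ := R_glue R S hS (fun W' k _ => R.obj.map k.op z') (by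
    intro W' W'' k l hk
    exact Rmap_comp R k l z')
  exact (huniq z (fun W' k hk => h k hk)).trans (huniq z' (fun W' k hk => rfl)).symm

end Sets

lemma hom_nat {T R : Sheaf J (Type w)} (ι : T ⟶ R) {U V : Cᵒᵖ} (f : U ⟶ V) (t : T.obj.obj U) :
    ι.hom.app V (T.obj.map f t) = R.obj.map f (ι.hom.app U t) :=
  NatTrans.naturality_apply ι.hom f t

/-- local membership in the image of a sectionwise injective natural map implies membership -/
theorem exists_of_locally (T R : Sheaf J (Type w)) (ι : ∀ U : Cᵒᵖ, T.obj.obj U → R.obj.obj U)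
    (hnat : ∀ ⦃U V : Cᵒᵖ⦄ (f : U ⟶ V) (t : T.obj.obj U),
      ι V (T.obj.map f t) = R.obj.map f (ι U t))
    (hι : ∀ U : Cᵒᵖ, Function.Injective (ι U)) {W : C} (r : R.obj.obj (op W))
    (S : Sieve W) (hS : S ∈ J W)
    (h : ∀ ⦃W' : C⦄ (a : W' ⟶ W), S a →
      ∃ t : T.obj.obj (op W'), ι (op W') t = R.obj.map a.op r) :
    ∃ t : T.obj.obj (op W), ι (op W) t = r := by
  choose y hy using h
  obtain ⟨t, ht, -⟩ := R_glue T S hS y (by
    intro W' W'' a k ha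
    apply hι
    rw [hy, hnat, hy, Rmap_comp])
  refine ⟨t, R_sep R S hS _ _ ?_⟩
  intro W' a ha
  rw [← hnat, ht a ha, hy]

/-- the sieve of arrows over whose source `T` has a section -/
def neSieve (T : Cᵒᵖ ⥤ Type w) (W : C) : Sieve W where
  arrows V _ := Nonempty (T.obj (op V))
  downward_closed := by
    rintro V V' f ⟨t⟩ g
    exact ⟨T.map g.op t⟩

noncomputable def pick {T : Cᵒᵖ ⥤ Type w} {W W' : C} {h : W' ⟶ W}
    (hh : (neSieve T W).arrows h) : T.obj (op W') := Classical.choice hh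

/-- a natural family of maps out of a locally nonempty presheaf that is constant on each set of
sections glues to a global section of the target sheaf -/
theorem glue_const (T R : Sheaf J (Type w))
    (hne : ∀ W : C, ∃ S ∈ J W, ∀ ⦃V : C⦄ (f : V ⟶ W), S f → Nonempty (T.obj.obj (op V)))
    (θ : ∀ U : Cᵒᵖ, T.obj.obj U → R.obj.obj U)
    (hnat : ∀ ⦃U V : Cᵒᵖ⦄ (f : U ⟶ V) (t : T.obj.obj U),
      θ V (T.obj.map f t) = R.obj.map f (θ U t))
    (hconst : ∀ (U : Cᵒᵖ) (t t' : T.obj.obj U), θ U t = θ U t') :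
    ∃ r : R.obj.sections, ∀ (U : Cᵒᵖ) (t : T.obj.obj U), r.1 U = θ U t := by
  have hN : ∀ W : C, neSieve T.obj W ∈ J W := by
    intro W
    obtain ⟨S, hS, h⟩ := hne W
    exact J.superset_covering (fun V f hf => h f hf) hS
  have key : ∀ W : C, ∃! z : R.obj.obj (op W),
      ∀ ⦃W' : C⦄ (h : W' ⟶ W) (hh : (neSieve T.obj W) h),
        R.obj.map h.op z = θ (op W') (pick hh) := by
    intro W
    refine R_glue R (neSieve T.obj W) (hN W) (fun W' h hh => θ (op W') (pick hh)) ?_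
    intro W' W'' h k hh
    show θ (op W'') (pick _) = R.obj.map k.op (θ (op W') (pick hh))
    rw [← hnat]
    exact hconst _ _ _
  choose r hr hru using key
  have hspec : ∀ (W : C) (t : T.obj.obj (op W)), r W = θ (op W) t := by
    intro W t
    have h1 := hr W (𝟙 W) (show (neSieve T.obj W).arrows (𝟙 W) from Nonempty.intro t)
    rw [Rmap_id] at h1
    rw [h1]; exact hconst _ _ _
  refine ⟨⟨fun U => r U.unop, ?_⟩, fun U t => hspec U.unop t⟩
  intro U V f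
  obtain ⟨U⟩ := U
  obtain ⟨V⟩ := V
  show R.obj.map f (r U) = r V
  apply hru V
  intro W' h hh
  have h2 : R.obj.map h.op (R.obj.map f (r U)) = R.obj.map (h ≫ f.unop).op (r U) :=
    (Rmap_comp R f.unop h (r U)).symm
  exact h2.trans ((hr U (h ≫ f.unop) hh).trans (hconst _ _ _))

section GS
variable {G : Sheaf J GrpCat.{w}}

lemma u_nat {F G : Sheaf J GrpCat.{w}} (u : F ⟶ G) {U V : Cᵒᵖ} (a : U ⟶ V) (f : F.obj.obj U) :
    u.hom.app V (F.obj.map a f) = G.obj.map a (u.hom.app U f) :=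
  NatTrans.naturality_apply u.hom a f

/-- sectionwise constructor for equivariant morphisms -/
def mkHom (T T' : NonAbH1.GSheaf G) (φ : ∀ U : Cᵒᵖ, T.P.obj.obj U → T'.P.obj.obj U)
    (nat : ∀ ⦃U V : Cᵒᵖ⦄ (f : U ⟶ V) (t : T.P.obj.obj U),
      φ V (T.P.obj.map f t) = T'.P.obj.map f (φ U t))
    (eqv : ∀ (U : Cᵒᵖ) (g : G.obj.obj U) (t : T.P.obj.obj U),
      φ U (T.smul g t) = T'.smul g (φ U t)) : T ⟶ T' :=
  NonAbH1.GSheaf.Hom.mk
    (ObjectProperty.homMk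
      { app := fun U => ↾(φ U)
        naturality := fun U V f => by
          refine ConcreteCategory.hom_ext _ _ (fun p => ?_)
          exact nat f p })
    (fun {U} g p => eqv U g p)

lemma mkHom_app (T T' : NonAbH1.GSheaf G) (φ : ∀ U : Cᵒᵖ, T.P.obj.obj U → T'.P.obj.obj U)
    (nat : ∀ ⦃U V : Cᵒᵖ⦄ (f : U ⟶ V) (t : T.P.obj.obj U),
      φ V (T.P.obj.map f t) = T'.P.obj.map f (φ U t))
    (eqv : ∀ (U : Cᵒᵖ) (g : G.obj.obj U) (t : T.P.obj.obj U),
      φ U (T.smul g t) = T'.smul g (φ U t)) (U : Cᵒᵖ) (t : T.P.obj.obj U) :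
    (mkHom T T' φ nat eqv).hom.hom.app U t = φ U t := rfl

noncomputable def invApp {T T' : NonAbH1.GSheaf G} (φ : T ⟶ T')
    (hφ : ∀ U : Cᵒᵖ, Function.Bijective (φ.hom.hom.app U)) (U : Cᵒᵖ) (t' : T'.P.obj.obj U) :
    T.P.obj.obj U := Classical.choose ((hφ U).2 t')

lemma app_invApp {T T' : NonAbH1.GSheaf G} (φ : T ⟶ T')
    (hφ : ∀ U : Cᵒᵖ, Function.Bijective (φ.hom.hom.app U)) (U : Cᵒᵖ) (t' : T'.P.obj.obj U) :
    φ.hom.hom.app U (invApp φ hφ U t') = t' :=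
  Classical.choose_spec ((hφ U).2 t')

lemma invApp_app {T T' : NonAbH1.GSheaf G} (φ : T ⟶ T')
    (hφ : ∀ U : Cᵒᵖ, Function.Bijective (φ.hom.hom.app U)) (U : Cᵒᵖ) (t : T.P.obj.obj U) :
    invApp φ hφ U (φ.hom.hom.app U t) = t :=
  (hφ U).1 (app_invApp φ hφ U _)

/-- a sectionwise bijective equivariant morphism is an isomorphism of `G`-sheaves -/
noncomputable def isoOfBijective {T T' : NonAbH1.GSheaf G} (φ : T ⟶ T')
    (hφ : ∀ U : Cᵒᵖ, Function.Bijective (φ.hom.hom.app U)) : T ≅ T' where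
  hom := φ
  inv := mkHom T' T (invApp φ hφ)
    (by
      intro U V f t
      apply (hφ V).1
      rw [app_invApp, hom_nat φ.hom f, app_invApp])
    (by
      intro U g t
      apply (hφ U).1
      rw [app_invApp, NonAbH1.GSheaf.Hom.map_smul φ, app_invApp])
  hom_inv_id := by
    apply NonAbH1.GSheaf.hom_ext
    apply Sheaf.hom_ext
    apply NatTrans.ext
    funext U
    refine ConcreteCategory.hom_ext _ _ (fun t => ?_)
    exact invApp_app φ hφ U t
  inv_hom_id := by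
    apply NonAbH1.GSheaf.hom_ext
    apply Sheaf.hom_ext
    apply NatTrans.ext
    funext U
    refine ConcreteCategory.hom_ext _ _ (fun t => ?_)
    exact app_invApp φ hφ U t

/-- every equivariant morphism from a torsor to a pseudo-torsor is sectionwise bijective -/
theorem bijective_of_torsor {P P' : NonAbH1.GSheaf G} (hP : P.IsTorsor) (hP' : P'.IsPseudoTorsor)
    (φ : P ⟶ P') (U : Cᵒᵖ) : Function.Bijective (φ.hom.hom.app U) := by
  have inj : ∀ V : Cᵒᵖ, Function.Injective (φ.hom.hom.app V) := by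
    intro V p q hpq
    obtain ⟨g, hg, -⟩ := hP.1 V p q
    have h1 : P'.smul g (φ.hom.hom.app V p) = φ.hom.hom.app V p := by
      rw [← NonAbH1.GSheaf.Hom.map_smul φ, hg, hpq]
    have h2 : g = 1 := by
      obtain ⟨g0, -, hu⟩ := hP' V (φ.hom.hom.app V p) (φ.hom.hom.app V p)
      exact (hu g h1).trans (hu 1 (P'.one_smul _)).symm
    rw [← hg, h2, P.one_smul]
  refine ⟨inj U, ?_⟩
  intro p'
  obtain ⟨W⟩ := U
  obtain ⟨S, hS, hne⟩ := hP.2 W
  refine exists_of_locally P.P P'.P (fun V p => φ.hom.hom.app V p)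
    (fun V V' f p => hom_nat φ.hom f p) inj p' S hS ?_
  intro W' a ha
  obtain ⟨p⟩ := hne a ha
  obtain ⟨g, hg, -⟩ := hP' (op W') (φ.hom.hom.app (op W') p) (P'.P.obj.map a.op p')
  exact ⟨P.smul g p, by rw [NonAbH1.GSheaf.Hom.map_smul φ, hg]⟩

noncomputable def isoOfTorsorHom {P P' : NonAbH1.GSheaf G} (hP : P.IsTorsor)
    (hP' : P'.IsPseudoTorsor) (φ : P ⟶ P') : P ≅ P' :=
  isoOfBijective φ (bijective_of_torsor hP hP' φ)

end GS

section Fibre
variable [J.HasSheafCompose (forget GrpCat.{w})] {F G : Sheaf J GrpCat.{w}} (u : F ⟶ G)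
  {Q : NonAbH1.GSheaf G} (π : NonAbH1.GSheaf.trivial G ⟶ Q)

/-- `π` on group elements -/
def pi (U : Cᵒᵖ) (g : G.obj.obj U) : Q.P.obj.obj U :=
  π.hom.hom.app U (NonAbH1.GSheaf.ofGrp g)

lemma pi_map {U V : Cᵒᵖ} (f : U ⟶ V) (g : G.obj.obj U) :
    pi π V (G.obj.map f g) = Q.P.obj.map f (pi π U g) :=
  hom_nat π.hom f (NonAbH1.GSheaf.ofGrp g)

lemma pi_mul (U : Cᵒᵖ) (g h : G.obj.obj U) : pi π U (g * h) = Q.smul g (pi π U h) :=
  NonAbH1.GSheaf.Hom.map_smul π g (NonAbH1.GSheaf.ofGrp h)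

/-- data form of `NonAbH1.GSheaf.IsFibreOver` -/
structure Fib (c : Q.P.obj.sections) (T : NonAbH1.GSheaf F) where
  io : ∀ U : Cᵒᵖ, T.P.obj.obj U → G.obj.obj U
  io_map : ∀ ⦃U V : Cᵒᵖ⦄ (f : U ⟶ V) (t : T.P.obj.obj U),
    io V (T.P.obj.map f t) = G.obj.map f (io U t)
  inj : ∀ U : Cᵒᵖ, Function.Injective (io U)
  mem : ∀ (U : Cᵒᵖ) (g : G.obj.obj U), (∃ t, io U t = g) ↔ pi π U g = c.1 U
  smul : ∀ (U : Cᵒᵖ) (f : F.obj.obj U) (t : T.P.obj.obj U),
    io U (T.smul f t) = io U t * (u.hom.app U f)⁻¹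

theorem fib_iff (c : Q.P.obj.sections) (T : NonAbH1.GSheaf F) :
    NonAbH1.GSheaf.IsFibreOver u π c T ↔ Nonempty (Fib u π c T) := by
  constructor
  · rintro ⟨ι, h1, h2, h3⟩
    exact ⟨⟨fun U t => NonAbH1.GSheaf.toGrp (ι.hom.app U t), fun U V f t => hom_nat ι f t,
      h1, h2, h3⟩⟩
  · rintro ⟨h⟩
    refine ⟨ObjectProperty.homMk
      { app := fun U => ↾(fun t => NonAbH1.GSheaf.ofGrp (h.io U t))
        naturality := ?_ }, h.inj, h.mem, h.smul⟩
    intro U V f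
    refine ConcreteCategory.hom_ext _ _ (fun t => ?_)
    exact h.io_map f t

variable {u π}

theorem Fib.isTorsor (hu : ∀ U : Cᵒᵖ, Function.Injective (u.hom.app U))
    (hQ : NonAbH1.GSheaf.IsQuotientBy u π) {c : Q.P.obj.sections} {T : NonAbH1.GSheaf F}
    (h : Fib u π c T) : T.IsTorsor := by
  constructor
  · intro U p q
    have hp : pi π U (h.io U p) = c.1 U := (h.mem U _).1 ⟨p, rfl⟩
    have hq : pi π U (h.io U q) = c.1 U := (h.mem U _).1 ⟨q, rfl⟩
    obtain ⟨f, hf⟩ := (hQ.1 U (h.io U p) (h.io U q)).1 (hp.trans hq.symm)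
    refine ⟨f⁻¹, ?_, ?_⟩
    · apply h.inj U
      rw [h.smul, map_inv, inv_inv, hf]
    · intro f' hf'
      have h1 : h.io U p * (u.hom.app U f')⁻¹ = h.io U p * u.hom.app U f := by
        rw [← h.smul, hf', hf]
      have h2 : (u.hom.app U f')⁻¹ = u.hom.app U f := mul_left_cancel h1
      apply hu U
      rw [map_inv, ← h2, inv_inv]
  · intro W
    obtain ⟨S, hS, hl⟩ := hQ.2 W (c.1 (op W))
    refine ⟨S, hS, fun V a ha => ?_⟩
    obtain ⟨g, hg⟩ := hl a ha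
    have h1 : pi π (op V) g = c.1 (op V) := hg.trans (c.2 a.op)
    obtain ⟨t, -⟩ := (h.mem (op V) g).2 h1
    exact ⟨t⟩

variable (π) in
/-- the subfunctor of local liftings of `c` -/
def liftSub (c : Q.P.obj.sections) : Subfunctor (NonAbH1.GSheaf.uSh G).obj where
  obj U := {g | pi π U (NonAbH1.GSheaf.toGrp g) = c.1 U}
  map {U V} f := by
    intro g hg
    show pi π V (G.obj.map f (NonAbH1.GSheaf.toGrp g)) = c.1 V
    have hg' : pi π U (NonAbH1.GSheaf.toGrp g) = c.1 U := hg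
    rw [pi_map, hg']
    exact c.2 f

variable (π) in
theorem liftSub_isSheaf (c : Q.P.obj.sections) :
    Presieve.IsSheaf J (liftSub π c).toFunctor := by
  rw [Subfunctor.isSheaf_iff _
    ((isSheaf_iff_isSheaf_of_type J _).1 (NonAbH1.GSheaf.uSh G).property)]
  intro U s hs
  obtain ⟨W⟩ := U
  show pi π (op W) (NonAbH1.GSheaf.toGrp s) = c.1 (op W)
  refine R_sep Q.P _ hs _ _ ?_
  intro W' k hk
  have h1 : pi π (op W') (G.obj.map k.op (NonAbH1.GSheaf.toGrp s)) = c.1 (op W') := hk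
  have h2 : Q.P.obj.map k.op (pi π (op W) (NonAbH1.GSheaf.toGrp s)) =
      pi π (op W') (G.obj.map k.op (NonAbH1.GSheaf.toGrp s)) := (pi_map π k.op _).symm
  exact h2.trans (h1.trans (c.2 k.op).symm)

variable (u π) in
/-- the sheaf of local liftings of `c`, with `F` acting by `f • g = g * u(f)⁻¹` -/
noncomputable def fibSheaf (hQ : NonAbH1.GSheaf.IsQuotientBy u π) (c : Q.P.obj.sections) :
    NonAbH1.GSheaf F where
  P := ⟨(liftSub π c).toFunctor, (isSheaf_iff_isSheaf_of_type J _).2 (liftSub_isSheaf π c)⟩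
  smul {U} f t := ⟨NonAbH1.GSheaf.ofGrp (NonAbH1.GSheaf.toGrp t.1 * (u.hom.app U f)⁻¹), by
    show pi π U (NonAbH1.GSheaf.toGrp t.1 * (u.hom.app U f)⁻¹) = c.1 U
    have h1 : pi π U (NonAbH1.GSheaf.toGrp t.1) = c.1 U := t.2
    exact ((hQ.1 U _ _).2 ⟨f⁻¹, by rw [map_inv]⟩).symm.trans h1⟩
  one_smul {U} t := by
    apply Subtype.ext
    show NonAbH1.GSheaf.toGrp t.1 * (u.hom.app U 1)⁻¹ = t.1
    rw [map_one, inv_one, mul_one]
  mul_smul {U} f h t := by
    apply Subtype.ext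
    show NonAbH1.GSheaf.toGrp t.1 * (u.hom.app U (f * h))⁻¹ =
      (NonAbH1.GSheaf.toGrp t.1 * (u.hom.app U h)⁻¹) * (u.hom.app U f)⁻¹
    rw [map_mul, mul_inv_rev, mul_assoc]
  map_smul {U V} a f t := by
    apply Subtype.ext
    show G.obj.map a (NonAbH1.GSheaf.toGrp t.1 * (u.hom.app U f)⁻¹) =
      G.obj.map a (NonAbH1.GSheaf.toGrp t.1) * (u.hom.app V (F.obj.map a f))⁻¹
    rw [map_mul, map_inv, u_nat]

variable (u π) in
noncomputable def fibSheafFib (hQ : NonAbH1.GSheaf.IsQuotientBy u π) (c : Q.P.obj.sections) :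
    Fib u π c (fibSheaf u π hQ c) where
  io U t := NonAbH1.GSheaf.toGrp t.1
  io_map U V f t := rfl
  inj U := fun t t' h => Subtype.ext h
  mem U g := by
    constructor
    · rintro ⟨t, rfl⟩
      exact t.2
    · intro hg
      exact ⟨⟨NonAbH1.GSheaf.ofGrp g, hg⟩, rfl⟩
  smul U f t := rfl

theorem Fib.exists_hom {c c' : Q.P.obj.sections} {T T' : NonAbH1.GSheaf F}
    (h : Fib u π c T) (h' : Fib u π c' T')
    (g : ∀ U : Cᵒᵖ, G.obj.obj U) (hg : ∀ ⦃U V : Cᵒᵖ⦄ (f : U ⟶ V), G.obj.map f (g U) = g V)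
    (hgc : ∀ U : Cᵒᵖ, Q.smul (g U) (c.1 U) = c'.1 U) :
    ∃ φ : T ⟶ T', ∀ (U : Cᵒᵖ) (t : T.P.obj.obj U),
      h'.io U (φ.hom.hom.app U t) = g U * h.io U t := by
  have ex : ∀ (U : Cᵒᵖ) (t : T.P.obj.obj U), ∃ t' : T'.P.obj.obj U,
      h'.io U t' = g U * h.io U t := by
    intro U t
    apply (h'.mem U _).2
    rw [pi_mul, (h.mem U _).1 ⟨t, rfl⟩, hgc]
  choose φ hφ using ex
  refine ⟨mkHom T T' φ ?_ ?_, fun U t => hφ U t⟩
  · intro U V f t
    apply h'.inj V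
    rw [hφ, h'.io_map, hφ, h.io_map, map_mul, hg f]
  · intro U f t
    apply h'.inj U
    rw [hφ, h'.smul, hφ, h.smul, mul_assoc]

theorem Fib.iso_of_section (hu : ∀ U : Cᵒᵖ, Function.Injective (u.hom.app U))
    (hQ : NonAbH1.GSheaf.IsQuotientBy u π) {c c' : Q.P.obj.sections} {T T' : NonAbH1.GSheaf F}
    (h : Fib u π c T) (h' : Fib u π c' T')
    (g : ∀ U : Cᵒᵖ, G.obj.obj U) (hg : ∀ ⦃U V : Cᵒᵖ⦄ (f : U ⟶ V), G.obj.map f (g U) = g V)
    (hgc : ∀ U : Cᵒᵖ, Q.smul (g U) (c.1 U) = c'.1 U) : Nonempty (T ≅ T') := by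
  obtain ⟨φ, -⟩ := h.exists_hom h' g hg hgc
  exact ⟨isoOfTorsorHom (h.isTorsor hu hQ) (h'.isTorsor hu hQ).1 φ⟩

theorem Fib.exists_section_of_hom (hu : ∀ U : Cᵒᵖ, Function.Injective (u.hom.app U))
    (hQ : NonAbH1.GSheaf.IsQuotientBy u π) {c c' : Q.P.obj.sections} {T T' : NonAbH1.GSheaf F}
    (h : Fib u π c T) (h' : Fib u π c' T') (φ : T ⟶ T') :
    ∃ g : (NonAbH1.GSheaf.uSh G).obj.sections,
      ∀ U : Cᵒᵖ, Q.smul (NonAbH1.GSheaf.toGrp (g.1 U)) (c.1 U) = c'.1 U := by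
  have hT := h.isTorsor hu hQ
  obtain ⟨g, hg⟩ := glue_const T.P (NonAbH1.GSheaf.uSh G) hT.2
    (fun U t => NonAbH1.GSheaf.ofGrp (h'.io U (φ.hom.hom.app U t) * (h.io U t)⁻¹))
    (by
      intro U V f t
      show h'.io V (φ.hom.hom.app V (T.P.obj.map f t)) * (h.io V (T.P.obj.map f t))⁻¹ =
        G.obj.map f (h'.io U (φ.hom.hom.app U t) * (h.io U t)⁻¹)
      rw [hom_nat φ.hom f t, h'.io_map, h.io_map, map_mul, map_inv])
    (by
      intro U t t'
      obtain ⟨f, hf, -⟩ := hT.1 U t t'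
      subst hf
      show h'.io U (φ.hom.hom.app U t) * (h.io U t)⁻¹ =
        h'.io U (φ.hom.hom.app U (T.smul f t)) * (h.io U (T.smul f t))⁻¹
      rw [NonAbH1.GSheaf.Hom.map_smul φ, h'.smul, h.smul, mul_inv_rev, inv_inv, mul_assoc,
        inv_mul_cancel_left])
  refine ⟨g, ?_⟩
  intro U
  obtain ⟨W⟩ := U
  obtain ⟨S, hS, hne⟩ := hT.2 W
  refine R_sep Q.P S hS _ _ ?_
  intro W' k hk
  obtain ⟨t⟩ := hne k hk
  have hgW : NonAbH1.GSheaf.toGrp (g.1 (op W')) =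
      h'.io (op W') (φ.hom.hom.app (op W') t) * (h.io (op W') t)⁻¹ := hg (op W') t
  have hgk : G.obj.map k.op (NonAbH1.GSheaf.toGrp (g.1 (op W))) =
      NonAbH1.GSheaf.toGrp (g.1 (op W')) := g.2 k.op
  have e1 : Q.P.obj.map k.op (Q.smul (NonAbH1.GSheaf.toGrp (g.1 (op W))) (c.1 (op W))) =
      Q.smul (NonAbH1.GSheaf.toGrp (g.1 (op W'))) (c.1 (op W')) := by
    rw [Q.map_smul, c.2 k.op, hgk]
  have e2 : pi π (op W') (h.io (op W') t) = c.1 (op W') := (h.mem _ _).1 ⟨t, rfl⟩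
  have e3 : pi π (op W') (h'.io (op W') (φ.hom.hom.app (op W') t)) = c'.1 (op W') :=
    (h'.mem _ _).1 ⟨_, rfl⟩
  rw [e1, c'.2 k.op, hgW, ← e2, ← pi_mul, inv_mul_cancel_right, e3]

variable (π) in
/-- the global section `π(1)` of `Q` -/
def c0 : Q.P.obj.sections :=
  ⟨fun U => pi π U 1, fun {U V} f => by
    show Q.P.obj.map f (pi π U 1) = pi π V 1
    rw [← pi_map, map_one]⟩

variable (u π) in
/-- the trivial torsor is the sheaf of liftings of `π(1)` -/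
noncomputable def trivFib (hu : ∀ U : Cᵒᵖ, Function.Injective (u.hom.app U))
    (hQ : NonAbH1.GSheaf.IsQuotientBy u π) : Fib u π (c0 π) (NonAbH1.GSheaf.trivial F) where
  io U x := (u.hom.app U (NonAbH1.GSheaf.toGrp x))⁻¹
  io_map U V a x := by
    show (u.hom.app V (F.obj.map a (NonAbH1.GSheaf.toGrp x)))⁻¹ =
      G.obj.map a (u.hom.app U (NonAbH1.GSheaf.toGrp x))⁻¹
    rw [map_inv, u_nat]
  inj U := fun x y hxy => hu U (inv_injective hxy)
  mem U g := by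
    constructor
    · rintro ⟨x, rfl⟩
      exact ((hQ.1 U 1 _).2 ⟨(NonAbH1.GSheaf.toGrp x)⁻¹, by rw [one_mul, map_inv]⟩).symm
    · intro hg
      obtain ⟨f, hf⟩ := (hQ.1 U 1 g).1 hg.symm
      refine ⟨NonAbH1.GSheaf.ofGrp f⁻¹, ?_⟩
      show (u.hom.app U f⁻¹)⁻¹ = g
      rw [hf, one_mul, map_inv, inv_inv]
  smul U f x := by
    show (u.hom.app U (f * NonAbH1.GSheaf.toGrp x))⁻¹ =
      (u.hom.app U (NonAbH1.GSheaf.toGrp x))⁻¹ * (u.hom.app U f)⁻¹
    rw [map_mul, mul_inv_rev]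

theorem exists_fib_aux (hu : ∀ U : Cᵒᵖ, Function.Injective (u.hom.app U))
    (hQ : NonAbH1.GSheaf.IsQuotientBy u π) {T : NonAbH1.GSheaf F} (hT : T.IsTorsor)
    (fo : ∀ U : Cᵒᵖ, T.P.obj.obj U → G.obj.obj U)
    (fo_map : ∀ ⦃U V : Cᵒᵖ⦄ (a : U ⟶ V) (t : T.P.obj.obj U),
      fo V (T.P.obj.map a t) = G.obj.map a (fo U t))
    (fo_smul : ∀ (U : Cᵒᵖ) (g : F.obj.obj U) (t : T.P.obj.obj U),
      fo U (T.smul g t) = u.hom.app U g * fo U t) :
    ∃ c : Q.P.obj.sections, Nonempty (Fib u π c T) := by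
  have hconst : ∀ (U : Cᵒᵖ) (t t' : T.P.obj.obj U),
      pi π U (fo U t)⁻¹ = pi π U (fo U t')⁻¹ := by
    intro U t t'
    obtain ⟨g, hg, -⟩ := hT.1 U t t'
    subst hg
    refine (hQ.1 U _ _).2 ⟨g⁻¹, ?_⟩
    rw [fo_smul, mul_inv_rev, map_inv]
  obtain ⟨c, hc⟩ := glue_const T.P Q.P hT.2 (fun U t => pi π U (fo U t)⁻¹)
    (by
      intro U V a t
      show pi π V (fo V (T.P.obj.map a t))⁻¹ = Q.P.obj.map a (pi π U (fo U t)⁻¹)
      rw [fo_map, ← map_inv, pi_map])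
    hconst
  have hc' : ∀ (U : Cᵒᵖ) (t : T.P.obj.obj U), c.1 U = pi π U (fo U t)⁻¹ := hc
  have hmap : ∀ ⦃U V : Cᵒᵖ⦄ (a : U ⟶ V) (t : T.P.obj.obj U),
      (fo V (T.P.obj.map a t))⁻¹ = G.obj.map a (fo U t)⁻¹ := by
    intro U V a t
    rw [fo_map, map_inv]
  have hinj : ∀ U : Cᵒᵖ, Function.Injective (fun t : T.P.obj.obj U => (fo U t)⁻¹) := by
    intro U t t' htt
    have h1 : fo U t = fo U t' := inv_injective htt
    obtain ⟨g, hg, -⟩ := hT.1 U t t'
    have h2 : u.hom.app U g * fo U t = 1 * fo U t := by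
      rw [one_mul, ← fo_smul, hg, h1]
    have h3 : g = 1 := hu U ((mul_right_cancel h2).trans (map_one _).symm)
    rw [← hg, h3, T.one_smul]
  refine ⟨c, ⟨⟨fun U t => (fo U t)⁻¹, hmap, hinj, ?_, ?_⟩⟩⟩
  · intro U g
    constructor
    · rintro ⟨t, rfl⟩
      exact (hc' U t).symm
    · intro hg
      obtain ⟨W⟩ := U
      obtain ⟨S, hS, hne⟩ := hT.2 W
      refine exists_of_locally T.P (NonAbH1.GSheaf.uSh G)
        (fun U t => NonAbH1.GSheaf.ofGrp (fo U t)⁻¹) hmap hinj (NonAbH1.GSheaf.ofGrp g) S hS ?_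
      intro W' a ha
      obtain ⟨t₀⟩ := hne a ha
      have h1 : pi π (op W') ((fo (op W') t₀)⁻¹) = pi π (op W') (G.obj.map a.op g) := by
        rw [pi_map, hg, c.2 a.op, hc' (op W') t₀]
      obtain ⟨f, hf⟩ := (hQ.1 (op W') _ _).1 h1
      refine ⟨T.smul f⁻¹ t₀, ?_⟩
      show (fo (op W') (T.smul f⁻¹ t₀))⁻¹ = G.obj.map a.op g
      rw [fo_smul, mul_inv_rev, map_inv, inv_inv, hf]
  · intro U f t
    show (fo U (T.smul f t))⁻¹ = (fo U t)⁻¹ * (u.hom.app U f)⁻¹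
    rw [fo_smul, mul_inv_rev]

theorem exists_fib_of_pushforward (hu : ∀ U : Cᵒᵖ, Function.Injective (u.hom.app U))
    (hQ : NonAbH1.GSheaf.IsQuotientBy u π) {T : NonAbH1.GSheaf F} (hT : T.IsTorsor)
    (hp : NonAbH1.GSheaf.IsPushforwardAlong u T (NonAbH1.GSheaf.trivial G)) :
    ∃ c : Q.P.obj.sections, Nonempty (Fib u π c T) := by
  obtain ⟨f, hf⟩ := hp
  exact exists_fib_aux hu hQ hT (fun U t => NonAbH1.GSheaf.toGrp (f.hom.app U t))
    (fun U V a t => hom_nat f a t) hf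

theorem pushforward_of_fib {c : Q.P.obj.sections} {T : NonAbH1.GSheaf F} (h : Fib u π c T) :
    NonAbH1.GSheaf.IsPushforwardAlong u T (NonAbH1.GSheaf.trivial G) := by
  refine ⟨ObjectProperty.homMk
    { app := fun U => ↾(fun t => NonAbH1.GSheaf.ofGrp (h.io U t)⁻¹)
      naturality := ?_ }, ?_⟩
  · intro U V a
    refine ConcreteCategory.hom_ext _ _ (fun t => ?_)
    show (h.io V (T.P.obj.map a t))⁻¹ = G.obj.map a (h.io U t)⁻¹
    rw [h.io_map, map_inv]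
  · intro U g t
    show (h.io U (T.smul g t))⁻¹ = u.hom.app U g * (h.io U t)⁻¹
    rw [h.smul, mul_inv_rev, inv_inv]

end Fibre

end Groth.Agent.Lib.Helper7.Torsor7
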