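import Mathlib
import Groth.Prelude.Def_Omega3

/-!
# Base change of a universal first order thickening (helper7)
-/

open CategoryTheory CategoryTheory.Limits AlgebraicGeometry TopologicalSpace

universe u

namespace Groth.Agent.Helper7.UnivThickBC

theorem ker_le_map_of_isPushout {A B C D : CommRingCat.{u}} {ψ : A ⟶ B} {φ : A ⟶ C} {β : B ⟶ D}
    {γ : C ⟶ D} (H : IsPushout ψ φ β γ) (hφ : Function.Surjective φ.hom) :
    RingHom.ker β.hom ≤ Ideal.map ψ.hom (RingHom.ker φ.hom) := by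
  intro x hx
  let J := Ideal.map ψ.hom (RingHom.ker φ.hom)
  let q : B →+* B ⧸ J := Ideal.Quotient.mk J
  have hle : RingHom.ker φ.hom ≤ RingHom.ker (q.comp ψ.hom) := by
    intro a ha
    rw [RingHom.mem_ker, RingHom.comp_apply]
    exact Ideal.Quotient.eq_zero_iff_mem.mpr (Ideal.mem_map_of_mem _ ha)
  let θ : C →+* B ⧸ J := φ.hom.liftOfSurjective hφ ⟨q.comp ψ.hom, hle⟩
  have hθ : θ.comp φ.hom = q.comp ψ.hom := RingHom.liftOfRightInverse_comp _ _ _ _
  have w : ψ ≫ CommRingCat.ofHom q = φ ≫ CommRingCat.ofHom θ := by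
    ext a
    exact (RingHom.congr_fun hθ a).symm
  have hd : β ≫ H.desc (CommRingCat.ofHom q) (CommRingCat.ofHom θ) w = CommRingCat.ofHom q :=
    H.inl_desc _ _ _
  have h1 : q x = (H.desc (CommRingCat.ofHom q) (CommRingCat.ofHom θ) w).hom (β.hom x) := by
    have := congrArg (fun k => k.hom x) hd
    exact this.symm
  rw [RingHom.mem_ker] at hx
  rw [hx, map_zero] at h1
  exact Ideal.Quotient.eq_zero_iff_mem.mp h1

theorem ker_sq_of_isPullback {Z P W W' : Scheme.{u}} (l : Z ⟶ P) (f : Z ⟶ W) (p : P ⟶ W')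
    (j : W ⟶ W') [IsClosedImmersion j] [IsClosedImmersion l]
    (H : IsPullback l f p j) (hsq : j.ker * j.ker = ⊥) : l.ker * l.ker = ⊥ := by
  rw [← le_bot_iff]
  refine Scheme.IdealSheafData.le_of_iSup_eq_top
    (ι := Σ U : W'.affineOpens, {V : P.affineOpens // V.1 ≤ p ⁻¹ᵁ U.1}) (fun i => i.2.1) ?_ ?_
  · rw [eq_top_iff]
    rintro x -
    obtain ⟨U, hU, hxU, -⟩ := (Opens.isBasis_iff_nbhd.mp W'.isBasis_affineOpens)
      (show p x ∈ (⊤ : W'.Opens) from trivial)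
    obtain ⟨V, hV, hxV, hVU⟩ := (Opens.isBasis_iff_nbhd.mp P.isBasis_affineOpens)
      (show x ∈ p ⁻¹ᵁ U from hxU)
    exact Opens.mem_iSup.mpr ⟨⟨⟨U, hU⟩, ⟨⟨V, hV⟩, hVU⟩⟩, hxV⟩
  · rintro ⟨U, ⟨V, hVU⟩⟩
    rw [Scheme.IdealSheafData.ideal_mul, Scheme.IdealSheafData.ideal_bot]
    show l.ker.ideal V * l.ker.ideal V ≤ ⊥
    rw [Scheme.Hom.ker_apply]
    have hjU : IsAffineOpen (j ⁻¹ᵁ U.1) := U.2.preimage j
    have hpush := (isIso_pushoutSection_iff H (US := U.1) (UT := j ⁻¹ᵁ U.1) (UX := V.1)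
      le_rfl hVU rfl).mp (isIso_pushoutSection_of_isAffineOpen H le_rfl hVU rfl U.2 hjU V.2)
    have hsurj : Function.Surjective (j.appLE U.1 (j ⁻¹ᵁ U.1) le_rfl).hom := by
      rw [Scheme.Hom.appLE_eq_app]
      exact j.app_surjective U.1 U.2
    have hk := ker_le_map_of_isPushout hpush hsurj
    have h1 : RingHom.ker (l.app V.1).hom ≤
        RingHom.ker (l.appLE V.1 (l ⁻¹ᵁ V.1 ⊓ f ⁻¹ᵁ (j ⁻¹ᵁ U.1)) inf_le_left).hom := by
      intro x hx
      rw [RingHom.mem_ker] at hx ⊢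
      rw [Scheme.Hom.appLE, CommRingCat.hom_comp, RingHom.comp_apply, hx, map_zero]
    have hI : RingHom.ker (j.appLE U.1 (j ⁻¹ᵁ U.1) le_rfl).hom *
        RingHom.ker (j.appLE U.1 (j ⁻¹ᵁ U.1) le_rfl).hom = ⊥ := by
      have := congrArg (fun K => K.ideal U) hsq
      simp only [Scheme.IdealSheafData.ideal_mul, Pi.mul_apply, Scheme.IdealSheafData.ideal_bot,
        Pi.bot_apply] at this
      rw [Scheme.Hom.ker_apply] at this
      rwa [Scheme.Hom.appLE_eq_app]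
    calc RingHom.ker (l.app V.1).hom * RingHom.ker (l.app V.1).hom
        ≤ Ideal.map (p.appLE U.1 V.1 hVU).hom (RingHom.ker (j.appLE U.1 (j ⁻¹ᵁ U.1) le_rfl).hom) *
          Ideal.map (p.appLE U.1 V.1 hVU).hom (RingHom.ker (j.appLE U.1 (j ⁻¹ᵁ U.1) le_rfl).hom) :=
          Ideal.mul_mono (h1.trans hk) (h1.trans hk)
      _ = Ideal.map (p.appLE U.1 V.1 hVU).hom
          (RingHom.ker (j.appLE U.1 (j ⁻¹ᵁ U.1) le_rfl).hom *
            RingHom.ker (j.appLE U.1 (j ⁻¹ᵁ U.1) le_rfl).hom) := (Ideal.map_mul _ _ _).symm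
      _ = ⊥ := by rw [hI, Ideal.map_bot]

theorem aux {Z X W Y W' : Scheme.{u}} (h : Z ⟶ X) (f : Z ⟶ W) (g : X ⟶ Y) (h' : W ⟶ Y)
    (hc : IsPullback h f g h') (j : W ⟶ W') (k : W' ⟶ Y) (hu : OmegaSh.IsUnivThickening h' j k)
    (l : Z ⟶ pullback g k) (hl1 : l ≫ pullback.fst g k = h) (hl2 : l ≫ pullback.snd g k = f ≫ j) :
    OmegaSh.IsUnivThickening h l (pullback.fst g k) := by
  obtain ⟨hj1, hj2, hj3⟩ := hu
  haveI : IsClosedImmersion j := hj1.1.1
  have Hsq : IsPullback f l j (pullback.snd g k) := by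
    have t : IsPullback (pullback.snd g k) (pullback.fst g k) k g :=
      (IsPullback.of_hasPullback g k).flip
    have s : IsPullback f (l ≫ pullback.fst g k) (j ≫ k) g := by
      rw [hl1, hj2]
      exact hc.flip
    exact IsPullback.of_bot s hl2.symm t
  have hlci : IsClosedImmersion l :=
    MorphismProperty.of_isPullback (P := @IsClosedImmersion) Hsq hj1.1.1
  have hlsurj : Surjective l :=
    MorphismProperty.of_isPullback (P := @Surjective) Hsq hj1.1.2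
  refine ⟨⟨⟨hlci, hlsurj⟩, ker_sq_of_isPullback l f _ j Hsq.flip hj1.2⟩, hl1, ?_⟩
  intro T T' t β a0 ht hw
  have hw' : t ≫ (β ≫ g) = (a0 ≫ f) ≫ h' := by
    rw [← Category.assoc, hw, Category.assoc, hc.w, Category.assoc]
  obtain ⟨γ, ⟨hγ1, hγ2⟩, hγu⟩ := hj3 T T' t (β ≫ g) (a0 ≫ f) ht hw'
  refine ⟨pullback.lift β γ hγ2.symm, ⟨?_, pullback.lift_fst _ _ _⟩, ?_⟩
  · apply pullback.hom_ext
    · simp only [Category.assoc, pullback.lift_fst, hl1]
      exact hw
    · simp only [Category.assoc, pullback.lift_snd, hl2]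
      rw [hγ1, Category.assoc]
  · rintro a₂ ⟨h1, h2⟩
    have hs : a₂ ≫ pullback.snd g k = γ := by
      apply hγu
      constructor
      · rw [← Category.assoc, h1, Category.assoc, hl2, Category.assoc]
      · rw [Category.assoc, ← pullback.condition, ← Category.assoc, h2]
    apply pullback.hom_ext
    · rw [h2, pullback.lift_fst]
    · rw [hs, pullback.lift_snd]

theorem main {Z X W Y W' : Scheme.{u}} (h : Z ⟶ X) (f : Z ⟶ W) (g : X ⟶ Y) (h' : W ⟶ Y)
    (hc : IsPullback h f g h') (j : W ⟶ W') (k : W' ⟶ Y) (hu : OmegaSh.IsUnivThickening h' j k)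
    (e : h ≫ g = (f ≫ j) ≫ k) :
    OmegaSh.IsUnivThickening h (pullback.lift h (f ≫ j) e) (pullback.fst g k) :=
  aux h f g h' hc j k hu _ (pullback.lift_fst _ _ _) (pullback.lift_snd _ _ _)

end Groth.Agent.Helper7.UnivThickBC
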