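import Mathlib
import Groth.Prelude.Def_Omega3

/-!
# Universal first order thickening of a composite (helper7)
-/

open CategoryTheory CategoryTheory.Limits AlgebraicGeometry TopologicalSpace

universe u

namespace Groth.Agent.Helper7.UnivThickComp

theorem ker_sq_of_comp {Z P Z' : Scheme.{u}} (l : Z ⟶ P) (s : P ⟶ Z') [IsClosedImmersion l]
    [IsClosedImmersion s] (hsq : (l ≫ s).ker * (l ≫ s).ker = ⊥) : l.ker * l.ker = ⊥ := by
  rw [← le_bot_iff]
  refine Scheme.IdealSheafData.le_of_iSup_eq_top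
    (fun U : Z'.affineOpens => (⟨s ⁻¹ᵁ U.1, U.2.preimage s⟩ : P.affineOpens)) ?_ ?_
  · show ⨆ U : Z'.affineOpens, s ⁻¹ᵁ U.1 = ⊤
    rw [← Scheme.Hom.preimage_iSup, iSup_affineOpens_eq_top, Scheme.Hom.preimage_top]
  · intro U
    rw [Scheme.IdealSheafData.ideal_mul, Scheme.IdealSheafData.ideal_bot]
    show l.ker.ideal _ * l.ker.ideal _ ≤ ⊥
    rw [Scheme.Hom.ker_apply]
    refine Ideal.mul_le.mpr fun x hx y hy => ?_
    obtain ⟨x', rfl⟩ := s.app_surjective U.1 U.2 x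
    obtain ⟨y', rfl⟩ := s.app_surjective U.1 U.2 y
    have hx' : x' ∈ (l ≫ s).ker.ideal U := by
      rw [Scheme.Hom.ker_apply, RingHom.mem_ker]
      rw [RingHom.mem_ker] at hx
      rw [Scheme.Hom.comp_app]
      exact hx
    have hy' : y' ∈ (l ≫ s).ker.ideal U := by
      rw [Scheme.Hom.ker_apply, RingHom.mem_ker]
      rw [RingHom.mem_ker] at hy
      rw [Scheme.Hom.comp_app]
      exact hy
    have h1 : x' * y' ∈ ((l ≫ s).ker * (l ≫ s).ker).ideal U := by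
      rw [Scheme.IdealSheafData.ideal_mul]
      exact Ideal.mul_mem_mul hx' hy'
    rw [hsq] at h1
    have h0 : x' * y' = 0 := h1
    rw [← map_mul, h0, map_zero]
    exact Submodule.zero_mem _

theorem firstOrder_lift {Z P Z' : Scheme.{u}} (l : Z ⟶ P) (s : P ⟶ Z') [IsClosedImmersion s]
    (h : MoreMor.IsFirstOrderThickening (l ≫ s)) : MoreMor.IsFirstOrderThickening l := by
  obtain ⟨⟨hci, hsurj⟩, hsq⟩ := h
  haveI : IsClosedImmersion l := IsClosedImmersion.of_comp l s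
  refine ⟨⟨inferInstance, ?_⟩, ker_sq_of_comp l s hsq⟩
  constructor
  intro p
  obtain ⟨z, hz⟩ := hsurj.surj (s p)
  refine ⟨z, ?_⟩
  apply s.isClosedEmbedding.injective
  rw [← Scheme.Hom.comp_apply]
  exact hz

theorem main {Z Y X Z' Y' : Scheme.{u}} (a : Z ⟶ Y) (b : Y ⟶ X)
    (i : Z ⟶ Z') (c : Z' ⟶ X) (hZ : OmegaSh.IsUnivThickening (a ≫ b) i c)
    (j : Y ⟶ Y') (d : Y' ⟶ X) (hY : OmegaSh.IsUnivThickening b j d) :
    ∃ (m : Z' ⟶ Y') (hm : i ≫ m = a ≫ j), m ≫ d = c ∧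
      OmegaSh.IsUnivThickening a (pullback.lift a i hm.symm) (pullback.fst j m) := by
  obtain ⟨hZ1, hZ2, hZ3⟩ := hZ
  obtain ⟨hY1, hY2, hY3⟩ := hY
  obtain ⟨m, ⟨hm1, hm2⟩, -⟩ := hY3 Z Z' i c a hZ1 hZ2
  refine ⟨m, hm1, hm2, ?_⟩
  haveI : IsClosedImmersion j := hY1.1.1
  have hl : pullback.lift a i hm1.symm ≫ pullback.snd j m = i := pullback.lift_snd _ _ _
  refine ⟨firstOrder_lift _ (pullback.snd j m) (by rw [hl]; exact hZ1),
    pullback.lift_fst _ _ _, ?_⟩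
  intro T T' t β a0 ht hw
  have hw' : t ≫ (β ≫ b) = a0 ≫ (a ≫ b) := by rw [← Category.assoc, hw, Category.assoc]
  obtain ⟨γ, ⟨hγ1, hγ2⟩, hγu⟩ := hZ3 T T' t (β ≫ b) a0 ht hw'
  have hw'' : t ≫ (β ≫ b) = (a0 ≫ a) ≫ b := by rw [hw', Category.assoc]
  obtain ⟨δ, -, hδu⟩ := hY3 T T' t (β ≫ b) (a0 ≫ a) ht hw''
  have e1 : β ≫ j = δ := hδu _ ⟨by rw [← Category.assoc, hw], by rw [Category.assoc, hY2]⟩
  have e2 : γ ≫ m = δ := hδu _ ⟨by rw [← Category.assoc, hγ1]; simp only [Category.assoc, hm1],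
    by rw [Category.assoc, hm2, hγ2]⟩
  have e : β ≫ j = γ ≫ m := e1.trans e2.symm
  refine ⟨pullback.lift β γ e, ⟨?_, pullback.lift_fst _ _ _⟩, ?_⟩
  · apply pullback.hom_ext
    · simp only [Category.assoc, pullback.lift_fst]
      exact hw
    · simp only [Category.assoc, pullback.lift_snd]
      exact hγ1
  · rintro a₂ ⟨h1, h2⟩
    have hs : a₂ ≫ pullback.snd j m = γ := by
      apply hγu
      constructor
      · rw [← Category.assoc, h1, Category.assoc, pullback.lift_snd]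
      · rw [Category.assoc, ← hm2, ← pullback.condition_assoc, ← Category.assoc, h2, hY2]
    apply pullback.hom_ext
    · rw [h2, pullback.lift_fst]
    · rw [hs, pullback.lift_snd]

end Groth.Agent.Helper7.UnivThickComp
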