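import Mathlib
import Groth.Prelude.Def_Omega3

/-!
# The first order neighbourhood of an immersion is a universal first order thickening (helper7)
-/

open CategoryTheory CategoryTheory.Limits AlgebraicGeometry TopologicalSpace

universe u

namespace Groth.Agent.Helper7.UnivThickNbhd

theorem mul_eq_zero_of_ker_sq {T T' : Scheme.{u}} (t : T ⟶ T') [IsClosedImmersion t]
    (hsq : t.ker * t.ker = ⊥) (W : T'.Opens) (u v : Γ(T', W))
    (hu : (t.app W).hom u = 0) (hv : (t.app W).hom v = 0) : u * v = 0 := by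
  refine T'.sheaf.eq_of_locally_eq' (fun W' : {W' : T'.affineOpens // W'.1 ≤ W} => W'.1.1) W
    (fun W' => homOfLE W'.2) ?_ (u * v) 0 ?_
  · intro x hx
    obtain ⟨W', hW', hxW', hle⟩ := (Opens.isBasis_iff_nbhd.mp T'.isBasis_affineOpens) hx
    exact Opens.mem_iSup.mpr ⟨⟨⟨W', hW'⟩, hle⟩, hxW'⟩
  · rintro ⟨W', hle⟩
    show (T'.presheaf.map (homOfLE hle).op).hom (u * v) =
      (T'.presheaf.map (homOfLE hle).op).hom 0
    rw [map_mul, map_zero]
    have key : ∀ w : Γ(T', W), (t.app W).hom w = 0 →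
        (T'.presheaf.map (homOfLE hle).op).hom w ∈ t.ker.ideal W' := by
      intro w hw
      rw [Scheme.Hom.ker_apply, RingHom.mem_ker]
      have := congrArg (fun k => k.hom w) (t.naturality (homOfLE hle).op)
      simp only [CommRingCat.hom_comp, RingHom.comp_apply] at this
      rw [this, hw, map_zero]
    have h1 : (T'.presheaf.map (homOfLE hle).op).hom u * (T'.presheaf.map (homOfLE hle).op).hom v ∈
        (t.ker * t.ker).ideal W' := by
      rw [Scheme.IdealSheafData.ideal_mul]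
      exact Ideal.mul_mem_mul (key u hu) (key v hv)
    rw [hsq] at h1
    exact h1

theorem ker_sq_of_comp_le {Z P Z' : Scheme.{u}} (l : Z ⟶ P) (s : P ⟶ Z') [IsClosedImmersion l]
    [IsClosedImmersion s] (hsq : (l ≫ s).ker * (l ≫ s).ker ≤ s.ker) : l.ker * l.ker = ⊥ := by
  rw [← le_bot_iff]
  refine Scheme.IdealSheafData.le_of_iSup_eq_top
    (fun U : Z'.affineOpens => (⟨s ⁻¹ᵁ U.1, U.2.preimage s⟩ : P.affineOpens)) ?_ ?_
  · show ⨆ U : Z'.affineOpens, s ⁻¹ᵁ U.1 = ⊤
    rw [← Scheme.Hom.preimage_iSup, iSup_affineOpens_eq_top, Scheme.Hom.preimage_top]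
  · intro U
    rw [Scheme.IdealSheafData.ideal_mul, Scheme.IdealSheafData.ideal_bot]
    show l.ker.ideal _ * l.ker.ideal _ ≤ ⊥
    rw [Scheme.Hom.ker_apply]
    refine Ideal.mul_le.mpr fun x hx y hy => ?_
    obtain ⟨x', rfl⟩ := s.app_surjective U.1 U.2 x
    obtain ⟨y', rfl⟩ := s.app_surjective U.1 U.2 y
    have hx' : x' ∈ (l ≫ s).ker.ideal U := by
      rw [Scheme.Hom.ker_apply, RingHom.mem_ker]
      rw [RingHom.mem_ker] at hx
      rw [Scheme.Hom.comp_app]
      exact hx
    have hy' : y' ∈ (l ≫ s).ker.ideal U := by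
      rw [Scheme.Hom.ker_apply, RingHom.mem_ker]
      rw [RingHom.mem_ker] at hy
      rw [Scheme.Hom.comp_app]
      exact hy
    have h1 : x' * y' ∈ ((l ≫ s).ker * (l ≫ s).ker).ideal U := by
      rw [Scheme.IdealSheafData.ideal_mul]
      exact Ideal.mul_mem_mul hx' hy'
    have h2 : x' * y' ∈ s.ker.ideal U := hsq U h1
    rw [Scheme.Hom.ker_apply, RingHom.mem_ker] at h2
    rw [← map_mul, h2]
    exact Submodule.zero_mem _

theorem main {X : Scheme.{u}} (U : X.Opens) (I : (U : Scheme.{u}).IdealSheafData) (h : I ^ 2 ≤ I) :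
    OmegaSh.IsUnivThickening (I.subschemeι ≫ U.ι) (Scheme.IdealSheafData.inclusion h)
      ((I ^ 2).subschemeι ≫ U.ι) := by
  have hinc : Scheme.IdealSheafData.inclusion h ≫ (I ^ 2).subschemeι = I.subschemeι :=
    Scheme.IdealSheafData.inclusion_subschemeι h
  haveI : IsClosedImmersion (Scheme.IdealSheafData.inclusion h ≫ (I ^ 2).subschemeι) := by
    rw [hinc]; infer_instance
  haveI hci : IsClosedImmersion (Scheme.IdealSheafData.inclusion h) :=
    IsClosedImmersion.of_comp _ (I ^ 2).subschemeι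
  refine ⟨⟨⟨hci, ?_⟩, ?_⟩, ?_, ?_⟩
  · constructor
    intro p
    have hp : (I ^ 2).subschemeι p ∈ (I.support : Set U) := by
      rw [← Scheme.IdealSheafData.support_pow I 2 two_ne_zero,
        ← Scheme.IdealSheafData.range_subschemeι]
      exact ⟨p, rfl⟩
    rw [← Scheme.IdealSheafData.range_subschemeι] at hp
    obtain ⟨z, hz⟩ := hp
    refine ⟨z, ?_⟩
    apply (I ^ 2).subschemeι.isClosedEmbedding.injective
    rw [← Scheme.Hom.comp_apply, hinc]
    exact hz
  · apply ker_sq_of_comp_le _ (I ^ 2).subschemeι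
    rw [hinc, Scheme.IdealSheafData.ker_subschemeι, Scheme.IdealSheafData.ker_subschemeι, ← sq]
  · rw [← Category.assoc, hinc]
  · intro T T' t b a ht hw
    haveI htci : IsClosedImmersion t := ht.1.1
    have htsurj : Function.Surjective t := ht.1.2.surj
    have hrange : Set.range b ⊆ Set.range U.ι := by
      rintro _ ⟨t', rfl⟩
      obtain ⟨s, rfl⟩ := htsurj t'
      refine ⟨I.subschemeι (a s), ?_⟩
      have := congrArg (fun k : T ⟶ X => k s) hw
      simp only [Scheme.Hom.comp_apply] at this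
      exact this.symm
    have hbU : IsOpenImmersion.lift U.ι b hrange ≫ U.ι = b := IsOpenImmersion.lift_fac _ _ _
    generalize IsOpenImmersion.lift U.ι b hrange = bU at hbU
    have hw2 : t ≫ bU = a ≫ I.subschemeι := by
      rw [← cancel_mono U.ι, Category.assoc, hbU, hw, Category.assoc]
    have h1 : I ≤ (t ≫ bU).ker := by
      rw [hw2]
      calc I = I.subschemeι.ker := (Scheme.IdealSheafData.ker_subschemeι I).symm
        _ ≤ (a ≫ I.subschemeι).ker := Scheme.Hom.le_ker_comp _ _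
    have hker : I ^ 2 ≤ bU.ker := by
      refine Scheme.IdealSheafData.le_ofIdeals_iff.mpr ?_
      intro U'
      rw [Scheme.IdealSheafData.ideal_pow, Pi.pow_apply, sq]
      refine Ideal.mul_le.mpr fun x hx y hy => ?_
      rw [RingHom.mem_ker, map_mul]
      have hxk : ((t ≫ bU).app U'.1).hom x = 0 :=
        RingHom.mem_ker.mp ((Scheme.Hom.ideal_ker_le _ U') (h1 U' hx))
      have hyk : ((t ≫ bU).app U'.1).hom y = 0 :=
        RingHom.mem_ker.mp ((Scheme.Hom.ideal_ker_le _ U') (h1 U' hy))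
      have hxk' : (t.app (bU ⁻¹ᵁ U'.1)).hom ((bU.app U'.1).hom x) = 0 := hxk
      have hyk' : (t.app (bU ⁻¹ᵁ U'.1)).hom ((bU.app U'.1).hom y) = 0 := hyk
      exact mul_eq_zero_of_ker_sq t ht.2 (bU ⁻¹ᵁ U'.1) _ _ hxk' hyk'
    have hker' : (I ^ 2).subschemeι.ker ≤ bU.ker := by
      rw [Scheme.IdealSheafData.ker_subschemeι]; exact hker
    have ha' : IsClosedImmersion.lift (I ^ 2).subschemeι bU hker' ≫ (I ^ 2).subschemeι = bU :=
      IsClosedImmersion.lift_fac _ _ _
    refine ⟨IsClosedImmersion.lift (I ^ 2).subschemeι bU hker', ⟨?_, ?_⟩, ?_⟩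
    · rw [← cancel_mono (I ^ 2).subschemeι, Category.assoc, ha', Category.assoc, hinc, hw2]
    · rw [← Category.assoc, ha', hbU]
    · rintro a₂ ⟨-, h2⟩
      rw [← cancel_mono (I ^ 2).subschemeι, ha', ← cancel_mono U.ι, Category.assoc, h2, hbU]

end Groth.Agent.Helper7.UnivThickNbhd
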