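import Mathlib
import Groth.Prelude.Def_Omega3
import Groth.Agent.Lib.Helper7.RestrictOpen

/-!
# Universal first order thickenings restrict to opens (helper7)
-/

open CategoryTheory CategoryTheory.Limits AlgebraicGeometry TopologicalSpace

universe u

namespace Groth.Agent.Helper7.UnivThickOpen

open Groth.Agent.Helper7.RestrictOpen

theorem univ_resLE {Z Z' X : Scheme.{u}} (h : Z ⟶ X) (i : Z ⟶ Z') (h' : Z' ⟶ X)
    (hu : OmegaSh.IsUnivThickening h i h') (V : Z.Opens) (U : X.Opens) (hVU : V ≤ h ⁻¹ᵁ U)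
    (V' : Z'.Opens) (hV' : i ⁻¹ᵁ V' = V) (hV'U : V' ≤ h' ⁻¹ᵁ U) :
    OmegaSh.IsUnivThickening (h.resLE U V hVU) (i.resLE V' V hV'.ge) (h'.resLE U V' hV'U) := by
  obtain ⟨⟨⟨hci, hsurj⟩, hsq⟩, hcomp, huniv⟩ := hu
  refine ⟨⟨⟨?_, ?_⟩, ?_⟩, ?_, ?_⟩
  · exact P_resLE_of_eq @IsClosedImmersion i V' V hV'.symm hci
  · exact P_resLE_of_eq @Surjective i V' V hV'.symm hsurj
  · have k1 : (i.resLE V' V hV'.ge).ker = i.ker.comap V'.ι :=
      ker_of_isPullback i _ _ _ (isPullback_resLE_of_eq i V' V hV'.symm)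
    rw [k1, ← sq, ← comap_pow, sq, hsq]
    exact Scheme.IdealSheafData.comap_bot _
  · rw [← cancel_mono U.ι]
    simp only [Category.assoc, Scheme.Hom.resLE_comp_ι, Scheme.Hom.resLE_comp_ι_assoc, hcomp]
  · intro T T' j b a hj hw
    have hw' : j ≫ (b ≫ U.ι) = (a ≫ V.ι) ≫ h := by
      rw [← Category.assoc, hw]
      simp only [Category.assoc, Scheme.Hom.resLE_comp_ι]
    obtain ⟨a', ⟨ha1, ha2⟩, hauniq⟩ := huniv T T' j (b ≫ U.ι) (a ≫ V.ι) hj hw'
    have hjs : Surjective j := hj.1.2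
    have hjsurj : Function.Surjective j := hjs.surj
    have hrange : Set.range a' ⊆ Set.range V'.ι := by
      rintro _ ⟨t', rfl⟩
      obtain ⟨t, rfl⟩ := hjsurj t'
      rw [Scheme.Opens.range_ι]
      have e1 : a' (j t) = i (V.ι (a t)) := by
        rw [← Scheme.Hom.comp_apply, ha1, Scheme.Hom.comp_apply, Scheme.Hom.comp_apply]
      rw [e1]
      have hm : V.ι (a t) ∈ i ⁻¹ᵁ V' := by
        rw [hV', Scheme.Opens.ι_apply]
        exact (a t).2
      exact hm
    have hfac : IsOpenImmersion.lift V'.ι a' hrange ≫ V'.ι = a' :=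
      IsOpenImmersion.lift_fac _ _ _
    refine ⟨IsOpenImmersion.lift V'.ι a' hrange, ⟨?_, ?_⟩, ?_⟩
    · rw [← cancel_mono V'.ι]
      simp only [Category.assoc, hfac, Scheme.Hom.resLE_comp_ι, ha1]
    · rw [← cancel_mono U.ι]
      simp only [Category.assoc, Scheme.Hom.resLE_comp_ι]
      rw [← Category.assoc, hfac, ha2]
    · rintro a₂ ⟨h1, h2⟩
      rw [← cancel_mono V'.ι, hfac]
      apply hauniq
      constructor
      · rw [← Category.assoc, h1]
        simp only [Category.assoc, Scheme.Hom.resLE_comp_ι]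
      · rw [Category.assoc, ← Scheme.Hom.resLE_comp_ι h' hV'U, ← Category.assoc, h2]

end Groth.Agent.Helper7.UnivThickOpen
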