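import Mathlib
import Groth.Prelude.Def_Omega3
import Groth.Agent.Lib.Helper7.UnivThickOpen

/-!
# A universal first order thickening is formally unramified over the base (helper7)
-/

open CategoryTheory CategoryTheory.Limits AlgebraicGeometry TopologicalSpace

universe u

namespace Groth.Agent.Helper7.UnivThickUnram

theorem ring_two_step {R S' : Type u} [CommRing R] [CommRing S'] (φ : R →+* S') (J : Ideal S')
    (hJ : J * J = ⊥)
    (Br : ∀ (B' : Type u) [CommRing B'] (K : Ideal B'), K * K = ⊥ → ∀ (g₁ g₂ : S' →+* B'),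
      g₁.comp φ = g₂.comp φ → (∀ s, g₁ s - g₂ s ∈ K) → (∀ x ∈ J, g₁ x ∈ K) → g₁ = g₂)
    (B : Type u) [CommRing B] (I : Ideal B) (hI : I * I = ⊥) (g₁ g₂ : S' →+* B)
    (hφ : g₁.comp φ = g₂.comp φ) (hc : ∀ s, g₁ s - g₂ s ∈ I) : g₁ = g₂ := by
  have hJg2 : Ideal.map g₁ J * Ideal.map g₁ J = ⊥ := by
    rw [← Ideal.map_mul, hJ, Ideal.map_bot]
  have step1 : ∀ s, g₁ s - g₂ s ∈ Ideal.map g₁ J * I := by
    have hK : Ideal.map (Ideal.Quotient.mk (Ideal.map g₁ J * I)) (I ⊔ Ideal.map g₁ J) *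
        Ideal.map (Ideal.Quotient.mk (Ideal.map g₁ J * I)) (I ⊔ Ideal.map g₁ J) = ⊥ := by
      rw [← Ideal.map_mul]
      apply Ideal.map_mk_eq_bot_of_le
      calc (I ⊔ Ideal.map g₁ J) * (I ⊔ Ideal.map g₁ J)
          = (I * I ⊔ I * Ideal.map g₁ J) ⊔ (Ideal.map g₁ J * I ⊔ Ideal.map g₁ J * Ideal.map g₁ J) := by
            rw [Ideal.sup_mul, Ideal.mul_sup, Ideal.mul_sup]
        _ ≤ Ideal.map g₁ J * I := by
            rw [hI, hJg2, Ideal.mul_comm I (Ideal.map g₁ J)]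
            simp
    have := Br (B ⧸ (Ideal.map g₁ J * I))
      (Ideal.map (Ideal.Quotient.mk (Ideal.map g₁ J * I)) (I ⊔ Ideal.map g₁ J)) hK
      ((Ideal.Quotient.mk (Ideal.map g₁ J * I)).comp g₁)
      ((Ideal.Quotient.mk (Ideal.map g₁ J * I)).comp g₂)
      (by rw [RingHom.comp_assoc, RingHom.comp_assoc, hφ])
      (fun s => by
        rw [RingHom.comp_apply, RingHom.comp_apply, ← map_sub]
        exact Ideal.mem_map_of_mem _ (Ideal.mem_sup_left (hc s)))
      (fun x hx => by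
        rw [RingHom.comp_apply]
        exact Ideal.mem_map_of_mem _ (Ideal.mem_sup_right (Ideal.mem_map_of_mem g₁ hx)))
    intro s
    have h1 := RingHom.congr_fun this s
    rw [RingHom.comp_apply, RingHom.comp_apply] at h1
    exact Ideal.Quotient.eq.mp h1
  exact Br B (Ideal.map g₁ J) hJg2 g₁ g₂ hφ (fun s => Ideal.mul_le_left (step1 s))
    (fun x hx => Ideal.mem_map_of_mem g₁ hx)

theorem firstOrder_specMap_mk {B : Type u} [CommRing B] (K : Ideal B) (hK : K * K = ⊥) :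
    MoreMor.IsFirstOrderThickening (Spec.map (CommRingCat.ofHom (Ideal.Quotient.mk K))) := by
  haveI hci : IsClosedImmersion (Spec.map (CommRingCat.ofHom (Ideal.Quotient.mk K))) :=
    IsClosedImmersion.spec_of_surjective _ Ideal.Quotient.mk_surjective
  refine ⟨⟨hci, ?_⟩, ?_⟩
  · constructor
    intro p
    change PrimeSpectrum B at p
    have hKp : K ≤ p.asIdeal := by
      intro x hx
      have h2 : x * x ∈ K * K := Ideal.mul_mem_mul hx hx
      rw [hK] at h2
      have h3 : x * x = 0 := h2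
      have h4 : x * x ∈ p.asIdeal := by rw [h3]; exact Ideal.zero_mem _
      exact (p.isPrime.mem_or_mem h4).elim id id
    have hker : RingHom.ker (Ideal.Quotient.mk K) ≤ p.asIdeal := by rw [Ideal.mk_ker]; exact hKp
    refine ⟨(⟨p.asIdeal.map (Ideal.Quotient.mk K),
      Ideal.map_isPrime_of_surjective Ideal.Quotient.mk_surjective hker⟩ : PrimeSpectrum (B ⧸ K)), ?_⟩
    show (PrimeSpectrum.comap (Ideal.Quotient.mk K) _ : PrimeSpectrum B) = p
    apply PrimeSpectrum.ext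
    show Ideal.comap (Ideal.Quotient.mk K) (Ideal.map (Ideal.Quotient.mk K) p.asIdeal) = p.asIdeal
    rw [Ideal.comap_map_of_surjective _ Ideal.Quotient.mk_surjective, ← RingHom.ker_eq_comap_bot,
      sup_eq_left]
    exact hker
  · rw [← le_bot_iff]
    apply Scheme.IdealSheafData.le_of_isAffine
    rw [Scheme.IdealSheafData.ideal_mul, Scheme.IdealSheafData.ideal_bot]
    show (Spec.map (CommRingCat.ofHom (Ideal.Quotient.mk K))).ker.ideal _ *
      (Spec.map (CommRingCat.ofHom (Ideal.Quotient.mk K))).ker.ideal _ ≤ ⊥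
    rw [Scheme.Hom.ker_apply]
    refine Ideal.mul_le.mpr fun x hx y hy => ?_
    rw [RingHom.mem_ker] at hx hy
    have kmem : ∀ w, (Spec.map (CommRingCat.ofHom (Ideal.Quotient.mk K))).appTop.hom w = 0 →
        (Scheme.ΓSpecIso (CommRingCat.of B)).hom.hom w ∈ K := by
      intro w hw
      have := congrArg (fun k => k.hom w)
        (Scheme.ΓSpecIso_naturality (CommRingCat.ofHom (Ideal.Quotient.mk K)))
      simp only [CommRingCat.hom_comp, RingHom.comp_apply] at this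
      rw [hw, map_zero] at this
      exact Ideal.Quotient.eq_zero_iff_mem.mp this.symm
    have h0 : (Scheme.ΓSpecIso (CommRingCat.of B)).hom.hom (x * y) = 0 := by
      rw [map_mul]
      have := Ideal.mul_mem_mul (kmem x hx) (kmem y hy)
      rw [hK] at this
      exact this
    have hinj : Function.Injective (Scheme.ΓSpecIso (CommRingCat.of B)).hom.hom :=
      (ConcreteCategory.bijective_of_isIso (Scheme.ΓSpecIso (CommRingCat.of B)).hom).1
    rw [Submodule.mem_bot]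
    exact hinj (by rw [h0, map_zero])

theorem bridge {Z Z' X : Scheme.{u}} [IsAffine Z'] [IsAffine X] (h : Z ⟶ X) (i : Z ⟶ Z')
    (h' : Z' ⟶ X) (hu : OmegaSh.IsUnivThickening h i h')
    (B' : Type u) [CommRing B'] (K : Ideal B') (hK : K * K = ⊥)
    (g₁ g₂ : Γ(Z', ⊤) ⟶ CommRingCat.of B') (hφ : h'.appTop ≫ g₁ = h'.appTop ≫ g₂)
    (hc : ∀ s, g₁.hom s - g₂.hom s ∈ K) (hJ : ∀ x ∈ RingHom.ker i.appTop.hom, g₁.hom x ∈ K) :
    g₁ = g₂ := by
  obtain ⟨hi1, hi2, hi3⟩ := hu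
  haveI : IsClosedImmersion i := hi1.1.1
  have ht := firstOrder_specMap_mk K hK
  set q := CommRingCat.ofHom (Ideal.Quotient.mk K) with hq
  have hσ : Z'.isoSpec.inv.appTop = (Scheme.ΓSpecIso Γ(Z', ⊤)).inv := by
    have h1 : Z'.isoSpec.hom.appTop ≫ Z'.isoSpec.inv.appTop = 𝟙 _ := by
      rw [← Scheme.Hom.comp_appTop, Iso.inv_hom_id]
      rfl
    rw [Scheme.isoSpec_hom, Scheme.toSpecΓ_appTop] at h1
    exact (Iso.hom_comp_eq_id _).mp h1
  have hb : ∀ g : Γ(Z', ⊤) ⟶ CommRingCat.of B', (Spec.map g ≫ Z'.isoSpec.inv) ≫ h' =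
      Spec.map (h'.appTop ≫ g) ≫ X.isoSpec.inv := by
    intro g
    rw [Category.assoc, ← Scheme.isoSpec_inv_naturality, ← Category.assoc, ← Spec.map_comp]
  have hq12 : g₁ ≫ q = g₂ ≫ q := by
    ext s
    show Ideal.Quotient.mk K (g₁.hom s) = Ideal.Quotient.mk K (g₂.hom s)
    exact Ideal.Quotient.eq.mpr (hc s)
  have ht12 : Spec.map q ≫ Spec.map g₁ ≫ Z'.isoSpec.inv =
      Spec.map q ≫ Spec.map g₂ ≫ Z'.isoSpec.inv := by
    rw [← Category.assoc, ← Category.assoc, ← Spec.map_comp, ← Spec.map_comp, hq12]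
  have key : (Spec.map q ≫ Spec.map g₁ ≫ Z'.isoSpec.inv).appTop =
      g₁ ≫ q ≫ (Scheme.ΓSpecIso (CommRingCat.of (B' ⧸ K))).inv := by
    rw [Scheme.Hom.comp_appTop, Scheme.Hom.comp_appTop, hσ, Category.assoc,
      ← Scheme.ΓSpecIso_inv_naturality_assoc, ← Scheme.ΓSpecIso_inv_naturality]
  have hle : i.ker ≤ (Spec.map q ≫ Spec.map g₁ ≫ Z'.isoSpec.inv).ker := by
    apply Scheme.IdealSheafData.le_of_isAffine
    rw [Scheme.Hom.ker_apply, Scheme.Hom.ker_apply]
    intro x hx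
    rw [RingHom.mem_ker]
    have hx' : g₁.hom x ∈ K := hJ x hx
    show (Spec.map q ≫ Spec.map g₁ ≫ Z'.isoSpec.inv).appTop.hom x = 0
    rw [key]
    simp only [CommRingCat.hom_comp, RingHom.comp_apply]
    have h0 : q.hom (g₁.hom x) = 0 := Ideal.Quotient.eq_zero_iff_mem.mpr hx'
    rw [h0, map_zero]
  have ha : IsClosedImmersion.lift i _ hle ≫ i = Spec.map q ≫ Spec.map g₁ ≫ Z'.isoSpec.inv :=
    IsClosedImmersion.lift_fac _ _ _
  have hw : Spec.map q ≫ ((Spec.map g₁ ≫ Z'.isoSpec.inv) ≫ h') =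
      IsClosedImmersion.lift i _ hle ≫ h := by
    rw [← hi2, ← Category.assoc (IsClosedImmersion.lift i _ hle), ha]
    simp only [Category.assoc]
  obtain ⟨a', -, hauniq⟩ := hi3 _ _ (Spec.map q) ((Spec.map g₁ ≫ Z'.isoSpec.inv) ≫ h')
    (IsClosedImmersion.lift i _ hle) ht hw
  have e1 : Spec.map g₁ ≫ Z'.isoSpec.inv = a' := hauniq _ ⟨by rw [ha], rfl⟩
  have e2 : Spec.map g₂ ≫ Z'.isoSpec.inv = a' :=
    hauniq _ ⟨by rw [ha, ht12], by rw [hb, hb, hφ]⟩
  have e3 : Spec.map g₁ = Spec.map g₂ := (cancel_mono Z'.isoSpec.inv).mp (e1.trans e2.symm)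
  exact Spec.map_injective e3

theorem core {Z Z' X : Scheme.{u}} [IsAffine Z'] [IsAffine X] (h : Z ⟶ X) (i : Z ⟶ Z')
    (h' : Z' ⟶ X) (hu : OmegaSh.IsUnivThickening h i h') : h'.appTop.hom.FormallyUnramified := by
  have hJ : RingHom.ker i.appTop.hom * RingHom.ker i.appTop.hom = ⊥ := by
    haveI : IsClosedImmersion i := hu.1.1.1
    have := congrArg (fun K => K.ideal ⟨⊤, isAffineOpen_top Z'⟩) hu.1.2
    simp only [Scheme.IdealSheafData.ideal_mul, Pi.mul_apply, Scheme.IdealSheafData.ideal_bot,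
      Pi.bot_apply] at this
    rw [Scheme.Hom.ker_apply] at this
    exact this
  unfold RingHom.FormallyUnramified
  letI := h'.appTop.hom.toAlgebra
  rw [Algebra.FormallyUnramified.iff_comp_injective]
  intro B _ _ I hI g₁ g₂ hg
  have hI' : I * I = ⊥ := by rw [← sq]; exact hI
  have key := ring_two_step h'.appTop.hom (RingHom.ker i.appTop.hom) hJ
    (fun B' _ K hK k₁ k₂ e1 e2 e3 => by
      have := bridge h i h' hu B' K hK (CommRingCat.ofHom k₁) (CommRingCat.ofHom k₂)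
        (by ext x; exact RingHom.congr_fun e1 x) e2 e3
      exact congrArg CommRingCat.Hom.hom this)
    B I hI' g₁.toRingHom g₂.toRingHom
    (by ext r; exact (g₁.commutes r).trans (g₂.commutes r).symm)
    (fun s => Ideal.Quotient.eq.mp (AlgHom.congr_fun hg s))
  exact AlgHom.ext fun s => RingHom.congr_fun key s

theorem main {Z Z' X : Scheme.{u}} (h : Z ⟶ X) (i : Z ⟶ Z') (h' : Z' ⟶ X)
    (hu : OmegaSh.IsUnivThickening h i h') : FormallyUnramified h' := by
  rw [HasRingHomProperty.iff_appLE (P := @FormallyUnramified)]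
  intro U V' e
  have hV : (i ⁻¹ᵁ V'.1) ≤ h ⁻¹ᵁ U.1 := by
    rw [← hu.2.1]
    intro x hx
    exact e hx
  have hu' := Groth.Agent.Helper7.UnivThickOpen.univ_resLE h i h' hu (i ⁻¹ᵁ V'.1) U.1 hV V'.1 rfl e
  haveI : IsAffine (V'.1 : Scheme.{u}) := V'.2
  haveI : IsAffine (U.1 : Scheme.{u}) := U.2
  have hcore := core _ _ _ hu'
  exact (RingHom.FormallyUnramified.respectsIso.arrow_mk_iso_iff
    (arrowResLEAppIso h' U.1 V'.1 e)).mp hcore

end Groth.Agent.Helper7.UnivThickUnram
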