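import Mathlib
import Groth.Prelude.Def_W4c2invhilbsl2

set_option autoImplicit false

namespace Groth.Agent.Helper7.WP

open MvPolynomial W4c2invhilbsl2

theorem rank_piece_le_one {σ : Type*} {k : Type*} [Field k] {M : Type*} [AddCommMonoid M]
    (w : σ → M) (I : Ideal (MvPolynomial σ k)) (ν : M)
    (v₀ : MvPolynomial σ k ⧸ I)
    (h : ∀ d : σ →₀ ℕ, Finsupp.weight w d = ν →
      ∃ c : k, Ideal.Quotient.mk I (monomial d 1) = c • v₀) :
    Module.rank k (piece k w I ν) ≤ 1 := by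
  rw [rank_submodule_le_one_iff']
  refine ⟨v₀, ?_⟩
  rintro x ⟨f, hf, rfl⟩
  have hf' : f.IsWeightedHomogeneous w ν := hf
  have hsum : f = ∑ d ∈ f.support, coeff d f • monomial d (1:k) := by
    conv_lhs => rw [f.as_sum]
    refine Finset.sum_congr rfl fun d _ => ?_
    rw [smul_monomial, smul_eq_mul, mul_one]
  rw [hsum, map_sum]
  refine Submodule.sum_mem _ fun d hd => ?_
  obtain ⟨c, hc⟩ := h d (hf' (mem_support_iff.mp hd))
  rw [map_smul]
  have : (Ideal.Quotient.mkₐ k I).toLinearMap (monomial d 1) =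
      Ideal.Quotient.mk I (monomial d 1) := rfl
  rw [this, hc, smul_smul]
  exact Submodule.smul_mem _ _ (Submodule.mem_span_singleton_self _)

theorem smul_mk {σ : Type*} {k : Type*} [CommRing k] (I : Ideal (MvPolynomial σ k)) (c : k)
    (y : MvPolynomial σ k) :
    c • Ideal.Quotient.mk I y = Ideal.Quotient.mk I (C c) * Ideal.Quotient.mk I y := by
  rw [← map_mul, ← smul_eq_C_mul]; rfl

theorem monomial_five {k : Type*} [CommSemiring k] (d : Fin 5 →₀ ℕ) :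
    (monomial d (1:k)) = X 0 ^ d 0 * X 1 ^ d 1 * X 2 ^ d 2 * X 3 ^ d 3 * X 4 ^ d 4 := by
  rw [monomial_eq, C_1, one_mul, Finsupp.prod_fintype _ _ (fun i => pow_zero _),
    Fin.prod_univ_five]

theorem mk_monomial_five {k : Type*} [CommRing k] (I : Ideal (MvPolynomial (Fin 5) k))
    (d : Fin 5 →₀ ℕ) :
    Ideal.Quotient.mk I (monomial d (1:k)) =
      Ideal.Quotient.mk I (X 0) ^ d 0 * Ideal.Quotient.mk I (X 1) ^ d 1 *
        Ideal.Quotient.mk I (X 2) ^ d 2 * Ideal.Quotient.mk I (X 3) ^ d 3 *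
        Ideal.Quotient.mk I (X 4) ^ d 4 := by
  rw [monomial_five]; simp only [map_mul, map_pow]

theorem weight5_fst (p q m : ℕ) (d : Fin 5 →₀ ℕ) :
    (Finsupp.weight (wt5 p q m) d).1 =
      (d 0 : ℤ) - p * d 1 - p * d 2 + q * d 3 + q * d 4 := by
  have hw0 : wt5 p q m 0 = ((1 : ℤ), (0 : ZMod m)) := rfl
  have hw1 : wt5 p q m 1 = (-(p : ℤ), (-1 : ZMod m)) := rfl
  have hw2 : wt5 p q m 2 = (-(p : ℤ), (-1 : ZMod m)) := rfl
  have hw3 : wt5 p q m 3 = ((q : ℤ), (1 : ZMod m)) := rfl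
  have hw4 : wt5 p q m 4 = ((q : ℤ), (1 : ZMod m)) := rfl
  rw [Finsupp.weight_eq_sum, Fin.sum_univ_five]
  simp only [hw0, hw1, hw2, hw3, hw4, Prod.fst_add, nsmul_eq_mul, Prod.fst_mul,
    Prod.fst_natCast, mul_one, mul_neg]
  ring

theorem weight5_snd (p q m : ℕ) (d : Fin 5 →₀ ℕ) :
    (Finsupp.weight (wt5 p q m) d).2 =
      (((d 3 : ℤ) + d 4 - d 1 - d 2 : ℤ) : ZMod m) := by
  have hw0 : wt5 p q m 0 = ((1 : ℤ), (0 : ZMod m)) := rfl
  have hw1 : wt5 p q m 1 = (-(p : ℤ), (-1 : ZMod m)) := rfl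
  have hw2 : wt5 p q m 2 = (-(p : ℤ), (-1 : ZMod m)) := rfl
  have hw3 : wt5 p q m 3 = ((q : ℤ), (1 : ZMod m)) := rfl
  have hw4 : wt5 p q m 4 = ((q : ℤ), (1 : ZMod m)) := rfl
  rw [Finsupp.weight_eq_sum, Fin.sum_univ_five]
  simp only [hw0, hw1, hw2, hw3, hw4, Prod.snd_add, nsmul_eq_mul, Prod.snd_mul,
    Prod.snd_natCast, mul_one, mul_neg, mul_zero]
  push_cast
  ring

theorem nt_I (m : ℕ) (hm : 0 < m) (e e' : ℤ) (hle : e ≤ e') (hdvd : (m:ℤ) ∣ e' - e) :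
    ∃ j : ℕ, e' - e = j * m := by
  obtain ⟨t, ht⟩ := hdvd
  have h0 : 0 ≤ t := by
    by_contra h; push_neg at h
    have : (m:ℤ) * t < 0 := mul_neg_of_pos_of_neg (by exact_mod_cast hm) h
    linarith
  exact ⟨t.toNat, by rw [Int.toNat_of_nonneg h0, ht]; ring⟩

theorem nt_core (p q g a b : ℕ) (hp : 0 < p) (hq : q = p + g * b) (hcop : Nat.Coprime p q)
    (hg : 0 < g) (ha : 0 < a) (hab : Nat.Coprime a b)
    (d0 d0' d1 d1' d3 d3' : ℕ) (h0 : d0 < g) (h0' : d0' < g) (hle : d1' ≤ d1)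
    (h1 : (d0:ℤ) - p * d1 + q * d3 = d0' - p * d1' + q * d3')
    (h2 : ((g * a : ℕ) : ℤ) ∣ ((d3:ℤ) - d1) - (d3' - d1')) :
    d0 = d0' ∧ ∃ r : ℕ, d1 = d1' + r * (a * q) ∧ d3 = d3' + r * (a * p) := by
  obtain ⟨t, ht⟩ := h2
  push_cast at ht
  have e3 : (d3:ℤ) - d3' = (d1:ℤ) - d1' + g * a * t := by linarith
  have e0 : (d0:ℤ) - d0' = p * ((d1:ℤ) - d1') - q * ((d3:ℤ) - d3') := by linarith
  have hqz : (q:ℤ) = p + g * b := by exact_mod_cast hq
  have hd : (g:ℤ) ∣ (d0:ℤ) - d0' := by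
    refine ⟨-(b * ((d1:ℤ) - d1')) - q * a * t, ?_⟩
    rw [e0, e3, hqz]; ring
  have h00 : (d0:ℤ) - d0' = 0 := by
    apply Int.eq_zero_of_abs_lt_dvd hd
    rw [abs_lt]; constructor <;> omega
  have hd0 : d0 = d0' := by omega
  have hpu : (p:ℤ) * ((d1:ℤ) - d1') = q * ((d3:ℤ) - d3') := by linarith
  have hcz : IsCoprime (q:ℤ) (p:ℤ) := (Nat.isCoprime_iff_coprime.mpr hcop).symm
  have hqu : (q:ℤ) ∣ (d1:ℤ) - d1' := hcz.dvd_of_dvd_mul_left ⟨_, hpu⟩
  obtain ⟨r, hr⟩ := hqu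
  have hqpos : (0:ℤ) < q := by
    have : 0 < q := by omega
    exact_mod_cast this
  have hv : (d3:ℤ) - d3' = p * r := by
    have : (q:ℤ) * ((d3:ℤ) - d3') = q * (p * r) := by rw [← hpu, hr]; ring
    exact mul_left_cancel₀ hqpos.ne' this
  have hu0 : (0:ℤ) ≤ (d1:ℤ) - d1' := by
    have : (d1':ℤ) ≤ d1 := by exact_mod_cast hle
    linarith
  have hr0 : 0 ≤ r := by
    by_contra hneg; push_neg at hneg
    have : (q:ℤ) * r < 0 := mul_neg_of_pos_of_neg hqpos hneg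
    linarith
  have hgz : (g:ℤ) ≠ 0 := by
    have : (0:ℤ) < g := by exact_mod_cast hg
    exact this.ne'
  have hbr : (b:ℤ) * r = -(a * t) := by
    have h3 : (g:ℤ) * (b * r) = g * (-(a * t)) := by
      have h4 := e3
      rw [hv, hr, hqz] at h4
      linear_combination (-1 : ℤ) * h4
    exact mul_left_cancel₀ hgz h3
  have hcab : IsCoprime (a:ℤ) (b:ℤ) := Nat.isCoprime_iff_coprime.mpr hab
  have har : (a:ℤ) ∣ r := hcab.dvd_of_dvd_mul_left ⟨-t, by rw [hbr]; ring⟩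
  obtain ⟨r', hr'⟩ := har
  have hr'0 : 0 ≤ r' := by
    by_contra hneg; push_neg at hneg
    have : (a:ℤ) * r' < 0 := mul_neg_of_pos_of_neg (by exact_mod_cast ha) hneg
    linarith
  have hcast : ((r'.toNat : ℕ) : ℤ) = r' := Int.toNat_of_nonneg hr'0
  refine ⟨hd0, r'.toNat, ?_, ?_⟩
  · zify; rw [hcast]; rw [hr'] at hr; linear_combination hr
  · zify; rw [hcast]; rw [hr'] at hv; linear_combination hv

theorem nt_J (p q m : ℕ) (hp : 0 < p) (hpq : p < q) (hcop : Nat.Coprime p q) (hm : 0 < m)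
    (d0 d0' d1 d1' d3 d3' : ℕ) (h0 : d0 < Nat.gcd m (q - p)) (h0' : d0' < Nat.gcd m (q - p))
    (hle : d1' ≤ d1)
    (h1 : (d0:ℤ) - p * d1 + q * d3 = d0' - p * d1' + q * d3')
    (h2 : (m:ℤ) ∣ ((d3:ℤ) - d1) - (d3' - d1')) :
    d0 = d0' ∧ ∃ r : ℕ, d1 = d1' + r * (m / Nat.gcd m (q - p) * q) ∧
      d3 = d3' + r * (m / Nat.gcd m (q - p) * p) := by
  have hgpos : 0 < Nat.gcd m (q - p) := Nat.gcd_pos_of_pos_left _ hm
  have hma : Nat.gcd m (q - p) * (m / Nat.gcd m (q - p)) = m :=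
    Nat.mul_div_cancel' (Nat.gcd_dvd_left _ _)
  have hqb : Nat.gcd m (q - p) * ((q - p) / Nat.gcd m (q - p)) = q - p :=
    Nat.mul_div_cancel' (Nat.gcd_dvd_right _ _)
  refine nt_core p q (Nat.gcd m (q - p)) (m / Nat.gcd m (q - p)) ((q - p) / Nat.gcd m (q - p))
    hp (by omega) hcop hgpos ?_ (Nat.coprime_div_gcd_div_gcd hgpos) d0 d0' d1 d1' d3 d3' h0 h0'
    hle h1 (by rw [hma]; exact h2)
  exact Nat.div_pos (Nat.le_of_dvd hm (Nat.gcd_dvd_left _ _)) hgpos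

theorem aux14 {A : Type*} [CommRing A] (x0 x1 x4 : A) (p q : ℕ)
    (h14 : x0 ^ (q - p) = x1 * x4) (a' b c t : ℕ) :
    x0 ^ (a' + (q - p) * t) * x1 ^ b * x4 ^ c = x0 ^ a' * x1 ^ (b + t) * x4 ^ (c + t) := by
  rw [pow_add, pow_mul, h14, mul_pow, pow_add, pow_add]; ring

theorem claim2 {A : Type*} [CommRing A] (x0 x1 x4 : A) (p q : ℕ) (hpq : p < q)
    (h14 : x0 ^ (q - p) = x1 * x4) (a b c a' b' c' : ℕ)
    (he : (c:ℤ) - b = c' - b')
    (hw : (a:ℤ) - p * b + q * c = a' - p * b' + q * c') :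
    x0 ^ a * x1 ^ b * x4 ^ c = x0 ^ a' * x1 ^ b' * x4 ^ c' := by
  have hqp : ((q - p : ℕ):ℤ) = q - p := Nat.cast_sub hpq.le
  rcases le_total b b' with h | h
  · obtain ⟨t, rfl⟩ := Nat.exists_eq_add_of_le h
    have hc : c' = c + t := by push_cast at he; omega
    subst hc
    have ha : a = a' + (q - p) * t := by
      zify; rw [hqp]; push_cast at hw; linear_combination hw
    subst ha
    exact aux14 x0 x1 x4 p q h14 a' b c t
  · obtain ⟨t, rfl⟩ := Nat.exists_eq_add_of_le h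
    have hc : c = c' + t := by push_cast at he; omega
    subst hc
    have ha : a' = a + (q - p) * t := by
      zify; rw [hqp]; push_cast at hw; linear_combination (-1 : ℤ) * hw
    subst ha
    exact (aux14 x0 x1 x4 p q h14 a b' c' t).symm

end Groth.Agent.Helper7.WP
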