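import Mathlib
import Groth.Agent.Lib.Helper7.WP

set_option autoImplicit false

namespace Groth.Agent.Helper7.WP

open MvPolynomial W4c2invhilbsl2

theorem rankJ (k : Type*) [Field k] (p q m : ℕ) (hp : 0 < p) (hpq : p < q)
    (hcop : Nat.Coprime p q) (hm : 0 < m) (s : k) (ν : ℤ × ZMod m) :
    Module.rank k (piece k (wt5 p q m) (idealJ k p q m s) ν) ≤ 1 := by
  classical
  set I := idealJ k p q m s with hI
  have r0 : (Ideal.Quotient.mk I (X 0)) ^ (Nat.gcd m (q - p)) = 0 := by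
    rw [← map_pow]
    exact Ideal.Quotient.eq_zero_iff_mem.mpr (Ideal.subset_span (Set.mem_insert _ _))
  have r2 : Ideal.Quotient.mk I (X 2) = 0 :=
    Ideal.Quotient.eq_zero_iff_mem.mpr
      (Ideal.subset_span (Set.mem_insert_of_mem _ (Set.mem_insert _ _)))
  have r4 : Ideal.Quotient.mk I (X 4) = 0 :=
    Ideal.Quotient.eq_zero_iff_mem.mpr
      (Ideal.subset_span (Set.mem_insert_of_mem _ (Set.mem_insert_of_mem _ (Set.mem_insert _ _))))
  have rs : Ideal.Quotient.mk I (X 1) ^ (m / Nat.gcd m (q - p) * q) *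
      Ideal.Quotient.mk I (X 3) ^ (m / Nat.gcd m (q - p) * p) = Ideal.Quotient.mk I (C s) := by
    have : Ideal.Quotient.mk I (C s - X 1 ^ (m / Nat.gcd m (q - p) * q) *
        X 3 ^ (m / Nat.gcd m (q - p) * p)) = 0 :=
      Ideal.Quotient.eq_zero_iff_mem.mpr (Ideal.subset_span
        (Set.mem_insert_of_mem _ (Set.mem_insert_of_mem _ (Set.mem_insert_of_mem _
          (Set.mem_singleton _)))))
    rw [map_sub, map_mul, map_pow, map_pow, sub_eq_zero] at this
    exact this.symm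
  by_cases hex : ∃ n : ℕ, ∃ d : Fin 5 →₀ ℕ, Finsupp.weight (wt5 p q m) d = ν ∧ d 2 = 0 ∧
      d 4 = 0 ∧ d 0 < Nat.gcd m (q - p) ∧ d 1 = n
  · obtain ⟨d', hw', h2', h4', h0', h1'⟩ := Nat.find_spec hex
    have hmin : ∀ d : Fin 5 →₀ ℕ, Finsupp.weight (wt5 p q m) d = ν → d 2 = 0 → d 4 = 0 →
        d 0 < Nat.gcd m (q - p) → d' 1 ≤ d 1 := by
      intro d a1 a2 a3 a4
      rw [h1']; exact Nat.find_min' hex ⟨d, a1, a2, a3, a4, rfl⟩
    apply rank_piece_le_one _ _ _ (Ideal.Quotient.mk I (monomial d' 1))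
    intro d hw
    by_cases h2 : d 2 = 0; swap
    · exact ⟨0, by rw [zero_smul, mk_monomial_five, r2, zero_pow h2]; simp⟩
    by_cases h4 : d 4 = 0; swap
    · exact ⟨0, by rw [zero_smul, mk_monomial_five, r4, zero_pow h4]; simp⟩
    by_cases h0 : d 0 < Nat.gcd m (q - p); swap
    · refine ⟨0, ?_⟩
      push_neg at h0
      rw [zero_smul, mk_monomial_five, ← Nat.sub_add_cancel h0, pow_add, r0]; simp
    have hf1 := weight5_fst p q m d
    have hf2 := weight5_fst p q m d'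
    rw [hw, h2, h4] at hf1; rw [hw', h2', h4'] at hf2
    have e1 := weight5_snd p q m d
    have e2 := weight5_snd p q m d'
    rw [hw, h2, h4] at e1; rw [hw', h2', h4'] at e2
    have hdv : (m:ℤ) ∣ ((d 3:ℤ) - d 1) - ((d' 3 : ℤ) - d' 1) := by
      have := e2.symm.trans e1
      rw [ZMod.intCast_eq_intCast_iff_dvd_sub] at this
      convert this using 1; push_cast; ring
    obtain ⟨e0, r, hr1, hr3⟩ := nt_J p q m hp hpq hcop hm (d 0) (d' 0) (d 1) (d' 1) (d 3) (d' 3)
      h0 h0' (hmin d hw h2 h4 h0) (by push_cast at hf1 hf2; linarith) hdv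
    refine ⟨s ^ r, ?_⟩
    rw [smul_mk, mk_monomial_five, mk_monomial_five, h2, h4, h2', h4', e0, hr1, hr3, C_pow,
      map_pow, ← rs]
    ring
  · apply rank_piece_le_one _ _ _ 0
    intro d hw
    refine ⟨0, ?_⟩
    rw [zero_smul]
    by_cases h2 : d 2 = 0; swap
    · rw [mk_monomial_five, r2, zero_pow h2]; simp
    by_cases h4 : d 4 = 0; swap
    · rw [mk_monomial_five, r4, zero_pow h4]; simp
    by_cases h0 : d 0 < Nat.gcd m (q - p); swap
    · push_neg at h0
      rw [mk_monomial_five, ← Nat.sub_add_cancel h0, pow_add, r0]; simp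
    exact absurd ⟨_, d, hw, h2, h4, h0, rfl⟩ hex

theorem rankI (k : Type*) [Field k] (p q m : ℕ) (hp : 0 < p) (hpq : p < q)
    (hm : 0 < m) (s : k) (ν : ℤ × ZMod m) :
    Module.rank k (piece k (wt5 p q m) (idealI k p q m s) ν) ≤ 1 := by
  classical
  set I := idealI k p q m s with hI
  have r14 : (Ideal.Quotient.mk I (X 0)) ^ (q - p) =
      Ideal.Quotient.mk I (X 1) * Ideal.Quotient.mk I (X 4) := by
    have : Ideal.Quotient.mk I (X 0 ^ (q - p) - X 1 * X 4) = 0 :=
      Ideal.Quotient.eq_zero_iff_mem.mpr (Ideal.subset_span (Set.mem_insert _ _))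
    rw [map_sub, map_mul, map_pow, sub_eq_zero] at this; exact this
  have r2 : Ideal.Quotient.mk I (X 2) = 0 :=
    Ideal.Quotient.eq_zero_iff_mem.mpr
      (Ideal.subset_span (Set.mem_insert_of_mem _ (Set.mem_insert _ _)))
  have r3 : Ideal.Quotient.mk I (X 3) = 0 :=
    Ideal.Quotient.eq_zero_iff_mem.mpr
      (Ideal.subset_span (Set.mem_insert_of_mem _ (Set.mem_insert_of_mem _ (Set.mem_insert _ _))))
  have rs : Ideal.Quotient.mk I (X 0) ^ (m * p) * Ideal.Quotient.mk I (X 1) ^ m =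
      Ideal.Quotient.mk I (C s) := by
    have : Ideal.Quotient.mk I (C s - X 0 ^ (m * p) * X 1 ^ m) = 0 :=
      Ideal.Quotient.eq_zero_iff_mem.mpr (Ideal.subset_span
        (Set.mem_insert_of_mem _ (Set.mem_insert_of_mem _ (Set.mem_insert_of_mem _
          (Set.mem_singleton _)))))
    rw [map_sub, map_mul, map_pow, map_pow, sub_eq_zero] at this
    exact this.symm
  by_cases hex : ∃ e : ℤ, ∃ d : Fin 5 →₀ ℕ, Finsupp.weight (wt5 p q m) d = ν ∧ d 2 = 0 ∧
      d 3 = 0 ∧ (d 4 : ℤ) - d 1 = e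
  · have hb : ∃ b : ℤ, ∀ z : ℤ, (∃ d : Fin 5 →₀ ℕ, Finsupp.weight (wt5 p q m) d = ν ∧ d 2 = 0 ∧
        d 3 = 0 ∧ (d 4 : ℤ) - d 1 = z) → z ≤ b := by
      refine ⟨|ν.1|, ?_⟩
      rintro z ⟨d, hw, h2, h3, rfl⟩
      have h1 := weight5_fst p q m d
      rw [hw, h2, h3] at h1
      push_cast at h1
      rcases le_or_gt ((d 4:ℤ) - d 1) 0 with h | h
      · exact h.trans (abs_nonneg _)
      · refine le_trans ?_ (le_abs_self _)
        have hq : (p:ℤ) < q := by exact_mod_cast hpq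
        have hp' : (0:ℤ) < p := by exact_mod_cast hp
        have t1 := mul_nonneg (sub_nonneg.mpr hq.le) (Nat.cast_nonneg (α := ℤ) (d 4))
        have t2 := mul_nonneg (by linarith : (0:ℤ) ≤ p - 1) h.le
        have t3 := Nat.cast_nonneg (α := ℤ) (d 0)
        linarith
    obtain ⟨e₀, ⟨d', hw', h2', h3', he'⟩, hmax⟩ := Int.exists_greatest_of_bdd hb hex
    apply rank_piece_le_one _ _ _ (Ideal.Quotient.mk I (monomial d' 1))
    intro d hw
    by_cases h2 : d 2 = 0; swap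
    · exact ⟨0, by rw [zero_smul, mk_monomial_five, r2, zero_pow h2]; simp⟩
    by_cases h3 : d 3 = 0; swap
    · exact ⟨0, by rw [zero_smul, mk_monomial_five, r3, zero_pow h3]; simp⟩
    have hle : (d 4 : ℤ) - d 1 ≤ (d' 4 : ℤ) - d' 1 := by
      rw [he']; exact hmax _ ⟨d, hw, h2, h3, rfl⟩
    have hf1 := weight5_fst p q m d
    have hf2 := weight5_fst p q m d'
    rw [hw, h2, h3] at hf1; rw [hw', h2', h3'] at hf2
    have e1 := weight5_snd p q m d
    have e2 := weight5_snd p q m d'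
    rw [hw, h2, h3] at e1; rw [hw', h2', h3'] at e2
    have hdv : (m:ℤ) ∣ ((d' 4 : ℤ) - d' 1) - ((d 4 : ℤ) - d 1) := by
      have := e1.symm.trans e2
      rw [ZMod.intCast_eq_intCast_iff_dvd_sub] at this
      convert this using 1; push_cast; ring
    obtain ⟨j, hj⟩ := nt_I m hm _ _ hle hdv
    refine ⟨s ^ j, ?_⟩
    have hcl := claim2 (Ideal.Quotient.mk I (X 0)) (Ideal.Quotient.mk I (X 1))
      (Ideal.Quotient.mk I (X 4)) p q hpq r14 (d 0) (d 1) (d 4) (d' 0 + j * (m * p))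
      (d' 1 + j * m) (d' 4) (by push_cast; linarith)
      (by push_cast at hf1 hf2 ⊢; linear_combination hf2 - hf1)
    rw [smul_mk, mk_monomial_five, mk_monomial_five, r2, r3, h2, h3, h2', h3']
    simp only [pow_zero, mul_one]
    rw [hcl, C_pow, map_pow, ← rs]
    ring
  · apply rank_piece_le_one _ _ _ 0
    intro d hw
    refine ⟨0, ?_⟩
    rw [zero_smul]
    by_cases h2 : d 2 = 0; swap
    · rw [mk_monomial_five, r2, zero_pow h2]; simp
    by_cases h3 : d 3 = 0; swap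
    · rw [mk_monomial_five, r3, zero_pow h3]; simp
    exact absurd ⟨_, d, hw, h2, h3, rfl⟩ hex

end Groth.Agent.Helper7.WP
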