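import Mathlib
import Groth.Agent.Lib.Helper7.HJ10
import Groth.Agent.H25.WtMono

set_option autoImplicit false

namespace Groth.Agent.Helper7.WP

open MvPolynomial W4c2invhilbsl2 Groth.Agent.Helper7.HJ8 Groth.Agent.H25

theorem weight3_fst (p q m : ℕ) (d : Fin 3 →₀ ℕ) :
    (Finsupp.weight (wt3 p q m) d).1 = (d 0 : ℤ) - p * d 1 + q * d 2 := by
  have hw0 : wt3 p q m 0 = ((1 : ℤ), (0 : ZMod m)) := rfl
  have hw1 : wt3 p q m 1 = (-(p : ℤ), (-1 : ZMod m)) := rfl
  have hw2 : wt3 p q m 2 = ((q : ℤ), (1 : ZMod m)) := rfl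
  rw [Finsupp.weight_eq_sum, Fin.sum_univ_three]
  simp only [hw0, hw1, hw2, Prod.fst_add, nsmul_eq_mul, Prod.fst_mul,
    Prod.fst_natCast, mul_one, mul_neg]
  ring

theorem weight3_snd (p q m : ℕ) (d : Fin 3 →₀ ℕ) :
    (Finsupp.weight (wt3 p q m) d).2 = (((d 2 : ℤ) - d 1 : ℤ) : ZMod m) := by
  have hw0 : wt3 p q m 0 = ((1 : ℤ), (0 : ZMod m)) := rfl
  have hw1 : wt3 p q m 1 = (-(p : ℤ), (-1 : ZMod m)) := rfl
  have hw2 : wt3 p q m 2 = ((q : ℤ), (1 : ZMod m)) := rfl
  rw [Finsupp.weight_eq_sum, Fin.sum_univ_three]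
  simp only [hw0, hw1, hw2, Prod.snd_add, nsmul_eq_mul, Prod.snd_mul,
    Prod.snd_natCast, mul_one, mul_neg, mul_zero]
  push_cast
  ring

theorem gen3 (k : Type*) [Field k] (p q m : ℕ) (hp : 0 < p) (hpq : p < q)
    (hcop : Nat.Coprime p q) (hm : 0 < m) (hnt : ¬ (q - p ∣ m)) (c : List ℤ)
    (hc : IsHJDigits p q m c) (i : ℕ) (hi : 1 ≤ i) (hir : i ≤ c.length)
    (f : MvPolynomial (Fin 3) k)
    (hf : f ∈ weightedHomogeneousSubmodule k (wt3 p q m) (nN p q m c i, (0 : ZMod m))) :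
    ∃ a b : MvPolynomial (Fin 3) k, a ∈ weightedHomogeneousSubmodule k (wt3 p q m) 0 ∧
      b ∈ weightedHomogeneousSubmodule k (wt3 p q m) 0 ∧
      f = a * X (0 : Fin 3) ^ (nN p q m c i).toNat +
        b * (X (1 : Fin 3) ^ (eE p q m c i).toNat * X (2 : Fin 3) ^ (lL p q m c i).toNat) := by
  classical
  have hn0 := nN_nonneg p q m hp hpq hcop hm hnt c hc i (by omega)
  have hl0 := lL_nonneg p q m hp hpq hcop hm hnt c hc i hi (by omega)
  have he0 := eE_nonneg p q m hp hpq hcop hm hnt c hc i hi (by omega)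
  have hNz : (((nN p q m c i).toNat : ℕ) : ℤ) = nN p q m c i := Int.toNat_of_nonneg hn0
  have hEz : (((eE p q m c i).toNat : ℕ) : ℤ) = eE p q m c i := Int.toNat_of_nonneg he0
  have hLz : (((lL p q m c i).toNat : ℕ) : ℤ) = lL p q m c i := Int.toNat_of_nonneg hl0
  generalize (nN p q m c i).toNat = N at hNz ⊢
  generalize (eE p q m c i).toNat = E at hEz ⊢
  generalize (lL p q m c i).toNat = L at hLz ⊢
  have u0 : (Finsupp.single (0 : Fin 3) N) 0 = N := by simp
  have u1 : (Finsupp.single (0 : Fin 3) N) 1 = 0 := by simp [Finsupp.single_apply]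
  have u2 : (Finsupp.single (0 : Fin 3) N) 2 = 0 := by simp [Finsupp.single_apply]
  have v0 : (Finsupp.single (1 : Fin 3) E + Finsupp.single (2 : Fin 3) L) 0 = 0 := by
    simp [Finsupp.single_apply]
  have v1 : (Finsupp.single (1 : Fin 3) E + Finsupp.single (2 : Fin 3) L) 1 = E := by
    simp [Finsupp.single_apply]
  have v2 : (Finsupp.single (1 : Fin 3) E + Finsupp.single (2 : Fin 3) L) 2 = L := by
    simp [Finsupp.single_apply]
  have hwe0 : Finsupp.weight (wt3 p q m) (Finsupp.single (0 : Fin 3) N) =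
      (nN p q m c i, (0 : ZMod m)) := by
    apply Prod.ext
    · rw [weight3_fst, u0, u1, u2, hNz]; simp
    · rw [weight3_snd, u1, u2]; simp
  have hwe12 : Finsupp.weight (wt3 p q m)
      (Finsupp.single (1 : Fin 3) E + Finsupp.single (2 : Fin 3) L) =
      (nN p q m c i, (0 : ZMod m)) := by
    apply Prod.ext
    · rw [weight3_fst, v0, v1, v2, hEz, hLz]; unfold nN; push_cast; ring
    · rw [weight3_snd, v1, v2, hEz, hLz, eE_eq]
      have : lL p q m c i - (lL p q m c i + (m:ℤ) * hjP c i) = (m:ℤ) * (-hjP c i) := by ring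
      rw [this]; push_cast; simp
  have hfS : f ∈ ((weightedHomogeneousSubmodule k (wt3 p q m) 0).map
        (LinearMap.mulRight k (X (0 : Fin 3) ^ N))) ⊔
      ((weightedHomogeneousSubmodule k (wt3 p q m) 0).map
        (LinearMap.mulRight k (X (1 : Fin 3) ^ E * X (2 : Fin 3) ^ L))) := by
    apply mem_of_forall_monomial
    intro d hd
    have hwd : Finsupp.weight (wt3 p q m) d = (nN p q m c i, (0 : ZMod m)) :=
      hf (mem_support_iff.mp hd)
    have h1 : (d 0 : ℤ) - p * d 1 + q * d 2 = nN p q m c i := by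
      rw [← weight3_fst, hwd]
    have h2 : (m:ℤ) ∣ (d 2 : ℤ) - d 1 := by
      rw [← ZMod.intCast_zmod_eq_zero_iff_dvd, ← weight3_snd, hwd]
    rcases mono_div p q m hp hpq hcop hm hnt c hc i hi hir (d 0) (d 1) (d 2) h1 h2 with
      h | ⟨h3, h4⟩
    · have hN : N ≤ d 0 := by rw [← hNz] at h; exact_mod_cast h
      exact Submodule.mem_sup_left (monomial_mem_map_mulRight _ d (Finsupp.single 0 N)
        (single_le' 0 N d hN) _ _ hwd hwe0 _ (X_pow_eq_monomial).symm)
    · have hE : E ≤ d 1 := by rw [← hEz] at h3; exact_mod_cast h3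
      have hL : L ≤ d 2 := by rw [← hLz] at h4; exact_mod_cast h4
      have hle : Finsupp.single (1 : Fin 3) E + Finsupp.single (2 : Fin 3) L ≤ d := by
        intro j
        fin_cases j
        · show (Finsupp.single (1 : Fin 3) E + Finsupp.single (2 : Fin 3) L) 0 ≤ d 0
          rw [v0]; exact Nat.zero_le _
        · show (Finsupp.single (1 : Fin 3) E + Finsupp.single (2 : Fin 3) L) 1 ≤ d 1
          rw [v1]; exact hE
        · show (Finsupp.single (1 : Fin 3) E + Finsupp.single (2 : Fin 3) L) 2 ≤ d 2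
          rw [v2]; exact hL
      exact Submodule.mem_sup_right (monomial_mem_map_mulRight _ d _ hle _ _ hwd hwe12 _
        (by rw [X_pow_eq_monomial, X_pow_eq_monomial, monomial_mul, mul_one]))
  obtain ⟨y1, hy1, y2, hy2, h12⟩ := Submodule.mem_sup.mp hfS
  obtain ⟨a, ha, rfl⟩ := Submodule.mem_map.mp hy1
  obtain ⟨b, hb, rfl⟩ := Submodule.mem_map.mp hy2
  exact ⟨a, b, ha, hb, by rw [← h12]; simp only [LinearMap.mulRight_apply]⟩

end Groth.Agent.Helper7.WP
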