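import Mathlib
import Groth.Agent.Lib.Helper7.WP3
import Groth.Agent.Lib.Helper7.WP

set_option autoImplicit false

namespace Groth.Agent.Helper7.WP

open MvPolynomial W4c2invhilbsl2 Groth.Agent.Helper7.HJ8 Groth.Agent.H25

theorem gen5 (k : Type*) [Field k] (p q m : ℕ) (hp : 0 < p) (hpq : p < q)
    (hcop : Nat.Coprime p q) (hm : 0 < m) (hnt : ¬ (q - p ∣ m)) (c : List ℤ)
    (hc : IsHJDigits p q m c) (i : ℕ) (hi : 1 ≤ i) (hir : i ≤ c.length)
    (f : MvPolynomial (Fin 5) k)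
    (hf : f ∈ weightedHomogeneousSubmodule k (wt5 p q m) (nN p q m c i, (0 : ZMod m))) :
    ∃ (a₀ : MvPolynomial (Fin 5) k) (a : ℕ → ℕ → MvPolynomial (Fin 5) k),
      a₀ ∈ weightedHomogeneousSubmodule k (wt5 p q m) 0 ∧
      (∀ e l : ℕ, a e l ∈ weightedHomogeneousSubmodule k (wt5 p q m) 0) ∧
      f - (a₀ * X (0 : Fin 5) ^ (nN p q m c i).toNat +
          ∑ e ∈ Finset.range ((eE p q m c i).toNat + 1),
            ∑ l ∈ Finset.range ((lL p q m c i).toNat + 1),
            a e l * (X (1 : Fin 5) ^ ((eE p q m c i).toNat - e) * X (2 : Fin 5) ^ e *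
              X (3 : Fin 5) ^ ((lL p q m c i).toNat - l) * X (4 : Fin 5) ^ l)) ∈
        Ideal.span {X (0 : Fin 5) ^ (q - p) - X 1 * X 4 + X 2 * X 3} := by
  classical
  have hn0 := nN_nonneg p q m hp hpq hcop hm hnt c hc i (by omega)
  have hl0 := lL_nonneg p q m hp hpq hcop hm hnt c hc i hi (by omega)
  have he0 := eE_nonneg p q m hp hpq hcop hm hnt c hc i hi (by omega)
  have hNz : (((nN p q m c i).toNat : ℕ) : ℤ) = nN p q m c i := Int.toNat_of_nonneg hn0
  have hEz : (((eE p q m c i).toNat : ℕ) : ℤ) = eE p q m c i := Int.toNat_of_nonneg he0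
  have hLz : (((lL p q m c i).toNat : ℕ) : ℤ) = lL p q m c i := Int.toNat_of_nonneg hl0
  generalize (nN p q m c i).toNat = N at hNz ⊢
  generalize (eE p q m c i).toNat = E at hEz ⊢
  generalize (lL p q m c i).toNat = L at hLz ⊢
  have hee : ∀ e l : ℕ, ∃ ee : Fin 5 →₀ ℕ, ee 0 = 0 ∧ ee 1 = E - e ∧ ee 2 = e ∧
      ee 3 = L - l ∧ ee 4 = l ∧
      monomial ee (1:k) = X 1 ^ (E - e) * X 2 ^ e * X 3 ^ (L - l) * X 4 ^ l := by
    intro e l
    refine ⟨Finsupp.single 1 (E - e) + Finsupp.single 2 e + Finsupp.single 3 (L - l) +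
      Finsupp.single 4 l, ?_, ?_, ?_, ?_, ?_, ?_⟩
    · simp [Finsupp.single_apply]
    · simp [Finsupp.single_apply]
    · simp [Finsupp.single_apply]
    · simp [Finsupp.single_apply]
    · simp [Finsupp.single_apply]
    · simp only [X_pow_eq_monomial, monomial_mul, mul_one]
  choose ee ee0 ee1 ee2 ee3 ee4 ee_mono using hee
  have u0 : (Finsupp.single (0 : Fin 5) N) 0 = N := by simp
  have u1 : (Finsupp.single (0 : Fin 5) N) 1 = 0 := by simp [Finsupp.single_apply]
  have u2 : (Finsupp.single (0 : Fin 5) N) 2 = 0 := by simp [Finsupp.single_apply]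
  have u3 : (Finsupp.single (0 : Fin 5) N) 3 = 0 := by simp [Finsupp.single_apply]
  have u4 : (Finsupp.single (0 : Fin 5) N) 4 = 0 := by simp [Finsupp.single_apply]
  have hwe0 : Finsupp.weight (wt5 p q m) (Finsupp.single (0 : Fin 5) N) =
      (nN p q m c i, (0 : ZMod m)) := by
    apply Prod.ext
    · rw [weight5_fst, u0, u1, u2, u3, u4, hNz]; simp
    · rw [weight5_snd, u1, u2, u3, u4]; simp
  have hwee : ∀ e l, e ≤ E → l ≤ L →
      Finsupp.weight (wt5 p q m) (ee e l) = (nN p q m c i, (0 : ZMod m)) := by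
    intro e l he hl
    apply Prod.ext
    · rw [weight5_fst, ee0, ee1, ee2, ee3, ee4]
      push_cast [Nat.cast_sub he, Nat.cast_sub hl]
      rw [hEz, hLz]; unfold nN; ring
    · rw [weight5_snd, ee1, ee2, ee3, ee4]
      have : ((L - l : ℕ) : ℤ) + (l:ℤ) - ((E - e : ℕ):ℤ) - (e:ℤ) = (m:ℤ) * (-hjP c i) := by
        rw [Nat.cast_sub he, Nat.cast_sub hl, hEz, hLz, eE_eq]; ring
      rw [this]; push_cast; simp
  have hwd : ∀ d ∈ f.support,
      Finsupp.weight (wt5 p q m) d = (nN p q m c i, (0 : ZMod m)) :=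
    fun d hd => hf (mem_support_iff.mp hd)
  have key : ∀ d ∈ f.support, ¬ N ≤ d 0 → E ≤ d 1 + d 2 ∧ L ≤ d 3 + d 4 := by
    intro d hd hN
    have hw := hwd d hd
    have h1 : (d 0 : ℤ) - p * d 1 - p * d 2 + q * d 3 + q * d 4 = nN p q m c i := by
      rw [← weight5_fst, hw]
    have h2 : (m:ℤ) ∣ (d 3 : ℤ) + d 4 - d 1 - d 2 := by
      rw [← ZMod.intCast_zmod_eq_zero_iff_dvd, ← weight5_snd, hw]
    rcases mono_div p q m hp hpq hcop hm hnt c hc i hi hir (d 0) (d 1 + d 2) (d 3 + d 4)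
      (by push_cast; linear_combination h1)
      (by convert h2 using 1; push_cast; ring) with h | ⟨h3, h4⟩
    · exact absurd (by rw [← hNz] at h; exact_mod_cast h) hN
    · rw [← hEz] at h3; rw [← hLz] at h4
      exact ⟨by exact_mod_cast h3, by exact_mod_cast h4⟩
  have hle : ∀ d ∈ f.support, ¬ N ≤ d 0 → ee (min (d 2) E) (min (d 4) L) ≤ d := by
    intro d hd hN
    obtain ⟨k1, k2⟩ := key d hd hN
    intro j
    fin_cases j
    · show ee _ _ 0 ≤ d 0
      rw [ee0]; exact Nat.zero_le _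
    · show ee _ _ 1 ≤ d 1
      rw [ee1]; omega
    · show ee _ _ 2 ≤ d 2
      rw [ee2]; omega
    · show ee _ _ 3 ≤ d 3
      rw [ee3]; omega
    · show ee _ _ 4 ≤ d 4
      rw [ee4]; omega
  let g : (Fin 5 →₀ ℕ) → ℕ × ℕ := fun d => (min (d 2) E, min (d 4) L)
  let T0 := f.support.filter (fun d => N ≤ d 0)
  let T1 := f.support.filter (fun d => ¬ N ≤ d 0)
  let A : ℕ × ℕ → MvPolynomial (Fin 5) k := fun y =>
    ∑ d ∈ T1.filter (fun d => g d = y), monomial (d - ee y.1 y.2) (coeff d f)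
  refine ⟨∑ d ∈ T0, monomial (d - Finsupp.single 0 N) (coeff d f), fun e l => A (e, l),
    ?_, ?_, ?_⟩
  · refine Submodule.sum_mem _ fun d hd => ?_
    obtain ⟨hd1, hd2⟩ := Finset.mem_filter.mp hd
    exact monomial_sub_mem_wh _ d _ (single_le' 0 N d hd2) _ _ (hwd d hd1) hwe0
  · intro e l
    refine Submodule.sum_mem _ fun d hd => ?_
    obtain ⟨hd1, hd2⟩ := Finset.mem_filter.mp hd
    obtain ⟨hd3, hd4⟩ := Finset.mem_filter.mp hd1
    have h1 : min (d 2) E = e := congrArg Prod.fst hd2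
    have h2 : min (d 4) L = l := congrArg Prod.snd hd2
    have hl := hle d hd3 hd4
    rw [h1, h2] at hl
    exact monomial_sub_mem_wh _ d _ hl _ _ (hwd d hd3) (hwee e l (by omega) (by omega))
  · have hsplit : f = ∑ d ∈ T0, monomial d (coeff d f) + ∑ d ∈ T1, monomial d (coeff d f) := by
      conv_lhs => rw [f.as_sum]
      exact (Finset.sum_filter_add_sum_filter_not _ _ _).symm
    have h0 : ∑ d ∈ T0, monomial d (coeff d f) =
        (∑ d ∈ T0, monomial (d - Finsupp.single 0 N) (coeff d f)) * X 0 ^ N := by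
      rw [Finset.sum_mul]
      refine Finset.sum_congr rfl fun d hd => ?_
      obtain ⟨hd1, hd2⟩ := Finset.mem_filter.mp hd
      rw [monomial_split d _ (single_le' 0 N d hd2), X_pow_eq_monomial]
    have hmaps : ∀ d ∈ T1, g d ∈ Finset.range (E+1) ×ˢ Finset.range (L+1) := by
      intro d _
      simp only [g, Finset.mem_product, Finset.mem_range]
      omega
    have hprod : ∑ y ∈ Finset.range (E+1) ×ˢ Finset.range (L+1),
        A (y.1, y.2) * (X 1 ^ (E - y.1) * X 2 ^ y.1 * X 3 ^ (L - y.2) * X 4 ^ y.2) =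
        ∑ e ∈ Finset.range (E+1), ∑ l ∈ Finset.range (L+1),
          A (e, l) * (X 1 ^ (E - e) * X 2 ^ e * X 3 ^ (L - l) * X 4 ^ l) :=
      Finset.sum_product' (Finset.range (E+1)) (Finset.range (L+1))
        (fun e l => A (e, l) * (X 1 ^ (E - e) * X 2 ^ e * X 3 ^ (L - l) * X 4 ^ l))
    have h1 : ∑ d ∈ T1, monomial d (coeff d f) =
        ∑ e ∈ Finset.range (E+1), ∑ l ∈ Finset.range (L+1),
          A (e, l) * (X 1 ^ (E - e) * X 2 ^ e * X 3 ^ (L - l) * X 4 ^ l) := by
      rw [← hprod, ← Finset.sum_fiberwise_of_maps_to hmaps]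
      refine Finset.sum_congr rfl fun y hy => ?_
      obtain ⟨e, l⟩ := y
      show _ = (∑ d ∈ T1.filter (fun d => g d = (e, l)),
        monomial (d - ee e l) (coeff d f)) * _
      rw [Finset.sum_mul]
      refine Finset.sum_congr rfl fun d hd => ?_
      obtain ⟨hd1, hd2⟩ := Finset.mem_filter.mp hd
      obtain ⟨hd3, hd4⟩ := Finset.mem_filter.mp hd1
      have h1 : min (d 2) E = e := congrArg Prod.fst hd2
      have h2 : min (d 4) L = l := congrArg Prod.snd hd2
      have hl := hle d hd3 hd4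
      rw [h1, h2] at hl
      rw [← ee_mono, ← monomial_split d _ hl]
    have hmain : f = (∑ d ∈ T0, monomial (d - Finsupp.single 0 N) (coeff d f)) * X 0 ^ N +
        ∑ e ∈ Finset.range (E+1), ∑ l ∈ Finset.range (L+1),
          A (e, l) * (X 1 ^ (E - e) * X 2 ^ e * X 3 ^ (L - l) * X 4 ^ l) := by
      rw [← h0, ← h1]; exact hsplit
    convert Ideal.zero_mem _ using 1
    rw [sub_eq_zero]
    exact hmain

end Groth.Agent.Helper7.WP
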