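import Mathlib
import Groth.Agent.Lib.Helper7.HJ11
import Groth.Agent.Lib.Helper7.WP3
import Groth.Agent.Lib.Helper7.WP

set_option autoImplicit false

namespace Groth.Agent.Helper7.WP

open MvPolynomial W4c2invhilbsl2 Groth.Agent.Helper7.HJ8 Groth.Agent.H25

theorem monomial_three {k : Type*} [CommSemiring k] (d : Fin 3 →₀ ℕ) :
    (monomial d (1:k)) = X 0 ^ d 0 * X 1 ^ d 1 * X 2 ^ d 2 := by
  rw [monomial_eq, C_1, one_mul, Finsupp.prod_fintype _ _ (fun i => pow_zero _),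
    Fin.prod_univ_three]

theorem mk_monomial_three {k : Type*} [CommRing k] (I : Ideal (MvPolynomial (Fin 3) k))
    (d : Fin 3 →₀ ℕ) :
    Ideal.Quotient.mk I (monomial d (1:k)) =
      Ideal.Quotient.mk I (X 0) ^ d 0 * Ideal.Quotient.mk I (X 1) ^ d 1 *
        Ideal.Quotient.mk I (X 2) ^ d 2 := by
  rw [monomial_three]; simp only [map_mul, map_pow]

theorem exists_fin3 (a b c : ℕ) : ∃ d : Fin 3 →₀ ℕ, d 0 = a ∧ d 1 = b ∧ d 2 = c :=
  ⟨Finsupp.single 0 a + Finsupp.single 1 b + Finsupp.single 2 c,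
    by simp [Finsupp.single_apply], by simp [Finsupp.single_apply],
    by simp [Finsupp.single_apply]⟩

def Good (p q m : ℕ) (N' E L : ℕ) (d : Fin 3 →₀ ℕ) : Prop :=
  d 0 < N' ∧ ¬ (E ≤ d 1 ∧ L ≤ d 2) ∧
    ∀ t : Fin 3 →₀ ℕ, t ≠ 0 → Finsupp.weight (wt3 p q m) t = 0 → ¬ t ≤ d

theorem good_uniq (p q m : ℕ) (hp : 0 < p) (hpq : p < q)
    (hcop : Nat.Coprime p q) (hm : 0 < m) (hnt : ¬ (q - p ∣ m)) (c : List ℤ)
    (hc : IsHJDigits p q m c) (i : ℕ) (hi1 : 1 ≤ i) (hi : i ≤ c.length)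
    (N' E L : ℕ) (hN'z : (N':ℤ) = nN p q m c (i - 1)) (hEz : (E:ℤ) = eE p q m c i)
    (hLz : (L:ℤ) = lL p q m c i) (ν : ℤ × ZMod m) (d d' : Fin 3 →₀ ℕ)
    (hw : Finsupp.weight (wt3 p q m) d = ν) (hw' : Finsupp.weight (wt3 p q m) d' = ν)
    (hG : Good p q m N' E L d) (hG' : Good p q m N' E L d') : d = d' := by
  have W1 : (d 0:ℤ) - p * d 1 + q * d 2 = d' 0 - p * d' 1 + q * d' 2 := by
    rw [← weight3_fst p q m d, ← weight3_fst p q m d', hw, hw']
  have W2 : (m:ℤ) ∣ ((d' 2:ℤ) - d' 1) - ((d 2:ℤ) - d 1) := by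
    rw [← ZMod.intCast_eq_intCast_iff_dvd_sub, ← weight3_snd p q m d, ← weight3_snd p q m d',
      hw, hw']
  obtain ⟨y, hy⟩ := W2
  have conv : ∀ d : Fin 3 →₀ ℕ, Good p q m N' E L d →
      ((d 0:ℤ) < nN p q m c (i - 1)) ∧ ¬ (eE p q m c i ≤ d 1 ∧ lL p q m c i ≤ d 2) ∧
      (∀ sa su sv : ℕ, ¬ (sa = 0 ∧ su = 0 ∧ sv = 0) → (sa:ℤ) - p * su + q * sv = 0 →
        (m:ℤ) ∣ (sv:ℤ) - su → sa ≤ d 0 → su ≤ d 1 → sv ≤ d 2 → False) := by
    rintro d ⟨g1, g2, g3⟩
    refine ⟨by rw [← hN'z]; exact_mod_cast g1, ?_, ?_⟩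
    · rw [← hEz, ← hLz]
      rintro ⟨h1, h2⟩
      exact g2 ⟨by exact_mod_cast h1, by exact_mod_cast h2⟩
    · intro sa su sv hne hws hmod h1 h2 h3
      obtain ⟨t, t0, t1, t2⟩ := exists_fin3 sa su sv
      refine g3 t ?_ ?_ ?_
      · intro h; apply hne; rw [← t0, ← t1, ← t2, h]; simp
      · apply Prod.ext
        · rw [weight3_fst, t0, t1, t2]; exact hws
        · rw [weight3_snd, t1, t2]; exact (ZMod.intCast_zmod_eq_zero_iff_dvd _ _).mpr hmod
      · intro j; fin_cases j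
        · show t 0 ≤ d 0
          rw [t0]; exact h1
        · show t 1 ≤ d 1
          rw [t1]; exact h2
        · show t 2 ≤ d 2
          rw [t2]; exact h3
  obtain ⟨a1, a2, a3⟩ := conv d hG
  obtain ⟨b1, b2, b3⟩ := conv d' hG'
  have fin : d 0 = d' 0 ∧ d 1 = d' 1 ∧ d 2 = d' 2 := by
    rcases le_total 0 y with h | h
    · exact uniq_aux p q m hp hpq hcop hm hnt c hc i hi1 hi (d 0) (d 1) (d 2) (d' 0) (d' 1)
        (d' 2) W1 y (by linarith) h a1 b1 a2 a3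
    · obtain ⟨e1, e2, e3⟩ := uniq_aux p q m hp hpq hcop hm hnt c hc i hi1 hi (d' 0) (d' 1)
        (d' 2) (d 0) (d 1) (d 2) W1.symm (-y) (by linarith) (by linarith) b1 a1 b2 b3
      exact ⟨e1.symm, e2.symm, e3.symm⟩
  obtain ⟨e0, e1, e2⟩ := fin
  ext j; fin_cases j
  · exact e0
  · exact e1
  · exact e2

theorem rankL (k : Type*) [Field k] (p q m : ℕ) (hp : 0 < p) (hpq : p < q)
    (hcop : Nat.Coprime p q) (hm : 0 < m) (hnt : ¬ (q - p ∣ m)) (c : List ℤ)
    (hc : IsHJDigits p q m c) (i : ℕ) (hi : 1 ≤ i) (hir : i ≤ c.length) (s : k)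
    (ν : ℤ × ZMod m) :
    Module.rank k (piece k (wt3 p q m) (idealL k p q m c i s) ν) ≤ 1 := by
  classical
  have hn0 := nN_nonneg p q m hp hpq hcop hm hnt c hc i (by omega)
  have hn0' := nN_nonneg p q m hp hpq hcop hm hnt c hc (i - 1) (by omega)
  have hl0 := lL_nonneg p q m hp hpq hcop hm hnt c hc i hi (by omega)
  have he0 := eE_nonneg p q m hp hpq hcop hm hnt c hc i hi (by omega)
  have hP := P_pos p q m hp hpq hcop hm hnt c hc i hi (by omega)
  have he1 : (1:ℤ) ≤ eE p q m c i := by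
    rw [eE_eq]
    have h1 : (m:ℤ) * 1 ≤ m * hjP c i := mul_le_mul_of_nonneg_left hP (by positivity)
    have h2 : (1:ℤ) ≤ m := by exact_mod_cast hm
    linarith
  obtain ⟨N', hN'⟩ : ∃ N' : ℕ, N' = (nN p q m c (i - 1)).toNat := ⟨_, rfl⟩
  obtain ⟨N, hN⟩ : ∃ N : ℕ, N = (nN p q m c i).toNat := ⟨_, rfl⟩
  obtain ⟨E, hE⟩ : ∃ E : ℕ, E = (eE p q m c i).toNat := ⟨_, rfl⟩
  obtain ⟨L, hL⟩ : ∃ L : ℕ, L = (lL p q m c i).toNat := ⟨_, rfl⟩
  have hN'z : (N':ℤ) = nN p q m c (i - 1) := by rw [hN']; exact Int.toNat_of_nonneg hn0'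
  have hNz : (N:ℤ) = nN p q m c i := by rw [hN]; exact Int.toNat_of_nonneg hn0
  have hEz : (E:ℤ) = eE p q m c i := by rw [hE]; exact Int.toNat_of_nonneg he0
  have hLz : (L:ℤ) = lL p q m c i := by rw [hL]; exact Int.toNat_of_nonneg hl0
  have hE1 : 1 ≤ E := by
    have : (1:ℤ) ≤ E := by rw [hEz]; exact he1
    exact_mod_cast this
  set I := idealL k p q m c i s with hI
  have r0 : Ideal.Quotient.mk I (X 0) ^ N' = 0 := by
    rw [hN', ← map_pow]
    exact Ideal.Quotient.eq_zero_iff_mem.mpr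
      (Ideal.mem_sup_left (Ideal.subset_span (Set.mem_insert _ _)))
  have rs : Ideal.Quotient.mk I (X 1) ^ E * Ideal.Quotient.mk I (X 2) ^ L =
      Ideal.Quotient.mk I (C s) * Ideal.Quotient.mk I (X 0) ^ N := by
    have : Ideal.Quotient.mk I (C s * X 0 ^ (nN p q m c i).toNat -
        X 1 ^ (eE p q m c i).toNat * X 2 ^ (lL p q m c i).toNat) = 0 :=
      Ideal.Quotient.eq_zero_iff_mem.mpr (Ideal.mem_sup_left
        (Ideal.subset_span (Set.mem_insert_of_mem _ (Set.mem_singleton _))))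
    rw [map_sub, map_mul, map_mul, map_pow, map_pow, map_pow, sub_eq_zero] at this
    rw [hN, hE, hL]
    exact this.symm
  have rK : ∀ t : Fin 3 →₀ ℕ, t ≠ 0 → Finsupp.weight (wt3 p q m) t = 0 →
      Ideal.Quotient.mk I (monomial t (1:k)) = 0 := by
    intro t ht hw
    exact Ideal.Quotient.eq_zero_iff_mem.mpr
      (Ideal.mem_sup_right (Ideal.subset_span ⟨t, ht, hw, rfl⟩))
  obtain ⟨v₀, hv₀⟩ : ∃ v₀ : MvPolynomial (Fin 3) k ⧸ I, ∀ d : Fin 3 →₀ ℕ,
      Finsupp.weight (wt3 p q m) d = ν → Good p q m N' E L d →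
      Ideal.Quotient.mk I (monomial d (1:k)) = v₀ := by
    by_cases hex : ∃ d' : Fin 3 →₀ ℕ, Finsupp.weight (wt3 p q m) d' = ν ∧ Good p q m N' E L d'
    · obtain ⟨d', hw', hG'⟩ := hex
      exact ⟨Ideal.Quotient.mk I (monomial d' 1), fun d hw hG => by
        rw [good_uniq p q m hp hpq hcop hm hnt c hc i hi hir N' E L hN'z hEz hLz ν d d' hw hw'
          hG hG']⟩
    · exact ⟨0, fun d hw hG => absurd ⟨d, hw, hG⟩ hex⟩
  apply rank_piece_le_one _ _ _ v₀
  have main : ∀ n : ℕ, ∀ d : Fin 3 →₀ ℕ, d 1 = n → Finsupp.weight (wt3 p q m) d = ν →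
      ∃ c' : k, Ideal.Quotient.mk I (monomial d (1:k)) = c' • v₀ := by
    intro n
    induction n using Nat.strong_induction_on with
    | _ n ih =>
      intro d hn hw
      by_cases h0 : d 0 < N'; swap
      · refine ⟨0, ?_⟩
        push_neg at h0
        rw [zero_smul, mk_monomial_three, ← Nat.sub_add_cancel h0, pow_add, r0]; simp
      by_cases hK : ∃ t : Fin 3 →₀ ℕ, t ≠ 0 ∧ Finsupp.weight (wt3 p q m) t = 0 ∧ t ≤ d
      · obtain ⟨t, ht, hwt, hle⟩ := hK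
        refine ⟨0, ?_⟩
        rw [zero_smul, monomial_split d t hle (1:k), map_mul, rK t ht hwt, mul_zero]
      by_cases hEL : E ≤ d 1 ∧ L ≤ d 2
      · obtain ⟨d'', h0'', h1'', h2''⟩ := exists_fin3 (d 0 + N) (d 1 - E) (d 2 - L)
        have hw'' : Finsupp.weight (wt3 p q m) d'' = ν := by
          rw [← hw]
          apply Prod.ext
          · rw [weight3_fst, weight3_fst, h0'', h1'', h2'']
            push_cast [Nat.cast_sub hEL.1, Nat.cast_sub hEL.2]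
            rw [hNz, hEz, hLz]; unfold nN; ring
          · rw [weight3_snd, weight3_snd, h1'', h2'']
            have : ((d 2 - L : ℕ) : ℤ) - ((d 1 - E : ℕ) : ℤ) =
                ((d 2 : ℤ) - d 1) + (m:ℤ) * hjP c i := by
              rw [Nat.cast_sub hEL.1, Nat.cast_sub hEL.2, hEz, hLz, eE_eq]; ring
            rw [this]; push_cast; simp
        have hstep : Ideal.Quotient.mk I (monomial d (1:k)) =
            s • Ideal.Quotient.mk I (monomial d'' (1:k)) := by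
          rw [smul_mk, mk_monomial_three, mk_monomial_three, h0'', h1'', h2'']
          have e1 : d 1 = (d 1 - E) + E := (Nat.sub_add_cancel hEL.1).symm
          have e2 : d 2 = (d 2 - L) + L := (Nat.sub_add_cancel hEL.2).symm
          conv_lhs => rw [e1, e2]
          rw [pow_add, pow_add, pow_add]
          linear_combination (Ideal.Quotient.mk I (X 0) ^ d 0 *
            Ideal.Quotient.mk I (X 1) ^ (d 1 - E) * Ideal.Quotient.mk I (X 2) ^ (d 2 - L)) * rs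
        obtain ⟨c', hc'⟩ := ih (d'' 1) (by rw [h1'', ← hn]; omega) d'' rfl hw''
        exact ⟨s * c', by rw [hstep, hc', smul_smul]⟩
      · exact ⟨1, by
          rw [one_smul]
          exact hv₀ d hw ⟨h0, hEL, fun t ht hwt hle => hK ⟨t, ht, hwt, hle⟩⟩⟩
  exact fun d hw => main (d 1) d rfl hw

end Groth.Agent.Helper7.WP
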