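import Mathlib
import Groth.Prelude.Def_FlatCA
import Groth.Agent.Lib.Helper7.AssFlat

/-!
# Weakly associated primes under finite flat ring maps (for S1232)
-/

open TensorProduct

namespace Groth.Agent.Helper7.WeakAssFF

universe u

theorem exists_mul_pow_mem {B : Type*} [CommRing B] {I t : Ideal B} (ht : t ∈ I.minimalPrimes)
    {g : B} (hg : g ∈ t) : ∃ y ∉ t, ∃ n : ℕ, y * g ^ n ∈ I := by
  haveI : t.IsPrime := ht.1.1
  by_contra hcon
  push_neg at hcon
  have hdisj : Disjoint (I : Set B) ((t.primeCompl ⊔ Submonoid.powers g : Submonoid B) : Set B) := by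
    rw [Set.disjoint_left]
    intro z hzI hzT
    obtain ⟨y, hy, w, ⟨n, rfl⟩, rfl⟩ := Submonoid.mem_sup.mp hzT
    exact hcon y hy n hzI
  obtain ⟨Q, hQp, hIQ, hQT⟩ := Ideal.exists_le_prime_disjoint I _ hdisj
  have hQt : Q ≤ t := by
    intro z hz
    by_contra hzt
    exact Set.disjoint_left.mp hQT hz (Submonoid.mem_sup_left hzt)
  have htQ : t ≤ Q := ht.2 ⟨hQp, hIQ⟩ hQt
  exact Set.disjoint_left.mp hQT (htQ hg) (Submonoid.mem_sup_right (Submonoid.mem_powers g))

theorem eq_of_le_of_comap_eq {A B : Type*} [CommRing A] [CommRing B] [Algebra A B]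
    [Algebra.IsIntegral A B] {t t' : Ideal B} [t.IsPrime] (hle : t ≤ t')
    (hco : t.comap (algebraMap A B) = t'.comap (algebraMap A B)) : t = t' := by
  by_contra hne
  have hlt : t < t' := lt_of_le_of_ne hle hne
  obtain ⟨x, hx', hx⟩ := SetLike.exists_of_lt hlt
  have h1 := Ideal.comap_lt_comap_of_integral_mem_sdiff hle ⟨hx', hx⟩
    (Algebra.IsIntegral.isIntegral (R := A) x)
  rw [hco] at h1
  exact lt_irrefl _ h1

theorem mem_minimalPrimes_ann {A : Type*} [CommRing A] {X : Type*} [AddCommGroup X] [Module A X]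
    (p : Ideal A) [hp : p.IsPrime] (x : X) (h1 : ∀ s : A, s ∉ p → s • x ≠ 0)
    (h2 : ∀ a ∈ p, ∃ s : A, s ∉ p ∧ ∃ n : ℕ, s • a ^ n • x = 0) :
    p ∈ (Submodule.span A {x}).annihilator.minimalPrimes := by
  refine ⟨⟨hp, ?_⟩, ?_⟩
  · intro r hr
    rw [Submodule.mem_annihilator_span_singleton] at hr
    by_contra hrp
    exact h1 r hrp hr
  · rintro q ⟨hq, hle⟩ hqp a ha
    obtain ⟨s, hs, n, hsn⟩ := h2 a ha
    have h3 : s * a ^ n ∈ (Submodule.span A {x}).annihilator := by
      rw [Submodule.mem_annihilator_span_singleton, mul_smul]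
      exact hsn
    rcases hq.mem_or_mem (hle h3) with h | h
    · exact absurd (hqp h) hs
    · exact hq.mem_of_pow_mem n h

section Coord

variable {A B : Type u} [CommRing A] [CommRing B] [Algebra A B] [Module.Finite A B]
  [Module.Flat A B]
variable (M : Type u) [AddCommGroup M] [Module A M] (p : Ideal A) [p.IsPrime]

theorem exists_elt_of_tensor (ξ' : B ⊗[A] M) (h1 : ∀ s : A, s ∉ p → s • ξ' ≠ 0)
    (h2 : ∀ a ∈ p, ∃ s : A, s ∉ p ∧ ∃ n : ℕ, s • a ^ n • ξ' = 0) :
    ∃ m : M, (∀ s : A, s ∉ p → s • m ≠ 0) ∧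
      (∀ a ∈ p, ∃ s : A, s ∉ p ∧ ∃ n : ℕ, s • a ^ n • m = 0) := by
  classical
  have hlocX : ∀ (X : Type u) [AddCommGroup X] [Module A X],
      IsLocalizedModule p.primeCompl (TensorProduct.mk A (Localization.AtPrime p) X 1) :=
    fun X _ _ => (isLocalizedModule_iff_isBaseChange p.primeCompl (Localization.AtPrime p) _).mpr
      (TensorProduct.isBaseChange A X (Localization.AtPrime p))
  haveI h1loc := hlocX (B ⊗[A] M)
  haveI h2loc := hlocX M
  have hunit : ∀ s : A, s ∉ p → ∀ {Y : Type u} [AddCommGroup Y]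
      [Module (Localization.AtPrime p) Y] [Module A Y]
      [IsScalarTower A (Localization.AtPrime p) Y] (y : Y), s • y = 0 → y = 0 := by
    intro s hs Y _ _ _ _ y hy
    have hu : IsUnit (algebraMap A (Localization.AtPrime p) s) :=
      IsLocalization.map_units (Localization.AtPrime p) (⟨s, hs⟩ : p.primeCompl)
    rw [← algebraMap_smul (Localization.AtPrime p) s y] at hy
    exact hu.smul_eq_zero.mp hy
  haveI : Module.Free (Localization.AtPrime p) (Localization.AtPrime p ⊗[A] B) :=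
    Module.free_of_flat_of_isLocalRing
  let E := TensorProduct.AlgebraTensorModule.distribBaseChange A (Localization.AtPrime p) B M
  let bas := Module.Free.chooseBasis (Localization.AtPrime p) (Localization.AtPrime p ⊗[A] B)
  let C := (TensorProduct.congr bas.repr
      (LinearEquiv.refl (Localization.AtPrime p) (Localization.AtPrime p ⊗[A] M))) ≪≫ₗ
    TensorProduct.finsuppScalarLeft (Localization.AtPrime p) (Localization.AtPrime p ⊗[A] M) _
  have hg_smul : ∀ (a : A) (η : B ⊗[A] M),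
      C (E ((1 : Localization.AtPrime p) ⊗ₜ[A] (a • η))) =
        a • C (E ((1 : Localization.AtPrime p) ⊗ₜ[A] η)) := by
    intro a η
    rw [TensorProduct.tmul_smul,
      ← algebraMap_smul (Localization.AtPrime p) a ((1 : Localization.AtPrime p) ⊗ₜ[A] η),
      map_smul, map_smul, algebraMap_smul]
  have hg_zero : ∀ η : B ⊗[A] M, C (E ((1 : Localization.AtPrime p) ⊗ₜ[A] η)) = 0 →
      ∃ c : p.primeCompl, c • η = 0 := by
    intro η hη
    have h3 : E ((1 : Localization.AtPrime p) ⊗ₜ[A] η) = 0 :=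
      C.injective (by rw [hη, map_zero])
    have h4 : (1 : Localization.AtPrime p) ⊗ₜ[A] η = 0 := E.injective (by rw [h3, map_zero])
    exact (IsLocalizedModule.eq_zero_iff p.primeCompl
      (TensorProduct.mk A (Localization.AtPrime p) (B ⊗[A] M) 1)).mp h4
  obtain ⟨ζ, hζ⟩ : ∃ ζ, ζ = C (E ((1 : Localization.AtPrime p) ⊗ₜ[A] ξ')) := ⟨_, rfl⟩
  have hζ0 : ζ ≠ 0 := by
    intro h0
    obtain ⟨c, hc⟩ := hg_zero ξ' (by rw [← hζ]; exact h0)
    rw [Submonoid.smul_def] at hc
    exact h1 c.1 c.2 hc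
  obtain ⟨j, hj⟩ := DFunLike.ne_iff.mp hζ0
  rw [Finsupp.zero_apply] at hj
  obtain ⟨⟨m, s₀⟩, hm⟩ := IsLocalizedModule.surj p.primeCompl
    (TensorProduct.mk A (Localization.AtPrime p) M 1) (ζ j)
  have hm' : (s₀ : A) • ζ j = (1 : Localization.AtPrime p) ⊗ₜ[A] m := by
    simpa [Submonoid.smul_def] using hm
  refine ⟨m, ?_, ?_⟩
  · intro s hs hsm
    apply hj
    apply hunit s₀.1 s₀.2
    rw [hm']
    apply hunit s hs
    rw [← TensorProduct.tmul_smul, hsm, TensorProduct.tmul_zero]
  · intro a ha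
    obtain ⟨s, hs, n, hsn⟩ := h2 a ha
    have h5 : s • a ^ n • ζ = 0 := by
      rw [hζ, ← hg_smul, ← hg_smul, hsn, TensorProduct.tmul_zero, map_zero, map_zero]
    have h6 : a ^ n • ζ j = 0 := by
      have h8 := congrArg (fun z => z j) h5
      simp only [Finsupp.smul_apply, Finsupp.zero_apply] at h8
      exact hunit s hs _ h8
    have h7 : (1 : Localization.AtPrime p) ⊗ₜ[A] (a ^ n • m) = 0 := by
      rw [TensorProduct.tmul_smul, ← hm', smul_comm, h6, smul_zero]
    obtain ⟨c, hc⟩ := (IsLocalizedModule.eq_zero_iff p.primeCompl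
      (TensorProduct.mk A (Localization.AtPrime p) M 1)).mp h7
    rw [Submonoid.smul_def] at hc
    exact ⟨c.1, c.2, n, hc⟩

end Coord

section Main

variable {A B : Type u} [CommRing A] [CommRing B] [Algebra A B] [Module.Finite A B]
  [Module.Flat A B]
variable (M : Type u) [AddCommGroup M] [Module A M] (p : Ideal A) [hp : p.IsPrime]
  (t : Ideal B) [ht' : t.IsPrime] [t.LiesOver p]

include hp ht' in
theorem mp (h : t ∈ FlatCA.weakAss B (B ⊗[A] M)) : p ∈ FlatCA.weakAss A M := by
  classical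
  obtain ⟨ξ, hξ⟩ := h
  have hco : t.comap (algebraMap A B) = p := (Ideal.over_def t p).symm
  have hIt : (Submodule.span B {ξ}).annihilator ≤ t := hξ.1.2
  have hmemI : ∀ b : B, b ∈ (Submodule.span B {ξ}).annihilator ↔ b • ξ = 0 :=
    fun b => Submodule.mem_annihilator_span_singleton ξ b
  have hfin : (p.primesOver B).Finite := Algebra.QuasiFinite.finite_primesOver p
  obtain ⟨x, hxt, hx⟩ : ∃ x ∈ t, ∀ Q : Ideal B, Q.IsPrime →
      Q.comap (algebraMap A B) = p → Q ≠ t → x ∉ Q := by
    by_contra hcon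
    push_neg at hcon
    have hsub : ((t : Ideal B) : Set B) ⊆
        ⋃ i ∈ ((hfin.toFinset.erase t : Finset (Ideal B)) : Set (Ideal B)),
          ((fun i : Ideal B => i) i : Set B) := by
      intro x hx
      obtain ⟨Q, hQp, hQco, hQne, hxQ⟩ := hcon x hx
      refine Set.mem_iUnion₂.mpr ⟨Q, ?_, hxQ⟩
      rw [Finset.mem_coe, Finset.mem_erase, Set.Finite.mem_toFinset]
      exact ⟨hQne, hQp, ⟨hQco.symm⟩⟩
    obtain ⟨Q, hQF, htQ⟩ := (Ideal.subset_union_prime (f := fun i : Ideal B => i) t t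
      (fun i hi _ _ => by
        rw [Finset.mem_erase, Set.Finite.mem_toFinset] at hi
        exact hi.2.1)).mp hsub
    rw [Finset.mem_erase, Set.Finite.mem_toFinset] at hQF
    obtain ⟨hQne, hQp, hQlo⟩ := hQF
    haveI := hQlo
    have hQco : Q.comap (algebraMap A B) = p := (Ideal.over_def Q p).symm
    exact hQne (eq_of_le_of_comap_eq (A := A) htQ (hco.trans hQco.symm)).symm
  obtain ⟨y, hyt, n, hyn⟩ := exists_mul_pow_mem hξ hxt
  rw [hmemI] at hyn
  have F1 : x ^ n • y • ξ = 0 := by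
    rw [smul_smul, mul_comm]; exact hyn
  have F2 : ∀ b : B, b • y • ξ = 0 → b ∈ t := by
    intro b hb
    rw [smul_smul] at hb
    have h3 : b * y ∈ t := hIt ((hmemI _).mpr hb)
    exact (ht'.mem_or_mem h3).resolve_right hyt
  have h1 : ∀ s : A, s ∉ p → s • (y • ξ) ≠ 0 := by
    intro s hs h0
    apply hs
    rw [← hco, Ideal.mem_comap]
    apply F2
    rw [algebraMap_smul]
    exact h0
  have h2 : ∀ a ∈ p, ∃ s : A, s ∉ p ∧ ∃ k : ℕ, s • a ^ k • (y • ξ) = 0 := by
    intro a ha
    have hat : algebraMap A B a ∈ t := by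
      rw [← Ideal.mem_comap, hco]; exact ha
    obtain ⟨ya, hya, k, hk⟩ := exists_mul_pow_mem hξ hat
    rw [hmemI] at hk
    have hya_mem : ya ∈ (Submodule.span B {(algebraMap A B a) ^ k • y • ξ}).annihilator := by
      have e1 : ya • ((algebraMap A B a) ^ k • y • ξ) =
          y • ((ya * (algebraMap A B a) ^ k) • ξ) := by
        simp only [smul_smul]; congr 1; ring
      rw [Submodule.mem_annihilator_span_singleton, e1, hk, smul_zero]
    have hxn_mem : x ^ n ∈ (Submodule.span B {(algebraMap A B a) ^ k • y • ξ}).annihilator := by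
      have e2 : x ^ n • ((algebraMap A B a) ^ k • y • ξ) =
          (algebraMap A B a) ^ k • (x ^ n • y • ξ) := by
        simp only [smul_smul]; congr 1; ring
      rw [Submodule.mem_annihilator_span_singleton, e2, F1, smul_zero]
    have hJ : ¬ ((Submodule.span B {(algebraMap A B a) ^ k • y • ξ}).annihilator.comap
        (algebraMap A B) ≤ p) := by
      intro hle
      obtain ⟨Q, hJQ, hQp, hQco⟩ := Ideal.exists_ideal_over_prime_of_isIntegral p _ hle
      by_cases hQt : Q = t
      · exact hya (hQt ▸ hJQ hya_mem)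
      · exact hx Q hQp hQco hQt (hQp.mem_of_pow_mem n (hJQ hxn_mem))
    obtain ⟨s, hsJ, hsp⟩ := SetLike.not_le_iff_exists.mp hJ
    rw [Ideal.mem_comap, Submodule.mem_annihilator_span_singleton, algebraMap_smul, ← map_pow,
      algebraMap_smul] at hsJ
    exact ⟨s, hsp, k, hsJ⟩
  obtain ⟨m, hm1, hm2⟩ := exists_elt_of_tensor M p (y • ξ) h1 h2
  exact ⟨m, mem_minimalPrimes_ann p m hm1 hm2⟩

include hp ht' in
theorem mpr (h : p ∈ FlatCA.weakAss A M) : t ∈ FlatCA.weakAss B (B ⊗[A] M) := by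
  obtain ⟨m, hm⟩ := h
  have hco : t.comap (algebraMap A B) = p := (Ideal.over_def t p).symm
  obtain ⟨J, hJ⟩ : ∃ J : Ideal A, J = (Submodule.span A {m}).annihilator := ⟨_, rfl⟩
  have hJmem : ∀ r : A, r ∈ J ↔ r • m = 0 := fun r => by
    rw [hJ]; exact Submodule.mem_annihilator_span_singleton m r
  have hJp : J ≤ p := by rw [hJ]; exact hm.1.2
  have hker : J ≤ LinearMap.ker (LinearMap.toSpanSingleton A M m) := by
    intro r hr
    rw [LinearMap.mem_ker, LinearMap.toSpanSingleton_apply]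
    exact (hJmem r).mp hr
  let f : A ⧸ J →ₗ[A] M := Submodule.liftQ J (LinearMap.toSpanSingleton A M m) hker
  have hf : Function.Injective f := by
    rw [← LinearMap.ker_eq_bot]
    apply Submodule.ker_liftQ_eq_bot
    intro r hr
    rw [LinearMap.mem_ker, LinearMap.toSpanSingleton_apply] at hr
    exact (hJmem r).mpr hr
  have hf1 : f 1 = m := by
    show f (Submodule.Quotient.mk 1) = m
    rw [Submodule.liftQ_apply, LinearMap.toSpanSingleton_apply, one_smul]
  obtain ⟨φ, hφi, -, hφf⟩ := AssFlat.exists_quot_inj' (S := B) (N := B) J f hf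
  have key : ∀ b : B, b • ((1 : B) ⊗ₜ[A] m) = 0 → b ∈ t := by
    intro b hb
    have h3 : φ (Submodule.Quotient.mk b) = 0 := by
      rw [hφf, hf1]
      rw [TensorProduct.smul_tmul', smul_eq_mul, mul_one] at hb
      exact hb
    have h4 : (Submodule.Quotient.mk b :
        B ⧸ (J.map (algebraMap A B) • (⊤ : Submodule B B))) = 0 :=
      hφi (by rw [h3, map_zero])
    rw [Submodule.Quotient.mk_eq_zero] at h4
    have h5 : J.map (algebraMap A B) • (⊤ : Submodule B B) ≤ t := by
      rw [Submodule.smul_le]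
      intro c hc d _
      have hct : c ∈ t :=
        (Ideal.map_le_iff_le_comap.mpr (by rw [hco]; exact hJp)) hc
      exact Ideal.mul_mem_right _ _ hct
    exact h5 h4
  refine ⟨(1 : B) ⊗ₜ[A] m, ⟨⟨ht', ?_⟩, ?_⟩⟩
  · intro b hb
    rw [Submodule.mem_annihilator_span_singleton] at hb
    exact key b hb
  · rintro Q ⟨hQp, hQle⟩ hQt
    have hJQ : J ≤ Q.comap (algebraMap A B) := by
      intro r hr
      rw [Ideal.mem_comap]
      apply hQle
      rw [Submodule.mem_annihilator_span_singleton, algebraMap_smul, ← TensorProduct.tmul_smul,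
        (hJmem r).mp hr, TensorProduct.tmul_zero]
    have hq'p : Q.comap (algebraMap A B) ≤ p := by
      rw [← hco]; exact Ideal.comap_mono hQt
    haveI := hQp
    have hpq' : p ≤ Q.comap (algebraMap A B) :=
      hm.2 ⟨inferInstance, by rw [← hJ]; exact hJQ⟩ hq'p
    have heq : Q.comap (algebraMap A B) = t.comap (algebraMap A B) := by
      rw [hco]; exact le_antisymm hq'p hpq'
    exact (eq_of_le_of_comap_eq (A := A) hQt heq).ge

end Main

end Groth.Agent.Helper7.WeakAssFF
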