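import Mathlib
import Groth.Prelude.Def_FlatCA
import Groth.Agent.Lib.Helper7.AssFlat
import Groth.Agent.Lib.Helper7.WeakAssFF

/-!
# Weakly associated primes under étale ring maps (for S1233)
-/

open TensorProduct

namespace Groth.Agent.Helper7.WeakAssEtale

universe u

theorem mem_weakAss_iff {R : Type*} [CommRing R] {X : Type*} [AddCommGroup X] [Module R X]
    (q : Ideal R) [hq : q.IsPrime] :
    q ∈ FlatCA.weakAss R X ↔ ∃ x : X, (∀ s : R, s ∉ q → s • x ≠ 0) ∧
      (∀ a ∈ q, ∃ s : R, s ∉ q ∧ ∃ n : ℕ, s • a ^ n • x = 0) := by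
  constructor
  · rintro ⟨x, hx⟩
    refine ⟨x, ?_, ?_⟩
    · intro s hs h0
      exact hs (hx.1.2 ((Submodule.mem_annihilator_span_singleton x s).mpr h0))
    · intro a ha
      obtain ⟨y, hy, n, hyn⟩ := WeakAssFF.exists_mul_pow_mem hx ha
      rw [Submodule.mem_annihilator_span_singleton, mul_smul] at hyn
      exact ⟨y, hy, n, hyn⟩
  · rintro ⟨x, h1, h2⟩
    exact ⟨x, WeakAssFF.mem_minimalPrimes_ann q x h1 h2⟩

theorem weakAss_localization {R R' : Type*} [CommRing R] [CommRing R'] [Algebra R R']
    (S : Submonoid R) [IsLocalization S R'] {X X' : Type*} [AddCommGroup X] [AddCommGroup X']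
    [Module R X] [Module R X'] [Module R' X'] [IsScalarTower R R' X'] (θ : X →ₗ[R] X')
    [IsLocalizedModule S θ] (q' : Ideal R') [hq' : q'.IsPrime] :
    q' ∈ FlatCA.weakAss R' X' ↔ q'.comap (algebraMap R R') ∈ FlatCA.weakAss R X := by
  haveI : (q'.comap (algebraMap R R')).IsPrime := Ideal.comap_isPrime (algebraMap R R') q'
  rw [mem_weakAss_iff, mem_weakAss_iff]
  have hS : ∀ s : S, algebraMap R R' (s : R) ∉ q' := fun s hs =>
    hq'.ne_top (q'.eq_top_of_isUnit_mem hs (IsLocalization.map_units R' s))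
  have hθ : ∀ (r : R) (x : X), algebraMap R R' r • θ x = θ (r • x) := fun r x => by
    rw [algebraMap_smul, map_smul]
  constructor
  · rintro ⟨ξ', h1, h2⟩
    obtain ⟨⟨x, s⟩, hxs⟩ := IsLocalizedModule.surj S θ ξ'
    have hxs' : algebraMap R R' (s : R) • ξ' = θ x := by
      rw [algebraMap_smul]; exact hxs
    refine ⟨x, ?_, ?_⟩
    · intro r hr h0
      have h3 : (algebraMap R R' r * algebraMap R R' (s : R)) • ξ' = 0 := by
        rw [mul_smul, hxs', hθ, h0, map_zero]
      exact h1 _ (fun hmem => (hq'.mem_or_mem hmem).elim hr (hS s)) h3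
    · intro a ha
      obtain ⟨y', hy', n, hn⟩ := h2 (algebraMap R R' a) ha
      obtain ⟨⟨y, s₁⟩, hys⟩ := IsLocalization.surj S y'
      have hys' : y' * algebraMap R R' (s₁ : R) = algebraMap R R' y := hys
      have hyq : algebraMap R R' y ∉ q' := by
        rw [← hys']
        exact fun hmem => (hq'.mem_or_mem hmem).elim hy' (hS s₁)
      have h3 : θ (y • a ^ n • x) = 0 := by
        rw [← hθ, ← hθ, map_pow, ← hxs', ← hys']
        have e1 : (y' * algebraMap R R' (s₁ : R)) • (algebraMap R R' a) ^ n •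
            algebraMap R R' (s : R) • ξ' =
            (algebraMap R R' (s₁ : R) * algebraMap R R' (s : R)) •
              (y' • (algebraMap R R' a) ^ n • ξ') := by
          simp only [smul_smul]; congr 1; ring
        rw [e1, hn, smul_zero]
      obtain ⟨s₂, hs₂⟩ := (IsLocalizedModule.eq_zero_iff S θ).mp h3
      refine ⟨(s₂ : R) * y, ?_, n, ?_⟩
      · intro hmem
        rw [Ideal.mem_comap, map_mul] at hmem
        exact (hq'.mem_or_mem hmem).elim (hS s₂) hyq
      · rw [mul_smul]; exact hs₂
  · rintro ⟨x, h1, h2⟩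
    refine ⟨θ x, ?_, ?_⟩
    · intro b' hb' h0
      obtain ⟨⟨b, s₁⟩, hbs⟩ := IsLocalization.surj S b'
      have hbs' : b' * algebraMap R R' (s₁ : R) = algebraMap R R' b := hbs
      have hbq : algebraMap R R' b ∉ q' := by
        rw [← hbs']
        exact fun hmem => (hq'.mem_or_mem hmem).elim hb' (hS s₁)
      have h3 : θ (b • x) = 0 := by
        rw [← hθ, ← hbs', mul_comm, mul_smul, h0, smul_zero]
      obtain ⟨s₂, hs₂⟩ := (IsLocalizedModule.eq_zero_iff S θ).mp h3
      refine h1 ((s₂ : R) * b) ?_ ?_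
      · intro hmem
        rw [Ideal.mem_comap, map_mul] at hmem
        exact (hq'.mem_or_mem hmem).elim (hS s₂) hbq
      · rw [mul_smul]; exact hs₂
    · intro g' hg'
      obtain ⟨⟨g, s₁⟩, hgs⟩ := IsLocalization.surj S g'
      have hgs' : g' * algebraMap R R' (s₁ : R) = algebraMap R R' g := hgs
      have hgq : g ∈ q'.comap (algebraMap R R') := by
        rw [Ideal.mem_comap, ← hgs']; exact Ideal.mul_mem_right _ _ hg'
      obtain ⟨y, hy, n, hn⟩ := h2 g hgq
      refine ⟨algebraMap R R' y * algebraMap R R' (s₁ : R) ^ n, ?_, n, ?_⟩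
      · intro hmem
        rcases hq'.mem_or_mem hmem with h | h
        · exact hy h
        · exact hS s₁ (hq'.mem_of_pow_mem n h)
      · have e1 : (algebraMap R R' y * algebraMap R R' (s₁ : R) ^ n) • g' ^ n • θ x =
            algebraMap R R' y • (g' * algebraMap R R' (s₁ : R)) ^ n • θ x := by
          simp only [smul_smul, mul_pow]; congr 1; ring
        rw [e1, hgs', ← map_pow, hθ, hθ, hn, map_zero]

theorem step_loc {A R R' : Type u} [CommRing A] [CommRing R] [CommRing R'] [Algebra A R]
    [Algebra A R'] [Algebra R R'] [IsScalarTower A R R'] (S : Submonoid R) [IsLocalization S R']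
    (M : Type u) [AddCommGroup M] [Module A M] (q' : Ideal R') [q'.IsPrime] :
    q' ∈ FlatCA.weakAss R' (R' ⊗[A] M) ↔
      q'.comap (algebraMap R R') ∈ FlatCA.weakAss R (R ⊗[A] M) := by
  let θ₀ : (R ⊗[A] M) →ₗ[R] R' ⊗[R] (R ⊗[A] M) := TensorProduct.mk R R' (R ⊗[A] M) 1
  haveI : IsLocalizedModule S θ₀ :=
    (isLocalizedModule_iff_isBaseChange S R' θ₀).mpr (TensorProduct.isBaseChange R (R ⊗[A] M) R')
  let e : R' ⊗[R] (R ⊗[A] M) ≃ₗ[R] R' ⊗[A] M :=
    (TensorProduct.AlgebraTensorModule.cancelBaseChange A R R' R' M).restrictScalars R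
  haveI : IsLocalizedModule S (e.toLinearMap ∘ₗ θ₀) := IsLocalizedModule.of_linearEquiv S θ₀ e
  exact weakAss_localization S (e.toLinearMap ∘ₗ θ₀) q'

section Data

variable {A B : Type u} [CommRing A] [CommRing B] [Algebra A B]
variable (M : Type u) [AddCommGroup M] [Module A M] (p : Ideal A) [hp : p.IsPrime]
  (t : Ideal B) [ht : t.IsPrime] [t.LiesOver p]

include hp ht in
theorem mp_of_data (f : B) (hft : f ∉ t) (C : Type u) [CommRing C] [Algebra A C]
    [Module.Finite A C] [Module.Flat A C] (g : C)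
    (e : Localization.Away f ≃ₐ[A] Localization.Away g)
    (h : t ∈ FlatCA.weakAss B (B ⊗[A] M)) : p ∈ FlatCA.weakAss A M := by
  have hdisj : Disjoint (Submonoid.powers f : Set B) (t : Set B) :=
    (Ideal.disjoint_powers_iff_notMem_of_isPrime f).mpr hft
  haveI ht' : (t.map (algebraMap B (Localization.Away f))).IsPrime :=
    IsLocalization.isPrime_of_isPrime_disjoint (.powers f) _ _ ht hdisj
  have hco1 : (t.map (algebraMap B (Localization.Away f))).comap
      (algebraMap B (Localization.Away f)) = t :=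
    IsLocalization.under_map_of_isPrime_disjoint (.powers f) _ ht hdisj
  have h1 : t.map (algebraMap B (Localization.Away f)) ∈
      FlatCA.weakAss (Localization.Away f) ((Localization.Away f) ⊗[A] M) :=
    (step_loc (A := A) (R := B) (R' := Localization.Away f) (Submonoid.powers f) M _).mpr
      (by rw [hco1]; exact h)
  letI algCB : Algebra C (Localization.Away f) :=
    (e.symm.toAlgHom.toRingHom.comp (algebraMap C (Localization.Away g))).toAlgebra
  haveI : IsScalarTower A C (Localization.Away f) := IsScalarTower.of_algebraMap_eq (fun a => by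
    show algebraMap A (Localization.Away f) a =
      e.symm (algebraMap C (Localization.Away g) (algebraMap A C a))
    rw [← IsScalarTower.algebraMap_apply A C (Localization.Away g), e.symm.commutes])
  haveI : IsLocalization (Submonoid.powers g) (Localization.Away f) :=
    IsLocalization.isLocalization_of_algEquiv (Submonoid.powers g)
      (AlgEquiv.ofRingEquiv (f := e.symm.toRingEquiv) (fun c => rfl) :
        Localization.Away g ≃ₐ[C] Localization.Away f)
  have h2 := (step_loc (A := A) (R := C) (R' := Localization.Away f) (Submonoid.powers g) M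
    (t.map (algebraMap B (Localization.Away f)))).mp h1
  haveI : ((t.map (algebraMap B (Localization.Away f))).comap
      (algebraMap C (Localization.Away f))).IsPrime := Ideal.comap_isPrime _ _
  haveI : ((t.map (algebraMap B (Localization.Away f))).comap
      (algebraMap C (Localization.Away f))).LiesOver p := ⟨by
    rw [Ideal.under_def, Ideal.comap_comap, ← IsScalarTower.algebraMap_eq A C (Localization.Away f),
      IsScalarTower.algebraMap_eq A B (Localization.Away f), ← Ideal.comap_comap, hco1]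
    exact Ideal.over_def t p⟩
  exact WeakAssFF.mp M p _ h2

end Data

section Gen

variable {A B : Type u} [CommRing A] [CommRing B] [Algebra A B] [Module.Flat A B]
variable (M : Type u) [AddCommGroup M] [Module A M] (p : Ideal A) [hp : p.IsPrime]
  (t : Ideal B) [ht' : t.IsPrime] [t.LiesOver p]

include hp ht' in
theorem mpr_gen
    (hinc : ∀ Q : Ideal B, Q.IsPrime → Q ≤ t →
      Q.comap (algebraMap A B) = t.comap (algebraMap A B) → Q = t)
    (h : p ∈ FlatCA.weakAss A M) : t ∈ FlatCA.weakAss B (B ⊗[A] M) := by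
  obtain ⟨m, hm⟩ := h
  have hco : t.comap (algebraMap A B) = p := (Ideal.over_def t p).symm
  obtain ⟨J, hJ⟩ : ∃ J : Ideal A, J = (Submodule.span A {m}).annihilator := ⟨_, rfl⟩
  have hJmem : ∀ r : A, r ∈ J ↔ r • m = 0 := fun r => by
    rw [hJ]; exact Submodule.mem_annihilator_span_singleton m r
  have hJp : J ≤ p := by rw [hJ]; exact hm.1.2
  have hker : J ≤ LinearMap.ker (LinearMap.toSpanSingleton A M m) := by
    intro r hr
    rw [LinearMap.mem_ker, LinearMap.toSpanSingleton_apply]
    exact (hJmem r).mp hr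
  let f : A ⧸ J →ₗ[A] M := Submodule.liftQ J (LinearMap.toSpanSingleton A M m) hker
  have hf : Function.Injective f := by
    rw [← LinearMap.ker_eq_bot]
    apply Submodule.ker_liftQ_eq_bot
    intro r hr
    rw [LinearMap.mem_ker, LinearMap.toSpanSingleton_apply] at hr
    exact (hJmem r).mpr hr
  have hf1 : f 1 = m := by
    show f (Submodule.Quotient.mk 1) = m
    rw [Submodule.liftQ_apply, LinearMap.toSpanSingleton_apply, one_smul]
  obtain ⟨φ, hφi, -, hφf⟩ := AssFlat.exists_quot_inj' (S := B) (N := B) J f hf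
  have key : ∀ b : B, b • ((1 : B) ⊗ₜ[A] m) = 0 → b ∈ t := by
    intro b hb
    have h3 : φ (Submodule.Quotient.mk b) = 0 := by
      rw [hφf, hf1]
      rw [TensorProduct.smul_tmul', smul_eq_mul, mul_one] at hb
      exact hb
    have h4 : (Submodule.Quotient.mk b :
        B ⧸ (J.map (algebraMap A B) • (⊤ : Submodule B B))) = 0 :=
      hφi (by rw [h3, map_zero])
    rw [Submodule.Quotient.mk_eq_zero] at h4
    have h5 : J.map (algebraMap A B) • (⊤ : Submodule B B) ≤ t := by
      rw [Submodule.smul_le]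
      intro c hc d _
      have hct : c ∈ t :=
        (Ideal.map_le_iff_le_comap.mpr (by rw [hco]; exact hJp)) hc
      exact Ideal.mul_mem_right _ _ hct
    exact h5 h4
  refine ⟨(1 : B) ⊗ₜ[A] m, ⟨⟨ht', ?_⟩, ?_⟩⟩
  · intro b hb
    rw [Submodule.mem_annihilator_span_singleton] at hb
    exact key b hb
  · rintro Q ⟨hQp, hQle⟩ hQt
    have hJQ : J ≤ Q.comap (algebraMap A B) := by
      intro r hr
      rw [Ideal.mem_comap]
      apply hQle
      rw [Submodule.mem_annihilator_span_singleton, algebraMap_smul, ← TensorProduct.tmul_smul,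
        (hJmem r).mp hr, TensorProduct.tmul_zero]
    have hq'p : Q.comap (algebraMap A B) ≤ p := by
      rw [← hco]; exact Ideal.comap_mono hQt
    haveI := hQp
    have hpq' : p ≤ Q.comap (algebraMap A B) :=
      hm.2 ⟨inferInstance, by rw [← hJ]; exact hJQ⟩ hq'p
    have heq : Q.comap (algebraMap A B) = t.comap (algebraMap A B) := by
      rw [hco]; exact le_antisymm hq'p hpq'
    exact (hinc Q hQp hQt heq).ge

end Gen

section Etale

variable {A B : Type u} [CommRing A] [CommRing B] [Algebra A B] [Algebra.Etale A B]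
variable (M : Type u) [AddCommGroup M] [Module A M] (p : Ideal A) [hp : p.IsPrime]
  (t : Ideal B) [ht : t.IsPrime] [t.LiesOver p]

include hp ht in
theorem mp (h : t ∈ FlatCA.weakAss B (B ⊗[A] M)) : p ∈ FlatCA.weakAss A M := by
  obtain ⟨f, hft, hstd⟩ := Algebra.IsEtaleAt.exists_isStandardEtale (R := A) t
  obtain ⟨P⟩ := hstd.nonempty_standardEtalePresentation
  haveI := P.monic_f.finite_adjoinRoot
  haveI := P.monic_f.free_adjoinRoot
  exact mp_of_data M p t f hft (AdjoinRoot P.f) (AdjoinRoot.mk P.f P.g)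
    (P.equivRing.trans P.P.equivAwayAdjoinRoot) h

include hp ht in
theorem mpr (h : p ∈ FlatCA.weakAss A M) : t ∈ FlatCA.weakAss B (B ⊗[A] M) := by
  refine mpr_gen M p t ?_ h
  intro Q hQ hQt heq
  haveI := hQ
  exact Algebra.QuasiFinite.eq_of_le_of_under_eq (R := A) Q t hQt heq

theorem main : t ∈ FlatCA.weakAss B (B ⊗[A] M) ↔ p ∈ FlatCA.weakAss A M :=
  ⟨mp M p t, mpr M p t⟩

end Etale

end Groth.Agent.Helper7.WeakAssEtale
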