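import Mathlib

namespace Groth.Agent.Helper7.Wronsk

open Polynomial

/-- Dimension bound: if every element of `W` is `D * L` with `deg L < n` and `μ L = 0`, and `μ` is not
identically zero on polynomials of degree `< n`, then `dim W + 1 ≤ n`. -/
theorem finrank_succ_le {k : Type*} [Field k] (D : k[X]) (n : ℕ) (μ : k[X] →ₗ[k] k)
    (W : Submodule k k[X])
    (hW : ∀ f ∈ W, ∃ L : k[X], L.degree < n ∧ f = D * L ∧ μ L = 0)
    (L₀ : k[X]) (hL₀ : L₀.degree < n) (hμ : μ L₀ ≠ 0) :
    Module.finrank k W + 1 ≤ n := by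
  classical
  have : Module.Finite k (degreeLT k n) := Module.Finite.equiv (degreeLTEquiv k n).symm
  have hP : Module.finrank k (degreeLT k n) = n := by
    rw [LinearEquiv.finrank_eq (degreeLTEquiv k n)]; simp
  have hKlt : degreeLT k n ⊓ LinearMap.ker μ < degreeLT k n := by
    refine lt_of_le_of_ne inf_le_left ?_
    intro h
    have : L₀ ∈ degreeLT k n ⊓ LinearMap.ker μ := by rw [h]; exact mem_degreeLT.2 hL₀
    exact hμ (LinearMap.mem_ker.1 this.2)
  have h1 : Module.finrank k ↥(degreeLT k n ⊓ LinearMap.ker μ) < n := by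
    have := Submodule.finrank_lt_finrank_of_lt hKlt
    rwa [hP] at this
  have : Module.Finite k ↥(degreeLT k n ⊓ LinearMap.ker μ) :=
    Submodule.finiteDimensional_of_le (inf_le_left : _ ≤ degreeLT k n)
  have hWle : W ≤ (degreeLT k n ⊓ LinearMap.ker μ).map (LinearMap.mulLeft k D) := by
    intro f hf
    obtain ⟨L, hL, rfl, hμL⟩ := hW f hf
    exact ⟨L, ⟨mem_degreeLT.2 hL, LinearMap.mem_ker.2 hμL⟩, rfl⟩
  have h2 : Module.finrank k W ≤
      Module.finrank k ↥((degreeLT k n ⊓ LinearMap.ker μ).map (LinearMap.mulLeft k D)) :=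
    Submodule.finrank_mono hWle
  have h3 := Submodule.finrank_map_le (LinearMap.mulLeft k D) (degreeLT k n ⊓ LinearMap.ker μ)
  omega

/-- Lower bound: if `D ≠ 0` and `D * L ∈ W` for every `L` of degree `< n`, and `W` is contained in
polynomials of bounded degree, then `n ≤ dim W`. -/
theorem le_finrank {k : Type*} [Field k] (D : k[X]) (hD : D ≠ 0) (n N : ℕ)
    (W : Submodule k k[X]) (hWN : W ≤ degreeLT k N)
    (hW : ∀ L : k[X], L.degree < n → D * L ∈ W) :
    n ≤ Module.finrank k W := by
  classical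
  have : Module.Finite k (degreeLT k N) := Module.Finite.equiv (degreeLTEquiv k N).symm
  have : Module.Finite k (degreeLT k n) := Module.Finite.equiv (degreeLTEquiv k n).symm
  have : Module.Finite k W := Submodule.finiteDimensional_of_le hWN
  have hP : Module.finrank k (degreeLT k n) = n := by
    rw [LinearEquiv.finrank_eq (degreeLTEquiv k n)]; simp
  let φ : degreeLT k n →ₗ[k] W :=
    LinearMap.codRestrict W ((LinearMap.mulLeft k D).comp (degreeLT k n).subtype)
      (fun L => hW L.1 (mem_degreeLT.1 L.2))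
  have hφ : Function.Injective φ := by
    intro L L' h
    have h' : D * L.1 = D * L'.1 := congrArg Subtype.val h
    exact Subtype.ext (mul_left_cancel₀ hD h')
  have := LinearMap.finrank_le_finrank_of_injective hφ
  omega

theorem eul {k : Type*} [Field k] (P : k[X]) (t : ℕ) :
    coeff (X * derivative P) t = (t : k) * coeff P t := by
  cases t with
  | zero => simp
  | succ s => rw [coeff_X_mul, coeff_derivative]; push_cast; ring

theorem pow_pred_mul {k : Type*} [Field k] (p : k[X]) (n : ℕ) :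
    p * (C (n : k) * p ^ (n - 1)) = C (n : k) * p ^ n := by
  cases n with
  | zero => simp
  | succ s => simp only [Nat.add_sub_cancel]; ring

/-- ODE for `H = (X+1)^i (X-q)^m`. -/
theorem ode {k : Type*} [Field k] (i m : ℕ) (q : k) :
    (X + 1) * (X - C q) * derivative ((X + 1 : k[X]) ^ i * (X - C q) ^ m) =
      (C (i : k) * (X - C q) + C (m : k) * (X + 1)) * ((X + 1 : k[X]) ^ i * (X - C q) ^ m) := by
  have e1 := pow_pred_mul (X + 1 : k[X]) i
  have e2 := pow_pred_mul (X - C q : k[X]) m
  have hder : derivative ((X + 1 : k[X]) ^ i * (X - C q) ^ m) =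
      C (i : k) * (X + 1) ^ (i - 1) * (X - C q) ^ m + (X + 1) ^ i * (C (m : k) * (X - C q) ^ (m - 1)) := by
    rw [derivative_mul, derivative_pow, derivative_pow]
    simp
  rw [hder]
  linear_combination ((X - C q) * (X - C q) ^ m) * e1 + ((X + 1) * (X + 1) ^ i) * e2

/-- Two consecutive vanishing coefficients of `(X+1)^i (X-q)^m` (`q ≠ 0`) propagate upwards. -/
theorem coeff_step {k : Type*} [Field k] [CharZero k] (i m : ℕ) (q : k) (hq : q ≠ 0) (t : ℕ)
    (h0 : coeff ((X + 1 : k[X]) ^ i * (X - C q) ^ m) t = 0)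
    (h1 : coeff ((X + 1 : k[X]) ^ i * (X - C q) ^ m) (t + 1) = 0) :
    coeff ((X + 1 : k[X]) ^ i * (X - C q) ^ m) (t + 2) = 0 := by
  set H : k[X] := (X + 1 : k[X]) ^ i * (X - C q) ^ m with hH
  have E := ode i m q
  rw [← hH] at E
  have E' : X * (X * derivative H) + X * derivative H - C q * (X * derivative H) - C q * derivative H =
      C (i : k) * (X * H) + C (m : k) * (X * H) + C (m : k) * H - C (i : k) * (C q * H) := by
    linear_combination E
  have := congrArg (fun P => coeff P (t + 1)) E'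
  simp only [coeff_add, coeff_sub, coeff_X_mul, coeff_C_mul, eul, coeff_derivative, h0, h1] at this
  have h2 : (t + 1 + 1 : k) ≠ 0 := by
    have : ((t + 1 + 1 : ℕ) : k) ≠ 0 := Nat.cast_ne_zero.2 (by omega)
    push_cast at this; exact this
  have h3 : q * (coeff H (t + 1 + 1) * (t + 1 + 1 : k)) = 0 := by
    push_cast at this
    linear_combination (-1 : k) * this
  rcases mul_eq_zero.1 h3 with h | h
  · exact absurd h hq
  · rcases mul_eq_zero.1 h with h | h
    · exact h
    · exact absurd h h2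

theorem coeff_propagate {k : Type*} [Field k] [CharZero k] (i m : ℕ) (q : k) (hq : q ≠ 0) (t : ℕ)
    (h0 : coeff ((X + 1 : k[X]) ^ i * (X - C q) ^ m) t = 0)
    (h1 : coeff ((X + 1 : k[X]) ^ i * (X - C q) ^ m) (t + 1) = 0) (s : ℕ) :
    coeff ((X + 1 : k[X]) ^ i * (X - C q) ^ m) (t + s) = 0 ∧
      coeff ((X + 1 : k[X]) ^ i * (X - C q) ^ m) (t + s + 1) = 0 := by
  induction s with
  | zero => exact ⟨h0, h1⟩
  | succ s ih => exact ⟨ih.2, coeff_step i m q hq (t + s) ih.1 ih.2⟩

end Groth.Agent.Helper7.Wronsk
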